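import Cfsg.Agent.Lib.Chars.Induction
import Cfsg.Agent.Lib.Chars.Char
import Cfsg.Agent.Lib.CharApps.Basic
import Cfsg.Prelude.Def_Solvable

/-!
# Frobenius' theorem

If `H ≤ G` meets its conjugates by elements outside `H` trivially, then every irreducible character
of `H` extends to `G`, and `H` has a normal complement, the Frobenius kernel.
-/

set_option linter.unusedSectionVars false

namespace CfsgLib.CharsMore

open Cfsg
open scoped Pointwise

variable {G : Type*} [Group G]

/-- Irreducible characters of a subgroup meeting its other conjugates trivially extend, and the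
extension is constant off the conjugates of the subgroup. -/
theorem exists_frobenius_extension [Fintype G] (H : Subgroup G)
    (hTI : ∀ g : G, g ∉ H → ∀ h ∈ H, g * h * g⁻¹ ∈ H → h = 1) {φ : H → ℂ}
    (hφ : IsIrrCharacter H φ) :
    ∃ χ : G → ℂ, IsIrrCharacter G χ ∧ (∀ h : H, χ h = φ h) ∧
      ∀ g : G, (∀ x : G, x * g * x⁻¹ ∈ H → g = 1) → χ g = χ 1 := by
  classical
  let _ : Fintype H := Fintype.ofFinite H
  by_cases h1 : φ = fun _ => 1
  · exact ⟨fun _ => 1, Chars.isIrrCharacter_one, fun h => by rw [h1], fun g _ => rfl⟩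
  obtain ⟨d, hd0, hd⟩ := Chars.irr_degree_nat hφ
  set θ : H → ℂ := φ - (d : ℂ) • (fun _ => 1) with hθdef
  have hone : IsIrrCharacter H (fun _ => (1 : ℂ)) := Chars.isIrrCharacter_one
  have hφc := Chars.isCharacter_of_irr hφ
  have hθg : IsGeneralizedCharacter H θ :=
    ⟨φ, _, hφc, Chars.isCharacter_nsmul d Chars.isCharacter_one, rfl⟩
  have hθc := Chars.isClassFunction_of_isGeneralized hθg
  have hθ1 : θ 1 = 0 := by simp [hθdef, hd]
  have hsupp : ∀ x : H, (x : G) ∉ (H : Set G) → θ x = 0 := fun x hx => absurd x.2 hx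
  have hval : ∀ h : H, indFun H θ h = θ h := by
    intro h
    by_cases hh : h = 1
    · subst hh
      rw [OneMemClass.coe_one, Chars.indFun_one_apply, hθ1, mul_zero]
    · exact Chars.indFun_TI_apply (H : Set G) H hTI hθc hsupp h h.2 hh
  have hiso : classInner (indFun H θ) (indFun H θ) = classInner θ θ :=
    Chars.inner_indFun_TI (H : Set G) H hTI hθc hsupp hsupp hθ1
  have hθθ : classInner θ θ = 1 + (d : ℂ) * d := by
    simp only [hθdef, Chars.inner_sub_left, Chars.inner_sub_right, Chars.inner_smul_left,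
      Chars.inner_smul_right, Chars.inner_irr_of_isIrr hφ hφ, Chars.inner_irr_of_isIrr hφ hone,
      Chars.inner_irr_of_isIrr hone hφ, Chars.inner_irr_of_isIrr hone hone, if_pos, if_neg h1,
      if_neg (Ne.symm h1), map_natCast]
    ring
  have hθ1' : classInner θ (fun _ => 1) = -(d : ℂ) := by
    simp only [hθdef, Chars.inner_sub_left, Chars.inner_smul_left,
      Chars.inner_irr_of_isIrr hφ hone, Chars.inner_irr_of_isIrr hone hone, if_pos, if_neg h1]
    ring
  have hi1 : classInner (indFun H θ) (fun _ => 1) = -(d : ℂ) := by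
    rw [Chars.inner_indFun H θ (fun _ _ => rfl)]
    exact hθ1'
  set χ : G → ℂ := indFun H θ + (d : ℂ) • (fun _ => 1) with hχdef
  have hχg : IsGeneralizedCharacter G χ := by
    obtain ⟨α, β, hα, hβ, e⟩ := Chars.isGeneralized_indFun H hθg
    refine ⟨α + (d : ℂ) • (fun _ => 1), β,
      Chars.isCharacter_add hα (Chars.isCharacter_nsmul d Chars.isCharacter_one), hβ, ?_⟩
    rw [hχdef, e]
    abel
  have hχn : classInner χ χ = 1 := by
    have h11 : classInner (fun _ : G => (1 : ℂ)) (fun _ => 1) = 1 := Chars.inner_one_one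
    have hsym : classInner (fun _ : G => (1 : ℂ)) (indFun H θ) = -(d : ℂ) := by
      rw [← Chars.inner_conj, hi1, map_neg, map_natCast]
    simp only [hχdef, Chars.inner_add_left, Chars.inner_add_right, Chars.inner_smul_left,
      Chars.inner_smul_right, hiso, hθθ, hi1, hsym, h11, map_natCast]
    ring
  have hres : ∀ h : H, χ h = φ h := fun h => by
    show indFun H θ h + (d : ℂ) * 1 = φ h
    rw [hval h]
    simp [hθdef]
  have hχ1 : χ 1 = d := by
    have := hres 1
    rwa [OneMemClass.coe_one, hd] at this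
  refine ⟨χ, Chars.irr_of_norm_one hχg hχn (by simp [hχ1]), hres, fun g hg => ?_⟩
  by_cases hg1 : g = 1
  · rw [hg1]
  have : indFun H θ g = 0 := by
    rw [Chars.indFun_apply, Finset.sum_eq_zero, mul_zero]
    intro x _
    rw [Chars.extendByZero_of_not_mem]
    intro hx
    exact hg1 (hg x⁻¹ (by simpa using hx))
  rw [hχ1]
  simp [hχdef, this]

/-- Frobenius' theorem: the complement has a normal complement, equal to the set of `1` and the
elements outside all its conjugates. -/
theorem exists_frobenius_kernel [Finite G] (H : Subgroup G)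
    (hTI : ∀ g : G, g ∉ H → ∀ h ∈ H, g * h * g⁻¹ ∈ H → h = 1) :
    ∃ N : Subgroup G, N.Normal ∧ Subgroup.IsComplement' N H ∧
      ∀ x : G, x ∈ N ↔ (x = 1 ∨ ∀ g : G, g * x * g⁻¹ ∉ H) := by
  classical
  let _ : Fintype G := Fintype.ofFinite G
  choose ext hext using fun φ : IrrCharacter H => exists_frobenius_extension H hTI φ.2
  let K : Subgroup G := ⨅ φ : IrrCharacter H, CharApps.charKer ⟨ext φ, (hext φ).1⟩
  have hKn : K.Normal :=
    Subgroup.normal_iInf_normal fun φ => CharApps.charKer_normal _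
  have hdisj : K ⊓ H = ⊥ := by
    rw [eq_bot_iff]
    rintro g ⟨hgK, hgH⟩
    have h1 : (⟨g, hgH⟩ : H) = 1 := CharApps.eq_one_of_forall_ker fun φ => by
      have h2 : ext φ g = ext φ 1 := Subgroup.mem_iInf.1 hgK φ
      have h3 := (hext φ).2.1 ⟨g, hgH⟩
      have h4 := (hext φ).2.1 1
      simp only [OneMemClass.coe_one] at h3 h4
      rw [← h3, ← h4, h2]
    exact congrArg Subtype.val h1
  have hSK : ∀ x : G, (x = 1 ∨ ∀ g : G, g * x * g⁻¹ ∉ H) → x ∈ K := by
    intro x hx
    refine Subgroup.mem_iInf.2 fun φ => (hext φ).2.2 x fun g hg => ?_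
    exact hx.resolve_right (fun h => h g hg)
  let Bad : Type _ := {x : G // ¬(x = 1 ∨ ∀ g : G, g * x * g⁻¹ ∉ H)}
  let Φ : (G ⧸ H) × {h : H // h ≠ 1} → Bad := fun p =>
    ⟨p.1.out * (p.2.1 : G) * p.1.out⁻¹, by
      rintro (h | h)
      · exact p.2.2 (Subtype.ext (conj_eq_one_iff.1 h))
      · apply h p.1.out⁻¹
        simp [mul_assoc]⟩
  have hΦ : Function.Bijective Φ := by
    constructor
    · rintro ⟨q, h, hh⟩ ⟨q', h', hh'⟩ e
      have e1 : q.out * (h : G) * q.out⁻¹ = q'.out * (h' : G) * q'.out⁻¹ := congrArg Subtype.val e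
      have e2 : (q'.out⁻¹ * q.out) * (h : G) * (q'.out⁻¹ * q.out)⁻¹ = h' := by
        have := congrArg (fun z => q'.out⁻¹ * z * q'.out) e1
        simpa [mul_assoc] using this
      have hm : q'.out⁻¹ * q.out ∈ H := by
        by_contra hn
        exact hh (Subtype.ext (hTI _ hn h h.2 (by rw [e2]; exact h'.2)))
      have hq : q' = q := by
        rw [← QuotientGroup.out_eq' q, ← QuotientGroup.out_eq' q']
        exact QuotientGroup.eq.2 hm
      subst hq
      exact Prod.ext rfl (Subtype.ext (Subtype.ext (by simpa using e2)))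
    · rintro ⟨x, hx⟩
      push Not at hx
      obtain ⟨hx1, g, hg⟩ := hx
      set q : G ⧸ H := QuotientGroup.mk g⁻¹
      have hn : q.out⁻¹ * g⁻¹ ∈ H := QuotientGroup.eq.1 (QuotientGroup.out_eq' q)
      have hh : (q.out⁻¹ * g⁻¹) * (g * x * g⁻¹) * (q.out⁻¹ * g⁻¹)⁻¹ ∈ H :=
        H.mul_mem (H.mul_mem hn hg) (H.inv_mem hn)
      refine ⟨⟨q, ⟨⟨_, hh⟩, fun h => hx1 ?_⟩⟩, Subtype.ext ?_⟩
      · have := congrArg Subtype.val h
        simp only [Subgroup.coe_one, conj_eq_one_iff] at this
        exact this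
      · simp [Φ, mul_assoc]
  have hbad : Nat.card Bad = H.index * (Nat.card H - 1) := by
    rw [← Nat.card_eq_of_bijective Φ hΦ, Nat.card_prod, ← Subgroup.index_eq_card]
    congr 1
    rw [Nat.card_eq_fintype_card, Nat.card_eq_fintype_card, Fintype.card_subtype_compl,
      Fintype.card_subtype_eq]
  have hgood : Nat.card {x : G // x = 1 ∨ ∀ g : G, g * x * g⁻¹ ∉ H} = H.index := by
    have hc := Nat.card_congr (Equiv.sumCompl fun x : G => x = 1 ∨ ∀ g : G, g * x * g⁻¹ ∉ H)
    rw [Nat.card_sum] at hc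
    have hbad' : Nat.card {x : G // ¬(x = 1 ∨ ∀ g : G, g * x * g⁻¹ ∉ H)} =
        H.index * (Nat.card H - 1) := hbad
    rw [hbad'] at hc
    have h2 : H.index * (Nat.card H - 1) + H.index = Nat.card G := by
      rw [← Nat.mul_add_one, Nat.sub_add_cancel Nat.card_pos, H.index_mul_card]
    omega
  have hle : Nat.card K * Nat.card H ≤ Nat.card G := by
    rw [← Nat.card_prod]
    refine Nat.card_le_card_of_injective (fun p : K × H => (p.1 : G) * p.2) ?_
    exact Subgroup.mul_injective_of_disjoint (disjoint_iff.2 hdisj)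
  have hKcard : Nat.card K ≤ H.index := by
    rw [← H.index_mul_card] at hle
    exact Nat.le_of_mul_le_mul_right hle Nat.card_pos
  have hset : ∀ x : G, x ∈ K ↔ (x = 1 ∨ ∀ g : G, g * x * g⁻¹ ∉ H) := by
    let incl : {x : G // x = 1 ∨ ∀ g : G, g * x * g⁻¹ ∉ H} → K := fun x => ⟨x.1, hSK x.1 x.2⟩
    have hinj : Function.Injective incl := fun a b h =>
      Subtype.ext (congrArg (fun z : K => (z : G)) h)
    have hbij := hinj.bijective_of_nat_card_le (hgood.symm ▸ hKcard)
    intro x
    refine ⟨fun hx => ?_, hSK x⟩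
    obtain ⟨⟨y, hy⟩, e⟩ := hbij.2 ⟨x, hx⟩
    rwa [show y = x from congrArg (fun z : K => (z : G)) e] at hy
  refine ⟨K, hKn, Subgroup.isComplement'_of_card_mul_and_disjoint ?_ (disjoint_iff.2 hdisj), hset⟩
  rw [Nat.card_congr (Equiv.subtypeEquivRight hset), hgood, H.index_mul_card]

/-- Frobenius' theorem in the vocabulary of `Cfsg.IsFrobeniusComplement`. -/
theorem exists_frobenius_kernel_of_complement [Finite G] (H : Subgroup G)
    (hH : IsFrobeniusComplement H) :
    ∃ N : Subgroup G, (N : Set G) = frobeniusKernel H ∧ N.Normal ∧ Subgroup.IsComplement' N H := by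
  have hTI : ∀ g : G, g ∉ H → ∀ h ∈ H, g * h * g⁻¹ ∈ H → h = 1 := by
    intro g hg h hh hgh
    have hm : g * h * g⁻¹ ∈ H ⊓ (MulAut.conj g • H) := by
      refine ⟨hgh, ?_⟩
      show g * h * g⁻¹ ∈ MulAut.conj g • H
      rw [Subgroup.mem_pointwise_smul_iff_inv_smul_mem]
      simpa [MulAut.smul_def, mul_assoc] using hh
    rw [hH.2.2 g hg, Subgroup.mem_bot, conj_eq_one_iff] at hm
    exact hm
  obtain ⟨N, hN, hc, hset⟩ := exists_frobenius_kernel H hTI
  refine ⟨N, ?_, hN, hc⟩
  ext x
  rw [SetLike.mem_coe, hset]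
  refine or_congr Iff.rfl ⟨fun h g hx => ?_, fun h g hx => ?_⟩
  · rw [Subgroup.mem_pointwise_smul_iff_inv_smul_mem] at hx
    refine h g⁻¹ ?_
    simpa [MulAut.smul_def] using hx
  · refine h g⁻¹ ?_
    rw [Subgroup.mem_pointwise_smul_iff_inv_smul_mem]
    simpa [MulAut.smul_def] using hx

end CfsgLib.CharsMore
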