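import Cfsg.Agent.Lib.CharsMore.CliffordDegree
import Cfsg.Agent.Lib.Chars.Degree

/-!
# Constituents above and below, and Itô's degree theorem
-/

set_option linter.unusedSectionVars false
set_option linter.style.haveILetI false

namespace CfsgLib.CharsMore

open Cfsg

variable {G : Type*} [Group G] [Fintype G] (N : Subgroup G) [Fintype N]

/-- An irreducible constituent of a restriction. -/
lemma exists_below {χ : G → ℂ} (hχ : IsIrrCharacter G χ) :
    ∃ θ : IrrCharacter N, classInner (fun n : N => χ n) θ ≠ 0 := by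
  refine Chars.exists_constituent (Chars.isCharacter_restrict N (Chars.isCharacter_of_irr hχ))
    fun h => Chars.irr_degree_ne_zero hχ ?_
  simpa using congrFun h 1

/-- An irreducible lying over a given one. -/
lemma exists_over {θ : N → ℂ} (hθ : IsIrrCharacter N θ) :
    ∃ χ : IrrCharacter G, classInner (fun n : N => (χ : G → ℂ) n) θ ≠ 0 := by
  have hc := Chars.isCharacter_indFun N (Chars.isCharacter_of_irr hθ)
  obtain ⟨χ, hχ⟩ := Chars.exists_constituent hc fun h => by
    have := congrFun h 1
    rw [Chars.indFun_one_apply, Pi.zero_apply, mul_eq_zero] at this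
    exact this.elim (Nat.cast_ne_zero.2 Subgroup.index_ne_zero_of_finite)
      (Chars.irr_degree_ne_zero hθ)
  rw [Chars.inner_indFun N θ (Chars.isClassFunction_irr χ),
    conj_inner (Chars.isCharacter_restrict N (Chars.isCharacter_of_irr χ.2))
      (Chars.isCharacter_of_irr hθ)] at hχ
  exact ⟨χ, hχ⟩

/-- Itô: degrees divide the index of an abelian normal subgroup. -/
theorem ito_degree_dvd [N.Normal] (hN : ∀ a ∈ N, ∀ b ∈ N, a * b = b * a) {χ : G → ℂ}
    (hχ : IsIrrCharacter G χ) : ∃ k : ℕ, χ 1 = k ∧ k ∣ N.index := by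
  obtain ⟨θ, hθ⟩ := exists_below N hχ
  obtain ⟨k, -, hk, hdvd⟩ := degree_quotient N hχ θ.2 hθ
  rw [Chars.irr_abelian_degree (fun a b : N => Subtype.ext (hN a a.2 b b.2)) θ.2, mul_one] at hk
  exact ⟨k, hk, hdvd⟩

end CfsgLib.CharsMore
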