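/-
Involutions in the double covers of small alternating groups.
-/
import Cfsg.Prelude.Def_SporadicB
import Cfsg.Agent.Lib.CharsMore.AltDoubleCover
import Cfsg.Agent.Lib.Coprime.Gaschutz
import Cfsg.Agent.Lib.PGroups.KGeneratedRank

set_option autoImplicit false
set_option linter.unusedSectionVars false

namespace CfsgLib.CharsMore.AltCoverInvol

open Subgroup
open scoped commutatorElement

variable {H K : Type*} [Group H] [Finite H] [Group K]

/-- If all lifts of involutions are involutions and a Sylow `2`-subgroup of the image is generated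
by two involutions, a central extension by a group of order `2` splits. -/
theorem splits (φ : H →* K) (hker : φ.ker = center H) (hZ : Nat.card (center H) = 2)
    (hinv : ∀ g : H, φ g ≠ 1 → φ g ^ 2 = 1 → g ^ 2 = 1) (hsurj : Function.Surjective φ)
    (r s : K) (hr : r ≠ 1 ∧ r ^ 2 = 1) (hs : s ≠ 1 ∧ s ^ 2 = 1) (m : ℕ) (hm : m = 2 ∨ m = 4)
    (hrs : orderOf (r * s) = m) (hnot : r ∉ zpowers (r * s))
    (hodd : ¬ 2 * (2 * m) ∣ Nat.card K) (hdvd : 2 * m ∣ Nat.card K) :
    ∃ L : Subgroup H, (center H).IsComplement' L := by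
  haveI : Fact (Nat.Prime 2) := ⟨Nat.prime_two⟩
  obtain ⟨a, rfl⟩ := hsurj r
  obtain ⟨c, rfl⟩ := hsurj s
  have ha : a ^ 2 = 1 := hinv a hr.1 hr.2
  have hc : c ^ 2 = 1 := hinv c hs.1 hs.2
  have hainv : a⁻¹ = a := inv_eq_of_mul_eq_one_right (by rw [← sq, ha])
  have hcinv : c⁻¹ = c := inv_eq_of_mul_eq_one_right (by rw [← sq, hc])
  set w := a * c with hw
  have hφw : φ w = φ a * φ c := map_mul φ a c
  have hwm : w ^ m = 1 := by
    rcases hm with rfl | rfl
    · refine hinv w ?_ ?_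
      · rw [hφw]; intro e; rw [e, orderOf_one] at hrs; omega
      · rw [hφw, ← hrs]; exact pow_orderOf_eq_one _
    · have h2 := hinv (w ^ 2) (by
        rw [map_pow, hφw]
        intro e
        have := Nat.le_of_dvd two_pos (orderOf_dvd_of_pow_eq_one e)
        omega) (by
        rw [map_pow, hφw, ← pow_mul, show 2 * 2 = orderOf (φ a * φ c) from hrs.symm]
        exact pow_orderOf_eq_one _)
      rwa [← pow_mul] at h2
  have hordw : orderOf w = m := Nat.dvd_antisymm (orderOf_dvd_of_pow_eq_one hwm)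
    (hrs ▸ hφw ▸ orderOf_map_dvd φ w)
  have hanorm : a ∈ normalizer ((zpowers w : Subgroup H) : Set H) := by
    refine Subgroup.mem_normalizer_iff.2 fun x => ?_
    have e : a * w * a⁻¹ = w⁻¹ := by
      rw [hw, mul_inv_rev, hcinv, hainv, ← mul_assoc, ← sq, ha, one_mul]
    have key : ∀ x ∈ zpowers w, a * x * a⁻¹ ∈ zpowers w := by
      rintro _ ⟨k, rfl⟩
      refine ⟨-k, ?_⟩
      show w ^ (-k) = a * w ^ k * a⁻¹
      rw [← conj_zpow, e, inv_zpow, zpow_neg]
    refine ⟨key x, fun hx => ?_⟩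
    have h2 := key _ hx
    rwa [show a * (a * x * a⁻¹) * a⁻¹ = (a * a) * x * (a * a)⁻¹ by group, ← sq, ha, one_mul, inv_one,
      mul_one] at h2
  set A := zpowers a ⊔ zpowers w with hA
  have hinj : ∀ x ∈ A, φ x = 1 → x = 1 := by
    intro x hx hx1
    rw [hA, ← SetLike.mem_coe, Subgroup.coe_mul_of_left_le_normalizer_right _ _ (zpowers_le.2 hanorm)] at hx
    obtain ⟨_, ⟨i, rfl⟩, _, ⟨j, rfl⟩, rfl⟩ := hx
    simp only [map_mul, map_zpow, hφw] at hx1 ⊢
    rcases Int.even_or_odd i with ⟨l, rfl⟩ | ⟨l, rfl⟩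
    · have h1 : a ^ (l + l) = 1 := by rw [← two_mul, zpow_mul, zpow_ofNat, ha, one_zpow]
      have h2 : φ a ^ (l + l) = 1 := by rw [← map_zpow, h1, map_one]
      rw [h2, one_mul, ← orderOf_dvd_iff_zpow_eq_one, hrs] at hx1
      rw [h1, one_mul, ← orderOf_dvd_iff_zpow_eq_one, hordw]
      exact hx1
    · exfalso
      refine hnot ⟨-j, ?_⟩
      have h1 : φ a ^ (2 * l + 1) = φ a := by
        rw [zpow_add, zpow_mul, zpow_ofNat, hr.2, one_zpow, one_mul, zpow_one]
      rw [h1] at hx1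
      show (φ a * φ c) ^ (-j) = φ a
      rw [zpow_neg, eq_comm]
      exact eq_inv_of_mul_eq_one_left hx1
  have hnotw : a ∉ zpowers w := fun ⟨k, hk⟩ => hnot ⟨k, by
    show (φ a * φ c) ^ k = φ a
    rw [← hφw, ← map_zpow]; exact congrArg φ hk⟩
  have hcardA : Nat.card A = 2 * m := by
    refine le_antisymm ((CfsgLib.PGroups.KGen.card_sup_zpowers_le hanorm).trans ?_) ?_
    · rw [Nat.card_zpowers, hordw]
      exact Nat.mul_le_mul_right _ (Nat.le_of_dvd two_pos (orderOf_dvd_of_pow_eq_one ha))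
    · have hlt : zpowers w < A := lt_of_le_of_ne le_sup_right fun e =>
        hnotw (e.ge (mem_sup_left (mem_zpowers a)))
      have hd := card_dvd_of_le hlt.le
      have hne : Nat.card (zpowers w) ≠ Nat.card A := fun e => hlt.ne (eq_of_le_of_card_ge hlt.le e.ge)
      rw [Nat.card_zpowers, hordw] at hd hne
      obtain ⟨t, ht⟩ := hd
      rw [ht] at hne ⊢
      rcases t with _ | _ | t
      · exact absurd ht (by rw [Nat.mul_zero]; exact Nat.card_pos.ne')
      · simp at hne
      · nlinarith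
  have hAK : A ⊓ center H = ⊥ := (eq_bot_iff_forall _).2 fun x hx =>
    hinj x hx.1 (MonoidHom.mem_ker.1 (hker ▸ hx.2 : x ∈ φ.ker))
  set U := center H ⊔ A with hU
  have hcardU : Nat.card U = 2 * (2 * m) := by
    have hmap : U.map φ = A.map φ := by
      rw [hU, Subgroup.map_sup, (Subgroup.map_eq_bot_iff _).2 hker.ge, bot_sup_eq]
    have h1 : Nat.card (A.map φ) = 2 * m := by
      rw [← Subgroup.relIndex_ker, hker, ← Subgroup.inf_relIndex_right, inf_comm, hAK,
        relIndex_bot_left, hcardA]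
    have h2 : Nat.card (U.map φ) * Nat.card (center H) = Nat.card U := by
      rw [← Subgroup.relIndex_ker, hker, mul_comm]
      have := relIndex_mul_relIndex (⊥ : Subgroup H) (center H) U bot_le le_sup_left
      rwa [relIndex_bot_left, relIndex_bot_left] at this
    rw [← h2, hmap, h1, hZ, mul_comm]
  have hcardH : Nat.card H = 2 * Nat.card K := by
    rw [← card_mul_index (center H), hZ, ← hker, index_ker,
      MonoidHom.range_eq_top.2 hsurj, card_top]
  refine Coprime.gaschutz_exists (center H) U le_sup_left ?_ A le_sup_right hAK rfl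
  rw [hZ, Nat.prime_two.coprime_iff_not_dvd]
  intro h
  have h3 := card_mul_index U
  rw [hcardU, hcardH] at h3
  obtain ⟨q, hq⟩ := h
  refine hodd ⟨q, ?_⟩
  rw [hq] at h3
  have : 2 * Nat.card K = 2 * (2 * (2 * m) * q) := by rw [← h3]; ring
  omega

/-- In `A_n`, `n ≤ 7`, all involutions are conjugate. -/
theorem alt_invol_conj {n : ℕ} (hn : n ≤ 7) {σ τ : alternatingGroup (Fin n)}
    (hσ : σ ≠ 1 ∧ σ ^ 2 = 1) (hτ : τ ≠ 1 ∧ τ ^ 2 = 1) : ∃ π : alternatingGroup (Fin n), π * σ * π⁻¹ = τ := by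
  haveI : Fact (Nat.Prime 2) := ⟨Nat.prime_two⟩
  have key : ∀ ρ : alternatingGroup (Fin n), ρ ≠ 1 → ρ ^ 2 = 1 →
      (ρ : Equiv.Perm (Fin n)).cycleType = Multiset.replicate 2 2 := by
    intro ρ h1 h2
    have hp : (ρ : Equiv.Perm (Fin n)) ^ 2 = 1 := by
      simpa using congrArg Subtype.val h2
    have ht : ∀ k ∈ (ρ : Equiv.Perm (Fin n)).cycleType, k = 2 := fun k hk => by
      have h := (Equiv.Perm.dvd_of_mem_cycleType hk).trans (orderOf_dvd_of_pow_eq_one hp)
      have := Equiv.Perm.two_le_of_mem_cycleType hk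
      exact le_antisymm (Nat.le_of_dvd two_pos h) this
    set M := (ρ : Equiv.Perm (Fin n)).cycleType with hM
    have hrep : M = Multiset.replicate (Multiset.card M) 2 := Multiset.eq_replicate_card.2 ht
    have hne : Multiset.card M ≠ 0 := fun e => h1 (Subtype.ext (Equiv.Perm.cycleType_eq_zero.1
      (Multiset.card_eq_zero.1 e)))
    have hsum : M.sum ≤ n := (Equiv.Perm.sum_cycleType _).le.trans
      ((Finset.card_le_univ _).trans (Fintype.card_fin n).le)
    have hsign : Even (M.sum + Multiset.card M) := by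
      have hs := Equiv.Perm.mem_alternatingGroup.1 ρ.2
      rw [Equiv.Perm.sign_of_cycleType, ← hM] at hs
      exact (neg_one_pow_eq_one_iff_even (R := ℤ) (by norm_num)).1 (by
        simpa using congrArg Units.val hs)
    rw [hrep, Multiset.sum_replicate, smul_eq_mul] at hsum hsign
    rw [hrep]
    congr 1
    simp only [Multiset.card_replicate] at hsum hsign ⊢
    obtain ⟨k, hk⟩ := hsign
    omega
  have hc : IsConj (σ : Equiv.Perm (Fin n)) (τ : Equiv.Perm (Fin n)) :=
    Equiv.Perm.isConj_iff_cycleType_eq.2 ((key σ hσ.1 hσ.2).trans (key τ hτ.1 hτ.2).symm)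
  obtain ⟨π, hπ⟩ := isConj_iff.1 hc
  rcases Int.units_eq_one_or (Equiv.Perm.sign π) with hs | hs
  · exact ⟨⟨π, Equiv.Perm.mem_alternatingGroup.2 hs⟩, Subtype.ext hπ⟩
  · -- an odd permutation commuting with `σ`
    obtain ⟨x, hx⟩ : ∃ x, (σ : Equiv.Perm (Fin n)) x ≠ x := by
      by_contra h
      push Not at h
      exact hσ.1 (Subtype.ext (Equiv.ext h))
    have hinvol : ∀ y, (σ : Equiv.Perm (Fin n)) ((σ : Equiv.Perm (Fin n)) y) = y := fun y => by
      have := congrArg (fun e : alternatingGroup (Fin n) => (e : Equiv.Perm (Fin n)) y) hσ.2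
      simpa [sq] using this
    set t := Equiv.swap x ((σ : Equiv.Perm (Fin n)) x) with ht
    have hcomm : t * (σ : Equiv.Perm (Fin n)) * t⁻¹ = σ := by
      have h1 : (σ : Equiv.Perm (Fin n)) * t * (σ : Equiv.Perm (Fin n))⁻¹ = t := by
        rw [ht, ← Equiv.swap_apply_apply, hinvol, Equiv.swap_comm]
      rw [mul_inv_eq_iff_eq_mul] at h1 ⊢
      exact h1.symm
    refine ⟨⟨π * t, Equiv.Perm.mem_alternatingGroup.2 ?_⟩, Subtype.ext ?_⟩
    · rw [map_mul, hs, ht, Equiv.Perm.sign_swap (Ne.symm hx)]; decide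
    · show π * t * (σ : Equiv.Perm (Fin n)) * (π * t)⁻¹ = τ
      rw [show π * t * (σ : Equiv.Perm (Fin n)) * (π * t)⁻¹ =
        π * (t * (σ : Equiv.Perm (Fin n)) * t⁻¹) * π⁻¹ by group, hcomm, hπ]

/-- Two generating involutions of a Sylow `2`-subgroup of `A_n`, `4 ≤ n ≤ 7`. -/
theorem sylow_pair {n : ℕ} (h4 : 4 ≤ n) (h7 : n ≤ 7) : ∃ (r s : alternatingGroup (Fin n)) (m : ℕ),
    (r ≠ 1 ∧ r ^ 2 = 1) ∧ (s ≠ 1 ∧ s ^ 2 = 1) ∧ (m = 2 ∨ m = 4) ∧ orderOf (r * s) = m ∧
      r ∉ zpowers (r * s) ∧ ¬ 2 * (2 * m) ∣ Nat.card (alternatingGroup (Fin n)) ∧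
      2 * m ∣ Nat.card (alternatingGroup (Fin n)) := by
  have hcard : Nat.card (alternatingGroup (Fin n)) = n.factorial / 2 := by
    haveI : Nontrivial (Fin n) := Fin.nontrivial_iff_two_le.2 (by omega)
    rw [nat_card_alternatingGroup, Nat.card_fin]
  have hout : ∀ {r u : alternatingGroup (Fin n)} {m : ℕ}, 0 < m → orderOf u = m →
      (∀ i < m, u ^ i ≠ r) → r ∉ zpowers u := by
    intro r u m hm hu h hr
    obtain ⟨i, hi, rfl⟩ : ∃ i, i < m ∧ u ^ i = r := by
      have h' := (isOfFinOrder_of_finite u).mem_zpowers_iff_mem_range_orderOf.1 hr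
      simpa [hu] using h'
    exact h i hi rfl
  rw [hcard]
  interval_cases n
  · refine ⟨⟨Equiv.swap 0 1 * Equiv.swap 2 3, Equiv.Perm.mem_alternatingGroup.2 (by decide)⟩, ⟨Equiv.swap 0 2 * Equiv.swap 1 3, Equiv.Perm.mem_alternatingGroup.2 (by decide)⟩,
      2, by decide, by decide, Or.inl rfl, ?_, hout two_pos ?_ (by decide), by decide, by decide⟩
    all_goals exact orderOf_eq_prime (by decide) (by decide)
  · refine ⟨⟨Equiv.swap 0 1 * Equiv.swap 2 3, Equiv.Perm.mem_alternatingGroup.2 (by decide)⟩, ⟨Equiv.swap 0 2 * Equiv.swap 1 3, Equiv.Perm.mem_alternatingGroup.2 (by decide)⟩,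
      2, by decide, by decide, Or.inl rfl, ?_, hout two_pos ?_ (by decide), by decide, by decide⟩
    all_goals exact orderOf_eq_prime (by decide) (by decide)
  · refine ⟨⟨Equiv.swap 0 1 * Equiv.swap 2 3, Equiv.Perm.mem_alternatingGroup.2 (by decide)⟩, ⟨Equiv.swap 1 2 * Equiv.swap 4 5, Equiv.Perm.mem_alternatingGroup.2 (by decide)⟩,
      4, by decide, by decide, Or.inr rfl, ?_, hout four_pos ?_ (by decide), by decide, by decide⟩
    all_goals exact (orderOf_eq_iff four_pos).2 ⟨by decide, by decide⟩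
  · refine ⟨⟨Equiv.swap 0 1 * Equiv.swap 2 3, Equiv.Perm.mem_alternatingGroup.2 (by decide)⟩, ⟨Equiv.swap 1 2 * Equiv.swap 4 5, Equiv.Perm.mem_alternatingGroup.2 (by decide)⟩,
      4, by decide, by decide, Or.inr rfl, ?_, hout four_pos ?_ (by decide), by decide, by decide⟩
    all_goals exact (orderOf_eq_iff four_pos).2 ⟨by decide, by decide⟩

/-- A non-split double cover of `A_n`, `n ≤ 7`, has only one involution. -/
theorem unique_invol {n : ℕ} {H : Type*} [Group H] [Finite H] (hn : n ≤ 7)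
    (h : Cfsg.IsNonsplitDoubleCover H (alternatingGroup (Fin n))) {x y : H} (hx : orderOf x = 2)
    (hy : orderOf y = 2) : x = y := by
  haveI : Fact (Nat.Prime 2) := ⟨Nat.prime_two⟩
  obtain ⟨hZ, ⟨e⟩, hns⟩ := h
  set φ : H →* alternatingGroup (Fin n) := e.toMonoidHom.comp (QuotientGroup.mk' (center H)) with hφ
  have hsurj : Function.Surjective φ := e.surjective.comp (QuotientGroup.mk'_surjective _)
  have hker : φ.ker = center H := by
    ext g
    rw [MonoidHom.mem_ker, hφ, MonoidHom.comp_apply, MulEquiv.coe_toMonoidHom, EmbeddingLike.map_eq_one_iff,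
      QuotientGroup.mk'_apply, QuotientGroup.eq_one_iff]
  by_contra hxy
  -- one of them is outside the centre
  obtain ⟨x0, hx0, hx0Z⟩ : ∃ x0 : H, orderOf x0 = 2 ∧ x0 ∉ center H := by
    by_contra! hcon
    obtain ⟨u, hu, hu'⟩ := (Nat.card_eq_two_iff' (1 : center H)).1 hZ
    have h1 : ∀ v : H, orderOf v = 2 → v = u.1 := fun v hv => congrArg Subtype.val
      (hu' ⟨v, hcon v hv⟩ fun e => by
        have : v = 1 := congrArg Subtype.val e
        rw [this, orderOf_one] at hv
        omega)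
    exact hxy ((h1 x hx).trans (h1 y hy).symm)
  have hφx : φ x0 ≠ 1 ∧ φ x0 ^ 2 = 1 := ⟨fun e' => hx0Z (hker.le e'), by
    rw [← map_pow, ← hx0, pow_orderOf_eq_one, map_one]⟩
  have h4 : 4 ≤ n := by
    by_contra hlt
    have h0 : ∀ σ : alternatingGroup (Fin n), σ ^ 2 = 1 → σ = 1 := by
      interval_cases n <;> decide
    exact hφx.1 (h0 _ hφx.2)
  have hinv : ∀ g : H, φ g ≠ 1 → φ g ^ 2 = 1 → g ^ 2 = 1 := by
    intro g hg1 hg2
    obtain ⟨π, hπ⟩ := alt_invol_conj hn hφx ⟨hg1, hg2⟩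
    obtain ⟨k, rfl⟩ := hsurj π
    have hmem : (k * x0 * k⁻¹)⁻¹ * g ∈ center H := hker ▸ (by
      rw [MonoidHom.mem_ker, map_mul, map_inv, map_mul, map_mul, map_inv, hπ, inv_mul_cancel] :
        (k * x0 * k⁻¹)⁻¹ * g ∈ φ.ker)
    set z := (k * x0 * k⁻¹)⁻¹ * g with hz
    have hz2 : z ^ 2 = 1 := by
      have h := pow_card_eq_one' (x := (⟨z, hmem⟩ : center H))
      rw [hZ] at h
      exact congrArg Subtype.val h
    rw [show g = (k * x0 * k⁻¹) * z by rw [hz, mul_inv_cancel_left],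
      Commute.mul_pow (Subgroup.mem_center_iff.1 hmem _), hz2, mul_one, conj_pow, ← hx0,
      pow_orderOf_eq_one, mul_one, mul_inv_cancel]
  obtain ⟨r, s, m, hr, hs, hm, hrs, hnot, hodd, hdvd⟩ := sylow_pair h4 hn
  obtain ⟨L, hL⟩ := splits φ hker hZ hinv hsurj r s hr hs m hm hrs hnot hodd hdvd
  exact hns L hL

open CliffordAlgebra AltDoubleCover in
/-- The cover of `A_8` has two involutions. -/
theorem cover_eight : ∃ (H : Type) (_ : Group H) (_ : Finite H),
    Cfsg.IsNonsplitDoubleCover H (alternatingGroup (Fin 8)) ∧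
      ∃ x y : H, x ≠ y ∧ orderOf x = 2 ∧ orderOf y = 2 := by
  haveI : Fact (Nat.Prime 2) := ⟨Nat.prime_two⟩
  haveI hN : (Subgroup.zpowers (zz : cover 8)).Normal := by rw [← ker_toAlt]; infer_instance
  have hcen : center (cover 8) = zpowers (zz : cover 8) := by
    refine le_antisymm (fun g hg => ?_) (zpowers_le.2 zz_mem_center)
    rw [← ker_toAlt, MonoidHom.mem_ker]
    have hmem : toAlt g ∈ center (alternatingGroup (Fin 8)) := by
      rw [Subgroup.mem_center_iff]
      intro σ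
      obtain ⟨q, rfl⟩ := toAlt_surjective σ
      rw [← map_mul, ← map_mul, Subgroup.mem_center_iff.1 hg q]
    rwa [alternatingGroup.center_eq_bot (by simp), mem_bot] at hmem
  have hcard : Nat.card (center (cover 8)) = 2 := by rw [hcen, Nat.card_zpowers, orderOf_zz]
  refine ⟨cover 8, inferInstance, finite_cover, ⟨hcard, ⟨(QuotientGroup.quotientMulEquivOfEq
    (hcen.trans ker_toAlt.symm)).trans
      (QuotientGroup.quotientKerEquivOfSurjective toAlt toAlt_surjective)⟩, fun L hL => ?_⟩, ?_⟩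
  · -- the central involution is a commutator
    have hle : commutator (cover 8) ≤ L := by
      rw [_root_.commutator_def, commutator_le]
      intro g _ g' _
      have hmul : ∀ q : cover 8, ∃ z ∈ center (cover 8), ∃ l ∈ L, q = z * l := fun q => by
        obtain ⟨⟨z, l⟩, he⟩ := hL.2 q
        exact ⟨z.1, z.2, l.1, l.2, he.symm⟩
      obtain ⟨z, hz, l, hl, rfl⟩ := hmul g
      obtain ⟨z', hz', l', hl', rfl⟩ := hmul g'
      have e : ⁅z * l, z' * l'⁆ = ⁅l, l'⁆ := by
        simp only [commutatorElement_def, mul_inv_rev]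
        have c1 := Subgroup.mem_center_iff.1 hz
        have c2 := Subgroup.mem_center_iff.1 hz'
        calc z * l * (z' * l') * (l⁻¹ * z⁻¹) * (l'⁻¹ * z'⁻¹)
            = z * (l * z') * l' * l⁻¹ * (z⁻¹ * l'⁻¹) * z'⁻¹ := by group
          _ = z * (z' * l) * l' * l⁻¹ * (l'⁻¹ * z⁻¹) * z'⁻¹ := by
            rw [c2 l, Subgroup.mem_center_iff.1 (inv_mem hz) l'⁻¹]
          _ = (z * z') * (l * l' * l⁻¹ * l'⁻¹) * (z' * z)⁻¹ := by group
          _ = (l * l' * l⁻¹ * l'⁻¹) * (z * z') * (z' * z)⁻¹ := by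
            rw [Subgroup.mem_center_iff.1 (mul_mem hz hz') (l * l' * l⁻¹ * l'⁻¹)]
          _ = l * l' * l⁻¹ * l'⁻¹ := by
            rw [Subgroup.mem_center_iff.1 hz' z]; group
      rw [e]
      exact mul_mem (mul_mem (mul_mem hl hl') (inv_mem hl)) (inv_mem hl')
    exact zz_ne_one ((Subgroup.mem_bot).1 (hL.disjoint.le_bot
      ⟨zz_mem_center, hle (zz_mem_commutator (by omega))⟩))
  obtain ⟨c, hc⟩ := sqrt_half
  obtain ⟨u, hu, hum⟩ := swap_lift (n := 8) hc (show (0 : Fin 8) ≠ 1 by decide)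
  obtain ⟨u', hu', hum'⟩ := swap_lift (n := 8) hc (show (2 : Fin 8) ≠ 3 by decide)
  obtain ⟨v, hv, hvm⟩ := swap_lift (n := 8) hc (show (4 : Fin 8) ≠ 5 by decide)
  obtain ⟨v', hv', hvm'⟩ := swap_lift (n := 8) hc (show (6 : Fin 8) ≠ 7 by decide)
  have hσ : Equiv.swap (0 : Fin 8) 1 * Equiv.swap 2 3 * Equiv.swap 4 5 * Equiv.swap 6 7 ∈
      alternatingGroup (Fin 8) := Equiv.Perm.mem_alternatingGroup.2 (by decide)
  let q : cover 8 := ⟨(u * u' * v * v', Equiv.swap (0 : Fin 8) 1 * Equiv.swap 2 3 * Equiv.swap 4 5 *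
    Equiv.swap 6 7), mul_mem (mul_mem (mul_mem hum hum') hvm) hvm', hσ⟩
  have hanti : ∀ {a b a' b' : Fin 8}, a ≠ a' → a ≠ b' → b ≠ a' → b ≠ b' →
      (c • (gen a' - gen b')) * (c • (gen a - gen b)) =
        -((c • (gen a - gen b)) * (c • (gen a' - gen b'))) := by
    intro a b a' b' h1 h2 h3 h4
    rw [smul_mul_smul_comm, smul_mul_smul_comm, ← smul_neg]
    refine congrArg _ ?_
    simp only [sub_mul, mul_sub]
    rw [gen_anticomm h1.symm, gen_anticomm h2.symm, gen_anticomm h3.symm, gen_anticomm h4.symm]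
    abel
  have hsq : ∀ {w : (Alg 8)ˣ} {a b : Fin 8}, a ≠ b → (w : Alg 8) = c • (gen a - gen b) →
      (w : Alg 8) * (w : Alg 8) = 1 := by
    intro w a b hab hw
    rw [hw, smul_mul_smul_comm, sub_mul, mul_sub, mul_sub, gen_sq, gen_sq, gen_anticomm hab, ← sq, hc]
    have : (1 : Alg 8) - -(gen b * gen a) - (gen b * gen a - 1) = (2 : ℂ) • (1 : Alg 8) := by
      rw [two_smul]; abel
    rw [this, smul_smul]
    norm_num
  have hq2 : q ^ 2 = 1 := by
    rw [sq]
    refine Subtype.ext (Prod.ext (Units.ext ?_) ?_)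
    · show ((u : Alg 8) * u' * v * v') * ((u : Alg 8) * u' * v * v') = 1
      have a1 : (u' : Alg 8) * u = -((u : Alg 8) * u') := by rw [hu, hu']; exact hanti (by decide) (by decide) (by decide) (by decide)
      have a2 : (v : Alg 8) * u = -((u : Alg 8) * v) := by rw [hu, hv]; exact hanti (by decide) (by decide) (by decide) (by decide)
      have a3 : (v' : Alg 8) * u = -((u : Alg 8) * v') := by rw [hu, hv']; exact hanti (by decide) (by decide) (by decide) (by decide)
      have a4 : (v : Alg 8) * u' = -((u' : Alg 8) * v) := by rw [hu', hv]; exact hanti (by decide) (by decide) (by decide) (by decide)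
      have a5 : (v' : Alg 8) * u' = -((u' : Alg 8) * v') := by rw [hu', hv']; exact hanti (by decide) (by decide) (by decide) (by decide)
      have a6 : (v' : Alg 8) * v = -((v : Alg 8) * v') := by rw [hv, hv']; exact hanti (by decide) (by decide) (by decide) (by decide)
      calc ((u : Alg 8) * u' * v * v') * ((u : Alg 8) * u' * v * v')
          = (u : Alg 8) * u' * v * ((v' : Alg 8) * u) * u' * v * v' := by simp only [mul_assoc]
        _ = -((u : Alg 8) * u' * ((v : Alg 8) * u) * ((v' : Alg 8) * u') * v * v') := by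
          rw [a3]; simp only [mul_neg, neg_mul, mul_assoc]
        _ = -((u : Alg 8) * ((u' : Alg 8) * u) * ((v : Alg 8) * u') * ((v' : Alg 8) * v) * v') := by
          rw [a2, a5]; simp only [mul_neg, neg_mul, neg_neg, mul_assoc]
        _ = ((u : Alg 8) * u) * ((u' : Alg 8) * u') * ((v : Alg 8) * v) * ((v' : Alg 8) * v') := by
          rw [a1, a4, a6]; simp only [mul_neg, neg_mul, neg_neg, mul_assoc]
        _ = 1 := by
          rw [hsq (by decide) hu, hsq (by decide) hu', hsq (by decide) hv, hsq (by decide) hv', one_mul,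
            one_mul, one_mul]
    · show (Equiv.swap (0 : Fin 8) 1 * Equiv.swap 2 3 * Equiv.swap 4 5 * Equiv.swap 6 7) *
        (Equiv.swap (0 : Fin 8) 1 * Equiv.swap 2 3 * Equiv.swap 4 5 * Equiv.swap 6 7) = 1
      decide
  have hqne : ∀ p : cover 8, p.1.2 = 1 → q ≠ p := fun p hp e => by
    have h1 := congrArg (fun r : cover 8 => r.1.2 0) e
    simp only [hp, Equiv.Perm.one_apply, q] at h1
    revert h1
    decide
  exact ⟨q, zz, hqne zz rfl, orderOf_eq_prime hq2 (hqne 1 rfl), orderOf_zz⟩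

end CfsgLib.CharsMore.AltCoverInvol
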