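import Mathlib

/-!
# Extending invariant homomorphisms to a commutative group from normal subgroups
-/

namespace CfsgLib.CharsMore

open Subgroup

variable {G : Type*} [Group G]

/-- Conjugation by `g` on a normal subgroup, written as `g * n * g⁻¹`. -/
def conjBy (N : Subgroup G) [hN : N.Normal] (g : G) : N →* N where
  toFun n := ⟨g * n * g⁻¹, hN.conj_mem n n.2 g⟩
  map_one' := by ext; simp
  map_mul' a b := by ext; simp [mul_assoc]

@[simp] lemma coe_conjBy (N : Subgroup G) [N.Normal] (g : G) (n : N) :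
    (conjBy N g n : G) = g * n * g⁻¹ := rfl

/-- A homomorphism on a subgroup extends to `G`. -/
def HomExtends {A : Type*} [CommGroup A] (N : Subgroup G) (l : N →* A) : Prop :=
  ∃ μ : G →* A, ∀ n : N, μ n = l n

variable {A : Type*} [CommGroup A]

/-- Transfer of an extension to `H ≥ N` of an invariant homomorphism is a power of it on `N`. -/
lemma transfer_apply_of_invariant {N H : Subgroup G} [hN : N.Normal] [H.FiniteIndex]
    (hNH : N ≤ H) (φ : H →* A) (l : N →* A) (hφ : ∀ n : N, φ ⟨n, hNH n.2⟩ = l n)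
    (hinv : ∀ g n, l (conjBy N g n) = l n) (n : N) :
    MonoidHom.transfer φ (n : G) = l n ^ H.index := by
  classical
  obtain ⟨T⟩ : Nonempty H.LeftTransversal := inferInstance
  rw [MonoidHom.transfer_def φ T, leftTransversals.diff]
  let := H.fintypeQuotientOfFiniteIndex
  have hfix : ∀ q : G ⧸ H, (n : G)⁻¹ • q = q := by
    intro q
    induction q using QuotientGroup.induction_on with
    | H x =>
      rw [MulAction.Quotient.smul_mk, QuotientGroup.eq]
      have : x⁻¹ * (n : G) * x⁻¹⁻¹ ∈ N := hN.conj_mem _ n.2 x⁻¹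
      simpa [mul_assoc] using hNH this
  rw [Subgroup.index_eq_card, Nat.card_eq_fintype_card, ← Finset.card_univ, ← Finset.prod_const]
  refine Finset.prod_congr rfl fun q _ => ?_
  set t : G := (T.2.leftQuotientEquiv q : G) with ht
  rw [← hinv t⁻¹ n, ← hφ]
  congr 1
  ext
  simp only [coe_conjBy]
  rw [smul_apply_eq_smul_apply_inv_smul, hfix q, smul_eq_mul, ← ht, inv_inv, mul_assoc]

variable [Finite G]

/-- The `[G:H]`-th power of an invariant homomorphism extends, if it extends to `H`. -/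
lemma homExtends_pow_index {N H : Subgroup G} [N.Normal]
    (hNH : N ≤ H) (φ : H →* A) (l : N →* A) (hφ : ∀ n : N, φ ⟨n, hNH n.2⟩ = l n)
    (hinv : ∀ g n, l (conjBy N g n) = l n) : HomExtends N (l ^ H.index) :=
  ⟨MonoidHom.transfer φ, fun n => by
    rw [transfer_apply_of_invariant hNH φ l hφ hinv n, MonoidHom.pow_apply]⟩

omit [Finite G] in
/-- If two coprime powers of a homomorphism extend, so does the homomorphism. -/
lemma homExtends_of_coprime {N : Subgroup G} {l : N →* A} {a b : ℕ} (hab : Nat.Coprime a b)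
    (ha : HomExtends N (l ^ a)) (hb : HomExtends N (l ^ b)) : HomExtends N l := by
  obtain ⟨μ, hμ⟩ := ha
  obtain ⟨ν, hν⟩ := hb
  refine ⟨μ ^ Nat.gcdA a b * ν ^ Nat.gcdB a b, fun n => ?_⟩
  have h := Nat.gcd_eq_gcd_ab a b
  rw [hab.gcd_eq_one] at h
  simp only [MonoidHom.mul_apply, MonoidHom.zpow_apply, hμ, hν, MonoidHom.pow_apply]
  rw [← zpow_natCast, ← zpow_natCast (l n) b, ← zpow_mul, ← zpow_mul, ← zpow_add, ← h]
  simp

/-- An invariant homomorphism extends if it does so locally at every prime dividing an exponent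
`e` of it. -/
lemma homExtends_of_local {N : Subgroup G} [N.Normal] (l : N →* A)
    (hinv : ∀ g n, l (conjBy N g n) = l n) (e : ℕ) (he : l ^ e = 1)
    (hloc : ∀ p : ℕ, p.Prime → p ∣ e → ∃ H : Subgroup G, ∃ hNH : N ≤ H, Nat.Coprime H.index p ∧
      ∃ φ : H →* A, ∀ n : N, φ ⟨n, hNH n.2⟩ = l n) :
    HomExtends N l := by
  let S : AddSubgroup ℤ :=
    { carrier := {k | ∃ μ : G →* A, ∀ n : N, μ n = l n ^ k}
      add_mem' := by
        rintro a b ⟨μ, hμ⟩ ⟨ν, hν⟩
        exact ⟨μ * ν, fun n => by simp [hμ, hν, zpow_add]⟩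
      zero_mem' := ⟨1, fun n => by simp⟩
      neg_mem' := by
        rintro a ⟨μ, hμ⟩
        exact ⟨μ⁻¹, fun n => by simp [hμ, zpow_neg]⟩ }
  have heS : (e : ℤ) ∈ S := ⟨1, fun n => by
    rw [zpow_natCast, ← MonoidHom.pow_apply, he]; simp⟩
  obtain ⟨a, ha⟩ := Int.subgroup_cyclic S
  have hdvd : ∀ k ∈ S, a ∣ k := by
    intro k hk
    rw [ha, AddSubgroup.mem_closure_singleton] at hk
    obtain ⟨m, rfl⟩ := hk
    exact ⟨m, by simp [mul_comm]⟩
  suffices h1 : (1 : ℤ) ∈ S by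
    obtain ⟨μ, hμ⟩ := h1
    exact ⟨μ, fun n => by simpa using hμ n⟩
  have haS : a ∈ S := by rw [ha]; exact AddSubgroup.mem_closure_singleton_self a
  have hN : (N.index : ℤ) ∈ S := by
    obtain ⟨μ, hμ⟩ := homExtends_pow_index le_rfl l l (fun _ => rfl) hinv
    exact ⟨μ, fun n => by simpa using hμ n⟩
  have hu : a.natAbs = 1 := by
    by_contra hne
    obtain ⟨p, hp, hpa⟩ := Nat.exists_prime_and_dvd hne
    have hpe : p ∣ e := hpa.trans (by
      simpa using Int.natAbs_dvd_natAbs.2 (hdvd _ heS))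
    obtain ⟨H, hNH, hcop, φ, hφ⟩ := hloc p hp hpe
    obtain ⟨μ, hμ⟩ := homExtends_pow_index hNH φ l hφ hinv
    have hH : (H.index : ℤ) ∈ S := ⟨μ, fun n => by simpa using hμ n⟩
    have : p ∣ H.index := hpa.trans (by simpa using Int.natAbs_dvd_natAbs.2 (hdvd _ hH))
    exact hp.not_dvd_one (hcop ▸ Nat.dvd_gcd this dvd_rfl)
  rcases Int.natAbs_eq a with h | h
  · rw [h, hu] at haS; simpa using haS
  · rw [h, hu] at haS; simpa using haS

omit [Finite G] in
/-- An invariant homomorphism on a normal subgroup with cyclic quotient extends, if roots exist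
in the target. -/
lemma homExtends_of_cyclic {N : Subgroup G} [hN : N.Normal] (l : N →* A)
    (hinv : ∀ g n, l (conjBy N g n) = l n) [IsCyclic (G ⧸ N)]
    (hroot : ∀ (k : ℕ), k ≠ 0 → ∀ a : A, ∃ c, c ^ k = a) (hfin : N.index ≠ 0) :
    HomExtends N l := by
  obtain ⟨g₀, hg₀⟩ := IsCyclic.exists_generator (α := G ⧸ N)
  obtain ⟨x, rfl⟩ := QuotientGroup.mk_surjective g₀
  set k := orderOf (x : G ⧸ N) with hkdef
  have hk : k = N.index := by
    rw [hkdef, Subgroup.index_eq_card]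
    exact orderOf_eq_card_of_forall_mem_zpowers hg₀
  have hxk : x ^ k ∈ N := by
    rw [← QuotientGroup.eq_one_iff, QuotientGroup.mk_pow, hkdef, pow_orderOf_eq_one]
  obtain ⟨c, hc⟩ := hroot k (hk ▸ hfin) (l ⟨x ^ k, hxk⟩)
  have hcase : ∀ (i : ℤ) (h : x ^ i ∈ N), l ⟨x ^ i, h⟩ = c ^ i := by
    intro i h
    have : ((k : ℤ)) ∣ i := by
      rw [hkdef]
      exact orderOf_dvd_iff_zpow_eq_one.2 (by rw [← QuotientGroup.mk_zpow, QuotientGroup.eq_one_iff]; exact h)
    obtain ⟨j, rfl⟩ := this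
    have : (⟨x ^ ((k : ℤ) * j), h⟩ : N) = (⟨x ^ k, hxk⟩ : N) ^ j := by
      ext; simp [zpow_mul]
    rw [this, map_zpow, ← hc, zpow_mul, zpow_natCast]
  have hdec : ∀ g : G, ∃ i : ℤ, g * (x ^ i)⁻¹ ∈ N := by
    intro g
    obtain ⟨i, hi⟩ := Subgroup.mem_zpowers_iff.1 (hg₀ (g : G ⧸ N))
    refine ⟨i, ?_⟩
    rw [← QuotientGroup.eq_one_iff, QuotientGroup.mk_mul, QuotientGroup.mk_inv,
      QuotientGroup.mk_zpow, hi, mul_inv_cancel]
  choose i hi using hdec
  have key : ∀ (g : G) (j : ℤ) (h : g * (x ^ j)⁻¹ ∈ N),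
      l ⟨_, hi g⟩ * c ^ i g = l ⟨_, h⟩ * c ^ j := by
    intro g j h
    have h' : x ^ (j - i g) ∈ N := by
      have := N.mul_mem (N.inv_mem h) (hi g)
      have e : (g * (x ^ j)⁻¹)⁻¹ * (g * (x ^ i g)⁻¹) = x ^ (j - i g) := by
        rw [zpow_sub]; group
      rwa [e] at this
    have e : (⟨_, hi g⟩ : N) = ⟨_, h⟩ * ⟨_, h'⟩ := by
      ext; simp only [Subgroup.coe_mul]; rw [zpow_sub]; group
    rw [e, map_mul, hcase _ h', mul_assoc, ← zpow_add, sub_add_cancel]
  let f : G → A := fun g => l ⟨_, hi g⟩ * c ^ i g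
  have fmul : ∀ g h, f (g * h) = f g * f h := by
    intro g h
    have e : g * h * (x ^ (i g + i h))⁻¹ =
        (g * (x ^ i g)⁻¹) * (x ^ i g * (h * (x ^ i h)⁻¹) * (x ^ i g)⁻¹) := by
      rw [zpow_add]; group
    have hm : g * h * (x ^ (i g + i h))⁻¹ ∈ N := by
      rw [e]; exact N.mul_mem (hi g) (hN.conj_mem _ (hi h) _)
    have e' : (⟨_, hm⟩ : N) = ⟨_, hi g⟩ * conjBy N (x ^ i g) ⟨_, hi h⟩ := Subtype.ext e
    calc f (g * h) = l ⟨_, hm⟩ * c ^ (i g + i h) := key _ _ hm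
      _ = f g * f h := by rw [e', map_mul, hinv, zpow_add]; exact mul_mul_mul_comm _ _ _ _
  refine ⟨MonoidHom.mk' f fmul, fun n => ?_⟩
  have h0 : (n : G) * (x ^ (0 : ℤ))⁻¹ ∈ N := by simp
  show f n = l n
  rw [show f n = _ from key (n : G) 0 h0]
  simp

end CfsgLib.CharsMore
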