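import Cfsg.Agent.Lib.CharsMore.CharAlg
import Cfsg.Agent.Lib.CharsMore.LinExtend

/-!
# Clifford theory and the Clifford correspondence
-/

set_option linter.unusedSectionVars false

namespace CfsgLib.CharsMore

open Cfsg
open scoped ComplexConjugate

variable {G : Type*} [Group G] [Fintype G] (N : Subgroup G) [N.Normal]

/-- The conjugate of a function on a normal subgroup: `n ↦ θ (g * n * g⁻¹)`. -/
def conjFn (g : G) (θ : N → ℂ) : N → ℂ := fun n => θ (conjBy N g n)

lemma conjFn_one (θ : N → ℂ) : conjFn N 1 θ = θ := by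
  funext n
  show θ (conjBy N 1 n) = θ n
  congr 1
  ext
  simp

lemma conjFn_mul (g h : G) (θ : N → ℂ) : conjFn N (g * h) θ = conjFn N h (conjFn N g θ) := by
  funext n
  show θ (conjBy N (g * h) n) = θ (conjBy N g (conjBy N h n))
  congr 1
  ext
  simp [mul_assoc]

lemma conjBy_surjective (g : G) : Function.Surjective (conjBy N g) :=
  fun n => ⟨conjBy N g⁻¹ n, by ext; simp [mul_assoc]⟩

lemma isIrr_conjFn (g : G) {θ : N → ℂ} (hθ : IsIrrCharacter N θ) :
    IsIrrCharacter N (conjFn N g θ) :=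
  Chars.isIrrCharacter_comp (conjBy N g) (conjBy_surjective N g) hθ

/-- The inertia group of a function on a normal subgroup. -/
def inertia (θ : N → ℂ) : Subgroup G where
  carrier := {g | conjFn N g θ = θ}
  one_mem' := conjFn_one N θ
  mul_mem' {g h} hg hh := by
    show conjFn N (g * h) θ = θ
    rw [conjFn_mul, show conjFn N g θ = θ from hg, show conjFn N h θ = θ from hh]
  inv_mem' {g} hg := by
    show conjFn N g⁻¹ θ = θ
    have := conjFn_mul N g g⁻¹ θ
    rw [mul_inv_cancel, conjFn_one, show conjFn N g θ = θ from hg] at this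
    exact this.symm

lemma mem_inertia {θ : N → ℂ} {g : G} : g ∈ inertia N θ ↔ ∀ n : N, θ (conjBy N g n) = θ n :=
  ⟨fun h n => congrFun h n, fun h => funext h⟩

lemma le_inertia {θ : N → ℂ} (hθ : IsClassFunction N θ) : N ≤ inertia N θ := fun g hg =>
  (mem_inertia N).2 fun n => by
    have : conjBy N g n = ⟨g, hg⟩ * n * ⟨g, hg⟩⁻¹ := by ext; simp
    rw [this]
    exact hθ n ⟨g, hg⟩

/-- The conjugates of a function. -/
noncomputable def orbitFn (θ : N → ℂ) : Finset (N → ℂ) :=
  open scoped Classical in Finset.univ.image (fun g : G => conjFn N g θ)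

lemma mem_orbitFn {θ φ : N → ℂ} : φ ∈ orbitFn N θ ↔ ∃ g, conjFn N g θ = φ := by
  classical
  simp [orbitFn]

lemma orbitFn_irr {θ : N → ℂ} (hθ : IsIrrCharacter N θ) {φ : N → ℂ} (h : φ ∈ orbitFn N θ) :
    IsIrrCharacter N φ := by
  obtain ⟨g, rfl⟩ := (mem_orbitFn N).1 h
  exact isIrr_conjFn N g hθ

lemma card_orbitFn (θ : N → ℂ) : (orbitFn N θ).card = (inertia N θ).index := by
  classical
  let f : G ⧸ inertia N θ → {φ // φ ∈ orbitFn N θ} := Quotient.lift
    (fun g => ⟨conjFn N g⁻¹ θ, (mem_orbitFn N).2 ⟨g⁻¹, rfl⟩⟩) (fun a b hab => by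
      have h : a⁻¹ * b ∈ inertia N θ := QuotientGroup.leftRel_apply.1 hab
      apply Subtype.ext
      show conjFn N a⁻¹ θ = conjFn N b⁻¹ θ
      have e : a⁻¹ = (a⁻¹ * b) * b⁻¹ := by group
      rw [e, conjFn_mul, show conjFn N (a⁻¹ * b) θ = θ from h])
  have hf : Function.Bijective f := by
    constructor
    · intro x y
      induction x using QuotientGroup.induction_on with
      | H a =>
        induction y using QuotientGroup.induction_on with
        | H b =>
          intro h
          apply QuotientGroup.eq.2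
          have h' : conjFn N a⁻¹ θ = conjFn N b⁻¹ θ := congrArg Subtype.val h
          show conjFn N (a⁻¹ * b) θ = θ
          rw [conjFn_mul, h', ← conjFn_mul, inv_mul_cancel, conjFn_one]
    · rintro ⟨φ, hφ⟩
      obtain ⟨g, rfl⟩ := (mem_orbitFn N).1 hφ
      exact ⟨QuotientGroup.mk g⁻¹, Subtype.ext (show conjFn N g⁻¹⁻¹ θ = _ by rw [inv_inv])⟩
  rw [Subgroup.index_eq_card, Nat.card_congr (Equiv.ofBijective f hf), Nat.card_eq_fintype_card,
    Fintype.card_coe]

variable [Fintype N]

lemma inner_conjFn (g : G) (φ ψ : N → ℂ) :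
    classInner (conjFn N g φ) (conjFn N g ψ) = classInner φ ψ := by
  rw [Chars.inner_def, Chars.inner_def]
  congr 1
  have hb : Function.Bijective (conjBy N g) :=
    ⟨fun a b h => Subtype.ext (by simpa using congrArg Subtype.val h), conjBy_surjective N g⟩
  exact Fintype.sum_bijective _ hb _ _ fun _ => rfl

lemma indFun_conjFn (g : G) (θ : N → ℂ) : indFun N (conjFn N g θ) = indFun N θ := by
  funext x
  rw [Chars.indFun_apply, Chars.indFun_apply]
  congr 1
  refine Fintype.sum_equiv (Equiv.mulRight g⁻¹) _ _ fun y => ?_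
  simp only [Equiv.coe_mulRight]
  have e : (y * g⁻¹)⁻¹ * x * (y * g⁻¹) = g * (y⁻¹ * x * y) * g⁻¹ := by group
  rw [e]
  by_cases h : y⁻¹ * x * y ∈ N
  · rw [Chars.extendByZero_of_mem N _ h,
      Chars.extendByZero_of_mem N _ (‹N.Normal›.conj_mem _ h g)]
    rfl
  · rw [Chars.extendByZero_of_not_mem N _ h, Chars.extendByZero_of_not_mem N _ (fun hc => h ?_)]
    have h2 := ‹N.Normal›.conj_mem _ hc g⁻¹
    have e2 : g⁻¹ * (g * (y⁻¹ * x * y) * g⁻¹) * g⁻¹⁻¹ = y⁻¹ * x * y := by group
    rwa [e2] at h2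

lemma indFun_normal_apply (θ : N → ℂ) (n : N) :
    indFun N θ n = (Nat.card N : ℂ)⁻¹ * ∑ x : G, conjFn N x θ n := by
  rw [Chars.indFun_apply]
  congr 1
  refine Fintype.sum_equiv (Equiv.inv G) _ _ fun x => ?_
  rw [Chars.extendByZero_of_mem N θ (by simpa using ‹N.Normal›.conj_mem _ n.2 x⁻¹)]
  show _ = θ (conjBy N x⁻¹ n)
  congr 1
  ext
  simp

lemma indFun_restrict_eq (θ : N → ℂ) :
    (fun n : N => indFun N θ n) =
      (Nat.card N : ℂ)⁻¹ • ∑ x : G, conjFn N x θ := by
  funext n
  simp [indFun_normal_apply, Finset.sum_apply]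

/-- Inner products of the restriction of an induced irreducible. -/
lemma inner_indFun_restrict {θ φ : N → ℂ} (hθ : IsIrrCharacter N θ) (hφ : IsIrrCharacter N φ) :
    classInner (fun n : N => indFun N θ n) φ =
      (Nat.card N : ℂ)⁻¹ * Nat.card {x : G // conjFn N x θ = φ} := by
  classical
  rw [indFun_restrict_eq, Chars.inner_smul_left, Chars.inner_sum_left]
  congr 1
  simp [Chars.inner_irr_of_isIrr (isIrr_conjFn N _ hθ) hφ, Nat.card_eq_fintype_card,
    Fintype.card_subtype]

lemma restrict_constituents_conj {χ : G → ℂ} (hχ : IsIrrCharacter G χ) {θ φ : N → ℂ}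
    (hθ : IsIrrCharacter N θ) (hφ : IsIrrCharacter N φ)
    (h1 : classInner (fun n : N => χ n) θ ≠ 0) (h2 : classInner (fun n : N => χ n) φ ≠ 0) :
    ∃ g, conjFn N g θ = φ := by
  classical
  by_contra hno
  push Not at hno
  have hzero : classInner (fun n : N => indFun N θ n) φ = 0 := by
    rw [inner_indFun_restrict N hθ hφ]
    have : IsEmpty {x : G // conjFn N x θ = φ} := ⟨fun x => hno x.1 x.2⟩
    simp
  have hθc := Chars.isCharacter_of_irr hθ
  have hφc := Chars.isCharacter_of_irr hφ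
  have hχc := Chars.isCharacter_of_irr hχ
  have hind := Chars.isCharacter_indFun N hθc
  have hcl := Chars.isClassFunction_of_isCharacter hχc
  have h := inner_restrict_ge N.subtype hind hφc {⟨χ, hχ⟩}
  rw [Finset.sum_singleton] at h
  have hz : multNat (indFun N θ ∘ N.subtype) φ = 0 := by
    have := inner_eq_multNat (φ := indFun N θ ∘ N.subtype) (Chars.isCharacter_comp N.subtype hind) hφc
    exact_mod_cast this.symm.trans hzero
  have ha : classInner (indFun N θ) χ ≠ 0 := by
    rw [Chars.inner_indFun N θ hcl, conj_inner (Chars.isCharacter_restrict N hχc) hθc]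
    exact h1
  have hA := multNat_ne_zero hind hχc ha
  have hB : multNat (χ ∘ N.subtype) φ ≠ 0 :=
    multNat_ne_zero (Chars.isCharacter_comp N.subtype hχc) hφc h2
  rw [hz, Nat.le_zero, Nat.mul_eq_zero] at h
  exact h.elim hA hB

lemma inner_restrict_conjFn {χ : G → ℂ} (hχ : IsClassFunction G χ) (g : G) (θ : N → ℂ) :
    classInner (fun n : N => χ n) (conjFn N g θ) = classInner (fun n : N => χ n) θ := by
  have : (fun n : N => χ n) = conjFn N g (fun n : N => χ n) := by
    funext n
    exact (hχ (n : G) g).symm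
  conv_lhs => rw [this]
  exact inner_conjFn N g _ _

/-- Clifford's theorem. -/
theorem clifford {χ : G → ℂ} (hχ : IsIrrCharacter G χ) {θ : N → ℂ} (hθ : IsIrrCharacter N θ)
    (h : classInner (fun n : N => χ n) θ ≠ 0) :
    (fun n : N => χ n) = classInner (fun n : N => χ n) θ • ∑ ψ ∈ orbitFn N θ, ψ := by
  classical
  have hcl := Chars.isClassFunction_of_isCharacter (Chars.isCharacter_of_irr hχ)
  refine Chars.ext_inner_irr (Chars.isClassFunction_restrict N hcl)
    (Chars.isClassFunction_smul _ (Chars.isClassFunction_sum _ fun ψ hψ =>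
      Chars.isClassFunction_of_isCharacter (Chars.isCharacter_of_irr (orbitFn_irr N hθ hψ))))
    fun φ => ?_
  rw [Chars.inner_smul_left, Chars.inner_sum_left,
    Finset.sum_congr rfl fun ψ hψ => Chars.inner_irr_of_isIrr (orbitFn_irr N hθ hψ) φ.2,
    Finset.sum_ite_eq']
  split_ifs with hmem
  · obtain ⟨g, hg⟩ := (mem_orbitFn N).1 hmem
    rw [mul_one, ← hg, inner_restrict_conjFn N hcl]
  · rw [mul_zero]
    by_contra hne
    exact hmem ((mem_orbitFn N).2 (restrict_constituents_conj N hχ hθ φ.2 h hne))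

/-- Degrees in Clifford's theorem. -/
theorem clifford_degree {χ : G → ℂ} (hχ : IsIrrCharacter G χ) {θ : N → ℂ} (hθ : IsIrrCharacter N θ)
    (h : classInner (fun n : N => χ n) θ ≠ 0) :
    χ 1 = classInner (fun n : N => χ n) θ * ((inertia N θ).index : ℂ) * θ 1 := by
  have h1 := congrFun (clifford N hχ hθ h) 1
  have h2 : ∀ ψ ∈ orbitFn N θ, ψ 1 = θ 1 := by
    intro ψ hψ
    obtain ⟨g, rfl⟩ := (mem_orbitFn N).1 hψ
    exact congrArg θ (map_one _)
  simp only [Pi.smul_apply, Finset.sum_apply, smul_eq_mul, Finset.sum_congr rfl h2,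
    Finset.sum_const, card_orbitFn, nsmul_eq_mul, OneMemClass.coe_one] at h1
  rw [h1]; ring

/-- The restriction to `N` of an irreducible over an invariant one is a multiple of it. -/
theorem restrict_eq_mul_of_invariant {χ : G → ℂ} (hχ : IsIrrCharacter G χ) {θ : N → ℂ}
    (hθ : IsIrrCharacter N θ) (hinv : ∀ g n, θ (conjBy N g n) = θ n)
    (h : classInner (fun n : N => χ n) θ ≠ 0) (n : N) :
    χ n = classInner (fun n : N => χ n) θ * θ n := by
  classical
  have horb : orbitFn N θ = {θ} := by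
    ext ψ
    rw [mem_orbitFn, Finset.mem_singleton]
    refine ⟨fun ⟨g, hg⟩ => ?_, fun h => ⟨1, by rw [conjFn_one, h]⟩⟩
    rw [← hg]; exact funext (hinv g)
  have h1 := congrFun (clifford N hχ hθ h) n
  rwa [horb, Finset.sum_singleton] at h1

omit [N.Normal] in
/-- Regard a function on `N` as one on `N.subgroupOf T`. -/
def pullFn (T : Subgroup G) (θ : N → ℂ) : N.subgroupOf T → ℂ :=
  fun x => θ ⟨(x : T), Subgroup.mem_subgroupOf.mp x.2⟩

variable {T : Subgroup G} (hNT : N ≤ T)
include hNT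

lemma isIrr_pullFn {θ : N → ℂ} (hθ : IsIrrCharacter N θ) :
    IsIrrCharacter (N.subgroupOf T) (pullFn N T θ) :=
  Chars.isIrrCharacter_comp (Subgroup.subgroupOfEquivOfLe hNT).toMonoidHom
    (Subgroup.subgroupOfEquivOfLe hNT).surjective hθ

lemma inner_pullFn [Fintype (N.subgroupOf T)] (α β : N → ℂ) :
    classInner (pullFn N T α) (pullFn N T β) = classInner α β :=
  inner_comp_equiv (Subgroup.subgroupOfEquivOfLe hNT) α β

variable [Fintype T]

/-- An irreducible of `T ≤ inertia` over `θ` restricts to a multiple of `θ`. -/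
lemma restrict_of_le_inertia {θ : N → ℂ} (hθ : IsIrrCharacter N θ) (hT : T ≤ inertia N θ)
    {ψ : T → ℂ} (hψ : IsIrrCharacter T ψ)
    (h : classInner (fun n : N => ψ ⟨n, hNT n.2⟩) θ ≠ 0) (n : N) :
    ψ ⟨n, hNT n.2⟩ = classInner (fun n : N => ψ ⟨n, hNT n.2⟩) θ * θ n := by
  classical
  let _ : Fintype (N.subgroupOf T) := Fintype.ofFinite _
  have e : classInner (fun x : N.subgroupOf T => ψ x) (pullFn N T θ) =
      classInner (fun n : N => ψ ⟨n, hNT n.2⟩) θ :=
    inner_pullFn N hNT (fun n : N => ψ ⟨n, hNT n.2⟩) θ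
  have key := restrict_eq_mul_of_invariant (N.subgroupOf T) hψ (isIrr_pullFn N hNT hθ)
    (fun g x => (mem_inertia N).1 (hT g.2) ⟨(x : T), Subgroup.mem_subgroupOf.mp x.2⟩)
    (e ▸ h) ⟨⟨n, hNT n.2⟩, n.2⟩
  rw [e] at key
  exact key

variable {θ : N → ℂ}

/-- The basic inequality behind the Clifford correspondence. -/
lemma correspondence_core (hθ : IsIrrCharacter N θ) (hT : T = inertia N θ) {ψ : T → ℂ}
    (hψ : IsIrrCharacter T ψ) (hψθ : classInner (fun n : N => ψ ⟨n, hNT n.2⟩) θ ≠ 0) {χ : G → ℂ}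
    (hχ : IsIrrCharacter G χ) (hχψ : classInner (fun t : T => χ t) ψ ≠ 0) :
    indFun T ψ = χ ∧
      classInner (fun n : N => ψ ⟨n, hNT n.2⟩) θ = classInner (fun n : N => χ n) θ ∧
      multNat (fun t : T => χ t) ψ = 1 := by
  classical
  have hχc := Chars.isCharacter_of_irr hχ
  have hψc := Chars.isCharacter_of_irr hψ
  have hθc := Chars.isCharacter_of_irr hθ
  have hres : IsCharacter T (fun t : T => χ t) := Chars.isCharacter_restrict T hχc
  have hf : IsCharacter N (fun n : N => ψ ⟨n, hNT n.2⟩) :=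
    Chars.isCharacter_comp (Subgroup.inclusion hNT) hψc
  set f := multNat (fun n : N => ψ ⟨n, hNT n.2⟩) θ with hfdef
  set m := multNat (fun t : T => χ t) ψ with hmdef
  set e := multNat (fun n : N => χ n) θ with hedef
  have hge : m * f ≤ e := by
    have h := inner_restrict_ge (Subgroup.inclusion hNT) hres hθc {⟨ψ, hψ⟩}
    rw [Finset.sum_singleton] at h
    exact h
  have hm : m ≠ 0 := multNat_ne_zero hres hψc hχψ
  have hf0 : f ≠ 0 := multNat_ne_zero hf hθc hψθ
  have he : e ≠ 0 := fun h0 => by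
    rw [h0, Nat.le_zero, Nat.mul_eq_zero] at hge
    exact hge.elim hm hf0
  have hχθ : classInner (fun n : N => χ n) θ ≠ 0 := by
    rw [inner_eq_multNat (Chars.isCharacter_restrict N hχc) hθc]
    exact_mod_cast he
  obtain ⟨d, hd⟩ := Chars.character_degree_nat hθc
  have hd0 : 0 < d := Nat.pos_of_ne_zero fun h0 =>
    Chars.irr_degree_ne_zero hθ (by rw [hd, h0, Nat.cast_zero])
  have hχ1 : χ 1 = ((e * T.index * d : ℕ) : ℂ) := by
    rw [clifford_degree N hχ hθ hχθ, inner_eq_multNat (Chars.isCharacter_restrict N hχc) hθc, hd,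
      hT]
    push_cast
    rfl
  have hψ1 : ψ 1 = ((f * d : ℕ) : ℂ) := by
    have h := restrict_of_le_inertia N hNT hθ hT.le hψ hψθ 1
    rw [inner_eq_multNat hf hθc, hd] at h
    push_cast
    exact h
  have hindc := Chars.isCharacter_indFun T hψc
  have hind1 : indFun T ψ 1 = ((T.index * (f * d) : ℕ) : ℂ) := by
    rw [Chars.indFun_one_apply, hψ1]; push_cast; rfl
  have hcon : classInner (indFun T ψ) χ ≠ 0 := by
    rw [Chars.inner_indFun T ψ (Chars.isClassFunction_of_isCharacter hχc), conj_inner hres hψc]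
    exact hχψ
  have hfe : f ≤ e := le_trans (Nat.le_mul_of_pos_left f (Nat.pos_of_ne_zero hm)) hge
  have heq : indFun T ψ = χ := eq_of_constituent_degree hindc hχ hcon hind1 hχ1 (by
    rw [show e * T.index * d = T.index * (e * d) by ring]
    exact Nat.mul_le_mul_left _ (Nat.mul_le_mul_right d hfe))
  have hef : e = f := by
    have h := hind1.symm.trans ((congrFun heq 1).trans hχ1)
    have h' : T.index * (f * d) = T.index * (e * d) := by
      have : T.index * (f * d) = e * T.index * d := by exact_mod_cast h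
      rw [this]; ring
    exact (Nat.eq_of_mul_eq_mul_right hd0
      (Nat.eq_of_mul_eq_mul_left (Nat.pos_of_ne_zero Subgroup.index_ne_zero_of_finite) h')).symm
  refine ⟨heq, ?_, ?_⟩
  · rw [inner_eq_multNat hf hθc, inner_eq_multNat (Chars.isCharacter_restrict N hχc) hθc, ← hfdef,
      ← hedef, hef]
  · have : m * f ≤ 1 * f := by rw [one_mul]; exact hef ▸ hge
    exact le_antisymm (Nat.le_of_mul_le_mul_right this (Nat.pos_of_ne_zero hf0))
      (Nat.pos_of_ne_zero hm)

/-- Clifford correspondence: surjectivity. -/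
theorem exists_correspondent (hθ : IsIrrCharacter N θ) (hT : T = inertia N θ) {χ : G → ℂ}
    (hχ : IsIrrCharacter G χ) (h : classInner (fun n : N => χ n) θ ≠ 0) :
    ∃ ψ : T → ℂ, IsIrrCharacter T ψ ∧ indFun T ψ = χ ∧
      classInner (fun n : N => ψ ⟨n, hNT n.2⟩) θ = classInner (fun n : N => χ n) θ ∧
      ∀ n : N, ψ ⟨n, hNT n.2⟩ = classInner (fun n : N => χ n) θ * θ n := by
  classical
  let _ := Chars.irrFintype T
  have hres := Chars.isCharacter_restrict T (Chars.isCharacter_of_irr hχ)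
  have hex : ∃ ψ : IrrCharacter T, classInner (fun t : T => χ t) ψ ≠ 0 ∧
      classInner (fun n : N => (ψ : T → ℂ) ⟨n, hNT n.2⟩) θ ≠ 0 := by
    by_contra hno
    push Not at hno
    apply h
    have hd : (fun n : N => χ n) = ∑ ψ : IrrCharacter T,
        classInner (fun t : T => χ t) ψ • (fun n : N => (ψ : T → ℂ) ⟨n, hNT n.2⟩) := by
      funext n
      have := congrFun (Chars.classFun_eq_sum (Chars.isClassFunction_of_isCharacter hres))
        ⟨n, hNT n.2⟩
      simpa [Finset.sum_apply] using this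
    rw [hd, Chars.inner_sum_left]
    refine Finset.sum_eq_zero fun ψ _ => ?_
    rw [Chars.inner_smul_left]
    by_cases hz : classInner (fun t : T => χ t) ψ = 0
    · rw [hz, zero_mul]
    · rw [hno ψ hz, mul_zero]
  obtain ⟨⟨ψ, hψ⟩, h1, h2⟩ := hex
  obtain ⟨h3, h4, -⟩ := correspondence_core N hNT hθ hT hψ h2 hχ h1
  exact ⟨ψ, hψ, h3, h4, fun n => by rw [restrict_of_le_inertia N hNT hθ hT.le hψ h2 n, h4]⟩

/-- Clifford correspondence: irreducibility of induced characters. -/
theorem isIrr_indFun_of_over (hθ : IsIrrCharacter N θ) (hT : T = inertia N θ) {ψ : T → ℂ}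
    (hψ : IsIrrCharacter T ψ) (hψθ : classInner (fun n : N => ψ ⟨n, hNT n.2⟩) θ ≠ 0) :
    IsIrrCharacter G (indFun T ψ) := by
  classical
  have hc := Chars.isCharacter_indFun T (Chars.isCharacter_of_irr hψ)
  have h1 : indFun T ψ 1 ≠ 0 := by
    rw [Chars.indFun_one_apply]
    exact mul_ne_zero (Nat.cast_ne_zero.2 Subgroup.index_ne_zero_of_finite)
      (Chars.irr_degree_ne_zero hψ)
  obtain ⟨χ, hχ⟩ := Chars.exists_constituent hc (fun h0 => h1 (by rw [h0]; rfl))
  rw [Chars.inner_indFun T ψ (Chars.isClassFunction_irr χ),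
    conj_inner (Chars.isCharacter_restrict T (Chars.isCharacter_of_irr χ.2))
      (Chars.isCharacter_of_irr hψ)] at hχ
  rw [(correspondence_core N hNT hθ hT hψ hψθ χ.2 hχ).1]
  exact χ.2

/-- Clifford correspondence: injectivity. -/
theorem indFun_injective_of_over (hθ : IsIrrCharacter N θ) (hT : T = inertia N θ) {ψ ψ' : T → ℂ}
    (hψ : IsIrrCharacter T ψ) (hψθ : classInner (fun n : N => ψ ⟨n, hNT n.2⟩) θ ≠ 0)
    (hψ' : IsIrrCharacter T ψ') (hψθ' : classInner (fun n : N => ψ' ⟨n, hNT n.2⟩) θ ≠ 0)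
    (h : indFun T ψ = indFun T ψ') : ψ = ψ' := by
  classical
  by_contra hne
  have hirr := isIrr_indFun_of_over N hNT hθ hT hψ hψθ
  have hχc := Chars.isCharacter_of_irr hirr
  set χ := indFun T ψ with hχdef
  have hcl := Chars.isClassFunction_of_isCharacter hχc
  have hres := Chars.isCharacter_restrict T hχc
  have hmem : ∀ {η : T → ℂ}, IsIrrCharacter T η → indFun T η = χ →
      classInner (fun t : T => χ t) η ≠ 0 := by
    intro η hη he
    rw [conj_inner (Chars.isCharacter_of_irr hη) hres, ← Chars.inner_indFun T η hcl, he,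
      Chars.inner_irr_self ⟨χ, hirr⟩]
    exact one_ne_zero
  obtain ⟨-, e1, m1⟩ := correspondence_core N hNT hθ hT hψ hψθ hirr (hmem hψ rfl)
  obtain ⟨-, e2, m2⟩ := correspondence_core N hNT hθ hT hψ' hψθ' hirr (hmem hψ' h.symm)
  have hθc := Chars.isCharacter_of_irr hθ
  have hle := inner_restrict_ge (Subgroup.inclusion hNT) hres hθc
    {⟨ψ, hψ⟩, ⟨ψ', hψ'⟩}
  rw [Finset.sum_pair (fun he => hne (congrArg Subtype.val he)), m1, m2, one_mul, one_mul] at hle
  have f1 := inner_eq_multNat (Chars.isCharacter_comp (Subgroup.inclusion hNT)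
    (Chars.isCharacter_of_irr hψ)) hθc
  have f2 := inner_eq_multNat (Chars.isCharacter_comp (Subgroup.inclusion hNT)
    (Chars.isCharacter_of_irr hψ')) hθc
  have f3 := inner_eq_multNat (Chars.isCharacter_restrict N hχc) hθc
  have g1 : multNat (ψ ∘ Subgroup.inclusion hNT) θ = multNat (fun n : N => χ n) θ := by
    exact_mod_cast f1.symm.trans (e1.trans f3)
  have g2 : multNat (ψ' ∘ Subgroup.inclusion hNT) θ = multNat (fun n : N => χ n) θ := by
    exact_mod_cast f2.symm.trans (e2.trans f3)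
  have g0 : multNat (ψ ∘ Subgroup.inclusion hNT) θ ≠ 0 :=
    multNat_ne_zero (Chars.isCharacter_comp (Subgroup.inclusion hNT)
      (Chars.isCharacter_of_irr hψ)) hθc hψθ
  have g4 : multNat ((fun t : T => χ t) ∘ Subgroup.inclusion hNT) θ =
      multNat (fun n : N => χ n) θ := rfl
  dsimp only at hle
  omega

end CfsgLib.CharsMore
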