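import Cfsg.Agent.Lib.CharsMore.Intertwiners
import Cfsg.Agent.Lib.Chars.Basic
import Cfsg.Prelude.Def_CharExt

/-!
# Extension theorems for characters of normal subgroups (bridge to `Cfsg` characters)
-/

set_option linter.unusedSectionVars false

namespace CfsgLib.CharsMore

open Module Cfsg

section Linear

variable {H : Type*} [Group H]

/-- A homomorphism to `ℂˣ` as a complex valued function. -/
def linFun (μ : H →* ℂˣ) : H → ℂ := fun h => (μ h : ℂ)

lemma linFun_injective : Function.Injective (linFun (H := H)) := fun _ _ h =>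
  MonoidHom.ext fun x => Units.ext (congrFun h x)

lemma linFun_one : linFun (1 : H →* ℂˣ) = fun _ => 1 := rfl

/-- A homomorphism to `ℂˣ` as a one dimensional representation. -/
noncomputable def linRep (μ : H →* ℂˣ) : Representation ℂ H (Fin 1 → ℂ) :=
  ((algebraMap ℂ (Module.End ℂ (Fin 1 → ℂ))).toMonoidHom.comp (Units.coeHom ℂ)).comp μ

lemma character_linRep (μ : H →* ℂˣ) : (linRep μ).character = linFun μ := by
  funext h
  show LinearMap.trace ℂ _ (algebraMap ℂ (Module.End ℂ (Fin 1 → ℂ)) (μ h : ℂ)) = _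
  rw [Algebra.algebraMap_eq_smul_one, map_smul, LinearMap.trace_one]
  simp [linFun]

lemma isIrrCharacter_linFun (μ : H →* ℂˣ) : IsIrrCharacter H (linFun μ) := by
  have := Chars.isIrreducible_of_finrank_eq_one (linRep μ) (by simp)
  exact ⟨1, linRep μ, this, character_linRep μ⟩

lemma isCharacter_linFun (μ : H →* ℂˣ) : IsCharacter H (linFun μ) ∧ linFun μ 1 = 1 :=
  ⟨⟨1, linRep μ, character_linRep μ⟩, by simp [linFun]⟩

/-- A character of degree one is a homomorphism. -/
lemma exists_hom_of_linear {χ : H → ℂ} (h : IsCharacter H χ ∧ χ 1 = 1) :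
    ∃ μ : H →* ℂˣ, linFun μ = χ := by
  obtain ⟨⟨n, ρ, rfl⟩, h1⟩ := h
  have hn : n = 1 := by simpa using h1
  subst hn
  refine ⟨(Units.map LinearMap.det).comp ρ.toHomUnits, funext fun g => ?_⟩
  show LinearMap.det (ρ g) = LinearMap.trace ℂ _ (ρ g)
  rw [← LinearMap.det_toMatrix', Matrix.det_fin_one,
    LinearMap.trace_eq_matrix_trace ℂ (Pi.basisFun ℂ (Fin 1)), LinearMap.toMatrix_eq_toMatrix',
    Matrix.trace_fin_one]

/-- Taking values of a homomorphism to `ℂˣ` preserves products and orders. -/
def linFunHom : (H →* ℂˣ) →* (H → ℂ) where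
  toFun := linFun
  map_one' := rfl
  map_mul' _ _ := rfl

lemma orderOf_linFun (μ : H →* ℂˣ) : orderOf (linFun μ) = orderOf μ :=
  orderOf_injective linFunHom linFun_injective μ

end Linear

section Det

variable {H : Type*} [Group H] {V : Type*} [AddCommGroup V] [Module ℂ V]

/-- The determinant of a representation, as a homomorphism. -/
noncomputable def detHom (ρ : Representation ℂ H V) : H →* ℂˣ :=
  (Units.map LinearMap.det).comp ρ.toHomUnits

lemma coe_detHom (ρ : Representation ℂ H V) (h : H) : (detHom ρ h : ℂ) = LinearMap.det (ρ h) :=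
  rfl

variable [Finite H] [FiniteDimensional ℂ V]

lemma detHom_eq_of_equiv {U : Type*} [AddCommGroup U] [Module ℂ U] {ρ : Representation ℂ H V}
    {σ : Representation ℂ H U} (e : ρ.Equiv σ) : detHom σ = detHom ρ := by
  refine MonoidHom.ext fun h => Units.ext ?_
  rw [coe_detHom, coe_detHom, ← Representation.Equiv.conj_apply_self h e]
  exact LinearMap.det_conj _ _

/-- The determinantal character of an irreducible character is the determinant of any
representation affording it. -/
lemma detChar_eq (ρ : Representation ℂ H V) [ρ.IsIrreducible] {χ : H → ℂ}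
    (h : ρ.character = χ) : detChar χ = linFun (detHom ρ) := by
  have hχ : IsCharacter H χ := h ▸ Chars.isCharacter_character ρ
  rw [detChar, dif_pos hχ]
  have hspec : (Classical.choose (Classical.choose_spec hχ)).character = χ :=
    Classical.choose_spec (Classical.choose_spec hχ)
  obtain ⟨e⟩ := equiv_of_character_eq ρ (Classical.choose (Classical.choose_spec hχ))
    (h.trans hspec.symm)
  funext g
  rw [linFun, ← detHom_eq_of_equiv e, coe_detHom]

end Det

section Transfer

variable {G : Type*} [Group G] {N : Type*} [Group N] [Finite N]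
  {W : Type*} [AddCommGroup W] [Module ℂ W] [FiniteDimensional ℂ W]

lemma isIrreducible_of_comp (ι : N →* G) (R : Representation ℂ G W)
    [h : Representation.IsIrreducible (R.comp ι : Representation ℂ N W)] :
    R.IsIrreducible := by
  rw [Chars.isIrreducible_iff] at h ⊢
  exact ⟨h.1, fun U hU => h.2 U fun n x hx => hU (ι n) x hx⟩

/-- A character extending an irreducible one is afforded by a representation extending any given
representation affording the latter. -/
lemma exists_repExt_of_character (ι : N →* G) (ρ : Representation ℂ N W) [ρ.IsIrreducible]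
    {χ : G → ℂ} (hχ : IsCharacter G χ) (h : ∀ n, χ (ι n) = ρ.character n) :
    ∃ R : Representation ℂ G W, (∀ n, R (ι n) = ρ n) ∧ R.IsIrreducible ∧ R.character = χ := by
  obtain ⟨k, σ, rfl⟩ := hχ
  obtain ⟨e⟩ := equiv_of_character_eq ρ (σ.comp ι) (funext fun n => (h n).symm)
  set R := Chars.transport σ e.toLinearEquiv.symm with hR
  have hres : ∀ n, R (ι n) = ρ n := by
    intro n
    refine LinearMap.ext fun w => ?_
    rw [hR, Chars.transport_apply, LinearEquiv.symm_symm, LinearEquiv.symm_apply_eq]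
    exact (e.toIntertwiningMap.isIntertwining _ _ n w).symm
  have : Representation.IsIrreducible (R.comp ι : Representation ℂ N W) := by
    rw [show (R.comp ι : Representation ℂ N W) = ρ from MonoidHom.ext hres]
    infer_instance
  exact ⟨R, hres, isIrreducible_of_comp ι R, Chars.character_transport _ _⟩

end Transfer

section Main

variable {G : Type*} [Group G] [Finite G] (N : Subgroup G) [N.Normal]

/-- Irreducible invariant character: a representation affording it, with its properties. -/
lemma exists_invariant_rep {ϑ : N → ℂ} (hϑ : IsIrrCharacter N ϑ)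
    (hinv : ∀ g n, ϑ (conjBy N g n) = ϑ n) :
    ∃ (d : ℕ) (ρ : Representation ℂ N (Fin d → ℂ)), ρ.IsIrreducible ∧ ρ.character = ϑ ∧
      IsInvariant N ρ ∧ (∀ g n, detHom ρ (conjBy N g n) = detHom ρ n) := by
  obtain ⟨d, ρ, hirr, rfl⟩ := hϑ
  have hI := isInvariant_of_character N ρ hinv
  refine ⟨d, ρ, hirr, rfl, hI, fun g n => Units.ext ?_⟩
  obtain ⟨T, hT⟩ := hI g
  have h := congrArg LinearMap.det (hT n)
  rw [map_mul, map_mul, mul_comm] at h
  rw [coe_detHom, coe_detHom]
  exact (mul_right_cancel₀ (T.isUnit.map LinearMap.det).ne_zero h).symm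

/-- From an extension of representations to an extension of characters. -/
lemma isIrrExt_of_rep {W : Type*} [AddCommGroup W] [Module ℂ W] [FiniteDimensional ℂ W]
    {ρ : Representation ℂ N W} [ρ.IsIrreducible] (R : Representation ℂ G W)
    (hR : ∀ n : N, R n = ρ n) :
    R.IsIrreducible ∧ IsIrrCharacter G R.character ∧ ∀ n : N, R.character n = ρ.character n := by
  have : Representation.IsIrreducible (R.comp N.subtype : Representation ℂ N W) := by
    rw [show (R.comp N.subtype : Representation ℂ N W) = ρ from MonoidHom.ext hR]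
    infer_instance
  have := isIrreducible_of_comp N.subtype R
  exact ⟨this, Chars.isIrrCharacter_character R, fun n => by simp [Representation.character, hR]⟩

/-- Extensions of an invariant linear character with coprime order. -/
lemma exists_coprime_ext (l : N →* ℂˣ) (hinv : ∀ g n, l (conjBy N g n) = l n)
    (hcop : Nat.Coprime N.index (orderOf l)) :
    ∃ μ : G →* ℂˣ, ((∀ n : N, μ n = l n) ∧ orderOf μ = orderOf l) ∧
      ∀ μ' : G →* ℂˣ, (∀ n : N, μ' n = l n) → Nat.Coprime N.index (orderOf μ') → μ' = μ := by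
  have htriv : ∀ ν : G →* ℂˣ, (∀ n : N, ν n = 1) → ν ^ N.index = 1 := fun ν hν =>
    MonoidHom.ext fun g => by
      rw [MonoidHom.pow_apply, ← map_pow]
      exact hν ⟨_, N.pow_index_mem g⟩
  have hpos : N.index ≠ 0 := Subgroup.index_ne_zero_of_finite
  obtain ⟨μ₀, hμ₀⟩ := homExtends_of_coprime hcop (homExtends_pow_index le_rfl l l (fun _ => rfl) hinv)
    ⟨1, fun n => by rw [pow_orderOf_eq_one]; rfl⟩
  obtain ⟨v, hv1, hv0⟩ := Nat.chineseRemainder hcop.symm 1 0
  set μ := μ₀ ^ v with hμdef
  have hl : l ^ v = l := by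
    have h : (v : ℕ) ≡ 1 [MOD orderOf l] := hv1
    have h2 := (pow_eq_pow_iff_modEq (x := l)).2 h
    rwa [pow_one] at h2
  have hμ : ∀ n : N, μ n = l n := fun n => by
    rw [hμdef, MonoidHom.pow_apply, hμ₀, ← MonoidHom.pow_apply, hl]
  have hμo : μ ^ orderOf l = 1 := by
    obtain ⟨k, hk⟩ := (Nat.modEq_zero_iff_dvd).1 hv0
    rw [hμdef, ← pow_mul, hk, mul_comm (N.index * k), ← mul_assoc, pow_mul, pow_mul]
    have h0 : (μ₀ ^ orderOf l) ^ N.index = 1 := htriv _ fun n => by
      rw [MonoidHom.pow_apply, hμ₀, ← MonoidHom.pow_apply, pow_orderOf_eq_one]; rfl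
    rw [h0, one_pow]
  have hord : orderOf μ = orderOf l := by
    refine Nat.dvd_antisymm (orderOf_dvd_of_pow_eq_one hμo) (orderOf_dvd_of_pow_eq_one ?_)
    refine MonoidHom.ext fun n => ?_
    rw [MonoidHom.pow_apply, ← hμ, ← MonoidHom.pow_apply, pow_orderOf_eq_one]; rfl
  refine ⟨μ, ⟨hμ, hord⟩, fun μ' hμ' hcop' => ?_⟩
  have hq : (μ' * μ⁻¹) ^ N.index = 1 := htriv _ fun n => by simp [hμ, hμ']
  have hq' : (μ' * μ⁻¹) ^ (orderOf μ' * orderOf μ) = 1 := MonoidHom.ext fun g => by
    have h₁ : μ' g ^ orderOf μ' = 1 := by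
      rw [← MonoidHom.pow_apply, pow_orderOf_eq_one]; rfl
    have h₂ : μ g ^ orderOf μ = 1 := by
      rw [← MonoidHom.pow_apply, pow_orderOf_eq_one]; rfl
    rw [MonoidHom.pow_apply, MonoidHom.mul_apply, MonoidHom.inv_apply, mul_pow, pow_mul, h₁,
      one_pow, inv_pow, mul_comm (orderOf μ'), pow_mul, h₂, one_pow, inv_one, mul_one]
    rfl
  have h1 : μ' * μ⁻¹ = 1 := by
    refine (orderOf_eq_one_iff (x := μ' * μ⁻¹)).1 ?_
    exact Nat.eq_one_of_dvd_coprimes (hcop'.mul_right (hord ▸ hcop))
      (orderOf_dvd_of_pow_eq_one hq) (orderOf_dvd_of_pow_eq_one hq')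
  exact mul_inv_eq_one.1 h1

variable {W : Type*} [AddCommGroup W] [Module ℂ W] [FiniteDimensional ℂ W]
  (ρ : Representation ℂ N W) [ρ.IsIrreducible]

/-- With coprime degree, an extension exists with prescribed determinant, and is unique. -/
lemma existsUnique_ext_det (hcop : Nat.Coprime (finrank ℂ W) N.index)
    (hext : RepExtends N ρ) (μ : G →* ℂˣ) (hμ : ∀ n : N, μ n = detHom ρ n) :
    ∃! R : Representation ℂ G W, (∀ n : N, R n = ρ n) ∧ detHom R = μ := by
  have := nontrivial_of_isIrreducible ρ
  obtain ⟨R₀, hR₀⟩ := hext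
  set β := μ * (detHom R₀)⁻¹ with hβdef
  have hβN : ∀ n : N, β n = 1 := fun n => by
    rw [hβdef, MonoidHom.mul_apply, MonoidHom.inv_apply, hμ, mul_inv_eq_one]
    ext
    rw [coe_detHom, coe_detHom, hR₀]
  have hβ : β ^ N.index = 1 := MonoidHom.ext fun g => by
    rw [MonoidHom.pow_apply, ← map_pow]
    exact hβN ⟨_, N.pow_index_mem g⟩
  obtain ⟨v, -, hv⟩ := Nat.exists_mul_mod_eq_of_coprime 1 hcop Subgroup.index_ne_zero_of_finite
  have hβd : (β ^ v) ^ finrank ℂ W = β := by
    have h : v * finrank ℂ W ≡ 1 [MOD orderOf β] :=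
      Nat.ModEq.of_dvd (orderOf_dvd_of_pow_eq_one hβ) (by rw [mul_comm]; exact hv)
    have h2 := (pow_eq_pow_iff_modEq (x := β)).2 h
    rwa [pow_mul, pow_one] at h2
  let R : Representation ℂ G W :=
    { toFun := fun g => ((β ^ v) g : ℂ) • R₀ g
      map_one' := by simp
      map_mul' := fun g h => by
        rw [smul_mul_smul_comm, map_mul, map_mul, Units.val_mul] }
  have hRN : ∀ n : N, R n = ρ n := fun n => by
    show ((β ^ v) n : ℂ) • R₀ n = ρ n
    rw [MonoidHom.pow_apply, hβN, one_pow, Units.val_one, one_smul, hR₀]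
  have hRdet : detHom R = μ := MonoidHom.ext fun g => Units.ext <| by
    rw [coe_detHom]
    show LinearMap.det (((β ^ v) g : ℂ) • R₀ g) = _
    rw [LinearMap.det_smul, ← Units.val_pow_eq_pow_val, ← MonoidHom.pow_apply, hβd, hβdef,
      MonoidHom.mul_apply, MonoidHom.inv_apply, Units.val_mul, ← coe_detHom, mul_assoc,
      Units.inv_mul, mul_one]
  refine ⟨R, ⟨hRN, hRdet⟩, ?_⟩
  rintro R' ⟨hR'N, hR'det⟩
  have hsc : ∀ g, ∃ c : ℂ, R' g = c • R g := by
    intro g
    obtain ⟨c, hc⟩ := schur_scalar ρ (R g⁻¹ * R' g) (fun n => by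
      rw [mul_assoc, ← hR'N, ← map_mul, show g * (n : G) = (conjBy N g n : G) * g by simp,
        map_mul R' _ g, hR'N, ← mul_assoc, ← mul_assoc, hR'N, ← hRN, ← hRN, ← map_mul, ← map_mul]
      congr 2
      simp [mul_assoc])
    refine ⟨c, ?_⟩
    have := congrArg (fun u => R g * u) hc
    simpa [← mul_assoc, ← map_mul] using this
  choose c hc using hsc
  have hne : ∀ g, R g ≠ 0 := fun g h => one_ne_zero (α := Module.End ℂ W) <| by
    rw [← map_one R, ← mul_inv_cancel g, map_mul, h, zero_mul]
  have hmul : ∀ g h, c (g * h) = c g * c h := fun g h => by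
    apply smul_left_injective ℂ (hne (g * h))
    simp only
    rw [← hc, map_mul, hc, hc, smul_mul_smul_comm, map_mul]
  have hN : ∀ n : N, c n = 1 := fun n => by
    apply smul_left_injective ℂ (hne n)
    simp only
    rw [← hc, hR'N, ← hRN, one_smul]
  refine MonoidHom.ext fun g => ?_
  have hd : c g ^ finrank ℂ W = 1 := by
    have h := congrArg LinearMap.det (hc g)
    rw [LinearMap.det_smul, ← coe_detHom R', ← coe_detHom R, hR'det, hRdet] at h
    exact (mul_eq_right₀ (μ g).ne_zero).1 h.symm
  have hi : c g ^ N.index = 1 := by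
    have hp : ∀ k : ℕ, c (g ^ k) = c g ^ k := by
      intro k
      induction k with
      | zero => simpa using hN 1
      | succ k ih => rw [pow_succ, hmul, ih, pow_succ]
    rw [← hp]
    exact hN ⟨_, N.pow_index_mem g⟩
  have : c g = 1 := by
    rw [← orderOf_eq_one_iff]
    exact Nat.eq_one_of_dvd_coprimes hcop (orderOf_dvd_of_pow_eq_one hd)
      (orderOf_dvd_of_pow_eq_one hi)
  rw [hc, this, one_smul]

end Main

end CfsgLib.CharsMore
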