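import Cfsg.Agent.Lib.CharsMore.ItoDegree
import Cfsg.Agent.Lib.CharApps.Codegree
import Cfsg.Agent.Lib.CharApps.NormalSum

/-!
# Gallagher's theorem
-/

set_option linter.unusedSectionVars false
set_option linter.style.haveILetI false

namespace CfsgLib.CharsMore

open Cfsg
open scoped ComplexConjugate

variable {G : Type*} [Group G] [Fintype G] (N : Subgroup G) [N.Normal] [Fintype N]

lemma indFun_apply_of_invariant {θ : N → ℂ} (hinv : ∀ g, conjFn N g θ = θ) (n : N) :
    indFun N θ n = (N.index : ℂ) * θ n := by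
  rw [indFun_normal_apply, Finset.sum_congr rfl (fun x _ => congrFun (hinv x) n), Finset.sum_const,
    Finset.card_univ, nsmul_eq_mul, ← Nat.card_eq_fintype_card, ← N.index_mul_card, Nat.cast_mul,
    mul_comm (N.index : ℂ), mul_assoc,
    inv_mul_cancel_left₀ (Nat.cast_ne_zero.2 Nat.card_pos.ne')]

lemma inner_indFun_self_of_invariant {θ : N → ℂ} (hθ : IsIrrCharacter N θ)
    (hinv : ∀ g, conjFn N g θ = θ) : classInner (indFun N θ) (indFun N θ) = N.index := by
  rw [Chars.inner_indFun N θ (Chars.isClassFunction_indFun N θ),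
    show (fun n : N => indFun N θ n) = (N.index : ℂ) • θ from
      funext (indFun_apply_of_invariant N hinv),
    Chars.inner_smul_right, map_natCast, Chars.inner_irr_self ⟨θ, hθ⟩, mul_one]

/-- The irreducibles with `N` in the kernel. -/
noncomputable def quotIrr [Fintype (IrrCharacter G)] : Finset (IrrCharacter G) :=
  open scoped Classical in Finset.univ.filter (fun β => N ≤ CharApps.charKer β)

lemma mem_quotIrr [Fintype (IrrCharacter G)] {β : IrrCharacter G} :
    β ∈ quotIrr N ↔ N ≤ CharApps.charKer β := by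
  classical
  simp [quotIrr]

lemma quotIrr_mul [Fintype (IrrCharacter G)] {β : IrrCharacter G} (hβ : β ∈ quotIrr N) (n : N)
    (g : G) : (β : G → ℂ) ((n : G) * g) = (β : G → ℂ) g :=
  (CharApps.char_mul_of_mem_ker (Chars.isCharacter_of_irr β.2) ((mem_quotIrr N).1 hβ n.2) g).1

lemma indFun_one_eq_sum [Fintype (IrrCharacter G)] :
    indFun N (fun _ => (1 : ℂ)) = ∑ β ∈ quotIrr N, (β : G → ℂ) 1 • (β : G → ℂ) := by
  classical
  refine Chars.ext_inner_irr (Chars.isClassFunction_indFun N _)
    (Chars.isClassFunction_sum _ fun β _ =>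
      Chars.isClassFunction_smul _ (Chars.isClassFunction_irr β)) fun ψ => ?_
  rw [Chars.inner_sum_left]
  simp only [Chars.inner_smul_left, Chars.inner_irr, mul_ite, mul_one, mul_zero,
    Finset.sum_ite_eq']
  rw [Chars.inner_indFun N _ (Chars.isClassFunction_irr ψ), Chars.inner_def]
  simp only [one_mul]
  rw [← map_sum]
  by_cases hψ : ψ ∈ quotIrr N
  · rw [if_pos hψ, Finset.sum_congr rfl (fun n _ => by
      rw [← mul_one ((n : N) : G), quotIrr_mul N hψ n 1]), Finset.sum_const, Finset.card_univ,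
      nsmul_eq_mul, map_mul, map_natCast, CharApps.conj_deg, ← Nat.card_eq_fintype_card,
      inv_mul_cancel_left₀ (Nat.cast_ne_zero.2 Nat.card_pos.ne')]
  · have h0 := CharApps.sum_coset_eq_zero N ψ (fun h => hψ ((mem_quotIrr N).2 h)) 1
    simp only [mul_one] at h0
    rw [if_neg hψ, h0, map_zero, mul_zero]

variable {χ : G → ℂ}

lemma indFun_restrict_eq_sum [Fintype (IrrCharacter G)] (hχ : IsIrrCharacter G χ) :
    indFun N (fun n : N => χ n) =
      ∑ β ∈ quotIrr N, (β : G → ℂ) 1 • ((β : G → ℂ) * χ) := by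
  have h := Chars.indFun_mul_restrict N (fun _ => (1 : ℂ))
    (Chars.isClassFunction_of_isCharacter (Chars.isCharacter_of_irr hχ))
  simp only [mul_one] at h
  rw [h, indFun_one_eq_sum]
  funext g
  simp only [Finset.sum_apply, Finset.mul_sum, Pi.smul_apply, Pi.mul_apply, smul_eq_mul]
  exact Finset.sum_congr rfl fun β _ => by ring

/-- Gallagher: orthonormality of the products with characters of the quotient. -/
theorem gallagher_orthonormal [Fintype (IrrCharacter G)] [DecidableEq (IrrCharacter G)]
    (hχ : IsIrrCharacter G χ) (hχN : IsIrrCharacter N (fun n : N => χ n))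
    {β β' : IrrCharacter G} (hβ : β ∈ quotIrr N) (hβ' : β' ∈ quotIrr N) :
    classInner ((β : G → ℂ) * χ) ((β' : G → ℂ) * χ) = if β = β' then 1 else 0 := by
  classical
  have hχc := Chars.isCharacter_of_irr hχ
  have hchar : ∀ b : IrrCharacter G, IsCharacter G ((b : G → ℂ) * χ) := fun b =>
    Chars.isCharacter_mul (Chars.isCharacter_of_irr b.2) hχc
  set M : IrrCharacter G → IrrCharacter G → ℕ := fun b c =>
    multNat ((b : G → ℂ) * χ) ((c : G → ℂ) * χ) with hM
  have hMe : ∀ b c : IrrCharacter G, classInner ((b : G → ℂ) * χ) ((c : G → ℂ) * χ) = (M b c : ℂ) :=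
    fun b c => inner_eq_multNat (hchar b) (hchar c)
  choose d hd0 hd using fun b : IrrCharacter G => Chars.irr_degree_nat b.2
  have hinv : ∀ g, conjFn N g (fun n : N => χ n) = fun n : N => χ n := fun g => by
    funext n
    exact Chars.isClassFunction_of_isCharacter hχc (n : G) g
  have htot := inner_indFun_self_of_invariant N hχN hinv
  rw [indFun_restrict_eq_sum N hχ, Chars.inner_sum_left] at htot
  simp only [Chars.inner_smul_left, Chars.inner_sum_right, Chars.inner_smul_right, hd, map_natCast,
    hMe] at htot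
  have htot₂ : ∑ b ∈ quotIrr N, ∑ c ∈ quotIrr N, d c * (d b * M b c) = N.index := by
    exact_mod_cast htot
  have htot' : ∑ b ∈ quotIrr N, d b * ∑ c ∈ quotIrr N, d c * M b c = N.index := by
    rw [← htot₂]
    exact Finset.sum_congr rfl fun b _ => by
      rw [Finset.mul_sum]; exact Finset.sum_congr rfl fun c _ => mul_left_comm _ _ _
  have hdeg : ∑ b ∈ quotIrr N, d b * d b = N.index := by
    have h := CharApps.sum_filter_degree_sq N
    refine Eq.trans ?_ h
    refine Finset.sum_congr (by ext; simp [mem_quotIrr]) fun b _ => ?_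
    have : (d b : ℂ) = (charDegree (b : G → ℂ) : ℂ) := (hd b).symm.trans (CharApps.deg_eq b)
    rw [sq, show d b = charDegree (b : G → ℂ) by exact_mod_cast this]
  have hdiag : ∀ b, 1 ≤ M b b := fun b => by
    refine Nat.pos_of_ne_zero fun h0 => ?_
    have h1 := hMe b b
    rw [h0, Nat.cast_zero, Chars.inner_self_eq_zero_iff] at h1
    have := congrFun h1 1
    simp only [Pi.mul_apply, Pi.zero_apply, mul_eq_zero] at this
    exact this.elim (Chars.irr_degree_ne_zero b.2) (Chars.irr_degree_ne_zero hχ)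
  have hle : ∀ b ∈ quotIrr N, d b * d b ≤ d b * ∑ c ∈ quotIrr N, d c * M b c := fun b hb => by
    refine Nat.mul_le_mul_left _ ?_
    calc d b = d b * 1 := (mul_one _).symm
      _ ≤ d b * M b b := Nat.mul_le_mul_left _ (hdiag b)
      _ ≤ _ := Finset.single_le_sum (f := fun c => d c * M b c) (fun c _ => Nat.zero_le _) hb
  have heq := (Finset.sum_eq_sum_iff_of_le hle).1 (hdeg.trans htot'.symm) β hβ
  have heq' : d β = ∑ c ∈ quotIrr N, d c * M β c := Nat.eq_of_mul_eq_mul_left (hd0 β) heq
  rw [← Finset.add_sum_erase _ _ hβ] at heq'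
  have h1 : M β β = 1 := by
    refine le_antisymm ?_ (hdiag β)
    have : d β * M β β ≤ d β * 1 := by omega
    exact Nat.le_of_mul_le_mul_left this (hd0 β)
  rw [hMe]
  split_ifs with hbb
  · rw [← hbb, h1, Nat.cast_one]
  · rw [h1, mul_one] at heq'
    have h0 : ∑ c ∈ (quotIrr N).erase β, d c * M β c = 0 := by omega
    have := Finset.sum_eq_zero_iff.1 h0 β' (Finset.mem_erase.2 ⟨Ne.symm hbb, hβ'⟩)
    rcases Nat.mul_eq_zero.1 this with h | h
    · exact absurd h (hd0 β').ne'
    · rw [h, Nat.cast_zero]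

/-- Gallagher: products are irreducible. -/
theorem gallagher_irr [Fintype (IrrCharacter G)] (hχ : IsIrrCharacter G χ)
    (hχN : IsIrrCharacter N (fun n : N => χ n)) {β : IrrCharacter G} (hβ : β ∈ quotIrr N) :
    IsIrrCharacter G ((β : G → ℂ) * χ) := by
  classical
  refine Chars.isIrrCharacter_iff_inner_self.2
    ⟨Chars.isCharacter_mul (Chars.isCharacter_of_irr β.2) (Chars.isCharacter_of_irr hχ), ?_⟩
  rw [gallagher_orthonormal N hχ hχN hβ hβ, if_pos rfl]

/-- Gallagher: every irreducible over an extendable character is such a product. -/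
theorem gallagher_exists [Fintype (IrrCharacter G)] (hχ : IsIrrCharacter G χ)
    (hχN : IsIrrCharacter N (fun n : N => χ n)) {ψ : G → ℂ} (hψ : IsIrrCharacter G ψ)
    (h : classInner (fun n : N => ψ n) (fun n : N => χ n) ≠ 0) :
    ∃ β ∈ quotIrr N, ψ = (β : G → ℂ) * χ := by
  classical
  by_contra hno
  push Not at hno
  apply h
  have hψc := Chars.isCharacter_of_irr hψ
  rw [← conj_inner (Chars.isCharacter_restrict N hψc) (Chars.isCharacter_of_irr hχN),
    ← Chars.inner_indFun N (fun n : N => χ n) (Chars.isClassFunction_of_isCharacter hψc),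
    indFun_restrict_eq_sum N hχ, Chars.inner_sum_left]
  refine Finset.sum_eq_zero fun β hβ => ?_
  rw [Chars.inner_smul_left,
    Chars.inner_irr_of_isIrr (gallagher_irr N hχ hχN hβ) hψ, if_neg (Ne.symm (hno β hβ)), mul_zero]

/-- The average of `|χ|²` over a coset is one. -/
theorem coset_norm_avg (hχ : IsIrrCharacter G χ) (hχN : IsIrrCharacter N (fun n : N => χ n))
    (g : G) :
    (Nat.card N : ℂ)⁻¹ * ∑ n : N, χ ((n : G) * g) * conj (χ ((n : G) * g)) = 1 := by
  classical
  letI := Chars.irrFintype G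
  set F : G → ℂ := fun g => (Nat.card N : ℂ)⁻¹ * ∑ n : N, χ ((n : G) * g) * conj (χ ((n : G) * g))
    with hF
  suffices hF1 : F = fun _ => (1 : ℂ) from congrFun hF1 g
  have hχc := Chars.isCharacter_of_irr hχ
  have hcl := Chars.isClassFunction_of_isCharacter hχc
  have hN0 : (Nat.card N : ℂ) ≠ 0 := Chars.card_ne_zero N
  have hFcl : IsClassFunction G F := by
    intro g h
    simp only [hF]
    congr 1
    refine (Fintype.sum_bijective (conjBy N h)
      ⟨fun a b e => Subtype.ext (by simpa using congrArg Subtype.val e), conjBy_surjective N h⟩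
      _ _ fun n => ?_).symm
    have e : ((conjBy N h n : N) : G) * (h * g * h⁻¹) = h * ((n : G) * g) * h⁻¹ := by simp [mul_assoc]
    rw [e, hcl]
  have hFinv : ∀ (m : N) (g : G), F ((m : G) * g) = F g := fun m g => by
    simp only [hF]
    congr 1
    refine Fintype.sum_equiv (Equiv.mulRight m) _ _ fun n => ?_
    simp [mul_assoc]
  refine Chars.ext_inner_irr hFcl (fun _ _ => rfl) fun ψ => ?_
  have hsymm : ∀ f : G → ℂ, classInner f ψ = conj (classInner (ψ : G → ℂ) f) :=
    fun f => (Chars.inner_conj _ _).symm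
  rw [hsymm, hsymm (fun _ => 1)]
  congr 1
  have hshift : ∀ (f : G → ℂ) (n : N), ∑ x : G, f ((n : G) * x) = ∑ x : G, f x := fun f n =>
    Fintype.sum_equiv (Equiv.mulLeft (n : G)) _ _ fun _ => rfl
  by_cases hψ : ψ ∈ quotIrr N
  · have e1 : classInner (ψ : G → ℂ) F = classInner ((ψ : G → ℂ) * χ) χ := by
      rw [Chars.inner_def, Chars.inner_def]
      congr 1
      simp only [hF, map_mul, map_inv₀, map_natCast, map_sum, Complex.conj_conj, Finset.mul_sum,
        Pi.mul_apply]
      rw [Finset.sum_comm]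
      have : ∀ n : N, ∑ x : G, (ψ : G → ℂ) x * ((Nat.card N : ℂ)⁻¹ *
          (conj (χ ((n : G) * x)) * χ ((n : G) * x))) =
          (Nat.card N : ℂ)⁻¹ * ∑ x : G, (ψ : G → ℂ) x * χ x * conj (χ x) := by
        intro n
        rw [← hshift (fun x => (ψ : G → ℂ) x * χ x * conj (χ x)) n, Finset.mul_sum]
        exact Finset.sum_congr rfl fun x _ => by rw [quotIrr_mul N hψ]; ring
      rw [Finset.sum_congr rfl (fun n _ => this n), Finset.sum_const, Finset.card_univ,
        nsmul_eq_mul, ← Nat.card_eq_fintype_card, mul_inv_cancel_left₀ hN0]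
    have h1 : Chars.principal G ∈ quotIrr N := (mem_quotIrr N).2 fun x _ => rfl
    have e2 : (Chars.principal G : G → ℂ) * χ = χ := by funext x; simp [Chars.principal_apply]
    rw [e1, show (fun _ : G => (1 : ℂ)) = (Chars.principal G : G → ℂ) from rfl, Chars.inner_irr]
    have := gallagher_orthonormal N hχ hχN hψ h1
    rwa [e2] at this
  · have h0 := CharApps.sum_coset_eq_zero N ψ (fun h => hψ ((mem_quotIrr N).2 h))
    have key : ∀ f : G → ℂ, (∀ (m : N) (g : G), f ((m : G) * g) = f g) →
        classInner (ψ : G → ℂ) f = 0 := by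
      intro f hf
      have h1 : (Nat.card N : ℂ) * ∑ x : G, (ψ : G → ℂ) x * conj (f x) = 0 := by
        calc (Nat.card N : ℂ) * ∑ x : G, (ψ : G → ℂ) x * conj (f x)
            = ∑ n : N, ∑ x : G, (ψ : G → ℂ) ((n : G) * x) * conj (f ((n : G) * x)) := by
              rw [Finset.sum_congr rfl fun n _ => hshift (fun x => (ψ : G → ℂ) x * conj (f x)) n,
                Finset.sum_const, Finset.card_univ, nsmul_eq_mul, Nat.card_eq_fintype_card]
          _ = ∑ x : G, (∑ n : N, (ψ : G → ℂ) ((n : G) * x)) * conj (f x) := by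
              rw [Finset.sum_comm]
              simp only [hf, Finset.sum_mul]
          _ = 0 := by simp [h0]
      rw [Chars.inner_def, (mul_eq_zero.1 h1).resolve_left hN0, mul_zero]
    rw [key F hFinv, key _ fun _ _ => rfl]

end CfsgLib.CharsMore
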