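import Cfsg.Agent.Lib.CharsMore.Intertwiners
import Cfsg.Agent.Lib.Chars.Integral

/-!
# Divisibility of degrees by indices of normal subgroups
-/

set_option linter.unusedSectionVars false

namespace CfsgLib.CharsMore

open Module Cfsg

variable {G : Type*} [Group G] [Finite G]

/-- The degree of an irreducible representation divides the index of any subgroup acting by
scalars. -/
lemma finrank_dvd_index_of_scalars {V : Type*} [AddCommGroup V] [Module ℂ V]
    [FiniteDimensional ℂ V] (τ : Representation ℂ G V) [τ.IsIrreducible] (Z : Subgroup G)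
    (hZ : ∀ z ∈ Z, ∃ c : ℂ, τ z = c • (1 : Module.End ℂ V)) : finrank ℂ V ∣ Z.index := by
  classical
  let _ := Fintype.ofFinite G
  let _ : Fintype (G ⧸ Z) := Fintype.ofFinite _
  let _ : Fintype Z := Fintype.ofFinite _
  have := nontrivial_of_isIrreducible τ
  set χ := τ.character
  obtain ⟨c, hc, hc'⟩ := Chars.avgOp_eq_scalar τ (Chars.isClassFunction_character τ)
  rw [Chars.inner_self_irr, mul_one] at hc'
  let F : G → Module.End ℂ V := fun x => χ x • τ x⁻¹
  have hF : ∀ x, ∀ z ∈ Z, F (x * z) = F x := by
    intro x z hz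
    obtain ⟨a, ha⟩ := hZ z hz
    have h1 : τ z * τ z⁻¹ = 1 := by rw [← map_mul, mul_inv_cancel, map_one]
    rw [ha, smul_mul_assoc, one_mul] at h1
    show χ (x * z) • τ (x * z)⁻¹ = χ x • τ x⁻¹
    rw [mul_inv_rev, map_mul]
    have h2 : χ (x * z) = a * χ x := by
      simp [χ, Representation.character, map_mul, ha]
    rw [h2, mul_comm, mul_smul, ← smul_mul_assoc, h1, one_mul]
  let e : (G ⧸ Z) × Z → G := fun p => p.1.out * p.2
  have he : Function.Bijective e := by
    rw [Fintype.bijective_iff_injective_and_card]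
    refine ⟨?_, ?_⟩
    · rintro ⟨p, z⟩ ⟨q, w⟩ h
      have hpq : p = q := by
        have h1 := congrArg (QuotientGroup.mk : G → G ⧸ Z) h
        simpa [e, QuotientGroup.mk_mul_of_mem, z.2, w.2] using h1
      subst hpq
      exact Prod.ext rfl (Subtype.ext (mul_left_cancel h))
    · rw [Fintype.card_prod, ← Nat.card_eq_fintype_card, ← Nat.card_eq_fintype_card,
        ← Nat.card_eq_fintype_card, ← Subgroup.card_eq_card_quotient_mul_card_subgroup]
  have hsum : Chars.avgOp τ χ = (Nat.card Z : ℂ) • ∑ q : G ⧸ Z, F q.out := by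
    calc Chars.avgOp τ χ = ∑ p : (G ⧸ Z) × Z, F (e p) :=
          (Fintype.sum_bijective e he _ _ (fun _ => rfl)).symm
      _ = ∑ q : G ⧸ Z, ∑ _z : Z, F q.out := by
          rw [Fintype.sum_prod_type]
          exact Finset.sum_congr rfl fun q _ => Finset.sum_congr rfl fun z _ => hF _ _ z.2
      _ = _ := by
          simp only [Finset.sum_const, Finset.card_univ, ← Nat.card_eq_fintype_card,
            ← Nat.cast_smul_eq_nsmul ℂ, Finset.smul_sum]
  let a : G → ℂ := fun x => ∑ q : G ⧸ Z, if q.out⁻¹ = x then χ q.out else 0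
  have hcomb : ∑ x : G, a x • τ x = ∑ q : G ⧸ Z, F q.out := by
    simp only [a, Finset.sum_smul, ite_smul, zero_smul]
    rw [Finset.sum_comm]
    simp only [Finset.sum_ite_eq, Finset.mem_univ, if_true]
    rfl
  have hcard : (Nat.card Z : ℂ) ≠ 0 := Chars.card_ne_zero Z
  have hint : IsIntegral ℤ (c / Nat.card Z) := by
    refine Chars.isIntegral_of_sum_eq_scalar τ a (fun x => IsIntegral.sum _ fun q _ => ?_) _ ?_
    · by_cases h : q.out⁻¹ = x
      · rw [if_pos h]; exact Chars.isIntegral_character τ _
      · rw [if_neg h]; exact isIntegral_zero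
    · rw [hcomb, div_eq_inv_mul, mul_smul, ← hc, hsum, smul_smul, inv_mul_cancel₀ hcard, one_smul]
  have hd : (finrank ℂ V : ℂ) ≠ 0 := Nat.cast_ne_zero.2 (finrank_pos_of_isIrreducible τ).ne'
  refine Chars.dvd_of_isIntegral_div (finrank_pos_of_isIrreducible τ).ne' ?_
  have heq : ((Z.index : ℕ) : ℂ) / (finrank ℂ V : ℂ) = c / Nat.card Z := by
    rw [div_eq_div_iff hd hcard, hc', ← Nat.cast_mul, Subgroup.index_mul_card]
  rw [heq]
  exact hint

variable (N : Subgroup G) [N.Normal] {W : Type*} [AddCommGroup W] [Module ℂ W]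
  [FiniteDimensional ℂ W] {V : Type*} [AddCommGroup V] [Module ℂ V] [FiniteDimensional ℂ V]
  (ρ : Representation ℂ N W) [ρ.IsIrreducible]

/-- The action of the extension on the multiplicity space. -/
noncomputable def multRep (σ : Representation ℂ G V) :
    Representation ℂ (extGroup N ρ) (ρ.IntertwiningMap (σ.comp N.subtype)) where
  toFun x :=
    { toFun := fun u => LinearMap.intertwiningMap_of_isIntertwiningMap ρ (σ.comp N.subtype)
          (σ (extProj N ρ x) ∘ₗ u.toLinearMap ∘ₗ (((extLift N ρ x)⁻¹ : (Module.End ℂ W)ˣ) :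
            Module.End ℂ W)) (fun n w => by
        have h : (((extLift N ρ x)⁻¹ : (Module.End ℂ W)ˣ) : Module.End ℂ W) * ρ n =
            ρ (conjBy N (extProj N ρ x)⁻¹ n) *
              (((extLift N ρ x)⁻¹ : (Module.End ℂ W)ˣ) : Module.End ℂ W) := by
          have h := extLift_intertwines N ρ x (conjBy N (extProj N ρ x)⁻¹ n)
          have e : conjBy N (extProj N ρ x) (conjBy N (extProj N ρ x)⁻¹ n) = n := by
            ext; simp [mul_assoc]
          rw [e] at h
          rw [Units.inv_mul_eq_iff_eq_mul, ← mul_assoc, h, mul_assoc, Units.mul_inv, mul_one]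
        set y := (((extLift N ρ x)⁻¹ : (Module.End ℂ W)ˣ) : Module.End ℂ W)
        have h' := LinearMap.congr_fun h w
        simp only [Module.End.mul_apply] at h'
        simp only [LinearMap.comp_apply, Representation.IntertwiningMap.toLinearMap_apply]
        rw [h', u.isIntertwining]
        simp only [MonoidHom.comp_apply, Subgroup.coe_subtype, coe_conjBy, inv_inv]
        rw [← Module.End.mul_apply, ← map_mul, ← Module.End.mul_apply, ← map_mul, ← mul_assoc,
          mul_inv_cancel_left])
      map_add' := fun u v => by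
        ext w; simp
      map_smul' := fun c u => by
        ext w; simp }
  map_one' := by
    ext u w
    simp
  map_mul' x y := by
    ext u w
    simp

/-- Evaluation form of `multRep`. -/
lemma multRep_apply (σ : Representation ℂ G V) (x : extGroup N ρ)
    (u : ρ.IntertwiningMap (σ.comp N.subtype)) (w : W) :
    multRep N ρ σ x u w =
      σ (extProj N ρ x) (u ((((extLift N ρ x)⁻¹ : (Module.End ℂ W)ˣ) : Module.End ℂ W) w)) := rfl

/-- If the restriction to `N` of an irreducible representation is isotypic of type `ρ`, invariant,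
with multiplicity `e`, then `e` divides the index of `N`. -/
lemma mult_dvd_index (σ : Representation ℂ G V) [σ.IsIrreducible] (hinv : IsInvariant N ρ) (e : ℕ)
    (he : ∀ n : N, σ.character n = e * ρ.character n) : e ∣ N.index := by
  classical
  let _ := Fintype.ofFinite N
  have := nontrivial_of_isIrreducible ρ
  have := nontrivial_of_isIrreducible σ
  let _ : Invertible (Nat.card N : ℂ) := invertibleOfNonzero (Chars.card_ne_zero N)
  have hdimV : finrank ℂ V = e * finrank ℂ W := by
    have h := he 1
    simp only [OneMemClass.coe_one, Representation.char_one] at h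
    exact_mod_cast h
  have hdimU : finrank ℂ (ρ.IntertwiningMap (σ.comp N.subtype)) = e := by
    have h1 : ∀ n : N, Representation.character (σ.comp N.subtype : Representation ℂ N V) n =
        (e : ℂ) * ρ.character n := he
    have h := Representation.card_inv_mul_sum_char_mul_char_eq_finrank ρ
      (σ.comp N.subtype : Representation ℂ N V)
    simp only [h1, mul_assoc] at h
    rw [← Finset.mul_sum, mul_left_comm,
      Representation.card_inv_mul_sum_char_mul_char_eq_finrank ρ ρ,
      Representation.IsIrreducible.finrank_intertwiningMap_self] at h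
    rw [Nat.cast_one, mul_one] at h
    exact_mod_cast h.symm
  have he0 : 0 < e := Nat.pos_of_ne_zero fun h0 => by
    rw [h0, zero_mul] at hdimV
    exact (finrank_pos (R := ℂ) (M := V)).ne' hdimV
  have hirr : (multRep N ρ σ).IsIrreducible := by
    rw [Chars.isIrreducible_iff]
    refine ⟨Module.nontrivial_of_finrank_pos (R := ℂ) (by rw [hdimU]; exact he0), fun U hU => ?_⟩
    by_cases hbot : U = ⊥
    · exact Or.inl hbot
    refine Or.inr (Submodule.eq_top_of_finrank_eq (le_antisymm (Submodule.finrank_le U) ?_))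
    let b := Module.finBasis ℂ U
    let X : Submodule ℂ V :=
      ⨆ u : U, LinearMap.range (u : ρ.IntertwiningMap (σ.comp N.subtype)).toLinearMap
    have hXinv : ∀ g, ∀ v ∈ X, σ g v ∈ X := by
      intro g v hv
      refine Submodule.iSup_induction (motive := fun v => σ g v ∈ X) _ hv ?_ (by simp)
        (fun a b ha hb => by rw [map_add]; exact X.add_mem ha hb)
      rintro u _ ⟨w, rfl⟩
      obtain ⟨x, rfl⟩ := extProj_surjective N ρ hinv g
      refine Submodule.mem_iSup_of_mem ⟨multRep N ρ σ x u, hU x u u.2⟩
        ⟨(extLift N ρ x : Module.End ℂ W) w, ?_⟩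
      show multRep N ρ σ x u.1 ((extLift N ρ x : Module.End ℂ W) w) = _
      rw [multRep_apply, ← Module.End.mul_apply, Units.inv_mul, Module.End.one_apply]
      rfl
    have hX : X = ⊤ := by
      rcases ((Chars.isIrreducible_iff σ).1 inferInstance).2 X hXinv with h | h
      · exfalso
        obtain ⟨u, huU, hu0⟩ := Submodule.exists_mem_ne_zero_of_ne_bot hbot
        apply hu0
        ext w
        have : u.toLinearMap w ∈ X := Submodule.mem_iSup_of_mem ⟨u, huU⟩ ⟨w, rfl⟩
        rw [h, Submodule.mem_bot] at this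
        exact this
      · exact h
    let f : (Fin (finrank ℂ U) → W) →ₗ[ℂ] V :=
      ∑ i, (b i : ρ.IntertwiningMap (σ.comp N.subtype)).toLinearMap ∘ₗ LinearMap.proj i
    have hf : X ≤ LinearMap.range f := by
      refine iSup_le fun u => ?_
      rintro _ ⟨w, rfl⟩
      refine ⟨fun i => b.repr u i • w, ?_⟩
      simp only [f, LinearMap.sum_apply, LinearMap.comp_apply, LinearMap.proj_apply, map_smul]
      conv_rhs => rw [← b.sum_repr u]
      simp only [AddSubmonoidClass.coe_finsetSum, SetLike.val_smul,
        Representation.IntertwiningMap.toLinearMap_sum, LinearMap.sum_apply,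
        Representation.IntertwiningMap.toLinearMap_smul, LinearMap.smul_apply]
    have h1 : finrank ℂ V ≤ finrank ℂ U * finrank ℂ W := by
      calc finrank ℂ V = finrank ℂ (LinearMap.range f) := by
            rw [top_le_iff.1 (hX.symm.le.trans hf), finrank_top]
        _ ≤ finrank ℂ (Fin (finrank ℂ U) → W) := LinearMap.finrank_range_le f
        _ = _ := by simp [Module.finrank_pi_fintype]
    rw [hdimU]
    rw [hdimV] at h1
    exact Nat.le_of_mul_le_mul_right h1 finrank_pos
  have hscal : ∀ z ∈ extCentre N ρ, ∃ c : ℂ,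
      multRep N ρ σ z = c • (1 : Module.End ℂ (ρ.IntertwiningMap (σ.comp N.subtype))) := by
    intro z hz
    refine ⟨((extScalar N ρ ⟨z, hz⟩)⁻¹ : ℂˣ), ?_⟩
    ext u w
    set c : ℂˣ := extScalar N ρ ⟨z, hz⟩
    set n : N := ⟨extProj N ρ z, hz⟩
    have hT : (extLift N ρ z : Module.End ℂ W) = (c : ℂ) • ρ n := extLift_eq N ρ ⟨z, hz⟩
    have hTi : (((extLift N ρ z)⁻¹ : (Module.End ℂ W)ˣ) : Module.End ℂ W) =
        ((c⁻¹ : ℂˣ) : ℂ) • ρ n⁻¹ := by
      rw [Units.inv_eq_of_mul_eq_one_right]
      rw [hT, smul_mul_smul_comm, ← Units.val_mul, mul_inv_cancel, Units.val_one, one_smul,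
        ← map_mul, mul_inv_cancel, map_one]
    show σ (extProj N ρ z) (u ((((extLift N ρ z)⁻¹ : (Module.End ℂ W)ˣ) : Module.End ℂ W) w)) = _
    rw [hTi]
    rw [LinearMap.smul_apply, map_smul, u.isIntertwining, map_smul]
    simp only [MonoidHom.comp_apply, Subgroup.coe_subtype, InvMemClass.coe_inv, n]
    rw [← Module.End.mul_apply, ← map_mul, mul_inv_cancel, map_one, Module.End.one_apply]
    simp
  have h := finrank_dvd_index_of_scalars (multRep N ρ σ) (extCentre N ρ) hscal
  rwa [hdimU, extCentre_index N ρ hinv] at h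

end CfsgLib.CharsMore
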