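import Cfsg.Agent.Lib.CharsMore.Clifford
import Cfsg.Agent.Lib.CharsMore.Degree

/-!
# The degree quotient divides the index; restrictions of induced characters
-/

set_option linter.unusedSectionVars false

namespace CfsgLib.CharsMore

open Cfsg
open scoped ComplexConjugate

variable {G : Type*} [Group G] [Fintype G] (N : Subgroup G) [N.Normal] [Fintype N]

/-- For `χ` over `θ` the degree quotient divides the index. -/
theorem degree_quotient {χ : G → ℂ} (hχ : IsIrrCharacter G χ) {θ : N → ℂ} (hθ : IsIrrCharacter N θ)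
    (h : classInner (fun n : N => χ n) θ ≠ 0) :
    ∃ k : ℕ, 0 < k ∧ χ 1 = (k : ℂ) * θ 1 ∧ k ∣ N.index := by
  classical
  set T := inertia N θ with hTdef
  have hNT : N ≤ T := le_inertia N (Chars.isClassFunction_of_isCharacter (Chars.isCharacter_of_irr hθ))
  let _ : Fintype T := Fintype.ofFinite T
  obtain ⟨ψ, hψ, -, hmult, hres⟩ := exists_correspondent N hNT hθ rfl hχ h
  have hχc := Chars.isCharacter_of_irr hχ
  have hθc := Chars.isCharacter_of_irr hθ
  set e := multNat (fun n : N => χ n) θ with hedef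
  have hem : classInner (fun n : N => χ n) θ = (e : ℂ) :=
    inner_eq_multNat (Chars.isCharacter_restrict N hχc) hθc
  have he0 : e ≠ 0 := fun h0 => h (by rw [hem, h0, Nat.cast_zero])
  obtain ⟨k, ρ, hρ, hρc⟩ := isIrr_pullFn N hNT hθ
  obtain ⟨m, σ, hσ, hσc⟩ := hψ
  have hdvd : e ∣ (N.subgroupOf T).index := by
    refine mult_dvd_index (N.subgroupOf T) ρ σ (isInvariant_of_character _ ρ fun g x => ?_) e
      fun x => ?_
    · rw [hρc]
      exact (mem_inertia N).1 g.2 ⟨(x : T), Subgroup.mem_subgroupOf.mp x.2⟩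
    · rw [hσc, hρc, ← hem]
      exact hres ⟨(x : T), Subgroup.mem_subgroupOf.mp x.2⟩
  refine ⟨e * T.index, Nat.mul_pos (Nat.pos_of_ne_zero he0)
    (Nat.pos_of_ne_zero Subgroup.index_ne_zero_of_finite), ?_, ?_⟩
  · rw [clifford_degree N hχ hθ h, hem]; push_cast; rfl
  · rw [← Subgroup.relIndex_mul_index hNT]
    exact Nat.mul_dvd_mul_right hdvd _

lemma card_conjFn_eq {θ φ : N → ℂ} (h : φ ∈ orbitFn N θ) :
    Nat.card {x : G // conjFn N x θ = φ} = Nat.card (inertia N θ) := by
  obtain ⟨g, rfl⟩ := (mem_orbitFn N).1 h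
  refine Nat.card_congr
    { toFun := fun x => ⟨x.1 * g⁻¹, by
        show conjFn N (x.1 * g⁻¹) θ = θ
        rw [conjFn_mul, x.2, ← conjFn_mul, mul_inv_cancel, conjFn_one]⟩
      invFun := fun t => ⟨t.1 * g, by
        rw [conjFn_mul, show conjFn N t.1 θ = θ from t.2]⟩
      left_inv := fun x => by ext; simp
      right_inv := fun t => by ext; simp }

/-- The restriction to `N` of an induced irreducible. -/
theorem indFun_restrict_orbit {θ : N → ℂ} (hθ : IsIrrCharacter N θ) :
    (fun n : N => indFun N θ n) =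
      ((Nat.card (inertia N θ) : ℂ) / (Nat.card N : ℂ)) • ∑ ψ ∈ orbitFn N θ, ψ := by
  classical
  refine Chars.ext_inner_irr
    (Chars.isClassFunction_restrict N (Chars.isClassFunction_indFun N θ))
    (Chars.isClassFunction_smul _ (Chars.isClassFunction_sum _ fun ψ hψ =>
      Chars.isClassFunction_of_isCharacter (Chars.isCharacter_of_irr (orbitFn_irr N hθ hψ))))
    fun φ => ?_
  rw [inner_indFun_restrict N hθ φ.2, Chars.inner_smul_left, Chars.inner_sum_left,
    Finset.sum_congr rfl fun ψ hψ => Chars.inner_irr_of_isIrr (orbitFn_irr N hθ hψ) φ.2,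
    Finset.sum_ite_eq', div_eq_inv_mul]
  split_ifs with hmem
  · rw [card_conjFn_eq N hmem, mul_one]
  · have : IsEmpty {x : G // conjFn N x θ = φ} :=
      ⟨fun x => hmem ((mem_orbitFn N).2 ⟨x.1, x.2⟩)⟩
    simp

lemma setOf_conj_eq_orbitFn (θ : N → ℂ) :
    {ψ : N → ℂ | ∃ g : G, ψ = fun n : N => θ ⟨g * n * g⁻¹, ‹N.Normal›.conj_mem n n.2 g⟩} =
      ↑(orbitFn N θ) := by
  ext ψ
  rw [Finset.mem_coe, mem_orbitFn]
  exact ⟨fun ⟨g, hg⟩ => ⟨g, hg.symm⟩, fun ⟨g, hg⟩ => ⟨g, hg.symm⟩⟩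

end CfsgLib.CharsMore
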