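import Cfsg.Agent.Lib.CharsMore.Solomon
import Cfsg.Agent.Lib.CharsMore.Clifford

/-!
# Brauer's induction theorem and its local form
-/

set_option linter.unusedSectionVars false

namespace CfsgLib.CharsMore

open Cfsg

universe u

section Span

variable {G : Type u} [Group G] [Fintype G]

/-- Integer combinations of characters induced from `p`-elementary subgroups. -/
def elemSpan (p : ℕ) (G : Type u) [Group G] [Fintype G] : AddSubgroup (G → ℂ) :=
  AddSubgroup.closure
    {f | ∃ (E : Subgroup G) (χ : E → ℂ), IsElementary p E ∧ IsCharacter E χ ∧ f = indFun E χ}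

/-- Integer combinations of characters induced from elementary subgroups. -/
def elemSpanAll (G : Type u) [Group G] [Fintype G] : AddSubgroup (G → ℂ) :=
  AddSubgroup.closure
    {f | ∃ (E : Subgroup G) (χ : E → ℂ) (p : ℕ),
      p.Prime ∧ IsElementary p E ∧ IsCharacter E χ ∧ f = indFun E χ}

lemma elemSpan_le_all {p : ℕ} (hp : p.Prime) : elemSpan p G ≤ elemSpanAll G :=
  AddSubgroup.closure_mono fun _ ⟨E, χ, h1, h2, e⟩ => ⟨E, χ, p, hp, h1, h2, e⟩

lemma indFun_mem_elemSpan {p : ℕ} {E : Subgroup G} {χ : E → ℂ} (h1 : IsElementary p E)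
    (h2 : IsCharacter E χ) : indFun E χ ∈ elemSpan p G :=
  AddSubgroup.subset_closure ⟨E, χ, h1, h2, rfl⟩

/-- The span is an ideal in the ring of generalized characters. -/
lemma mul_mem_elemSpan {p : ℕ} {f : G → ℂ} (hf : f ∈ elemSpan p G) {ψ : G → ℂ}
    (hψ : IsCharacter G ψ) : ψ * f ∈ elemSpan p G := by
  induction hf using AddSubgroup.closure_induction with
  | mem f hf =>
    obtain ⟨E, χ, h1, h2, rfl⟩ := hf
    have e : ψ * indFun E χ = indFun E ((fun h : E => ψ h) * χ) :=
      (Chars.indFun_mul_restrict E χ (Chars.isClassFunction_of_isCharacter hψ)).symm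
    rw [e]
    exact indFun_mem_elemSpan h1 (Chars.isCharacter_mul (Chars.isCharacter_restrict E hψ) h2)
  | zero => rw [mul_zero]; exact AddSubgroup.zero_mem _
  | add x y _ _ hx hy => rw [mul_add]; exact AddSubgroup.add_mem _ hx hy
  | neg x _ hx => rw [mul_neg]; exact AddSubgroup.neg_mem _ hx

lemma isElementary_of_mulEquiv {p : ℕ} {A B : Type u} [Group A] [Group B] (e : A ≃* B)
    (h : IsElementary p A) : IsElementary p B := by
  obtain ⟨x, hx, hcop, k, hk⟩ := h
  refine ⟨e x, ?_, by rwa [MulEquiv.orderOf_eq], k, ?_⟩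
  · rw [Subgroup.mem_center_iff] at hx ⊢
    intro b
    obtain ⟨a, rfl⟩ := e.surjective b
    rw [← map_mul, ← map_mul, hx a]
  · rw [← hk]
    have : Subgroup.zpowers (e x) = (Subgroup.zpowers x).map e.toMonoidHom :=
      (MonoidHom.map_zpowers e.toMonoidHom x).symm
    rw [this]
    exact Subgroup.index_map_equiv _ e

lemma indFun_subgroup_congr {U V : Subgroup G} (h : U = V) (θ : U → ℂ) :
    indFun U θ = indFun V (fun v => θ ⟨(v : G), h ▸ v.2⟩) := by
  subst h; rfl

/-- Induction in two steps from a subgroup of a subgroup. -/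
lemma indFun_map_subtype (K : Subgroup G) [Fintype K] (E : Subgroup K) (θ : E → ℂ) :
    indFun K (indFun E θ) = indFun (E.map K.subtype)
      (fun x => θ ((E.equivMapOfInjective K.subtype K.subtype_injective).symm x)) := by
  set e := E.equivMapOfInjective K.subtype K.subtype_injective
  rw [← Chars.indFun_trans (E.map K.subtype) K (Subgroup.map_subtype_le E) (fun x => θ (e.symm x))]
  congr 1
  have h : (E.map K.subtype).subgroupOf K = E :=
    Subgroup.comap_map_eq_self_of_injective K.subtype_injective E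
  rw [indFun_subgroup_congr h]
  congr 1
  funext x
  congr 1
  rw [MulEquiv.eq_symm_apply]
  exact Subtype.ext rfl

lemma indFun_mem_elemSpan_of_mem {p : ℕ} (K : Subgroup G) [Fintype K] {f : K → ℂ}
    (hf : f ∈ elemSpan p K) : indFun K f ∈ elemSpan p G := by
  induction hf using AddSubgroup.closure_induction with
  | mem f hf =>
    obtain ⟨E, χ, h1, h2, rfl⟩ := hf
    rw [indFun_map_subtype]
    refine indFun_mem_elemSpan
      (isElementary_of_mulEquiv (E.equivMapOfInjective K.subtype K.subtype_injective) h1)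
      (Chars.isCharacter_comp
        (E.equivMapOfInjective K.subtype K.subtype_injective).symm.toMonoidHom h2)
  | zero => rw [Chars.indFun_zero]; exact AddSubgroup.zero_mem _
  | add x y _ _ hx hy => rw [Chars.indFun_add]; exact AddSubgroup.add_mem _ hx hy
  | neg x _ hx =>
    have h := Chars.indFun_sub K 0 x
    rw [zero_sub, Chars.indFun_zero, zero_sub] at h
    rw [h]; exact AddSubgroup.neg_mem _ hx

/-- A linear character of a normal subgroup fixed by a `p`-group, of order prime to `p`, and trivial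
on the centraliser of that `p`-group, is trivial. -/
lemma eq_one_of_invariant_coprime {p : ℕ} [Fact p.Prime] (C P : Subgroup G) [C.Normal]
    (hP : IsPGroup p P) (hcop : Nat.Coprime (Nat.card C) p) (l : C →* ℂˣ)
    (hinv : ∀ g c, l (conjBy C g c) = l c)
    (hker : ∀ c : C, (c : G) ∈ Subgroup.centralizer (P : Set G) → l c = 1) : l = 1 := by
  classical
  refine MonoidHom.ext fun c => ?_
  let X : Type _ := {d : C // l d = l c}
  let act : MulAction P X :=
    { smul := fun g d => ⟨conjBy C (g : G) d.1, (hinv (g : G) d.1).trans d.2⟩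
      one_smul := fun d => by
        apply Subtype.ext; apply Subtype.ext
        show ((1 : P) : G) * (d.1 : G) * ((1 : P) : G)⁻¹ = d.1
        simp
      mul_smul := fun g g' d => by
        apply Subtype.ext; apply Subtype.ext
        show ((g * g' : P) : G) * (d.1 : G) * ((g * g' : P) : G)⁻¹ =
          (g : G) * ((g' : G) * d.1 * (g' : G)⁻¹) * (g : G)⁻¹
        simp [mul_assoc] }
  have hX : Nat.card X ∣ Nat.card C := by
    have e : X ≃ l.ker :=
      { toFun := fun d => ⟨c⁻¹ * d.1, by simp [MonoidHom.mem_ker, d.2]⟩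
        invFun := fun k => ⟨c * k.1, by rw [map_mul, MonoidHom.mem_ker.1 k.2, mul_one]⟩
        left_inv := fun d => by simp
        right_inv := fun k => by simp }
    rw [Nat.card_congr e]
    exact Subgroup.card_subgroup_dvd_card _
  obtain ⟨d, hd⟩ := hP.nonempty_fixed_point_of_prime_not_dvd_card X fun h => by
    have := Nat.dvd_gcd (h.trans hX) (dvd_refl p)
    rw [hcop.gcd_eq_one] at this
    exact (Fact.out : p.Prime).not_dvd_one this
  have hdc : ((d.1 : C) : G) ∈ Subgroup.centralizer (P : Set G) := by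
    rw [Subgroup.mem_centralizer_iff]
    intro g hg
    exact mul_inv_eq_iff_eq_mul.1 (congrArg (fun z : X => ((z.1 : C) : G)) (hd ⟨g, hg⟩))
  rw [MonoidHom.one_apply, ← d.2]
  exact hker d.1 hdc

lemma inner_one_comp_ne_zero {H : Type*} [Group H] [Fintype H] (f : H →* G) {φ : G → ℂ}
    (hφ : IsCharacter G φ) (h : classInner φ (fun _ => 1) ≠ 0) :
    classInner (φ ∘ f) (fun _ => 1) ≠ 0 := by
  have hone : IsCharacter H (fun _ => (1 : ℂ)) := Chars.isCharacter_one
  have h1 := inner_restrict_ge f hφ hone {Chars.principal G}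
  rw [Finset.sum_singleton] at h1
  have h2 : multNat φ (fun _ => (1 : ℂ)) ≠ 0 := multNat_ne_zero hφ Chars.isCharacter_one h
  have h3 : multNat (((Chars.principal G : IrrCharacter G) : G → ℂ) ∘ f) (fun _ => (1 : ℂ)) ≠ 0 :=
    multNat_ne_zero (Chars.isCharacter_comp f Chars.isCharacter_one) hone (by
      show classInner (fun _ : H => (1 : ℂ)) (fun _ => 1) ≠ 0
      rw [Chars.inner_one_one]; exact one_ne_zero)
  intro h0
  have h4 := (inner_eq_multNat (φ := φ ∘ f) (Chars.isCharacter_comp f hφ) hone).symm.trans h0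
  replace h0 := Nat.cast_eq_zero.1 h4
  rw [h0, Nat.le_zero, Nat.mul_eq_zero] at h1
  exact h1.elim h2 h3

end Span

/-- The principal character of a `p`-quasi-elementary group is in the span. -/
theorem one_mem_elemSpan_of_quasiElem {p : ℕ} (hp : p.Prime) :
    ∀ (n : ℕ) (H : Type u) [Group H] [Fintype H], Nat.card H = n → ∀ C : Subgroup H, C.Normal →
      IsCyclic C → Nat.Coprime (Nat.card C) p → (∃ k, C.index = p ^ k) →
      (fun _ => (1 : ℂ)) ∈ elemSpan p H := by
  intro n
  induction n using Nat.strong_induction_on with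
  | _ n ih =>
  intro H _ _ hcard C hCn hCc hcop hidx
  classical
  obtain ⟨k, hk⟩ := hidx
  have := Fact.mk hp
  let P : Sylow p H := Classical.arbitrary _
  have hsup : C ⊔ (P : Subgroup H) = ⊤ := by
    rw [← Subgroup.index_eq_one]
    refine Nat.eq_one_of_dvd_coprimes ?_ (Subgroup.index_dvd_of_le le_sup_left)
      (Subgroup.index_dvd_of_le le_sup_right)
    rw [hk]
    exact (hp.coprime_iff_not_dvd.2 P.not_dvd_index).pow_left k
  have hdec : ∀ g : H, ∃ c ∈ C, ∃ y ∈ (P : Subgroup H), g = c * y := by
    intro g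
    have hg : g ∈ C ⊔ (P : Subgroup H) := by rw [hsup]; exact Subgroup.mem_top g
    rw [Subgroup.mem_sup_of_normal_left] at hg
    obtain ⟨c, hc, y, hy, e⟩ := hg
    exact ⟨c, hc, y, hy, e.symm⟩
  have hcomm : ∀ c ∈ C, ∀ d ∈ C, c * d = d * c := fun c hc d hd =>
    congrArg Subtype.val (hCc.isMulCommutative.is_comm.comm ⟨c, hc⟩ ⟨d, hd⟩)
  let Z : Subgroup H := C ⊓ Subgroup.centralizer ((P : Subgroup H) : Set H)
  have hZcent : ∀ z ∈ Z, ∀ g : H, g * z = z * g := by
    intro z hz g
    obtain ⟨c, hc, y, hy, rfl⟩ := hdec g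
    rw [mul_assoc, Subgroup.mem_centralizer_iff.1 hz.2 y hy, ← mul_assoc, hcomm c hc z hz.1,
      mul_assoc]
  have hZn : Z.Normal := ⟨fun z hz g => by rw [hZcent z hz g, mul_inv_cancel_right]; exact hz⟩
  have hZcyc : IsCyclic Z :=
    isCyclic_of_injective (Subgroup.inclusion (inf_le_left : Z ≤ C)) (Subgroup.inclusion_injective _)
  let E : Subgroup H := (P : Subgroup H) ⊔ Z
  have hE : IsElementary p E := by
    obtain ⟨z, hz⟩ := hZcyc.exists_generator
    let x : E := ⟨(z : H), (le_sup_right : Z ≤ E) z.2⟩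
    have hzp : Subgroup.zpowers x = Z.subgroupOf E := by
      ext w
      rw [Subgroup.mem_subgroupOf, Subgroup.mem_zpowers_iff]
      constructor
      · rintro ⟨m, rfl⟩
        exact Z.zpow_mem z.2 m
      · intro hw
        obtain ⟨m, hm⟩ := Subgroup.mem_zpowers_iff.1 (hz ⟨(w : H), hw⟩)
        exact ⟨m, Subtype.ext (show (z : H) ^ m = (w : H) from congrArg Subtype.val hm)⟩
    refine ⟨x, ?_, ?_, ?_⟩
    · rw [Subgroup.mem_center_iff]
      intro g
      exact Subtype.ext (hZcent z z.2 g)
    · refine hcop.coprime_dvd_left ?_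
      rw [← Subgroup.orderOf_coe x]
      exact Subgroup.orderOf_dvd_natCard _ z.2.1
    · rw [hzp]
      show ∃ k, Z.relIndex E = p ^ k
      rw [Subgroup.relIndex_sup_right]
      obtain ⟨m, hm⟩ := P.2.exists_card_eq
      have : Z.relIndex (P : Subgroup H) ∣ p ^ m := hm ▸ Subgroup.index_dvd_card _
      obtain ⟨j, -, hj⟩ := (Nat.dvd_prime_pow hp).1 this
      exact ⟨j, hj⟩
  let _ := Chars.irrFintype H
  let _ : Fintype E := Fintype.ofFinite E
  have hind : IsCharacter H (indFun E (fun _ => (1 : ℂ))) :=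
    Chars.isCharacter_indFun E Chars.isCharacter_one
  have hcons : ∀ χ : IrrCharacter H, χ ≠ Chars.principal H →
      classInner (indFun E (fun _ => (1 : ℂ))) χ ≠ 0 → (χ : H → ℂ) ∈ elemSpan p H := by
    intro χ hne hχ
    have hχc := Chars.isCharacter_of_irr χ.2
    have hE1 : classInner (fun e : E => (χ : H → ℂ) e) (fun _ => 1) ≠ 0 := by
      rw [conj_inner Chars.isCharacter_one (Chars.isCharacter_restrict E hχc),
        ← Chars.inner_indFun E (fun _ => (1 : ℂ)) (Chars.isClassFunction_irr χ)]
      exact hχ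
    let _ : Fintype C := Fintype.ofFinite C
    have hresne : (fun c : C => (χ : H → ℂ) c) ≠ 0 := fun h0 =>
      Chars.irr_degree_ne_zero χ.2 (congrFun h0 1)
    obtain ⟨lam, hlam⟩ :=
      Chars.exists_constituent (Chars.isCharacter_restrict C hχc) hresne
    set T := inertia C (lam : C → ℂ)
    have hCT : C ≤ T := le_inertia C (Chars.isClassFunction_irr lam)
    by_cases hT : T = ⊤
    · -- then `χ` is principal
      exfalso
      apply hne
      obtain ⟨d, ρl, hρl, hρlc⟩ := lam.2
      have hd : d = 1 := by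
        have : IsMulCommutative C := hCc.isMulCommutative
        simpa using Representation.IsIrreducible.finrank_eq_one_of_isMulCommutative ρl
      have hl1 : (lam : C → ℂ) 1 = 1 := by rw [← hρlc]; simp [hd]
      obtain ⟨l, hl⟩ := Chars.exists_hom_of_degree_one (Chars.isCharacter_of_irr lam.2) hl1
      have hlv : ∀ c, (lam : C → ℂ) c = (l c : ℂ) := fun c => congrFun hl c
      have hinv : ∀ g c, (lam : C → ℂ) (conjBy C g c) = (lam : C → ℂ) c := fun g c =>
        (mem_inertia C).1 (show g ∈ T from hT ▸ Subgroup.mem_top g) c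
      have hres : ∀ c : C, (χ : H → ℂ) c =
          classInner (fun c : C => (χ : H → ℂ) c) lam * (lam : C → ℂ) c :=
        restrict_eq_mul_of_invariant C χ.2 lam.2 hinv hlam
      let _ : Fintype Z := Fintype.ofFinite Z
      have hlZ : ∀ z : Z, l ⟨z, z.2.1⟩ = 1 := by
        have h1 : classInner (fun z : Z => (χ : H → ℂ) z) (fun _ => 1) ≠ 0 :=
          inner_one_comp_ne_zero (Subgroup.inclusion (le_sup_right : Z ≤ E))
            (Chars.isCharacter_restrict E hχc) hE1
        set lZ : Z →* ℂˣ := l.comp (Subgroup.inclusion (inf_le_left : Z ≤ C))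
        have e : (fun z : Z => (χ : H → ℂ) z) =
            classInner (fun c : C => (χ : H → ℂ) c) lam • (fun z : Z => (lZ z : ℂ)) := by
          funext z
          rw [Pi.smul_apply, smul_eq_mul]
          exact (hres ⟨z, z.2.1⟩).trans (by rw [hlv]; rfl)
        rw [e, Chars.inner_smul_left,
          Chars.inner_irr_of_isIrr (Chars.isIrrCharacter_linear lZ) Chars.isIrrCharacter_one] at h1
        by_cases h2 : (fun z : Z => (lZ z : ℂ)) = fun _ => 1
        · exact fun z => Units.ext (congrFun h2 z)
        · simp [h2] at h1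
      have hl : l = 1 := eq_one_of_invariant_coprime C (P : Subgroup H) P.2 hcop l
        (fun g c => Units.ext (by rw [← hlv, ← hlv, hinv]))
        (fun c hc => hlZ ⟨(c : H), c.2, hc⟩)
      have hχC : ∀ c : C, (χ : H → ℂ) c = (χ : H → ℂ) 1 := fun c => by
        have h1 := hres 1
        rw [hlv, map_one, Units.val_one, mul_one, OneMemClass.coe_one] at h1
        rw [hres c, hlv, hl, MonoidHom.one_apply, Units.val_one, mul_one, h1]
      obtain ⟨m, ρ, hρ, hρc⟩ := χ.2
      have hker : ∀ c ∈ C, ρ c = LinearMap.id := fun c hc =>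
        (Chars.character_eq_finrank_iff ρ c).1 (by
          rw [hρc, hχC ⟨c, hc⟩, ← hρc, Representation.char_one])
      let σ : Representation ℂ (P : Subgroup H) (Fin m → ℂ) :=
        ρ.comp (P : Subgroup H).subtype
      have hσ : σ.IsIrreducible := by
        rw [Chars.isIrreducible_iff] at hρ ⊢
        refine ⟨hρ.1, fun U hU => hρ.2 U fun g x hx => ?_⟩
        obtain ⟨c, hc, y, hy, rfl⟩ := hdec g
        rw [map_mul, Module.End.mul_apply, hker c hc]
        exact hU ⟨y, hy⟩ x hx
      have hσone : classInner σ.character (fun _ => 1) ≠ 0 := by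
        have h := inner_one_comp_ne_zero (Subgroup.inclusion (le_sup_left : (P : Subgroup H) ≤ E))
          (Chars.isCharacter_restrict E hχc) hE1
        have e : σ.character = (fun e : E => (χ : H → ℂ) e) ∘
            Subgroup.inclusion (le_sup_left : (P : Subgroup H) ≤ E) := by
          funext y
          exact congrFun hρc (y : H)
        rw [e]
        exact h
      rw [Chars.inner_irr_of_isIrr (Chars.isIrrCharacter_character σ) Chars.isIrrCharacter_one]
        at hσone
      have hσ1 : σ.character = fun _ => 1 := by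
        by_contra h; exact hσone (if_neg h)
      apply Subtype.ext
      funext g
      obtain ⟨c, hc, y, hy, rfl⟩ := hdec g
      rw [← hρc, Chars.principal_apply]
      show ρ.character (c * y) = 1
      rw [← congrFun hσ1 ⟨y, hy⟩]
      show LinearMap.trace ℂ _ (ρ (c * y)) = LinearMap.trace ℂ _ (ρ y)
      rw [map_mul, hker c hc]
      rfl
    · let _ : Fintype T := Fintype.ofFinite T
      obtain ⟨ψ, hψ, hindψ, -, -⟩ := exists_correspondent C hCT lam.2 rfl χ.2 hlam
      rw [← hindψ]
      refine indFun_mem_elemSpan_of_mem T ?_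
      have hlt : Nat.card T < n := by
        rw [← hcard]
        refine lt_of_le_of_ne (Nat.le_of_dvd Nat.card_pos (Subgroup.card_subgroup_dvd_card T)) ?_
        exact fun h => hT (Subgroup.eq_top_of_card_eq T h)
      have hCT' : (C.subgroupOf T).Normal := inferInstance
      have h1 := ih _ hlt T rfl (C.subgroupOf T) hCT'
        (isCyclic_of_surjective _ (Subgroup.subgroupOfEquivOfLe hCT).symm.surjective)
        (by rwa [Nat.card_congr (Subgroup.subgroupOfEquivOfLe hCT).toEquiv])
        (by
          obtain ⟨j, -, hj⟩ := (Nat.dvd_prime_pow hp).1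
            (hk ▸ Subgroup.relIndex_dvd_index_of_normal C T)
          exact ⟨j, hj⟩)
      have h2 := mul_mem_elemSpan h1 (Chars.isCharacter_of_irr hψ)
      rwa [show ψ * (fun _ : T => (1 : ℂ)) = ψ from mul_one ψ] at h2
  have hm1 : classInner (indFun E (fun _ => (1 : ℂ))) (Chars.principal H : H → ℂ) = 1 := by
    rw [Chars.inner_indFun E _ (Chars.isClassFunction_irr _)]
    exact Chars.inner_one_one
  have hexp := Chars.classFun_eq_sum (Chars.isClassFunction_of_isCharacter hind)
  rw [← Finset.add_sum_erase _ _ (Finset.mem_univ (Chars.principal H)), hm1, one_smul] at hexp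
  have e : (fun _ : H => (1 : ℂ)) = indFun E (fun _ => (1 : ℂ)) -
      ∑ χ ∈ Finset.univ.erase (Chars.principal H),
        classInner (indFun E (fun _ => (1 : ℂ))) χ • (χ : H → ℂ) :=
    eq_sub_of_add_eq hexp.symm
  rw [e]
  refine AddSubgroup.sub_mem _ (indFun_mem_elemSpan hE Chars.isCharacter_one)
    (AddSubgroup.sum_mem _ fun χ hχ => ?_)
  by_cases h0 : classInner (indFun E (fun _ => (1 : ℂ))) χ = 0
  · rw [h0, zero_smul]; exact AddSubgroup.zero_mem _
  · rw [inner_eq_multNat hind (Chars.isCharacter_of_irr χ.2), Nat.cast_smul_eq_nsmul]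
    exact AddSubgroup.nsmul_mem _ (hcons χ (Finset.ne_of_mem_erase hχ) h0) _

variable {G : Type u} [Group G] [Fintype G]

/-- Brauer's theorem, local form. -/
theorem brauer_local {p : ℕ} (hp : p.Prime) :
    ∃ n : ℕ, ¬ p ∣ n ∧ (fun _ : G => (n : ℂ)) ∈ elemSpan p G := by
  classical
  obtain ⟨n, hn, hmem⟩ := solomon_local (G := G) hp
  obtain ⟨a, ha, e⟩ := exists_coeff hmem
  refine ⟨n, hn, ?_⟩
  have hfun : (fun _ : G => (n : ℂ)) =
      ∑ U : Subgroup G, a U • indFun U (fun _ => (1 : ℂ)) := by
    funext g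
    have h := congrArg (fun z : ℤ => (z : ℂ)) (e g)
    simp only [Int.cast_mul, Int.cast_sum, Int.cast_natCast] at h
    simpa [indFun_one_eq_cosetFix, Finset.sum_apply] using h
  rw [hfun]
  refine AddSubgroup.sum_mem _ fun U _ => ?_
  by_cases h0 : a U = 0
  · rw [h0, zero_smul]; exact AddSubgroup.zero_mem _
  · obtain ⟨C, hCU, hn', hcyc, hcop, hk⟩ := ha U h0
    let _ : Fintype U := Fintype.ofFinite U
    refine AddSubgroup.zsmul_mem _ (indFun_mem_elemSpan_of_mem U ?_) _
    refine one_mem_elemSpan_of_quasiElem hp _ U rfl (C.subgroupOf U)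
      ((Subgroup.normal_subgroupOf_iff_le_normalizer hCU).2 hn')
      (isCyclic_of_surjective _ (Subgroup.subgroupOfEquivOfLe hCU).symm.surjective)
      (by rwa [Nat.card_congr (Subgroup.subgroupOfEquivOfLe hCU).toEquiv]) hk

/-- Brauer's theorem: the principal character is an integer combination of characters induced
from elementary subgroups. -/
theorem one_mem_elemSpanAll : (fun _ : G => (1 : ℂ)) ∈ elemSpanAll G := by
  classical
  let f : ℤ →+ (G → ℂ) :=
    { toFun := fun k _ => (k : ℂ)
      map_zero' := by funext g; simp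
      map_add' := fun a b => by funext g; simp }
  obtain ⟨a, ha⟩ := Int.subgroup_cyclic ((elemSpanAll G).comap f)
  have hmem : ∀ p : ℕ, p.Prime → ∃ m : ℕ, ¬ p ∣ m ∧ a ∣ (m : ℤ) := by
    intro p hp
    obtain ⟨m, hm, hmem⟩ := brauer_local (G := G) hp
    refine ⟨m, hm, ?_⟩
    have h1 : (m : ℤ) ∈ (elemSpanAll G).comap f := by
      show f m ∈ elemSpanAll G
      have : f m = fun _ => (m : ℂ) := by funext g; simp [f]
      rw [this]
      exact elemSpan_le_all hp hmem
    rw [ha, AddSubgroup.mem_closure_singleton] at h1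
    obtain ⟨c, hc⟩ := h1
    exact ⟨c, by rw [← hc]; simp [mul_comm]⟩
  have hu : a.natAbs = 1 := by
    by_contra hne
    obtain ⟨q, hq, hqa⟩ := Nat.exists_prime_and_dvd hne
    obtain ⟨m, hm, ham⟩ := hmem q hq
    exact hm (hqa.trans (by simpa using Int.natAbs_dvd_natAbs.2 ham))
  have haS : f a ∈ elemSpanAll G := by
    show a ∈ (elemSpanAll G).comap f
    rw [ha]; exact AddSubgroup.mem_closure_singleton_self a
  have e : (fun _ : G => (1 : ℂ)) = f a ∨ (fun _ : G => (1 : ℂ)) = -f a := by
    rcases Int.natAbs_eq a with h | h <;> rw [hu] at h <;> rw [h]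
    · left; funext g; simp [f]
    · right; funext g; simp [f]
  rcases e with e | e <;> rw [e]
  · exact haS
  · exact neg_mem haS

/-- Brauer's characterisation of generalized characters. -/
theorem isGeneralized_of_elementary {θ : G → ℂ} (hθ : IsClassFunction G θ)
    (hE : ∀ (E : Subgroup G) (p : ℕ), p.Prime → IsElementary p E →
      IsGeneralizedCharacter E (fun e : E => θ e)) : IsGeneralizedCharacter G θ := by
  classical
  have key : ∀ f ∈ elemSpanAll G, IsGeneralizedCharacter G (θ * f) := by
    intro f hf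
    induction hf using AddSubgroup.closure_induction with
    | mem f hf =>
      obtain ⟨E, χ, p, hp, h1, h2, rfl⟩ := hf
      have e : θ * indFun E χ = indFun E ((fun h : E => θ h) * χ) :=
        (Chars.indFun_mul_restrict E χ hθ).symm
      rw [e]
      obtain ⟨α, β, hα, hβ, eab⟩ := hE E p hp h1
      refine Chars.isGeneralized_indFun E ⟨α * χ, β * χ, Chars.isCharacter_mul hα h2,
        Chars.isCharacter_mul hβ h2, ?_⟩
      rw [eab, sub_mul]
    | zero =>
      rw [mul_zero]
      exact ⟨0, 0, Chars.isCharacter_zero, Chars.isCharacter_zero, (sub_self _).symm⟩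
    | add x y _ _ hx hy =>
      obtain ⟨a1, b1, ha1, hb1, e1⟩ := hx
      obtain ⟨a2, b2, ha2, hb2, e2⟩ := hy
      refine ⟨a1 + a2, b1 + b2, Chars.isCharacter_add ha1 ha2, Chars.isCharacter_add hb1 hb2, ?_⟩
      rw [mul_add, e1, e2]; abel
    | neg x _ hx =>
      obtain ⟨a1, b1, ha1, hb1, e1⟩ := hx
      exact ⟨b1, a1, hb1, ha1, by rw [mul_neg, e1, neg_sub]⟩
  have := key _ one_mem_elemSpanAll
  rwa [show θ * (fun _ : G => (1 : ℂ)) = θ from mul_one θ] at this

/-- Every member of the local span is given by a list of induced characters. -/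
lemma exists_list_of_mem_elemSpan {p : ℕ} {f : G → ℂ} (hf : f ∈ elemSpan p G) :
    ∃ l : List ((E : Subgroup G) × ((E → ℂ) × ℤ)),
      (∀ t ∈ l, IsElementary p t.1 ∧ IsCharacter t.1 t.2.1) ∧
      f = (l.map fun t => (t.2.2 : ℂ) • indFun t.1 t.2.1).sum := by
  induction hf using AddSubgroup.closure_induction with
  | mem f hf =>
    obtain ⟨E, χ, h1, h2, rfl⟩ := hf
    refine ⟨[⟨E, χ, 1⟩], fun t ht => ?_, by simp⟩
    rw [List.mem_singleton] at ht
    subst ht
    exact ⟨h1, h2⟩
  | zero => exact ⟨[], by simp, by simp⟩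
  | add x y _ _ hx hy =>
    obtain ⟨l1, h1, e1⟩ := hx
    obtain ⟨l2, h2, e2⟩ := hy
    refine ⟨l1 ++ l2, fun t ht => ?_, by simp [e1, e2]⟩
    rcases List.mem_append.1 ht with h | h
    · exact h1 t h
    · exact h2 t h
  | neg x _ hx =>
    obtain ⟨l, h1, e⟩ := hx
    refine ⟨l.map fun t => ⟨t.1, t.2.1, -t.2.2⟩, fun t ht => ?_, ?_⟩
    · obtain ⟨s, hs, rfl⟩ := List.mem_map.1 ht
      exact h1 s hs
    · rw [e, List.map_map, List.sum_neg, List.map_map]
      congr 1
      refine List.map_congr_left fun t _ => ?_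
      simp

end CfsgLib.CharsMore
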