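import Cfsg.Agent.Lib.CharsMore.LinExtend

/-!
# Invariant irreducible representations of a normal subgroup

For an irreducible representation `ρ` of `N ⊴ G` we build the group `extGroup N ρ` of pairs `(g, T)`
with `T` intertwining `ρ` and its `g`-conjugate and `det T` of bounded order: a finite central
extension of `G` when `ρ` is invariant. The obstruction to extending `ρ` is whether the scalar
homomorphism `extScalar` on the preimage of `N` extends.
-/

set_option linter.unusedSectionVars false

namespace CfsgLib.CharsMore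

open Module

variable {G : Type*} [Group G] [Finite G] {W : Type*} [AddCommGroup W] [Module ℂ W]
  [FiniteDimensional ℂ W]

section Basic

variable {H : Type*} [Group H] [Finite H] {V : Type*} [AddCommGroup V] [Module ℂ V]
  [FiniteDimensional ℂ V]

omit [Finite H] in
lemma nontrivial_of_isIrreducible (ρ : Representation ℂ H V) [ρ.IsIrreducible] : Nontrivial V := by
  by_contra hne
  rw [not_nontrivial_iff_subsingleton] at hne
  obtain ⟨a, b, hab⟩ := (inferInstance : Nontrivial (Subrepresentation ρ)).exists_pair_ne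
  apply hab
  apply Subrepresentation.toSubmodule_injective
  exact Subsingleton.elim _ _

omit [Finite H] in
lemma finrank_pos_of_isIrreducible (ρ : Representation ℂ H V) [ρ.IsIrreducible] :
    0 < finrank ℂ V := by
  have := nontrivial_of_isIrreducible ρ
  exact finrank_pos

omit [Finite H] in
lemma schur_scalar (ρ : Representation ℂ H V) [ρ.IsIrreducible] (T : Module.End ℂ V)
    (hT : ∀ h, T * ρ h = ρ h * T) : ∃ c : ℂ, T = c • 1 := by
  let f : ρ.IntertwiningMap ρ := ⟨T, fun h => hT h⟩
  obtain ⟨c, hc⟩ :=
    (Representation.IsIrreducible.algebraMap_intertwiningMap_bijective_of_isAlgClosed (ρ := ρ)).2 f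
  refine ⟨c, LinearMap.ext fun v => ?_⟩
  have := congrArg (fun u => u v) hc.symm
  simpa [f, Algebra.algebraMap_eq_smul_one] using this

/-- Representations with equal character, the first being irreducible, are equivalent. -/
lemma equiv_of_character_eq {U : Type*} [AddCommGroup U] [Module ℂ U] [FiniteDimensional ℂ U]
    (ρ : Representation ℂ H V) [ρ.IsIrreducible] (σ : Representation ℂ H U)
    (h : ρ.character = σ.character) : Nonempty (ρ.Equiv σ) := by
  classical
  let _ := Fintype.ofFinite H
  have : NeZero (Nat.card H : ℂ) := ⟨Nat.cast_ne_zero.2 Nat.card_pos.ne'⟩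
  let _ : Invertible (Nat.card H : ℂ) := invertibleOfNonzero (NeZero.ne _)
  have hdim : finrank ℂ V = finrank ℂ U := by
    have := congrFun h 1
    simpa using this
  have h1 : (finrank ℂ (ρ.IntertwiningMap σ) : ℂ) = 1 := by
    rw [← Representation.card_inv_mul_sum_char_mul_char_eq_finrank ρ σ, ← h,
      Representation.card_inv_mul_sum_char_mul_char_eq_finrank ρ ρ,
      Representation.IsIrreducible.finrank_intertwiningMap_self, Nat.cast_one]
  have : Nontrivial (ρ.IntertwiningMap σ) :=
    Module.nontrivial_of_finrank_eq_succ (n := 0) (R := ℂ) (by exact_mod_cast h1)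
  obtain ⟨f, hf⟩ := exists_ne (0 : ρ.IntertwiningMap σ)
  have hinj : Function.Injective f :=
    (Representation.IsIrreducible.injective_or_eq_zero f).resolve_right hf
  exact ⟨f.ofBijective ⟨hinj, (LinearMap.injective_iff_surjective_of_finrank_eq_finrank
    (f := f.toLinearMap) hdim).1 hinj⟩⟩

end Basic

variable (N : Subgroup G) [N.Normal] (ρ : Representation ℂ N W)

/-- `T` intertwines `ρ` with its conjugate by `g`. -/
def Intertwines (g : G) (T : Module.End ℂ W) : Prop :=
  ∀ n : N, T * ρ n = ρ (conjBy N g n) * T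

/-- Invariance of `ρ` under conjugation, up to equivalence. -/
def IsInvariant : Prop := ∀ g : G, ∃ T : (Module.End ℂ W)ˣ, Intertwines N ρ g T

/-- Representations whose character is invariant are invariant. -/
lemma isInvariant_of_character [ρ.IsIrreducible]
    (h : ∀ g n, ρ.character (conjBy N g n) = ρ.character n) : IsInvariant N ρ := by
  intro g
  obtain ⟨e⟩ := equiv_of_character_eq ρ (ρ.comp (conjBy N g)) (funext fun n => (h g n).symm)
  refine ⟨LinearMap.GeneralLinearGroup.ofLinearEquiv e.toLinearEquiv, fun n => ?_⟩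
  ext w
  exact e.toIntertwiningMap.isIntertwining ρ (ρ.comp (conjBy N g)) n w

/-- The pairs `(g, T)` with `T` intertwining `ρ` with its `g`-conjugate and `det T ^ |N| = 1`. -/
noncomputable def extGroup : Subgroup (G × (Module.End ℂ W)ˣ) where
  carrier := {p | Intertwines N ρ p.1 p.2 ∧ LinearMap.det (p.2 : Module.End ℂ W) ^ Nat.card N = 1}
  one_mem' := by
    refine ⟨fun n => ?_, by simp⟩
    simp only [Prod.fst_one, Prod.snd_one, Units.val_one, one_mul, mul_one]
    congr 1
    ext
    simp
  mul_mem' := by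
    rintro ⟨g, S⟩ ⟨h, T⟩ ⟨hS, dS⟩ ⟨hT, dT⟩
    refine ⟨fun n => ?_, ?_⟩
    · simp only [Prod.mk_mul_mk, Units.val_mul] at *
      rw [mul_assoc, hT, ← mul_assoc, hS, mul_assoc]
      congr 2
      ext
      simp [mul_assoc]
    · simp only [Prod.mk_mul_mk, Units.val_mul, map_mul, mul_pow] at *
      rw [dS, dT, one_mul]
  inv_mem' := by
    rintro ⟨g, T⟩ ⟨hT, dT⟩
    refine ⟨fun n => ?_, ?_⟩
    · simp only [Prod.inv_mk] at *
      have h := hT (conjBy N g⁻¹ n)
      have e : conjBy N g (conjBy N g⁻¹ n) = n := by ext; simp [mul_assoc]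
      rw [e] at h
      rw [Units.inv_mul_eq_iff_eq_mul, ← mul_assoc, h, mul_assoc, Units.mul_inv, mul_one]
    · simp only [Prod.inv_mk] at *
      have : LinearMap.det (T : Module.End ℂ W) * LinearMap.det ((T⁻¹ : (Module.End ℂ W)ˣ) :
          Module.End ℂ W) = 1 := by rw [← map_mul, Units.mul_inv, map_one]
      calc _ = (LinearMap.det (T : Module.End ℂ W) * LinearMap.det ((T⁻¹ : (Module.End ℂ W)ˣ) :
          Module.End ℂ W)) ^ Nat.card N := by rw [mul_pow, dT, one_mul]
        _ = 1 := by rw [this, one_pow]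

/-- The projection of the extension to `G`. -/
noncomputable def extProj : extGroup N ρ →* G :=
  (MonoidHom.fst G (Module.End ℂ W)ˣ).comp (extGroup N ρ).subtype

/-- The linear map of an element of the extension. -/
noncomputable def extLift : extGroup N ρ →* (Module.End ℂ W)ˣ :=
  (MonoidHom.snd G (Module.End ℂ W)ˣ).comp (extGroup N ρ).subtype

lemma extLift_intertwines (x : extGroup N ρ) :
    Intertwines N ρ (extProj N ρ x) (extLift N ρ x : Module.End ℂ W) := x.2.1

lemma extLift_det (x : extGroup N ρ) :
    LinearMap.det (extLift N ρ x : Module.End ℂ W) ^ Nat.card N = 1 := x.2.2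

omit [Finite G] [N.Normal] in
/-- The representation as a homomorphism to units. -/
def repUnits : N →* (Module.End ℂ W)ˣ := ρ.toHomUnits

omit [Finite G] [FiniteDimensional ℂ W] [N.Normal] in
lemma coe_repUnits (n : N) : (repUnits N ρ n : Module.End ℂ W) = ρ n := rfl

lemma mem_extGroup_of_mem (n : N) : ((n : G), repUnits N ρ n) ∈ extGroup N ρ := by
  refine ⟨fun m => ?_, ?_⟩
  · simp only [coe_repUnits]
    rw [← map_mul, ← map_mul]
    congr 1
    ext
    simp [mul_assoc]
  · simp only [coe_repUnits]
    rw [← map_pow, ← map_pow, pow_card_eq_one', map_one, map_one]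

/-- The canonical lift of `N`. -/
noncomputable def extIncl : N →* extGroup N ρ :=
  (N.subtype.prod (repUnits N ρ)).codRestrict _ (mem_extGroup_of_mem N ρ)

@[simp] lemma extProj_extIncl (n : N) : extProj N ρ (extIncl N ρ n) = n := rfl

@[simp] lemma extLift_extIncl (n : N) :
    (extLift N ρ (extIncl N ρ n) : Module.End ℂ W) = ρ n := rfl

lemma extProj_surjective (hinv : IsInvariant N ρ) [Nontrivial W] :
    Function.Surjective (extProj N ρ) := by
  intro g
  obtain ⟨T, hT⟩ := hinv g
  have hdet : LinearMap.det (T : Module.End ℂ W) ≠ 0 :=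
    (T.isUnit.map LinearMap.det).ne_zero
  obtain ⟨c, hc⟩ := IsAlgClosed.exists_pow_nat_eq ((LinearMap.det (T : Module.End ℂ W))⁻¹)
    (n := finrank ℂ W) finrank_pos
  have hc0 : c ≠ 0 := by
    rintro rfl
    rw [zero_pow finrank_pos.ne'] at hc
    exact inv_ne_zero hdet hc.symm
  let S : (Module.End ℂ W)ˣ := (Units.mk0 c hc0).map (algebraMap ℂ (Module.End ℂ W)) * T
  have hS : (S : Module.End ℂ W) = c • (T : Module.End ℂ W) := by
    simp [S, Algebra.smul_def]
  refine ⟨⟨(g, S), fun n => ?_, ?_⟩, rfl⟩
  · simp only [hS, smul_mul_assoc, mul_smul_comm, hT n]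
  · simp only [hS, LinearMap.det_smul, hc, inv_mul_cancel₀ hdet, one_pow]

/-- The preimage of `N` in the extension. -/
noncomputable def extCentre : Subgroup (extGroup N ρ) := N.comap (extProj N ρ)

instance extCentre_normal : (extCentre N ρ).Normal := Subgroup.Normal.comap inferInstance _

lemma extCentre_index (hinv : IsInvariant N ρ) [Nontrivial W] :
    (extCentre N ρ).index = N.index :=
  Subgroup.index_comap_of_surjective N (extProj_surjective N ρ hinv)

variable [ρ.IsIrreducible]

lemma extLift_eq_scalar (x : extCentre N ρ) :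
    ∃ c : ℂˣ, (extLift N ρ x : Module.End ℂ W) = (c : ℂ) • ρ ⟨extProj N ρ x, x.2⟩ := by
  have := nontrivial_of_isIrreducible ρ
  set n : N := ⟨extProj N ρ x, x.2⟩
  set T : Module.End ℂ W := (extLift N ρ x : Module.End ℂ W)
  obtain ⟨c, hc⟩ := schur_scalar ρ (ρ n⁻¹ * T) (fun m => by
    have h : T * ρ m = ρ (conjBy N (extProj N ρ x) m) * T := extLift_intertwines N ρ x m
    rw [mul_assoc, h, ← mul_assoc, ← mul_assoc, ← map_mul, ← map_mul]
    congr 2
    ext
    simp [n, mul_assoc])
  have hT : T = c • ρ n := by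
    have := congrArg (fun u => ρ n * u) hc
    simpa [← mul_assoc, ← map_mul] using this
  refine ⟨Units.mk0 c ?_, hT⟩
  rintro rfl
  exact (extLift N ρ x).ne_zero (by simp [T] at hT)

omit [Finite G] [N.Normal] in
lemma scalar_unique {a b : ℂ} {n : N} (h : a • ρ n = b • ρ n) : a = b := by
  have := nontrivial_of_isIrreducible ρ
  exact smul_left_injective ℂ (repUnits N ρ n).ne_zero h

/-- The scalar by which an element over `N` differs from the canonical lift. -/
noncomputable def extScalar : extCentre N ρ →* ℂˣ where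
  toFun x := (extLift_eq_scalar N ρ x).choose
  map_one' := by
    ext
    apply scalar_unique N ρ (n := ⟨extProj N ρ (1 : extCentre N ρ), (1 : extCentre N ρ).2⟩)
    rw [← (extLift_eq_scalar N ρ (1 : extCentre N ρ)).choose_spec]
    simp only [OneMemClass.coe_one, map_one, Units.val_one, one_smul]
    rw [show (⟨1, _⟩ : N) = 1 from rfl, map_one]
  map_mul' x y := by
    ext
    apply scalar_unique N ρ (n := ⟨extProj N ρ (x * y : extCentre N ρ), (x * y).2⟩)
    rw [← (extLift_eq_scalar N ρ (x * y)).choose_spec]
    simp only [Subgroup.coe_mul, map_mul, Units.val_mul]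
    refine (congrArg₂ (· * ·) (extLift_eq_scalar N ρ x).choose_spec
      (extLift_eq_scalar N ρ y).choose_spec).trans ?_
    rw [smul_mul_smul_comm, ← map_mul]
    rfl

lemma extLift_eq (x : extCentre N ρ) :
    (extLift N ρ x : Module.End ℂ W) = (extScalar N ρ x : ℂ) • ρ ⟨extProj N ρ x, x.2⟩ :=
  (extLift_eq_scalar N ρ x).choose_spec

lemma extScalar_conj (g : extGroup N ρ) (x : extCentre N ρ) :
    extScalar N ρ (conjBy (extCentre N ρ) g x) = extScalar N ρ x := by
  ext
  set y := conjBy (extCentre N ρ) g x
  set n : N := ⟨extProj N ρ x, x.2⟩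
  have hn : (⟨extProj N ρ y, y.2⟩ : N) = conjBy N (extProj N ρ g) n := by
    ext; simp [y, n]
  apply scalar_unique N ρ (n := ⟨extProj N ρ y, y.2⟩)
  rw [← extLift_eq, hn]
  simp only [y, coe_conjBy, map_mul, map_inv, Units.val_mul, extLift_eq N ρ x, mul_smul_comm,
    smul_mul_assoc]
  rw [extLift_intertwines N ρ g, mul_assoc, Units.mul_inv, mul_one]

lemma extScalar_extIncl (n : N) :
    extScalar N ρ ⟨extIncl N ρ n, by simp [extCentre]⟩ = 1 := by
  ext
  apply scalar_unique N ρ (n := n)
  have h := extLift_eq N ρ ⟨extIncl N ρ n, by simp [extCentre]⟩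
  simp only [extLift_extIncl, extProj_extIncl, Subtype.coe_eta] at h
  rw [Units.val_one, one_smul]
  exact h.symm

instance extGroup_finite : Finite (extGroup N ρ) := by
  have := nontrivial_of_isIrreducible ρ
  have hk : Finite (extProj N ρ).ker := by
    let m := finrank ℂ W * Nat.card N
    have hm : m ≠ 0 := Nat.mul_ne_zero finrank_pos.ne' Nat.card_pos.ne'
    have : NeZero m := ⟨hm⟩
    let incl : (extProj N ρ).ker →* extCentre N ρ := Subgroup.inclusion (fun x hx => by
      show extProj N ρ x ∈ N
      rw [MonoidHom.mem_ker.1 hx]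
      exact N.one_mem)
    have hval : ∀ x : (extProj N ρ).ker, (extLift N ρ (x : extGroup N ρ) : Module.End ℂ W) =
        (extScalar N ρ (incl x) : ℂ) • 1 := by
      intro x
      have h := extLift_eq N ρ (incl x)
      have e : (⟨extProj N ρ (incl x : extGroup N ρ), (incl x).2⟩ : N) = 1 :=
        Subtype.ext (MonoidHom.mem_ker.1 x.2)
      rw [e, map_one] at h
      exact h
    have hmem : ∀ x, extScalar N ρ (incl x) ∈ rootsOfUnity m ℂ := by
      intro x
      rw [mem_rootsOfUnity]
      ext
      have h := extLift_det N ρ (x : extGroup N ρ)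
      rw [hval, LinearMap.det_smul, map_one, mul_one, ← pow_mul] at h
      simpa using h
    refine Finite.of_injective (fun x => (⟨extScalar N ρ (incl x), hmem x⟩ : rootsOfUnity m ℂ)) ?_
    intro x y hxy
    have he : extScalar N ρ (incl x) = extScalar N ρ (incl y) := congrArg Subtype.val hxy
    apply Subtype.ext
    apply Subtype.ext
    refine Prod.ext ?_ (Units.ext ?_)
    · exact (MonoidHom.mem_ker.1 x.2).trans (MonoidHom.mem_ker.1 y.2).symm
    · exact (hval x).trans ((congrArg (fun c : ℂˣ => (c : ℂ) • (1 : Module.End ℂ W)) he).trans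
        (hval y).symm)
  have : Finite (extGroup N ρ ⧸ (extProj N ρ).ker) :=
    Finite.of_injective _ (QuotientGroup.kerLift_injective (extProj N ρ))
  exact Finite.of_equiv _ (Subgroup.groupEquivQuotientProdSubgroup (s := (extProj N ρ).ker)).symm

/-- A representation of `G` extends `ρ`. -/
def RepExtends : Prop := ∃ R : Representation ℂ G W, ∀ n : N, R n = ρ n

/-- If the scalar homomorphism extends then so does the representation. -/
lemma repExtends_of_homExtends (hinv : IsInvariant N ρ)
    (h : HomExtends (extCentre N ρ) (extScalar N ρ)) : RepExtends N ρ := by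
  have := nontrivial_of_isIrreducible ρ
  obtain ⟨μ, hμ⟩ := h
  let f : extGroup N ρ →* Module.End ℂ W :=
    { toFun := fun x => ((μ x)⁻¹ : ℂˣ).val • (extLift N ρ x : Module.End ℂ W)
      map_one' := by simp
      map_mul' := fun x y => by
        rw [smul_mul_smul_comm, map_mul, map_mul, mul_inv, Units.val_mul, Units.val_mul] }
  have hf : ∀ x : extCentre N ρ, f x = ρ ⟨extProj N ρ x, x.2⟩ := by
    intro x
    simp only [f, MonoidHom.coe_mk, OneHom.coe_mk, extLift_eq N ρ x, hμ, smul_smul]
    rw [← Units.val_mul, inv_mul_cancel, Units.val_one, one_smul]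
  have hs := extProj_surjective N ρ hinv
  choose s hs' using hs
  have hwd : ∀ x y, extProj N ρ x = extProj N ρ y → f x = f y := by
    intro x y hxy
    have hm : x⁻¹ * y ∈ extCentre N ρ := by simp [extCentre, hxy]
    have h1 : f (x⁻¹ * y) = 1 := by
      rw [hf ⟨_, hm⟩]
      have : (⟨extProj N ρ (x⁻¹ * y), hm⟩ : N) = 1 := by ext; simp [hxy]
      exact (congrArg ρ this).trans (map_one ρ)
    calc f x = f x * f (x⁻¹ * y) := by rw [h1, mul_one]
      _ = f y := by rw [← map_mul, mul_inv_cancel_left]
  refine ⟨MonoidHom.mk ⟨fun g => f (s g), ?_⟩ ?_, fun n => ?_⟩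
  · exact (hwd _ 1 (by rw [hs', map_one])).trans (map_one f)
  · intro g h
    show f (s (g * h)) = f (s g) * f (s h)
    rw [← map_mul f]
    exact hwd _ _ (by rw [map_mul, hs', hs', hs'])
  · show f (s n) = ρ n
    have hm : extIncl N ρ n ∈ extCentre N ρ := by simp [extCentre]
    rw [hwd (s n) (extIncl N ρ n) (by rw [hs', extProj_extIncl]), hf ⟨_, hm⟩]
    simp

/-- An extension of `ρ` to `H ≥ N` extends the scalar homomorphism to the preimage of `H`. -/
lemma exists_hom_comap_of_rep {H : Subgroup G} (hNH : N ≤ H) (R : Representation ℂ H W)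
    (hR : ∀ n : N, R ⟨n, hNH n.2⟩ = ρ n) :
    ∃ φ : H.comap (extProj N ρ) →* ℂˣ,
      ∀ x : extCentre N ρ, φ ⟨x, hNH x.2⟩ = extScalar N ρ x := by
  have := nontrivial_of_isIrreducible ρ
  let π : H.comap (extProj N ρ) →* H := (extProj N ρ).subgroupComap H
  let L : H.comap (extProj N ρ) →* Module.End ℂ W :=
    (Units.coeHom _).comp ((extLift N ρ).comp (H.comap (extProj N ρ)).subtype)
  have hsc : ∀ x, ∃ c : ℂ, L x = c • R (π x) := by
    intro x
    obtain ⟨c, hc⟩ := schur_scalar ρ (R (π x)⁻¹ * L x) (fun n => by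
      have h : L x * ρ n = ρ (conjBy N (π x : G) n) * L x := extLift_intertwines N ρ x n
      rw [mul_assoc, h, ← mul_assoc, ← mul_assoc, ← hR, ← hR, ← map_mul, ← map_mul]
      congr 2
      ext
      simp [mul_assoc])
    refine ⟨c, ?_⟩
    have := congrArg (fun u => R (π x) * u) hc
    simpa [← mul_assoc, ← map_mul] using this
  choose c hc using hsc
  have hne : ∀ g, R g ≠ 0 := fun g h => one_ne_zero (α := Module.End ℂ W) <| by
    rw [← map_one R, ← mul_inv_cancel g, map_mul, h, zero_mul]
  have hinj : ∀ {a b : ℂ} (g : H), a • R g = b • R g → a = b := fun g h =>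
    smul_left_injective ℂ (hne g) h
  let μ : H.comap (extProj N ρ) →* ℂ :=
    { toFun := c
      map_one' := hinj 1 (by
        have h := hc 1
        simp only [map_one] at h
        rw [map_one, one_smul]
        exact h.symm)
      map_mul' := fun x y => hinj (π (x * y)) (by
        rw [← hc, map_mul, hc, hc, smul_mul_smul_comm, map_mul, map_mul]) }
  refine ⟨μ.toHomUnits, fun x => ?_⟩
  ext
  rw [MonoidHom.coe_toHomUnits]
  apply scalar_unique N ρ (n := ⟨extProj N ρ x, x.2⟩)
  rw [← extLift_eq]
  refine Eq.trans ?_ (hc ⟨x, hNH x.2⟩).symm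
  rw [← hR]
  rfl

/-- A representation that extends locally at every prime extends. -/
lemma repExtends_of_local (hinv : IsInvariant N ρ)
    (h : ∀ p : ℕ, p.Prime → ∃ H : Subgroup G, ∃ hNH : N ≤ H, Nat.Coprime H.index p ∧
      ∃ R : Representation ℂ H W, ∀ n : N, R ⟨n, hNH n.2⟩ = ρ n) : RepExtends N ρ := by
  have := nontrivial_of_isIrreducible ρ
  refine repExtends_of_homExtends N ρ hinv (homExtends_of_local _ (extScalar_conj N ρ)
    (Nat.card (extGroup N ρ)) ?_ fun p hp _ => ?_)
  · ext x
    have h1 : x ^ Nat.card (extGroup N ρ) = 1 := Subtype.ext (pow_card_eq_one' (G := extGroup N ρ))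
    rw [MonoidHom.pow_apply, ← map_pow, h1, map_one]
    rfl
  · obtain ⟨H, hNH, hcop, R, hR⟩ := h p hp
    refine ⟨H.comap (extProj N ρ), fun x hx => hNH hx, ?_, exists_hom_comap_of_rep N ρ hNH R hR⟩
    rwa [Subgroup.index_comap_of_surjective _ (extProj_surjective N ρ hinv)]

/-- An invariant representation extends when the quotient is cyclic. -/
lemma repExtends_of_cyclic (hinv : IsInvariant N ρ) [IsCyclic (G ⧸ N)] : RepExtends N ρ := by
  have := nontrivial_of_isIrreducible ρ
  have : IsCyclic (extGroup N ρ ⧸ extCentre N ρ) := by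
    refine isCyclic_of_injective (QuotientGroup.map (extCentre N ρ) N (extProj N ρ)
      (le_of_eq rfl : extCentre N ρ ≤ N.comap (extProj N ρ))) ?_
    rw [injective_iff_map_eq_one]
    intro x
    induction x using QuotientGroup.induction_on with
    | H x =>
      intro hx
      replace hx : ((extProj N ρ x : G) : G ⧸ N) = 1 := hx
      rw [QuotientGroup.eq_one_iff] at hx
      exact (QuotientGroup.eq_one_iff x).2 hx
  refine repExtends_of_homExtends N ρ hinv (homExtends_of_cyclic _ (extScalar_conj N ρ) ?_ ?_)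
  · intro k hk a
    obtain ⟨c, hc⟩ := IsAlgClosed.exists_pow_nat_eq (a : ℂ) (Nat.pos_of_ne_zero hk)
    have hc0 : c ≠ 0 := by
      rintro rfl
      exact a.ne_zero (by rw [← hc, zero_pow hk])
    exact ⟨Units.mk0 c hc0, Units.ext (by simpa using hc)⟩
  · exact Subgroup.index_ne_zero_of_finite

/-- If the determinant extends and the degree is coprime to the index, the representation
extends. -/
lemma repExtends_of_det (hinv : IsInvariant N ρ) (hcop : Nat.Coprime (finrank ℂ W) N.index)
    (μ : G →* ℂˣ) (hμ : ∀ n : N, (μ n : ℂ) = LinearMap.det (ρ n)) : RepExtends N ρ := by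
  have := nontrivial_of_isIrreducible ρ
  refine repExtends_of_homExtends N ρ hinv (homExtends_of_coprime hcop ?_ ?_)
  · refine ⟨(Units.map LinearMap.det).comp (extLift N ρ) / μ.comp (extProj N ρ), fun x => ?_⟩
    ext
    simp only [MonoidHom.div_apply, MonoidHom.comp_apply, Units.val_div_eq_div_val, Units.coe_map,
      MonoidHom.pow_apply, Units.val_pow_eq_pow_val]
    rw [extLift_eq, LinearMap.det_smul, ← hμ, mul_div_assoc,
      div_self (μ (extProj N ρ x)).ne_zero, mul_one]
  · have h := homExtends_pow_index le_rfl _ (extScalar N ρ) (fun _ => rfl) (extScalar_conj N ρ)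
    rwa [extCentre_index N ρ hinv] at h

end CfsgLib.CharsMore
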