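import Cfsg.Agent.Lib.Chars.Induction
import Cfsg.Agent.Lib.Chars.Char

/-!
# Multiplicities of constituents
-/

set_option linter.unusedSectionVars false

namespace CfsgLib.CharsMore

open Cfsg
open scoped ComplexConjugate

variable {G : Type*} [Group G] [Fintype G]

/-- Multiplicity of an irreducible in a character, as a natural number. -/
noncomputable def multNat (φ : G → ℂ) (χ : G → ℂ) : ℕ := ⌊(classInner φ χ).re⌋₊

lemma inner_eq_multNat {φ χ : G → ℂ} (hφ : IsCharacter G φ) (hχ : IsCharacter G χ) :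
    classInner φ χ = (multNat φ χ : ℂ) := by
  obtain ⟨m, hm⟩ := Chars.inner_char_nat hφ hχ
  simp [multNat, hm]

lemma multNat_ne_zero {φ χ : G → ℂ} (hφ : IsCharacter G φ) (hχ : IsCharacter G χ)
    (h : classInner φ χ ≠ 0) : multNat φ χ ≠ 0 := by
  rw [inner_eq_multNat hφ hχ] at h
  exact_mod_cast h

lemma char_eq_sum_multNat [Fintype (IrrCharacter G)] {φ : G → ℂ} (hφ : IsCharacter G φ) :
    φ = ∑ χ : IrrCharacter G, (multNat φ χ : ℂ) • (χ : G → ℂ) := by
  conv_lhs => rw [Chars.classFun_eq_sum (Chars.isClassFunction_of_isCharacter hφ)]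
  exact Finset.sum_congr rfl fun χ _ => by
    rw [inner_eq_multNat hφ (Chars.isCharacter_of_irr χ.2)]

lemma conj_inner {φ ψ : G → ℂ} (hφ : IsCharacter G φ) (hψ : IsCharacter G ψ) :
    classInner ψ φ = classInner φ ψ := by
  rw [← Chars.inner_conj, inner_eq_multNat hφ hψ, map_natCast]

/-- If `χ` is a constituent of `φ` and both have the same degree then they are equal. -/
lemma eq_of_constituent_degree {φ χ : G → ℂ} (hφ : IsCharacter G φ) (hχ : IsIrrCharacter G χ)
    (hc : classInner φ χ ≠ 0) {d : ℕ} (h1 : φ 1 = d) {e : ℕ} (h2 : χ 1 = e) (hle : d ≤ e) :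
    φ = χ := by
  classical
  let _ := Chars.irrFintype G
  choose deg hdeg using fun ψ : IrrCharacter G => Chars.character_degree_nat
    (Chars.isCharacter_of_irr ψ.2)
  have hpos : ∀ ψ, 0 < deg ψ := fun ψ => Nat.pos_of_ne_zero fun h =>
    Chars.irr_degree_ne_zero ψ.2 (by rw [hdeg, h, Nat.cast_zero])
  let χ' : IrrCharacter G := ⟨χ, hχ⟩
  have hsum : d = ∑ ψ : IrrCharacter G, multNat φ (ψ : G → ℂ) * deg ψ := by
    have h := congrFun (char_eq_sum_multNat hφ) 1
    simp only [Finset.sum_apply, Pi.smul_apply, smul_eq_mul, hdeg, h1] at h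
    exact_mod_cast h
  have he : deg χ' = e := by exact_mod_cast (hdeg χ').symm.trans h2
  have hm := multNat_ne_zero hφ (Chars.isCharacter_of_irr hχ) hc
  rw [← Finset.add_sum_erase _ _ (Finset.mem_univ χ')] at hsum
  have hge : e ≤ multNat φ χ * deg χ' := by
    rw [he]; exact Nat.le_mul_of_pos_left e (Nat.pos_of_ne_zero hm)
  have hz : ∑ ψ ∈ Finset.univ.erase χ', multNat φ ψ * deg ψ = 0 := by
    have : multNat φ χ * deg χ' = multNat φ (χ' : G → ℂ) * deg χ' := rfl
    omega
  have hm1 : multNat φ χ = 1 := by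
    have h3 : multNat φ χ * deg χ' = d := by rw [hsum, hz, add_zero]
    rw [he] at h3
    have h4 : multNat φ χ * e ≤ 1 * e := by omega
    have := Nat.le_of_mul_le_mul_right h4 (he ▸ hpos χ')
    omega
  have hzero : ∀ ψ ∈ Finset.univ.erase χ', multNat φ (ψ : G → ℂ) = 0 := fun ψ hψ =>
    (Nat.mul_eq_zero.1 (Finset.sum_eq_zero_iff.1 hz ψ hψ)).resolve_right (hpos ψ).ne'
  conv_lhs => rw [char_eq_sum_multNat hφ]
  rw [← Finset.add_sum_erase _ _ (Finset.mem_univ χ'),
    Finset.sum_eq_zero (fun ψ hψ => by simp [hzero ψ hψ]), add_zero]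
  simp [χ', hm1]

/-- A character contains a given constituent at most as often as inner products show. -/
lemma inner_restrict_ge {H : Type*} [Group H] [Fintype H] (f : H →* G) {φ : G → ℂ}
    (hφ : IsCharacter G φ) {θ : H → ℂ} (hθ : IsCharacter H θ) (s : Finset (IrrCharacter G)) :
    ∑ ψ ∈ s, multNat φ ψ * multNat ((ψ : G → ℂ) ∘ f) θ ≤ multNat (φ ∘ f) θ := by
  classical
  let _ := Chars.irrFintype G
  have hcomp : ∀ {α : G → ℂ}, IsCharacter G α → IsCharacter H (α ∘ f) :=
    fun h => Chars.isCharacter_comp f h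
  have h : multNat (φ ∘ f) θ = ∑ ψ : IrrCharacter G, multNat φ ψ * multNat ((ψ : G → ℂ) ∘ f) θ := by
    have h0 := inner_eq_multNat (hcomp hφ) hθ
    have h1 : φ ∘ f = ∑ ψ : IrrCharacter G, (multNat φ ψ : ℂ) • ((ψ : G → ℂ) ∘ f) := by
      funext x
      have := congrFun (char_eq_sum_multNat hφ) (f x)
      simpa [Finset.sum_apply] using this
    conv at h0 => lhs; rw [h1, Chars.inner_sum_left]
    simp only [Chars.inner_smul_left,
      inner_eq_multNat (hcomp (Chars.isCharacter_of_irr (Subtype.prop _))) hθ] at h0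
    exact_mod_cast h0.symm
  rw [h]
  exact Finset.sum_le_univ_sum_of_nonneg fun _ => Nat.zero_le _

lemma inner_comp_equiv {H : Type*} [Group H] [Fintype H] (e : H ≃* G) (φ ψ : G → ℂ) :
    classInner (fun h => φ (e h)) (fun h => ψ (e h)) = classInner φ ψ := by
  rw [Chars.inner_def, Chars.inner_def, Nat.card_congr e.toEquiv]
  exact congrArg _ (Fintype.sum_equiv e.toEquiv _ _ fun _ => rfl)

end CfsgLib.CharsMore
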