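import Cfsg.Agent.Lib.CharApps.AbelianSylow
import Cfsg.Agent.Lib.Chars.Linear

/-!
# The abelian stabilizer bound for the class number of a coprime affine group
-/

set_option autoImplicit false
set_option linter.style.haveILetI false
set_option linter.unusedSectionVars false

namespace CfsgLib.CharsMore.KGV

open Cfsg CfsgLib
open scoped ComplexConjugate

universe u v

section Weights

variable {H : Type u} [CommGroup H]

/-- The common part of the subgroups in a list. -/
def core : List (Subgroup H × ℕ) → Subgroup H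
  | [] => ⊤
  | (K, _) :: l => core l ⊓ K

open scoped Classical in
/-- The product weight attached to a list. -/
noncomputable def wt : List (Subgroup H × ℕ) → H → ℝ
  | [], _ => 1
  | (K, q) :: l, h => (if h ∈ K then 1 else (q : ℝ)) * wt l h

theorem wt_nonneg (l : List (Subgroup H × ℕ)) (h : H) : 0 ≤ wt l h := by
  induction l with
  | nil => exact zero_le_one
  | cons a l ih =>
    obtain ⟨K, q⟩ := a
    simp only [wt]
    refine mul_nonneg ?_ ih
    split_ifs
    · exact zero_le_one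
    · exact Nat.cast_nonneg q

theorem wt_mul_core (l : List (Subgroup H × ℕ)) (h : H) {j : H} (hj : j ∈ core l) :
    wt l (h * j) = wt l h := by
  induction l with
  | nil => rfl
  | cons a l ih =>
    obtain ⟨K, q⟩ := a
    simp only [wt]
    rw [ih hj.1]
    have h1 : h * j ∈ K ↔ h ∈ K := K.mul_mem_cancel_right hj.2
    by_cases hh : h ∈ K
    · rw [if_pos hh, if_pos (h1.2 hh)]
    · rw [if_neg hh, if_neg (fun hc => hh (h1.1 hc))]

variable [Fintype H]

theorem conj_hom (J : Subgroup H) (b : H →* ℂˣ) (j : J) :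
    conj (b j : ℂ) = (((b j)⁻¹ : ℂˣ) : ℂ) := by
  rw [Units.val_inv_eq_inv_val]
  refine (Complex.inv_eq_conj (Complex.norm_eq_one_of_pow_eq_one (n := Nat.card J) ?_
    Nat.card_pos.ne')).symm
  rw [← Units.val_pow_eq_pow_val, ← map_pow,
    show (j : H) ^ Nat.card J = 1 from congrArg Subtype.val (pow_card_eq_one' (x := j)),
    map_one, Units.val_one]

theorem sum_hom_self (J : Subgroup H) [Fintype J] (a : H →* ℂˣ) :
    ∑ j : J, (a j : ℂ) * conj (a j : ℂ) = (Nat.card J : ℂ) := by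
  have h1 : ∀ j : J, (a j : ℂ) * conj (a j : ℂ) = 1 := fun j => by
    rw [conj_hom, ← Units.val_mul, mul_inv_cancel, Units.val_one]
  rw [Finset.sum_congr rfl fun j _ => h1 j]
  simp

theorem sum_hom_ne (J : Subgroup H) [Fintype J] (a b : H →* ℂˣ)
    (heq : a.comp J.subtype ≠ b.comp J.subtype) :
    ∑ j : J, (a j : ℂ) * conj (b j : ℂ) = 0 := by
  set l : J →* ℂˣ := a.comp J.subtype * (b.comp J.subtype)⁻¹ with hl
  have hne : l ≠ 1 := fun h1 => heq (mul_inv_eq_one.1 h1)
  have h1 := sum_hom_units_eq_zero ((Units.coeHom ℂ).comp l) (fun h2 => hne (MonoidHom.ext fun j =>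
    Units.ext (DFunLike.congr_fun h2 j)))
  calc ∑ j : J, (a j : ℂ) * conj (b j : ℂ) = ∑ j : J, ((Units.coeHom ℂ).comp l) j :=
        Finset.sum_congr rfl fun j _ => by
          rw [conj_hom]
          simp [hl]
    _ = 0 := h1

variable {Ψ : Type v} [Fintype Ψ] (e : Ψ → (H →* ℂˣ)) {ι : Type} [Fintype ι]
  (a : ι → Ψ → ℂ)

/-- The functions with the given coefficients. -/
noncomputable def synth (k : ι) (h : H) : ℂ := ∑ ψ, a k ψ * (e ψ h : ℂ)

/-- The isotypic part for a subgroup. -/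
noncomputable def part (J : Subgroup H) (χ : J →* ℂˣ) : ι → Ψ → ℂ :=
  fun k ψ => @ite _ ((e ψ).comp J.subtype = χ) (Classical.propDecidable _) (a k ψ) 0

open scoped Classical in
/-- The restrictions occurring. -/
noncomputable def supp (J : Subgroup H) : Finset (J →* ℂˣ) :=
  @Finset.image _ _ (Classical.decEq _) (fun ψ => (e ψ).comp J.subtype)
    (Finset.univ.filter fun ψ => ∃ k, a k ψ ≠ 0)

theorem mem_supp {J : Subgroup H} {χ : J →* ℂˣ} :
    χ ∈ supp e a J ↔ ∃ ψ, (∃ k, a k ψ ≠ 0) ∧ (e ψ).comp J.subtype = χ := by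
  simp [supp]

theorem synth_eq_sum_part (J : Subgroup H) (k : ι) (h : H) :
    synth e a k h = ∑ χ ∈ supp e a J, synth e (part e a J χ) k h := by
  classical
  simp only [synth]
  rw [Finset.sum_comm]
  refine Finset.sum_congr rfl fun ψ _ => ?_
  by_cases hψ : ∃ k, a k ψ ≠ 0
  · rw [Finset.sum_eq_single ((e ψ).comp J.subtype)]
    · simp [part]
    · intro χ _ hne
      simp [part, if_neg (Ne.symm hne)]
    · intro hnot
      exact absurd ((mem_supp e a).2 ⟨ψ, hψ, rfl⟩) hnot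
  · push Not at hψ
    rw [hψ k, zero_mul]
    exact (Finset.sum_eq_zero fun χ _ => by simp [part, hψ k]).symm

theorem synth_part_mul (J : Subgroup H) (χ : J →* ℂˣ) (k : ι) (h : H) (j : J) :
    synth e (part e a J χ) k (h * j) = (χ j : ℂ) * synth e (part e a J χ) k h := by
  classical
  simp only [synth, Finset.mul_sum]
  refine Finset.sum_congr rfl fun ψ _ => ?_
  by_cases hψ : (e ψ).comp J.subtype = χ
  · simp only [part, if_pos hψ]
    rw [map_mul, Units.val_mul, ← hψ, MonoidHom.comp_apply, Subgroup.coe_subtype]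
    ring
  · simp [part, if_neg hψ]

theorem norm_char (J : Subgroup H) (χ : J →* ℂˣ) (j : J) : ‖(χ j : ℂ)‖ = 1 := by
  refine Complex.norm_eq_one_of_pow_eq_one (n := Nat.card J) ?_ Nat.card_pos.ne'
  rw [← Units.val_pow_eq_pow_val, ← map_pow, pow_card_eq_one', map_one, Units.val_one]

/-- Orthogonality on a coset. -/
theorem sum_coset_normSq (J : Subgroup H) [Fintype J] (k : ι) (h : H) :
    ∑ j : J, ‖synth e a k (h * j)‖ ^ 2 =
      (Nat.card J : ℝ) * ∑ χ ∈ supp e a J, ‖synth e (part e a J χ) k h‖ ^ 2 := by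
  classical
  apply Complex.ofReal_injective
  push_cast
  simp only [← Complex.mul_conj']
  set c : (J →* ℂˣ) → ℂ := fun χ => synth e (part e a J χ) k h with hc
  have h1 : ∀ j : J, synth e a k (h * j) = ∑ χ ∈ supp e a J, (χ j : ℂ) * c χ := fun j => by
    rw [synth_eq_sum_part e a J k]
    exact Finset.sum_congr rfl fun χ _ => synth_part_mul e a J χ k h j
  have hext : ∀ χ ∈ supp e a J, ∃ b : H →* ℂˣ, b.comp J.subtype = χ := fun χ hχ => by
    obtain ⟨ψ, -, rfl⟩ := (mem_supp e a).1 hχ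
    exact ⟨e ψ, rfl⟩
  simp only [h1, map_sum, map_mul, Finset.sum_mul, Finset.mul_sum]
  rw [Finset.sum_comm]
  refine Finset.sum_congr rfl fun χ hχ => ?_
  rw [Finset.sum_comm, Finset.sum_eq_single χ]
  · obtain ⟨b, hb⟩ := hext χ hχ
    have := sum_hom_self J b
    calc ∑ j : J, (χ j : ℂ) * c χ * (conj (χ j : ℂ) * conj (c χ))
        = (∑ j : J, (b j : ℂ) * conj (b j : ℂ)) * (c χ * conj (c χ)) := by
          rw [Finset.sum_mul]
          refine Finset.sum_congr rfl fun j _ => ?_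
          rw [← hb, MonoidHom.comp_apply, Subgroup.coe_subtype]
          ring
      _ = _ := by rw [this]
  · intro χ' hχ' hne
    obtain ⟨b, hb⟩ := hext χ hχ
    obtain ⟨b', hb'⟩ := hext χ' hχ'
    have := sum_hom_ne J b' b (by rw [hb, hb']; exact hne)
    calc ∑ j : J, (χ' j : ℂ) * c χ' * (conj (χ j : ℂ) * conj (c χ))
        = (∑ j : J, (b' j : ℂ) * conj (b j : ℂ)) * (c χ' * conj (c χ)) := by
          rw [Finset.sum_mul]
          refine Finset.sum_congr rfl fun j _ => ?_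
          rw [← hb, ← hb', MonoidHom.comp_apply, MonoidHom.comp_apply, Subgroup.coe_subtype]
          ring
      _ = _ := by rw [this, zero_mul]
  · exact fun h2 => absurd hχ h2

/-- The coefficients are large on average. -/
def Large : Prop :=
  ∀ ψ, (∀ k, a k ψ = 0) ∨ (Fintype.card ι : ℝ) ≤ ∑ k, ‖a k ψ‖ ^ 2

theorem large_part (ha : Large a) (J : Subgroup H) (χ : J →* ℂˣ) : Large (part e a J χ) := by
  classical
  intro ψ
  by_cases hψ : (e ψ).comp J.subtype = χ
  · simp only [part, if_pos hψ]; exact ha ψ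
  · exact Or.inl fun k => by simp [part, if_neg hψ]

set_option maxHeartbeats 800000 in
theorem main_ineq (he : Function.Injective e) :
    ∀ (l : List (Subgroup H × ℕ)) (a : ι → Ψ → ℂ),
      (∀ x ∈ l, (x.1 : Subgroup H).index + 1 ≤ x.2) → Large a → (∃ ψ k, a k ψ ≠ 0) →
      (∀ ψ ψ', (∃ k, a k ψ ≠ 0) → (∃ k, a k ψ' ≠ 0) →
        (e ψ).comp (core l).subtype = (e ψ').comp (core l).subtype) →
      (Fintype.card ι : ℝ) * (Nat.card H : ℝ) ^ 2 ≤
        (Nat.card (core l) : ℝ) * ∑ k, ∑ h, wt l h * ‖synth e a k h‖ ^ 2 := by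
  classical
  intro l
  induction l with
  | nil =>
    intro a _ hlarge ⟨ψ₀, k₀, hk₀⟩ hsame
    have huniq : ∀ ψ, ψ ≠ ψ₀ → ∀ k, a k ψ = 0 := by
      intro ψ hψ k
      by_contra hne
      apply hψ
      apply he
      refine MonoidHom.ext fun h => ?_
      exact DFunLike.congr_fun (hsame ψ ψ₀ ⟨k, hne⟩ ⟨k₀, hk₀⟩) ⟨h, Subgroup.mem_top h⟩
    have hval : ∀ k h, ‖synth e a k h‖ ^ 2 = ‖a k ψ₀‖ ^ 2 := by
      intro k h
      rw [synth, Finset.sum_eq_single ψ₀ (fun ψ _ hψ => by rw [huniq ψ hψ k, zero_mul])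
        (fun h1 => absurd (Finset.mem_univ _) h1), norm_mul]
      have : ‖(e ψ₀ h : ℂ)‖ = 1 :=
        Complex.norm_eq_one_of_pow_eq_one (n := Nat.card H) (by
          rw [← Units.val_pow_eq_pow_val, ← map_pow, pow_card_eq_one', map_one, Units.val_one])
          Nat.card_pos.ne'
      rw [this, mul_one]
    have hl := (hlarge ψ₀).resolve_left fun h => hk₀ (h k₀)
    simp only [wt, one_mul, hval, Finset.sum_const, Finset.card_univ, nsmul_eq_mul, core,
      Subgroup.card_top]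
    rw [← Finset.mul_sum, show (Fintype.card H : ℝ) = (Nat.card H : ℝ) by simp]
    nlinarith [mul_le_mul_of_nonneg_left hl (sq_nonneg (Nat.card H : ℝ))]
  | cons x l ih =>
    obtain ⟨K, q⟩ := x
    intro a hidx hlarge hne hsame
    have hK := hidx (K, q) List.mem_cons_self
    simp only at hK
    have hidx' : ∀ y ∈ l, (y.1 : Subgroup H).index + 1 ≤ y.2 :=
      fun y hy => hidx y (List.mem_cons_of_mem _ hy)
    set J := core l with hJ
    set J' := J ⊓ K with hJ'
    haveI := Fintype.ofFinite J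
    set S := supp e a J with hS
    set s : ℝ := (S.card : ℝ) with hs
    set T : ℝ := ∑ k, ∑ h, wt l h * ‖synth e a k h‖ ^ 2 with hT
    set TK : ℝ := ∑ k, ∑ h, wt l h * (if h ∈ K then ‖synth e a k h‖ ^ 2 else 0) with hTK
    set C : ℝ := (Fintype.card ι : ℝ) * (Nat.card H : ℝ) ^ 2 with hC
    have hJpos : (0 : ℝ) < (Nat.card J : ℝ) := by exact_mod_cast Nat.card_pos
    have hJ'pos : (0 : ℝ) < (Nat.card J' : ℝ) := by exact_mod_cast Nat.card_pos
    have hshift : ∀ (F : H → ℝ), ∑ j : J, ∑ h, wt l h * F (h * j) =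
        (Nat.card J : ℝ) * ∑ h, wt l h * F h := by
      intro F
      rw [Finset.sum_congr rfl (g := fun _ => ∑ h, wt l h * F h) fun j _ => ?_, Finset.sum_const,
        Finset.card_univ, nsmul_eq_mul, ← Nat.card_eq_fintype_card]
      refine Eq.trans (Finset.sum_congr rfl fun h _ => ?_)
        (Equiv.sum_comp (Equiv.mulRight (j : H)) fun h => wt l h * F h)
      rw [Equiv.coe_mulRight, wt_mul_core l h j.2]
    -- the parts
    have hpart : ∀ χ ∈ S, C ≤ (Nat.card J : ℝ) *
        ∑ k, ∑ h, wt l h * ‖synth e (part e a J χ) k h‖ ^ 2 := by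
      intro χ hχ
      obtain ⟨ψ, ⟨k, hk⟩, rfl⟩ := (mem_supp e a).1 hχ
      refine ih _ hidx' (large_part e a hlarge J _) ⟨ψ, k, by simpa [part] using hk⟩ ?_
      rintro ψ₁ ψ₂ ⟨k₁, hk₁⟩ ⟨k₂, hk₂⟩
      simp only [part, ne_eq, ite_eq_right_iff, not_forall] at hk₁ hk₂
      rw [hk₁.1, hk₂.1]
    have hTsum : T = ∑ χ ∈ S, ∑ k, ∑ h, wt l h * ‖synth e (part e a J χ) k h‖ ^ 2 := by
      apply mul_left_cancel₀ hJpos.ne'
      rw [hT, Finset.mul_sum, Finset.sum_comm (s := S), Finset.mul_sum]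
      refine Finset.sum_congr rfl fun k _ => ?_
      rw [← hshift, Finset.sum_comm (s := S), Finset.sum_comm, Finset.mul_sum]
      refine Finset.sum_congr rfl fun h _ => ?_
      rw [← Finset.mul_sum, sum_coset_normSq e a J k h, ← Finset.mul_sum]
      ring
    have hlow : s * C ≤ (Nat.card J : ℝ) * T := by
      rw [hTsum, Finset.mul_sum, hs, ← nsmul_eq_mul, ← Finset.sum_const]
      exact Finset.sum_le_sum hpart
    -- the share of `K`
    have hup : (Nat.card J : ℝ) * TK ≤ (Nat.card J' : ℝ) * s * T := by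
      rw [hTsum, hTK, Finset.mul_sum, Finset.sum_comm (s := S), Finset.mul_sum]
      refine Finset.sum_le_sum fun k _ => ?_
      rw [← hshift, Finset.sum_comm (s := S), Finset.sum_comm, Finset.mul_sum]
      refine Finset.sum_le_sum fun h _ => ?_
      rw [← Finset.mul_sum, ← Finset.mul_sum, mul_left_comm _ (wt l h)]
      refine mul_le_mul_of_nonneg_left ?_ (wt_nonneg l h)
      rw [← Finset.sum_filter]
      set A := Finset.univ.filter fun j : J => h * (j : H) ∈ K with hA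
      set Q := ∑ χ ∈ S, ‖synth e (part e a J χ) k h‖ ^ 2 with hQ
      have hterm : ∀ j ∈ A, ‖synth e a k (h * j)‖ ^ 2 ≤ s * Q := by
        intro j _
        rw [synth_eq_sum_part e a J k]
        have h1 : ‖∑ χ ∈ S, synth e (part e a J χ) k (h * j)‖ ≤
            ∑ χ ∈ S, ‖synth e (part e a J χ) k h‖ := by
          refine (norm_sum_le _ _).trans (Finset.sum_le_sum fun χ _ => ?_)
          rw [synth_part_mul, norm_mul, norm_char J χ j, one_mul]
        exact (pow_le_pow_left₀ (norm_nonneg _) h1 2).trans (sq_sum_le_card_mul_sum_sq (s := S))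
      refine (Finset.sum_le_sum hterm).trans ?_
      rw [Finset.sum_const, nsmul_eq_mul, mul_assoc]
      refine mul_le_mul_of_nonneg_right ?_
        (mul_nonneg (Nat.cast_nonneg _) (Finset.sum_nonneg fun _ _ => sq_nonneg _))
      rcases A.eq_empty_or_nonempty with hA0 | ⟨j₀, hj₀⟩
      · rw [hA0, Finset.card_empty, Nat.cast_zero]; exact hJ'pos.le
      · have hinj : ∀ j ∈ A, ((j₀ : H)⁻¹ * j) ∈ J' := fun j hj => by
          refine ⟨J.mul_mem (J.inv_mem j₀.2) j.2, ?_⟩
          have h1 := K.mul_mem (K.inv_mem (Finset.mem_filter.1 hj₀).2) (Finset.mem_filter.1 hj).2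
          simpa [mul_inv_rev, mul_assoc] using h1
        haveI := Fintype.ofFinite J'
        rw [Nat.card_eq_fintype_card, ← Fintype.card_coe A, Nat.cast_le]
        refine Fintype.card_le_of_injective (fun j => ⟨_, hinj j.1 j.2⟩) fun j j' hjj => ?_
        have := congrArg Subtype.val hjj
        exact Subtype.ext (Subtype.ext (mul_left_cancel this))
    have hTKle : TK ≤ T := by
      refine Finset.sum_le_sum fun k _ => Finset.sum_le_sum fun h _ => ?_
      refine mul_le_mul_of_nonneg_left ?_ (wt_nonneg l h)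
      split_ifs
      · exact le_rfl
      · exact sq_nonneg _
    have htot : ∑ k, ∑ h, wt ((K, q) :: l) h * ‖synth e a k h‖ ^ 2 =
        T + ((q : ℝ) - 1) * (T - TK) := by
      simp only [hT, hTK, mul_sub, Finset.mul_sum, ← Finset.sum_sub_distrib, ← Finset.sum_add_distrib]
      refine Finset.sum_congr rfl fun k _ => Finset.sum_congr rfl fun h _ => ?_
      simp only [wt]
      by_cases hh : h ∈ K
      · simp [hh]
      · simp [hh]; ring
    -- `|J : J'| ≤ q - 1`
    have hM : (Nat.card J : ℝ) ≤ ((q : ℝ) - 1) * (Nat.card J' : ℝ) := by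
      have h1 : J'.relIndex J ∣ K.index := by
        rw [hJ', Subgroup.inf_relIndex_left]
        exact Subgroup.relIndex_dvd_index_of_normal K J
      have h2 : Nat.card J' * J'.relIndex J = Nat.card J := by
        rw [← Subgroup.relIndex_bot_left, ← Subgroup.relIndex_bot_left,
          Subgroup.relIndex_mul_relIndex _ _ _ bot_le inf_le_left]
      have h3 : J'.relIndex J + 1 ≤ q :=
        (Nat.add_le_add_right (Nat.le_of_dvd (Nat.pos_of_ne_zero
          Subgroup.index_ne_zero_of_finite) h1) 1).trans hK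
      have h4 : ((J'.relIndex J : ℕ) : ℝ) + 1 ≤ (q : ℝ) := by exact_mod_cast h3
      have h2' : (Nat.card J' : ℝ) * (J'.relIndex J : ℝ) = (Nat.card J : ℝ) := by exact_mod_cast h2
      rw [← h2']
      nlinarith
    have hs1 : 1 ≤ s := by
      obtain ⟨ψ, k, hk⟩ := hne
      rw [hs, Nat.one_le_cast, Finset.one_le_card]
      exact ⟨_, (mem_supp e a).2 ⟨ψ, ⟨k, hk⟩, rfl⟩⟩
    have hC0 : 0 ≤ C := by positivity
    have hT0 : 0 ≤ T := Finset.sum_nonneg fun k _ => Finset.sum_nonneg fun h _ =>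
      mul_nonneg (wt_nonneg l h) (sq_nonneg _)
    have hq1 : 0 ≤ (q : ℝ) - 1 := by
      have : (1 : ℝ) ≤ (q : ℝ) := by exact_mod_cast le_trans (Nat.le_add_left 1 _) hK
      linarith
    show C ≤ (Nat.card J' : ℝ) * _
    rw [htot]
    by_cases hsM : (Nat.card J : ℝ) ≤ s * (Nat.card J' : ℝ)
    · -- many parts
      have h1 : C * (Nat.card J : ℝ) ≤ (Nat.card J' : ℝ) * ((Nat.card J : ℝ) * T) := by
        nlinarith
      have h2 : C ≤ (Nat.card J' : ℝ) * T :=
        le_of_mul_le_mul_right (by nlinarith) hJpos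
      nlinarith [mul_nonneg hq1 (sub_nonneg.2 hTKle)]
    · push Not at hsM
      set d := (Nat.card J : ℝ) with hd
      set d' := (Nat.card J' : ℝ) with hd'
      have h1 : (d - d' * s) * T ≤ d * (T - TK) := by nlinarith
      have h2 : (d - d' * s) * T * d ≤ ((q : ℝ) - 1) * d' * (d * (T - TK)) := by
        have h3 : 0 ≤ d * (T - TK) := mul_nonneg hJpos.le (sub_nonneg.2 hTKle)
        nlinarith
      have h4 : d * C ≤ d' * (d * T) + (d - d' * s) * (d * T) := by
        have h5 : (d' + (d - d' * s)) * (s * C) ≤ (d' + (d - d' * s)) * (d * T) :=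
          mul_le_mul_of_nonneg_left hlow (by nlinarith)
        have h6 : d * C ≤ (d' + (d - d' * s)) * (s * C) := by
          nlinarith [mul_nonneg (mul_nonneg (sub_nonneg.2 hs1) (sub_nonneg.2 hsM.le)) hC0]
        nlinarith
      have h7 : d * C ≤ d * (d' * (T + ((q : ℝ) - 1) * (T - TK))) := by nlinarith
      exact le_of_mul_le_mul_left h7 hJpos

end Weights

section Roots

theorem conj_root {p : ℕ} (hp : p ≠ 0) {ζ : ℂ} (hζ : ζ ^ p = 1) (i : ℕ) :
    conj (ζ ^ i) = (ζ ^ i)⁻¹ := by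
  refine (Complex.inv_eq_conj (Complex.norm_eq_one_of_pow_eq_one (n := p) ?_ hp)).symm
  rw [← pow_mul, mul_comm, pow_mul, hζ, one_pow]

theorem sum_normSq_roots {p : ℕ} [hp : Fact p.Prime] {ζ : ℂ} (hζ : IsPrimitiveRoot ζ p)
    (m : Fin p → ℕ) :
    ∑ k : Fin p, ‖∑ i : Fin p, (m i : ℂ) * (ζ ^ (i : ℕ)) ^ (k : ℕ)‖ ^ 2 =
      (p : ℝ) * ∑ i : Fin p, (m i : ℝ) ^ 2 := by
  have hp0 : p ≠ 0 := hp.out.ne_zero
  apply Complex.ofReal_injective
  push_cast
  simp only [← Complex.mul_conj', map_sum, map_mul, Complex.conj_natCast, Finset.sum_mul,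
    Finset.mul_sum]
  rw [Finset.sum_comm]
  refine Finset.sum_congr rfl fun i _ => ?_
  rw [Finset.sum_comm, Finset.sum_eq_single i]
  · have h1 : ∀ k : Fin p, (m i : ℂ) * (ζ ^ (i : ℕ)) ^ (k : ℕ) *
        ((m i : ℂ) * conj ((ζ ^ (i : ℕ)) ^ (k : ℕ))) = (m i : ℂ) ^ 2 := fun k => by
      rw [← pow_mul, conj_root hp0 hζ.pow_eq_one,
        show (m i : ℂ) * ζ ^ ((i : ℕ) * k) * ((m i : ℂ) * (ζ ^ ((i : ℕ) * k))⁻¹) =
          (m i : ℂ) ^ 2 * (ζ ^ ((i : ℕ) * k) * (ζ ^ ((i : ℕ) * k))⁻¹) by ring,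
        mul_inv_cancel₀ (pow_ne_zero _ (hζ.ne_zero hp0)), mul_one]
    rw [Finset.sum_congr rfl fun k _ => h1 k, Finset.sum_const, Finset.card_univ, Fintype.card_fin,
      nsmul_eq_mul]
  · intro j _ hji
    set w := ζ ^ (j : ℕ) * (ζ ^ (i : ℕ))⁻¹ with hw
    have hw1 : w ≠ 1 := fun h => hji (Fin.ext (hζ.pow_inj j.2 i.2 ((mul_inv_eq_one₀
      (pow_ne_zero _ (hζ.ne_zero hp0))).1 h)))
    have hwp : w ^ p = 1 := by
      rw [hw, mul_pow, inv_pow, ← pow_mul, ← pow_mul, mul_comm (i : ℕ), mul_comm (j : ℕ), pow_mul,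
        pow_mul, hζ.pow_eq_one, one_pow, one_pow, inv_one, mul_one]
    have hgeo : ∑ k : Fin p, w ^ (k : ℕ) = 0 := by
      rw [Fin.sum_univ_eq_sum_range (fun k => w ^ k), geom_sum_eq hw1, hwp, sub_self, zero_div]
    calc ∑ k : Fin p, (m j : ℂ) * (ζ ^ (j : ℕ)) ^ (k : ℕ) *
          ((m i : ℂ) * conj ((ζ ^ (i : ℕ)) ^ (k : ℕ)))
        = (m i : ℂ) * (m j : ℂ) * ∑ k : Fin p, w ^ (k : ℕ) := by
          rw [Finset.mul_sum]
          refine Finset.sum_congr rfl fun k _ => ?_
          rw [hw, mul_pow, inv_pow, ← pow_mul ζ (i : ℕ), conj_root hp0 hζ.pow_eq_one]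
          ring
      _ = 0 := by rw [hgeo, mul_zero]
  · exact fun h => absurd (Finset.mem_univ _) h

/-- A sum of roots of unity with integral coefficients is zero or large on average. -/
theorem large_roots {p : ℕ} [hp : Fact p.Prime] {ζ : ℂ} (hζ : IsPrimitiveRoot ζ p) (m : Fin p → ℕ) :
    (∀ k : Fin (p - 1), ∑ i : Fin p, (m i : ℂ) * (ζ ^ (i : ℕ)) ^ ((k : ℕ) + 1) = 0) ∨
      (Fintype.card (Fin (p - 1)) : ℝ) ≤
        ∑ k : Fin (p - 1), ‖∑ i : Fin p, (m i : ℂ) * (ζ ^ (i : ℕ)) ^ ((k : ℕ) + 1)‖ ^ 2 := by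
  classical
  have hp0 : p ≠ 0 := hp.out.ne_zero
  by_cases hall : ∀ i j, m i = m j
  · left
    intro k
    have hw1 : ζ ^ ((k : ℕ) + 1) ≠ 1 := hζ.pow_ne_one_of_pos_of_lt (Nat.succ_ne_zero _) (by omega)
    have hgeo : ∑ i : Fin p, (ζ ^ ((k : ℕ) + 1)) ^ (i : ℕ) = 0 := by
      rw [Fin.sum_univ_eq_sum_range (fun i => (ζ ^ ((k : ℕ) + 1)) ^ i), geom_sum_eq hw1,
        ← pow_mul, mul_comm, pow_mul, hζ.pow_eq_one, one_pow, sub_self, zero_div]
    calc ∑ i : Fin p, (m i : ℂ) * (ζ ^ (i : ℕ)) ^ ((k : ℕ) + 1)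
        = (m ⟨0, hp.out.pos⟩ : ℂ) * ∑ i : Fin p, (ζ ^ ((k : ℕ) + 1)) ^ (i : ℕ) := by
          rw [Finset.mul_sum]
          refine Finset.sum_congr rfl fun i _ => ?_
          rw [hall i ⟨0, hp.out.pos⟩, ← pow_mul, ← pow_mul, mul_comm (i : ℕ)]
      _ = 0 := by rw [hgeo, mul_zero]
  right
  push Not at hall
  obtain ⟨i₀, j₀, hij⟩ := hall
  have h := sum_normSq_roots hζ m
  obtain ⟨p', rfl⟩ : ∃ p', p = p' + 1 := ⟨p - 1, by have := hp.out.pos; omega⟩
  rw [Fin.sum_univ_succ] at h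
  simp only [Fin.val_zero, pow_zero, mul_one, Fin.val_succ] at h
  rw [Fintype.card_fin]
  show ((p' + 1 - 1 : ℕ) : ℝ) ≤ ∑ k : Fin p', _
  rw [show ((p' + 1 - 1 : ℕ) : ℝ) = (p' : ℝ) by simp]
  have hre : ‖∑ i : Fin (p' + 1), (m i : ℂ)‖ ^ 2 = (∑ i : Fin (p' + 1), (m i : ℝ)) ^ 2 := by
    rw [← Nat.cast_sum, Complex.norm_natCast]
    push_cast
    rfl
  rw [hre] at h
  set x : Fin (p' + 1) → ℝ := fun i => (m i : ℝ) with hx
  have hone : ∀ i j, m i ≠ m j → 1 ≤ (x i - x j) ^ 2 := by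
    intro i j hne
    have h1 : (1 : ℤ) ≤ ((m i : ℤ) - m j) ^ 2 := by
      have : (m i : ℤ) - m j ≠ 0 := sub_ne_zero.2 (by exact_mod_cast hne)
      have h0 : 0 < ((m i : ℤ) - m j) ^ 2 := by positivity
      omega
    have h2 : ((1 : ℤ) : ℝ) ≤ ((((m i : ℤ) - m j) ^ 2 : ℤ) : ℝ) := Int.cast_le.2 h1
    push_cast at h2
    exact h2
  have hsum : ∑ i, ∑ j, (x i - x j) ^ 2 =
      2 * (((p' + 1 : ℕ) : ℝ) * ∑ i, x i ^ 2 - (∑ i, x i) ^ 2) := by
    simp only [sub_sq, Finset.sum_add_distrib, Finset.sum_sub_distrib, Finset.sum_const,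
      Finset.card_univ, Fintype.card_fin, nsmul_eq_mul, ← Finset.mul_sum, ← Finset.sum_mul]
    rw [mul_sub, sq (∑ i, x i)]
    push_cast
    ring
  have hcol : ∀ k, 1 ≤ (x i₀ - x k) ^ 2 + (x j₀ - x k) ^ 2 := by
    intro k
    by_cases hk : m i₀ = m k
    · have := hone j₀ k (fun h => hij (hk.trans h.symm))
      nlinarith [sq_nonneg (x i₀ - x k)]
    · have := hone i₀ k hk
      nlinarith [sq_nonneg (x j₀ - x k)]
  have hne : i₀ ≠ j₀ := fun h => hij (h ▸ rfl)
  have hlow : (p' : ℝ) * 2 ≤ ∑ i, ∑ j, (x i - x j) ^ 2 := by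
    have h1 : ∑ j, ((x i₀ - x j) ^ 2 + (x j₀ - x j) ^ 2) + ∑ i ∈ ({i₀, j₀} : Finset _)ᶜ,
        ((x i - x i₀) ^ 2 + (x i - x j₀) ^ 2) ≤ ∑ i, ∑ j, (x i - x j) ^ 2 := by
      rw [← Finset.sum_add_sum_compl ({i₀, j₀} : Finset _) (fun i => ∑ j, (x i - x j) ^ 2),
        Finset.sum_pair hne, Finset.sum_add_distrib]
      refine add_le_add le_rfl (Finset.sum_le_sum fun i _ => ?_)
      rw [← Finset.sum_pair hne (f := fun j => (x i - x j) ^ 2)]
      exact Finset.sum_le_sum_of_subset_of_nonneg (Finset.subset_univ _) fun _ _ _ => sq_nonneg _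
    have h2 : ((p' + 1 : ℕ) : ℝ) ≤ ∑ j, ((x i₀ - x j) ^ 2 + (x j₀ - x j) ^ 2) := by
      calc ((p' + 1 : ℕ) : ℝ) = ∑ _j : Fin (p' + 1), (1 : ℝ) := by simp
        _ ≤ _ := Finset.sum_le_sum fun j _ => hcol j
    have h3 : ((p' : ℝ) - 1) ≤ ∑ i ∈ ({i₀, j₀} : Finset _)ᶜ,
        ((x i - x i₀) ^ 2 + (x i - x j₀) ^ 2) := by
      calc ((p' : ℝ) - 1) ≤ ∑ _i ∈ ({i₀, j₀} : Finset (Fin (p' + 1)))ᶜ, (1 : ℝ) := by
            rw [Finset.sum_const, Finset.card_compl, Finset.card_pair hne, Fintype.card_fin,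
              nsmul_eq_mul, mul_one, Nat.cast_sub (by have := hp.out.two_le; omega)]
            push_cast
            linarith
        _ ≤ _ := Finset.sum_le_sum fun i _ => by
            have := hcol i
            nlinarith [this]
    push_cast at h2
    linarith
  rw [hsum] at hlow
  push_cast at h hlow ⊢
  linarith

end Roots

section Group

variable {X : Type u} [Group X] [Finite X] {p : ℕ} [Fact p.Prime]

/-- The weights coming from a series of invariant subgroups. -/
theorem exists_list (V : Subgroup X) (hVexp : ∀ v ∈ V, v ^ p = 1)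
    (hVc : ∀ a ∈ V, ∀ b ∈ V, a * b = b * a) {H : Type u} [CommGroup H] [Fintype H] (ι : H →* X)
    (hreg : ∀ h : H, ¬ p ∣ orderOf h) (W : Subgroup X) (hW : W ≤ V)
    (hinv : ∀ h : H, ∀ w ∈ W, ι h * w * (ι h)⁻¹ ∈ W) :
    ∃ l : List (Subgroup H × ℕ), (∀ x ∈ l, (x.1 : Subgroup H).index + 1 ≤ x.2) ∧
      (∀ h, wt l h * (Nat.card (W ⊓ Subgroup.centralizer ({ι h} : Set X) : Subgroup X) : ℝ) ≤
        (Nat.card W : ℝ)) ∧
      ∀ h ∈ core l, ∀ w ∈ W, ι h * w = w * ι h := by
  classical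
  induction hn : Nat.card W using Nat.strong_induction_on generalizing W with
  | _ n ih =>
  subst hn
  by_cases hbot : W = ⊥
  · refine ⟨[], fun x hx => absurd hx List.not_mem_nil, fun h => ?_, fun h _ w hw => ?_⟩
    · simp only [wt, one_mul, Nat.cast_le]
      exact Subgroup.card_le_of_le inf_le_left
    · rw [hbot, Subgroup.mem_bot] at hw
      rw [hw, mul_one, one_mul]
  obtain ⟨W', ⟨hlt, hinv'⟩, hmax⟩ := Set.Finite.exists_maximal
    (s := {U : Subgroup X | U < W ∧ ∀ h : H, ∀ w ∈ U, ι h * w * (ι h)⁻¹ ∈ U}) (Set.toFinite _)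
    ⟨⊥, bot_lt_iff_ne_bot.2 hbot, fun h w hw => by
      rw [Subgroup.mem_bot] at hw ⊢; rw [hw]; group⟩
  have hW'V : W' ≤ V := hlt.le.trans hW
  obtain ⟨l, hl1, hl2, hl3⟩ :=
    ih (Nat.card W') (Set.Finite.card_lt_card (Set.toFinite _) hlt) W' hW'V hinv' rfl
  have hcm : ∀ a b : H, Commute (ι a) (ι b) := fun a b => (Commute.all a b).map ι
  -- the fixed points of one element on `W / W'`
  let U : H → Subgroup X := fun h =>
    { carrier := {w | w ∈ W ∧ ι h * w * (ι h)⁻¹ * w⁻¹ ∈ W'}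
      one_mem' := ⟨W.one_mem, by simp⟩
      mul_mem' := by
        rintro a b ⟨ha, ha'⟩ ⟨hb, hb'⟩
        refine ⟨W.mul_mem ha hb, ?_⟩
        have e : ι h * (a * b) * (ι h)⁻¹ * (a * b)⁻¹ =
            (ι h * a * (ι h)⁻¹) * (ι h * b * (ι h)⁻¹ * b⁻¹) * a⁻¹ := by group
        rw [e, hVc _ (hW (hinv h a ha)) _ (hW'V hb'), mul_assoc]
        exact W'.mul_mem hb' ha'
      inv_mem' := by
        rintro a ⟨ha, ha'⟩
        refine ⟨W.inv_mem ha, ?_⟩
        have e : ι h * a⁻¹ * (ι h)⁻¹ * a⁻¹⁻¹ = a⁻¹ * (ι h * a * (ι h)⁻¹ * a⁻¹)⁻¹ * a := by group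
        rw [e, hVc _ (hW (W.inv_mem ha)) _ (hW'V (W'.inv_mem ha')), mul_assoc, inv_mul_cancel,
          mul_one]
        exact W'.inv_mem ha' }
  have hU : ∀ h, U h = W' ∨ U h = W := by
    intro h
    by_cases hUW : U h = W
    · exact Or.inr hUW
    left
    have hle : W' ≤ U h := fun w hw => ⟨hlt.le hw, W'.mul_mem (hinv' h w hw) (W'.inv_mem hw)⟩
    refine le_antisymm (hmax ⟨lt_of_le_of_ne (fun w hw => hw.1) hUW, fun g w hw => ?_⟩ hle) hle
    refine ⟨hinv g w hw.1, ?_⟩
    have e : ι h * (ι g * w * (ι g)⁻¹) * (ι h)⁻¹ * (ι g * w * (ι g)⁻¹)⁻¹ =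
        ι g * (ι h * w * (ι h)⁻¹ * w⁻¹) * (ι g)⁻¹ := by
      rw [show ι h * (ι g * w * (ι g)⁻¹) * (ι h)⁻¹ =
        (ι h * ι g) * w * (ι h * ι g)⁻¹ by group, (hcm h g).eq]
      group
    rw [e]
    exact hinv' g _ hw.2
  let K : Subgroup H :=
    { carrier := {h | ∀ w ∈ W, ι h * w * (ι h)⁻¹ * w⁻¹ ∈ W'}
      one_mem' := fun w _ => by simp
      mul_mem' := by
        intro a b ha hb w hw
        have e : ι (a * b) * w * (ι (a * b))⁻¹ * w⁻¹ =
            (ι a * (ι b * w * (ι b)⁻¹) * (ι a)⁻¹ * (ι b * w * (ι b)⁻¹)⁻¹) *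
              (ι b * w * (ι b)⁻¹ * w⁻¹) := by rw [map_mul]; group
        rw [e]
        exact W'.mul_mem (ha _ (hinv b w hw)) (hb w hw)
      inv_mem' := by
        intro a ha w hw
        have := W'.inv_mem (ha _ (hinv a⁻¹ w hw))
        convert this using 1
        rw [map_inv]; group }
  have hWW : Nat.card W' * W'.relIndex W = Nat.card W := by
    rw [← Subgroup.relIndex_bot_left, ← Subgroup.relIndex_bot_left,
      Subgroup.relIndex_mul_relIndex _ _ _ bot_le hlt.le]
  refine ⟨(K, W'.relIndex W) :: l, ?_, fun h => ?_, fun h hh w hw => ?_⟩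
  · intro x hx
    rcases List.mem_cons.1 hx with rfl | hx
    · -- `|H : K| < |W : W'|`
      obtain ⟨w, hw, hw'⟩ := SetLike.exists_of_lt hlt
      haveI := Fintype.ofFinite (W ⧸ W'.subgroupOf W)
      haveI := Fintype.ofFinite (H ⧸ K)
      show K.index + 1 ≤ (W'.subgroupOf W).index
      rw [Subgroup.index_eq_card, Subgroup.index_eq_card, Nat.card_eq_fintype_card,
        Nat.card_eq_fintype_card]
      haveI hWn : (W'.subgroupOf W).Normal := ⟨fun x hx g => by
        rw [Subgroup.mem_subgroupOf] at hx ⊢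
        simp only [Subgroup.coe_mul, Subgroup.coe_inv]
        rwa [hVc _ (hW g.2) _ (hW x.2), mul_inv_cancel_right]⟩
      let F : H ⧸ K → W ⧸ W'.subgroupOf W := fun c =>
        ((⟨ι c.out * w * (ι c.out)⁻¹, hinv _ w hw⟩ : W) : W ⧸ W'.subgroupOf W)
      have hFinj : Function.Injective F := by
        intro c c' hcc
        have h1 : (ι c.out * w * (ι c.out)⁻¹)⁻¹ * (ι c'.out * w * (ι c'.out)⁻¹) ∈ W' :=
          Subgroup.mem_subgroupOf.1 (QuotientGroup.eq.1 hcc)
        set d := c.out⁻¹ * c'.out with hd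
        have h2 : ι d * w * (ι d)⁻¹ * w⁻¹ ∈ W' := by
          have h3 := hinv' c.out⁻¹ _ h1
          have e : ι c.out⁻¹ * ((ι c.out * w * (ι c.out)⁻¹)⁻¹ * (ι c'.out * w * (ι c'.out)⁻¹)) *
              (ι c.out⁻¹)⁻¹ = w⁻¹ * (ι d * w * (ι d)⁻¹) := by
            simp only [hd, map_mul, map_inv]; group
          rw [e, hVc _ (hW (W.inv_mem hw)) _ (hW (hinv d w hw))] at h3
          exact h3
        rcases hU d with h4 | h4
        · exact absurd (h4 ▸ (⟨hw, h2⟩ : w ∈ U d)) hw'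
        · have hdK : d ∈ K := fun y hy => (h4.symm ▸ hy : y ∈ U d).2
          rw [← QuotientGroup.out_eq' c, ← QuotientGroup.out_eq' c', QuotientGroup.eq]
          exact hdK
      refine Nat.succ_le_of_lt (Fintype.card_lt_of_injective_of_notMem F hFinj (b := 1) ?_)
      rintro ⟨c, hc⟩
      have h1 : ι c.out * w * (ι c.out)⁻¹ ∈ W' :=
        Subgroup.mem_subgroupOf.1 ((QuotientGroup.eq_one_iff _).1 hc)
      have h2 := hinv' c.out⁻¹ _ h1
      rw [map_inv, inv_inv, show (ι c.out)⁻¹ * (ι c.out * w * (ι c.out)⁻¹) * ι c.out = w by group]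
        at h2
      exact hw' h2
    · exact hl1 x hx
  · -- the fixed point count
    set C := Subgroup.centralizer ({ι h} : Set X) with hC
    have hpos : (0 : ℝ) ≤ wt l h := wt_nonneg l h
    have hq : ((Nat.card W' : ℕ) : ℝ) * (W'.relIndex W : ℕ) = (Nat.card W : ℕ) := by
      exact_mod_cast hWW
    simp only [wt]
    by_cases hh : h ∈ K
    · rw [if_pos hh, one_mul]
      have h1 : Nat.card (W ⊓ C : Subgroup X) ≤
          W'.relIndex W * Nat.card (W' ⊓ C : Subgroup X) := by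
        have e : Nat.card (W' ⊓ C : Subgroup X) * (W' ⊓ C).relIndex (W ⊓ C) =
            Nat.card (W ⊓ C : Subgroup X) := by
          rw [← Subgroup.relIndex_bot_left, ← Subgroup.relIndex_bot_left,
            Subgroup.relIndex_mul_relIndex _ _ _ bot_le (inf_le_inf_right _ hlt.le)]
        rw [← e, mul_comm]
        refine Nat.mul_le_mul_right _ ?_
        have e2 : W' ⊓ C = W' ⊓ (W ⊓ C) := by
          rw [← inf_assoc, inf_eq_left.2 hlt.le]
        rw [e2, Subgroup.inf_relIndex_right]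
        exact Subgroup.relIndex_le_of_le_right inf_le_left Subgroup.index_ne_zero_of_finite
      have h2 := hl2 h
      have h1' : (Nat.card (W ⊓ C : Subgroup X) : ℝ) ≤
          (W'.relIndex W : ℕ) * (Nat.card (W' ⊓ C : Subgroup X) : ℝ) := by exact_mod_cast h1
      calc wt l h * (Nat.card (W ⊓ C : Subgroup X) : ℝ)
          ≤ wt l h * ((W'.relIndex W : ℕ) * (Nat.card (W' ⊓ C : Subgroup X) : ℝ)) :=
            mul_le_mul_of_nonneg_left h1' hpos
        _ = (W'.relIndex W : ℕ) * (wt l h * (Nat.card (W' ⊓ C : Subgroup X) : ℝ)) := by ring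
        _ ≤ (W'.relIndex W : ℕ) * (Nat.card W' : ℝ) :=
            mul_le_mul_of_nonneg_left h2 (Nat.cast_nonneg _)
        _ = (Nat.card W : ℝ) := by rw [mul_comm]; exact hq
    · rw [if_neg hh]
      have hle : W ⊓ C = W' ⊓ C := by
        refine le_antisymm (fun x hx => ⟨?_, hx.2⟩) (inf_le_inf_right _ hlt.le)
        rcases hU h with h4 | h4
        · rw [← h4]
          refine ⟨hx.1, ?_⟩
          rw [← Subgroup.mem_centralizer_singleton_iff.1 hx.2, mul_assoc x, mul_inv_cancel, mul_one,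
            mul_inv_cancel]
          exact W'.one_mem
        · exact absurd (fun y hy => ((h4.symm ▸ hy : y ∈ U h)).2) hh
      rw [hle, mul_assoc]
      refine (mul_le_mul_of_nonneg_left (hl2 h) (Nat.cast_nonneg _)).trans (le_of_eq ?_)
      rw [mul_comm]; exact hq
  · -- the common part
    obtain ⟨hh1, hh2⟩ : h ∈ core l ∧ h ∈ K := hh
    set c := ι h * w * (ι h)⁻¹ * w⁻¹ with hc
    have hcW' : c ∈ W' := hh2 w hw
    have hcc : ∀ i : ℕ, ι h ^ i * w * (ι h ^ i)⁻¹ = c ^ i * w := by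
      intro i
      induction i with
      | zero => simp
      | succ i ih =>
        have h1 : Commute (ι h) (c ^ i) := (hl3 h hh1 _ (W'.pow_mem hcW' i) :)
        rw [pow_succ', mul_inv_rev, show ι h * ι h ^ i * w * ((ι h ^ i)⁻¹ * (ι h)⁻¹) =
          ι h * (ι h ^ i * w * (ι h ^ i)⁻¹) * (ι h)⁻¹ by group, ih, ← mul_assoc, h1.eq,
          pow_succ, show c ^ i * ι h * w * (ι h)⁻¹ = c ^ i * (ι h * w * (ι h)⁻¹) by group,
          mul_assoc (c ^ i) c w, hc]
        group
    have h2 : c ^ orderOf h = 1 := by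
      have := hcc (orderOf h)
      rw [← map_pow, pow_orderOf_eq_one, map_one, inv_one, mul_one, one_mul] at this
      exact mul_eq_right.1 this.symm
    have h3 : c = 1 := by
      rw [← orderOf_eq_one_iff]
      exact Nat.eq_one_of_dvd_coprimes ((Fact.out : p.Prime).coprime_iff_not_dvd.2 (hreg h))
        (orderOf_dvd_of_pow_eq_one (hVexp _ (hW'V hcW'))) (orderOf_dvd_of_pow_eq_one h2)
    rw [hc, mul_inv_eq_one, mul_inv_eq_iff_eq_mul] at h3
    exact h3

open scoped IntermediateField in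
/-- The abelian stabilizer criterion. -/
theorem card_classes_le (V : Subgroup X) [V.Normal] (hVexp : ∀ v ∈ V, v ^ p = 1)
    (hidx : ¬ p ∣ V.index) (hself : Subgroup.centralizer (V : Set X) = V) (G : Subgroup X)
    (hGV : Subgroup.IsComplement' V G) {v : X} (hv : v ∈ V)
    (hab : ∀ a ∈ G ⊓ Subgroup.centralizer ({v} : Set X),
      ∀ b ∈ G ⊓ Subgroup.centralizer ({v} : Set X), a * b = b * a) :
    Nat.card (ConjClasses X) ≤ Nat.card V := by
  classical
  have hp : p.Prime := Fact.out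
  haveI := Fintype.ofFinite X
  haveI := Chars.irrFintype X
  have hVc : ∀ a ∈ V, ∀ b ∈ V, a * b = b * a := fun a ha b hb => by
    have : b ∈ Subgroup.centralizer (V : Set X) := by rw [hself]; exact hb
    exact Subgroup.mem_centralizer_iff.1 this a ha
  have hdisj : ∀ x, x ∈ V → x ∈ G → x = 1 := fun x h1 h2 => by
    have := hGV.disjoint
    rw [disjoint_iff] at this
    exact Subgroup.mem_bot.1 (this ▸ ⟨h1, h2⟩)
  have hGcard : ¬ p ∣ Nat.card G := by rwa [← hGV.symm.index_eq_card]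
  set H := G ⊓ Subgroup.centralizer ({v} : Set X) with hH
  letI : CommGroup H := { (inferInstance : Group H) with
    mul_comm := fun a b => Subtype.ext (hab a a.2 b b.2) }
  haveI := Fintype.ofFinite H
  have hHG : H ≤ G := inf_le_left
  have hHreg : ∀ h : H, ¬ p ∣ orderOf h := fun h hd =>
    hGcard ((hd.trans (orderOf_dvd_natCard h)).trans (Subgroup.card_dvd_of_le hHG))
  obtain ⟨l, hl1, hl2, hl3⟩ := exists_list V hVexp hVc H.subtype hHreg V le_rfl
    (fun h w hw => Subgroup.Normal.conj_mem inferInstance w hw h)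
  have hcore : core l = ⊥ := by
    rw [Subgroup.eq_bot_iff_forall]
    intro h hh
    refine Subtype.ext (hdisj _ ?_ (hHG h.2))
    rw [← hself]
    exact Subgroup.mem_centralizer_iff.2 fun w hw => (hl3 h hh w hw).symm
  -- the abelian group `⟨v⟩ × H`
  have hvp : v ^ p = 1 := hVexp v hv
  let ev : Multiplicative (ZMod p) →* X :=
    { toFun := fun t => v ^ (Multiplicative.toAdd t).val
      map_one' := by simp
      map_mul' := fun a b => by
        rw [toAdd_mul, ZMod.val_add, ← pow_add]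
        exact (pow_eq_pow_mod _ hvp).symm }
  have hvH : ∀ (h : H) (t : Multiplicative (ZMod p)), Commute (ev t) (h : X) := fun h t =>
    (show Commute v (h : X) from (Subgroup.mem_centralizer_singleton_iff.1 h.2.2).symm).pow_left _
  let B := Multiplicative (ZMod p) × H
  let φ : B →* X :=
    { toFun := fun b => ev b.1 * (b.2 : X)
      map_one' := by simp
      map_mul' := fun a b => by
        rw [Prod.fst_mul, Prod.snd_mul, map_mul, Subgroup.coe_mul, mul_assoc, mul_assoc,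
          ← mul_assoc (ev b.1), (hvH a.2 b.1).eq, mul_assoc] }
  haveI := Fintype.ofFinite B
  haveI := Chars.irrFintype B
  set z : Multiplicative (ZMod p) := Multiplicative.ofAdd 1 with hz
  have hevz : ∀ k : ℕ, ev (z ^ k) = v ^ k := fun k => by
    rw [map_pow]
    show (v ^ (1 : ZMod p).val) ^ k = v ^ k
    rw [ZMod.val_one, pow_one]
  obtain ⟨ζ, hζ⟩ : ∃ ζ : ℂ, IsPrimitiveRoot ζ p := ⟨_, Complex.isPrimitiveRoot_exp p hp.ne_zero⟩
  -- linear characters of `B`
  have hlin : ∀ θ : IrrCharacter B, ∃ (t : H →* ℂˣ) (i : Fin p),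
      ∀ (k : ℕ) (h : H), (θ : B → ℂ) (z ^ k, h) = (ζ ^ (i : ℕ)) ^ k * (t h : ℂ) := by
    intro θ
    obtain ⟨l, hl⟩ := Chars.exists_hom_of_degree_one (Chars.isCharacter_of_irr θ.2)
      (Chars.irr_abelian_degree (fun a b => mul_comm a b) θ.2)
    have hzp : ((l (z, 1) : ℂˣ) : ℂ) ^ p = 1 := by
      rw [← Units.val_pow_eq_pow_val, ← map_pow]
      have : ((z, 1) : B) ^ p = 1 := by
        refine Prod.ext ?_ (by simp)
        rw [Prod.pow_fst, hz, ← ofAdd_nsmul]
        simp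
      rw [this, map_one, Units.val_one]
    obtain ⟨i, hi, hie⟩ := hζ.eq_pow_of_pow_eq_one hzp
    refine ⟨l.comp (MonoidHom.inr _ H), ⟨i, hi⟩, fun k h => ?_⟩
    rw [congrFun hl]
    show ((l (z ^ k, h) : ℂˣ) : ℂ) = (ζ ^ i) ^ k * _
    rw [hie, ← Units.val_pow_eq_pow_val, ← map_pow l, MonoidHom.comp_apply, MonoidHom.inr_apply,
      ← Units.val_mul, ← map_mul l]
    exact congrArg (fun b => ((l b : ℂˣ) : ℂ)) (Prod.ext (by rw [Prod.fst_mul, Prod.pow_fst, mul_one]) (by rw [Prod.snd_mul, Prod.pow_snd, one_pow, one_mul]))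
  choose t ix hix using hlin
  let Ψ := {s : H →* ℂˣ // s ∈ (Finset.univ : Finset (IrrCharacter B)).image t}
  let e : Ψ → (H →* ℂˣ) := fun s => s.1
  have hmult : ∀ (χ : IrrCharacter X) (θ : IrrCharacter B),
      ∃ m : ℕ, classInner (fun b => (χ : X → ℂ) (φ b)) (θ : B → ℂ) = m := fun χ θ =>
    Chars.inner_irr_right_nat (Chars.isCharacter_comp φ (Chars.isCharacter_of_irr χ.2)) θ
  choose m hm using hmult
  let a : IrrCharacter X → Fin (p - 1) → Ψ → ℂ := fun χ k s =>
    ∑ θ ∈ Finset.univ.filter (fun θ => t θ = s.1), (m χ θ : ℂ) * (ζ ^ (ix θ : ℕ)) ^ ((k : ℕ) + 1)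
  have hsynth : ∀ χ k h, synth e (a χ) k h = (χ : X → ℂ) (v ^ ((k : ℕ) + 1) * (h : X)) := by
    intro χ k h
    have h1 : IsClassFunction B (fun b => (χ : X → ℂ) (φ b)) := fun x y => by
      rw [mul_comm y x, mul_assoc, mul_inv_cancel, mul_one]
    have h2 := congrFun (Chars.classFun_eq_sum h1) (z ^ ((k : ℕ) + 1), h)
    rw [Finset.sum_apply] at h2
    simp only [Pi.smul_apply, smul_eq_mul, hm, hix] at h2
    have e1 : φ (z ^ ((k : ℕ) + 1), h) = v ^ ((k : ℕ) + 1) * (h : X) := by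
      show ev _ * _ = _
      rw [hevz]
    rw [e1] at h2
    rw [h2, synth]
    simp only [a, e, Finset.sum_mul]
    rw [show (∑ s : Ψ, ∑ θ ∈ Finset.univ.filter (fun θ => t θ = s.1),
        (m χ θ : ℂ) * (ζ ^ (ix θ : ℕ)) ^ ((k : ℕ) + 1) * ((s.1 h : ℂˣ) : ℂ)) =
      ∑ s ∈ (Finset.univ : Finset (IrrCharacter B)).image t,
        ∑ θ ∈ Finset.univ.filter (fun θ => t θ = s),
          (m χ θ : ℂ) * (ζ ^ (ix θ : ℕ)) ^ ((k : ℕ) + 1) * ((s h : ℂˣ) : ℂ) from
      Finset.sum_coe_sort _ (fun s => ∑ θ ∈ Finset.univ.filter (fun θ => t θ = s),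
        (m χ θ : ℂ) * (ζ ^ (ix θ : ℕ)) ^ ((k : ℕ) + 1) * ((s h : ℂˣ) : ℂ))]
    rw [← Finset.sum_fiberwise_of_maps_to (g := t)
      (fun θ _ => Finset.mem_image_of_mem t (Finset.mem_univ θ))]
    refine Finset.sum_congr rfl fun s _ => Finset.sum_congr rfl fun θ hθ => ?_
    rw [(Finset.mem_filter.1 hθ).2, mul_assoc]
  have hlarge : ∀ χ, Large (a χ) := by
    intro χ s
    have e1 : ∀ k : Fin (p - 1), a χ k s =
        ∑ i : Fin p, ((∑ θ ∈ Finset.univ.filter (fun θ => t θ = s.1 ∧ ix θ = i), m χ θ : ℕ) : ℂ) *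
          (ζ ^ (i : ℕ)) ^ ((k : ℕ) + 1) := by
      intro k
      simp only [a]
      rw [← Finset.sum_fiberwise _ ix]
      refine Finset.sum_congr rfl fun i _ => ?_
      rw [Finset.filter_filter, Nat.cast_sum, Finset.sum_mul]
      exact Finset.sum_congr rfl fun θ hθ => by rw [(Finset.mem_filter.1 hθ).2.2]
    rcases large_roots hζ
      (fun i => ∑ θ ∈ Finset.univ.filter (fun θ => t θ = s.1 ∧ ix θ = i), m χ θ) with h | h
    · exact Or.inl fun k => (e1 k).trans (h k)
    · exact Or.inr (h.trans (le_of_eq (Finset.sum_congr rfl fun k _ => by rw [e1 k])))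
  -- the lower bound for every character
  have hlow : ∀ χ : IrrCharacter X, ((p - 1 : ℕ) : ℝ) * (Nat.card H : ℝ) ^ 2 ≤
      ∑ k : Fin (p - 1), ∑ h, wt l h * ‖(χ : X → ℂ) (v ^ ((k : ℕ) + 1) * (h : X))‖ ^ 2 := by
    intro χ
    have hne : ∃ s k, a χ k s ≠ 0 := by
      by_contra hcon
      push Not at hcon
      have h1 := hsynth χ ⟨0, by have := hp.two_le; omega⟩ 1
      rw [synth, Finset.sum_eq_zero fun s _ => by rw [hcon, zero_mul]] at h1
      obtain ⟨d, hd, hdvd⟩ := CharsMore.ito_degree_dvd V hVc χ.2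
      exact CharApps.char_ne_zero_of_pElement p (Chars.isCharacter_of_irr χ.2) hd
        (fun h => hidx (h.trans hdvd)) (v := v) (k := 1) (by rw [pow_one]; exact hvp)
        (by simpa using h1.symm)
    have h := main_ineq e Subtype.val_injective l (a χ) hl1 (hlarge χ) hne (fun s s' _ _ => by
      refine MonoidHom.ext fun j => ?_
      have : (j : H) = 1 := Subgroup.mem_bot.1 (hcore ▸ j.2)
      simp [this])
    rw [hcore, Subgroup.card_bot, Nat.cast_one, one_mul, Fintype.card_fin] at h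
    refine h.trans (le_of_eq ?_)
    simp only [hsynth]
  -- the column sums
  have hup : ∀ (k : Fin (p - 1)) (h : H),
      wt l h * ∑ χ : IrrCharacter X, ‖(χ : X → ℂ) (v ^ ((k : ℕ) + 1) * (h : X))‖ ^ 2 ≤
        (Nat.card V : ℝ) * (Nat.card H : ℝ) := by
    intro k h
    set i := (k : ℕ) + 1 with hi
    set g := v ^ i * (h : X) with hg
    have e1 : ∑ χ : IrrCharacter X, ‖(χ : X → ℂ) g‖ ^ 2 =
        (Nat.card (Subgroup.centralizer ({g} : Set X)) : ℝ) := by
      apply Complex.ofReal_injective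
      push_cast
      simp only [← Complex.mul_conj']
      rw [Chars.second_orthogonality, if_pos (IsConj.refl g)]
    rw [e1]
    set D := V ⊓ Subgroup.centralizer ({(h : X)} : Set X) with hD
    have hcard : Nat.card (Subgroup.centralizer ({g} : Set X)) ≤ Nat.card D * Nat.card H := by
      have hcomm : Commute v (h : X) := (Subgroup.mem_centralizer_singleton_iff.1 h.2.2).symm
      have hcop : Nat.Coprime p (orderOf (h : X)) := hp.coprime_iff_not_dvd.2 (by
        rw [Subgroup.orderOf_coe]; exact hHreg h)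
      have hparts : ∀ x, Commute x g → Commute x v ∧ Commute x (h : X) := by
        intro x hx
        obtain ⟨n, hn0, hn1⟩ := Nat.chineseRemainder hcop 0 1
        have e2 : g ^ n = (h : X) := by
          rw [hg, (hcomm.pow_left i).mul_pow, ← pow_mul, mul_comm, pow_mul]
          obtain ⟨c, hc⟩ := Nat.modEq_zero_iff_dvd.1 hn0
          have hvn : v ^ n = 1 := by rw [hc, pow_mul, hvp, one_pow]
          have hhn : (h : X) ^ n = (h : X) := by
            conv_rhs => rw [← pow_one (h : X)]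
            exact pow_eq_pow_iff_modEq.2 hn1
          rw [hvn, one_pow, one_mul, hhn]
        have h1 : Commute x (h : X) := e2 ▸ hx.pow_right n
        have h2 : Commute x (v ^ i) := by
          have := hx.mul_right h1.inv_right
          rwa [hg, mul_inv_cancel_right] at this
        have hip : Nat.Coprime i p := ((hp.coprime_iff_not_dvd).2 fun hd => by
          have := Nat.le_of_dvd (by omega) hd
          have := k.2
          omega).symm
        obtain ⟨j, hj0, hj1⟩ := Nat.chineseRemainder (n := i) (m := p) hip 0 1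
        obtain ⟨c, hc⟩ := Nat.modEq_zero_iff_dvd.1 hj0
        have e3 : (v ^ i) ^ c = v := by
          rw [← pow_mul, ← hc, pow_eq_pow_mod j hvp, show j % p = 1 % p from hj1,
            ← pow_eq_pow_mod 1 hvp, pow_one]
        exact ⟨e3 ▸ h2.pow_right c, h1⟩
      have hsub : ∀ x ∈ Subgroup.centralizer ({g} : Set X), ∃ d ∈ D, ∃ y ∈ H, x = d * y := by
        intro x hx
        obtain ⟨hxv, hxh⟩ := hparts x (Subgroup.mem_centralizer_singleton_iff.1 hx)
        obtain ⟨w, y, hw, hy, hwy⟩ : ∃ w y, w ∈ V ∧ y ∈ G ∧ w * y = x := by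
          obtain ⟨⟨⟨w, hw⟩, ⟨y, hy⟩⟩, he⟩ := hGV.2 x
          exact ⟨w, y, hw, hy, he⟩
        have hyv : Commute y v := by
          have h1 : Commute w v := hVc w hw v hv
          have h2 := h1.inv_left.mul_left hxv
          rwa [← hwy, inv_mul_cancel_left] at h2
        have hyH : y ∈ H := ⟨hy, Subgroup.mem_centralizer_singleton_iff.2 hyv⟩
        have hyh : Commute y (h : X) := hab y hyH h h.2
        have hwh : Commute w (h : X) := by
          have h2 := hxh.mul_left hyh.inv_left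
          rwa [← hwy, mul_inv_cancel_right] at h2
        exact ⟨w, ⟨hw, Subgroup.mem_centralizer_singleton_iff.2 hwh⟩, y, hyH, hwy.symm⟩
      choose d hdD y hyH hxe using hsub
      rw [← Nat.card_prod]
      refine Nat.card_le_card_of_injective
        (fun x => ((⟨d x.1 x.2, hdD x.1 x.2⟩ : D), (⟨y x.1 x.2, hyH x.1 x.2⟩ : H)))
        fun x x' hxx => ?_
      simp only [Prod.mk.injEq, Subtype.mk.injEq] at hxx
      exact Subtype.ext (by rw [hxe x.1 x.2, hxe x'.1 x'.2, hxx.1, hxx.2])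
    calc wt l h * (Nat.card (Subgroup.centralizer ({g} : Set X)) : ℝ)
        ≤ wt l h * ((Nat.card D : ℝ) * (Nat.card H : ℝ)) :=
          mul_le_mul_of_nonneg_left (by exact_mod_cast hcard) (wt_nonneg l h)
      _ = wt l h * (Nat.card D : ℝ) * (Nat.card H : ℝ) := by ring
      _ ≤ (Nat.card V : ℝ) * (Nat.card H : ℝ) :=
          mul_le_mul_of_nonneg_right (hl2 h) (Nat.cast_nonneg _)
  have htot : (Nat.card (IrrCharacter X) : ℝ) * (((p - 1 : ℕ) : ℝ) * (Nat.card H : ℝ) ^ 2) ≤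
      (Nat.card V : ℝ) * (((p - 1 : ℕ) : ℝ) * (Nat.card H : ℝ) ^ 2) := by
    have h1 : ∑ χ : IrrCharacter X, ((p - 1 : ℕ) : ℝ) * (Nat.card H : ℝ) ^ 2 ≤
        ∑ χ : IrrCharacter X, ∑ k : Fin (p - 1), ∑ h,
          wt l h * ‖(χ : X → ℂ) (v ^ ((k : ℕ) + 1) * (h : X))‖ ^ 2 :=
      Finset.sum_le_sum fun χ _ => hlow χ
    rw [Finset.sum_const, Finset.card_univ, nsmul_eq_mul, ← Nat.card_eq_fintype_card] at h1
    refine h1.trans ?_
    rw [Finset.sum_comm]
    calc ∑ k : Fin (p - 1), ∑ χ : IrrCharacter X, ∑ h,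
          wt l h * ‖(χ : X → ℂ) (v ^ ((k : ℕ) + 1) * (h : X))‖ ^ 2
        ≤ ∑ _k : Fin (p - 1), ∑ _h : H, (Nat.card V : ℝ) * (Nat.card H : ℝ) := by
          refine Finset.sum_le_sum fun k _ => ?_
          rw [Finset.sum_comm]
          refine Finset.sum_le_sum fun h _ => ?_
          rw [← Finset.mul_sum]
          exact hup k h
      _ = _ := by
          simp only [Finset.sum_const, Finset.card_univ, nsmul_eq_mul, ← Nat.card_eq_fintype_card,
            Nat.card_fin]
          ring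
  rw [← Chars.card_irr_eq_card_classes]
  have hpos : (0 : ℝ) < ((p - 1 : ℕ) : ℝ) * (Nat.card H : ℝ) ^ 2 := by
    have h1 : 0 < p - 1 := by have := hp.two_le; omega
    have h2 : 0 < Nat.card H := Nat.card_pos
    have h1' : (0 : ℝ) < ((p - 1 : ℕ) : ℝ) := by exact_mod_cast h1
    positivity
  exact_mod_cast le_of_mul_le_mul_right htot hpos

end Group

end CfsgLib.CharsMore.KGV
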