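import Cfsg.Agent.Lib.CharsMore.CoherenceCentral
import Cfsg.Agent.Lib.Chars.Product
import Cfsg.Agent.Lib.Chars.Virtual
import Cfsg.Agent.Lib.Base.ThompsonFPF

/-!
# Feit's coherence theorem for Frobenius groups
-/

set_option linter.unusedSectionVars false
set_option linter.style.haveILetI false

namespace CfsgLib.CharsMore

open Cfsg
open scoped ComplexConjugate commutatorElement

section Decomposition

variable {Q : Type*} [Group Q] [Finite Q]

/-- A finite nilpotent group is the product of a normal `p`-subgroup and a normal `p'`-subgroup. -/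
lemma exists_direct_decomp (hQ : Group.IsNilpotent Q) (p : ℕ) [Fact p.Prime] :
    ∃ P R : Subgroup Q, P.Normal ∧ R.Normal ∧ IsPGroup p P ∧ ¬ p ∣ Nat.card R ∧
      Subgroup.IsComplement' P R := by
  haveI := hQ
  let P : Sylow p Q := default
  haveI hPn : (P : Subgroup Q).Normal :=
    Sylow.normal_of_normalizerCondition Group.normalizerCondition_of_isNilpotent P
  have hcop : Nat.Coprime (Nat.card (P : Subgroup Q)) (P : Subgroup Q).index := P.card_coprime_index
  obtain ⟨R, hR⟩ := Subgroup.exists_right_complement'_of_coprime hcop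
  have hRcard : Nat.card R = (P : Subgroup Q).index := hR.symm.index_eq_card.symm
  have hpR : ¬ p ∣ Nat.card R := hRcard ▸ P.not_dvd_index
  set C := Subgroup.centralizer ((P : Subgroup Q) : Set Q)
  have hRC : R ≤ C := by
    rw [← Subgroup.relIndex_eq_one]
    by_contra hne
    obtain ⟨q, hq, hqd⟩ := Nat.exists_prime_and_dvd hne
    haveI := Fact.mk hq
    have hqp : q ≠ p := by
      rintro rfl
      exact hpR (hqd.trans (Subgroup.index_dvd_card _))
    let S : Sylow q Q := default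
    haveI hSn : (S : Subgroup Q).Normal :=
      Sylow.normal_of_normalizerCondition Group.normalizerCondition_of_isNilpotent S
    have hdisj : Disjoint (S : Subgroup Q) (P : Subgroup Q) :=
      IsPGroup.disjoint_of_ne q p hqp _ _ S.2 P.2
    have hSC : (S : Subgroup Q) ≤ C := fun s hs => Subgroup.mem_centralizer_iff.2 fun x hx =>
      (Subgroup.commute_of_normal_of_disjoint _ _ hSn hPn hdisj s x hs hx).eq.symm
    exact S.not_dvd_index
      ((hqd.trans (Subgroup.relIndex_dvd_index_of_normal C R)).trans (Subgroup.index_dvd_of_le hSC))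
  refine ⟨P, R, hPn, ⟨fun r hr g => ?_⟩, P.2, hpR, hR⟩
  obtain ⟨⟨⟨x, hx⟩, ⟨y, hy⟩⟩, rfl, -⟩ := hR.existsUnique g
  show x * y * r * (x * y)⁻¹ ∈ R
  have hm : y * r * y⁻¹ ∈ R := R.mul_mem (R.mul_mem hy hr) (R.inv_mem hy)
  have hc := Subgroup.mem_centralizer_iff.1 (hRC hm) x hx
  rw [show x * y * r * (x * y)⁻¹ = (x * (y * r * y⁻¹)) * x⁻¹ by group, hc, mul_inv_cancel_right]
  exact hm

end Decomposition

section Bounds

variable {Q : Type*} [Group Q] [Fintype Q] [Fintype (IrrCharacter Q)]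

/-- In a `p`-group the square sum below the degree of `θ` is at least its square. -/
lemma sq_le_sum_lower {p : ℕ} (hp : p.Prime) (hQ : IsPGroup p Q) (θ : IrrCharacter Q)
    (hθ : 1 < charDegree (θ : Q → ℂ)) :
    charDegree (θ : Q → ℂ) ^ 2 ≤ ∑ ψ ∈ Finset.univ.filter (fun ψ : IrrCharacter Q =>
      charDegree (ψ : Q → ℂ) < charDegree (θ : Q → ℂ)), charDegree (ψ : Q → ℂ) ^ 2 := by
  classical
  have hidx := degree_sq_dvd_index hp hQ (Z := ⊥) bot_le θ
  rw [Subgroup.index_bot] at hidx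
  have hall := CharApps.sum_degree_sq_nat (G := Q)
  rw [← hall, ← Finset.sum_filter_add_sum_filter_not Finset.univ
    (fun ψ : IrrCharacter Q => charDegree (ψ : Q → ℂ) < charDegree (θ : Q → ℂ))] at hidx
  refine Nat.le_of_dvd (Finset.sum_pos (fun ψ _ => pow_pos (CharApps.deg_pos ψ) 2)
    ⟨CharApps.oneIrr Q, Finset.mem_filter.2 ⟨Finset.mem_univ _, ?_⟩⟩)
    ((Nat.dvd_add_left (Finset.dvd_sum fun ψ hψ => ?_)).1 hidx)
  · simpa [charDegree, CharApps.oneIrr] using hθ
  · obtain ⟨-, hge⟩ := Finset.mem_filter.1 hψ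
    obtain ⟨i, hi⟩ := degree_pPow hp hQ θ
    obtain ⟨j, hj⟩ := degree_pPow hp hQ ψ
    rw [hi, hj, not_lt] at hge
    rw [hi, hj]
    exact pow_dvd_pow_of_dvd (pow_dvd_pow p ((Nat.pow_le_pow_iff_right hp.one_lt).1 hge)) 2

/-- The square sum below a nonlinear degree is at least the index of the commutator subgroup. -/
lemma commutator_index_le_sum_lower (m : ℕ) (hm : 1 < m) :
    (commutator Q).index ≤ ∑ ψ ∈ Finset.univ.filter (fun ψ : IrrCharacter Q =>
      charDegree (ψ : Q → ℂ) < m), charDegree (ψ : Q → ℂ) ^ 2 := by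
  classical
  rw [← CharApps.sum_filter_degree_sq (commutator Q)]
  refine Finset.sum_le_sum_of_subset fun ψ hψ => ?_
  obtain ⟨-, hker⟩ := Finset.mem_filter.1 hψ
  refine Finset.mem_filter.2 ⟨Finset.mem_univ _, ?_⟩
  have h := degree_sq_le_index ψ.2 ⊤ fun d _ => norm_eq_of_commutes_mod_ker ψ.2 fun c =>
    CharApps.mem_charKer.1 (hker (by
      rw [← commutatorElement_def]
      exact Subgroup.commutator_mem_commutator (Subgroup.mem_top d) (Subgroup.mem_top c)))
  rw [Subgroup.index_top] at h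
  have := CharApps.deg_pos ψ
  nlinarith

end Bounds

variable {L : Type*} [Group L] [Fintype L] {K : Subgroup L} [hK : K.Normal]
  {G : Type*} [Group G] [Fintype G]

/-- The index of a kernel of Frobenius type divides its order minus one. -/
lemma index_dvd_card_sub_one (hC : ∀ k ∈ K, k ≠ 1 → Subgroup.centralizer ({k} : Set L) ≤ K) :
    K.index ∣ Nat.card K - 1 := by
  classical
  let _ : Fintype K := Fintype.ofFinite _
  haveI := Chars.irrFintype K
  set F := (inducedIrrAbove_finite K ⊥).toFinset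
  have hF : ∀ φ, φ ∈ F ↔ φ ∈ inducedIrrAbove K ⊥ := fun φ => Set.Finite.mem_toFinset _
  have hd := index_dvd_weight F (fun φ h => (hF φ).1 h)
    (fun φ h => inducedIrrAbove_isIrr hC φ ((hF φ).1 h))
  have e : Finset.univ.filter (fun θ : IrrCharacter K => indFun K (θ : K → ℂ) ∈ F) =
      Finset.univ.erase (CharApps.oneIrr K) := by
    ext θ
    simp only [Finset.mem_filter, Finset.mem_univ, true_and, Finset.mem_erase, and_true, hF,
      mem_inducedIrrAbove_bot K θ.2, ne_eq, Subtype.ext_iff]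
    rfl
  rw [e] at hd
  have hall := CharApps.sum_degree_sq_nat (G := K)
  rw [← Finset.add_sum_erase _ _ (Finset.mem_univ (CharApps.oneIrr K)),
    show charDegree (CharApps.oneIrr K : K → ℂ) = 1 by simp [charDegree, CharApps.oneIrr],
    one_pow] at hall
  rwa [← hall, Nat.add_sub_cancel_left]

lemma coprime_card_index (hC : ∀ k ∈ K, k ≠ 1 → Subgroup.centralizer ({k} : Set L) ≤ K) :
    Nat.Coprime (Nat.card K) K.index := by
  have h := index_dvd_card_sub_one hC
  refine Nat.Coprime.coprime_dvd_right h ?_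
  exact (Nat.coprime_self_sub_right Nat.card_pos).2 (Nat.coprime_one_right _)

/-- Such a kernel is nilpotent. -/
theorem isNilpotent_kernel (hC : ∀ k ∈ K, k ≠ 1 → Subgroup.centralizer ({k} : Set L) ≤ K)
    (hK2 : K ≠ ⊤) : Group.IsNilpotent K := by
  obtain ⟨q, hq, hqd⟩ := Nat.exists_prime_and_dvd (fun h => hK2 (Subgroup.index_eq_one.1 h))
  haveI := Fact.mk hq
  obtain ⟨x, hx⟩ := exists_prime_orderOf_dvd_card' (G := L) q (hqd.trans K.index_dvd_card)
  have hxK : x ∉ K := fun h => hq.one_lt.ne' (Nat.eq_one_of_dvd_coprimes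
    (coprime_card_index hC) (hx ▸ K.orderOf_dvd_natCard h) hqd)
  refine Base.isNilpotent_of_fixedPointFree (MulAut.conjNormal x : MulAut K) (fun k hk => ?_) hq ?_
  · refine Subtype.ext (eq_one_of_commute_outside hC hxK k.2 ?_)
    have := congrArg Subtype.val hk
    simpa using this
  · rw [← map_pow, ← hx, pow_orderOf_eq_one, map_one]

/-- The members of degree `[L:K]`: their number times `[L:K]` is `[K:K'] - 1`. -/
lemma card_linear_members (hC : ∀ k ∈ K, k ≠ 1 → Subgroup.centralizer ({k} : Set L) ≤ K) :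
    K.index * (inducedIrrAbove_finite K ⁅K, K⁆).toFinset.card = (⁅K, K⁆).relIndex K - 1 := by
  classical
  let _ : Fintype K := Fintype.ofFinite _
  haveI := Chars.irrFintype K
  set Y := (inducedIrrAbove_finite K ⁅K, K⁆).toFinset
  have hY : ∀ φ, φ ∈ Y ↔ φ ∈ inducedIrrAbove K ⁅K, K⁆ := fun φ => Set.Finite.mem_toFinset _
  have hd : ∀ φ ∈ Y, charDegree φ = K.index := by
    intro φ h
    obtain ⟨θ, hθ, -, hθk, rfl⟩ := (hY φ).1 h
    have hb := degree_sq_le_central_step (B := ⁅K, K⁆) (C := K) (D := K) le_rfl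
      (fun x hx y hy => by
        have := Subgroup.commutator_mem_commutator hx hy
        rwa [commutatorElement_def] at this) hθ hθk
    rw [Subgroup.relIndex_self, one_pow, one_mul] at hb
    have hpos := CharApps.deg_pos (⟨θ, hθ⟩ : IrrCharacter K)
    rw [charDegree_indFun K (Chars.isCharacter_of_irr hθ),
      show charDegree θ = 1 from le_antisymm (by nlinarith) hpos, mul_one]
  have hw := weight_nat Y (fun φ h => inducedIrrAbove_subset K _ ((hY φ).1 h))
    (fun φ h => inducedIrrAbove_isIrr hC φ (inducedIrrAbove_subset K _ ((hY φ).1 h)))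
  rw [Finset.sum_congr rfl (fun φ h => by rw [hd φ h]), Finset.sum_const, smul_eq_mul] at hw
  have hsum := sum_sq_above K ⁅K, K⁆
  have e : Finset.univ.filter (fun θ : IrrCharacter K =>
      (⁅K, K⁆.subgroupOf K ≤ CharApps.charKer θ) ∧ θ ≠ CharApps.oneIrr K) =
      Finset.univ.filter (fun θ : IrrCharacter K => indFun K (θ : K → ℂ) ∈ Y) := by
    ext θ
    simp only [Finset.mem_filter, Finset.mem_univ, true_and, hY,
      mem_inducedIrrAbove K (Subgroup.commutator_le_self K) θ.2, ne_eq, Subtype.ext_iff]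
    exact and_comm
  rw [e] at hsum
  have hpos : 0 < K.index := Nat.pos_of_ne_zero Subgroup.index_ne_zero_of_finite
  have hsum' : (⁅K, K⁆).relIndex K = (∑ θ ∈ Finset.univ.filter
      (fun θ : IrrCharacter K => indFun K (θ : K → ℂ) ∈ Y), charDegree (θ : K → ℂ) ^ 2) + 1 := by
    have h' : ((⁅K, K⁆).relIndex K : ℝ) = ((∑ θ ∈ Finset.univ.filter
      (fun θ : IrrCharacter K => indFun K (θ : K → ℂ) ∈ Y), charDegree (θ : K → ℂ) ^ 2 : ℕ) : ℝ) + 1 := by
      push_cast; linarith
    exact_mod_cast h'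
  rw [hsum', Nat.add_sub_cancel]
  apply Nat.eq_of_mul_eq_mul_left hpos
  rw [← hw]
  ring

/-- A family of at least two irreducible characters of equal degree is coherent. -/
theorem coherent_irr_equal_degree [DecidableEq (L → ℂ)] {Y : Finset (L → ℂ)}
    (hirr : ∀ η ∈ Y, IsIrrCharacter L η) (hdeg : ∀ η ∈ Y, ∀ η' ∈ Y, η 1 = η' 1) (h2 : 1 < Y.card)
    {τ : (L → ℂ) → (G → ℂ)} (hτ : IsLinearIsometryOn (zspanOn (↑Y : Set (L → ℂ)) {1}ᶜ) τ)
    (hτ1 : ∀ α ∈ zspanOn (↑Y : Set (L → ℂ)) {1}ᶜ, τ α 1 = 0) :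
    IsCoherent (↑Y : Set (L → ℂ)) {1}ᶜ τ := by
  classical
  obtain ⟨η₁, hη₁, η₂, hη₂, hne⟩ := Finset.one_lt_card.1 h2
  let e := Fintype.equivFin (Y : Finset (L → ℂ))
  have hsub : ∀ φ ∈ Y, φ ∈ zspan (↑Y : Set (L → ℂ)) := fun φ h => Submodule.subset_span h
  have hmem : ∀ φ ∈ Y, φ - η₁ ∈ zspanOn (↑Y : Set (L → ℂ)) {1}ᶜ := fun φ h =>
    mem_zspanOn_one.2 ⟨Submodule.sub_mem _ (hsub φ h) (hsub η₁ hη₁),
      by rw [Pi.sub_apply, hdeg φ h η₁ hη₁, sub_self]⟩
  obtain ⟨ε, hε, μ, hμ, hμi, hμe⟩ := Chars.coherent_family (Fintype.card Y) (e ⟨η₁, hη₁⟩)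
    (fun i => τ ((e.symm i : L → ℂ) - η₁))
    (by simp [isometry_map_zero (M := zspanOnSub _ _) hτ])
    (fun i => hτ.2.2.2 _ (hmem _ (e.symm i).2)) (fun i => hτ1 _ (hmem _ (e.symm i).2))
    (fun i j hi hj => by
      have hi' : (e.symm i : L → ℂ) ≠ η₁ := fun h => hi (by
        rw [← e.apply_symm_apply i]; exact congrArg e (Subtype.ext h))
      have hj' : (e.symm j : L → ℂ) ≠ η₁ := fun h => hj (by
        rw [← e.apply_symm_apply j]; exact congrArg e (Subtype.ext h))
      rw [hτ.2.2.1 _ (hmem _ (e.symm i).2) _ (hmem _ (e.symm j).2), Chars.inner_sub_left,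
        Chars.inner_sub_right, Chars.inner_sub_right,
        Chars.inner_irr_of_isIrr (hirr _ (e.symm i).2) (hirr _ (e.symm j).2),
        irr_orth (hirr _ (e.symm i).2) (hirr _ hη₁) hi',
        irr_orth (hirr _ hη₁) (hirr _ (e.symm j).2) hj'.symm, irr_inner_self (hirr _ hη₁)]
      by_cases h : i = j
      · subst h; rw [if_pos rfl, if_pos rfl]; norm_num
      · rw [if_neg h, if_neg fun h' => h (e.symm.injective (Subtype.ext h'))]; norm_num)
  have hε2 : ε * conj ε = 1 := by rcases hε with rfl | rfl <;> simp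
  let f : (L → ℂ) → (G → ℂ) := fun φ => if h : φ ∈ Y then ε • μ (e ⟨φ, h⟩) else 0
  have horth : ∀ φ ∈ Y, ∀ ψ ∈ Y, φ ≠ ψ → classInner φ ψ = 0 := fun φ h ψ h' hn =>
    irr_orth (hirr φ h) (hirr ψ h') hn
  have hn : ∀ φ ∈ Y, classInner φ φ ≠ 0 := fun φ h => by
    rw [irr_inner_self (hirr φ h)]; exact one_ne_zero
  have hiso := isometry_of_values (S := Y) f horth hn (fun φ h => by
    simp only [f, dif_pos h]
    rcases hε with rfl | rfl
    · rw [one_smul]; exact genChar_of_irr (hμ _)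
    · rw [neg_smul, one_smul]; exact (genChar G).neg_mem (genChar_of_irr (hμ _)))
    (fun φ h ψ h' => by
      simp only [f, dif_pos h, dif_pos h']
      rw [Chars.inner_smul_left, Chars.inner_smul_right, ← mul_assoc, hε2, one_mul,
        Chars.inner_irr_of_isIrr (hμ _) (hμ _), Chars.inner_irr_of_isIrr (hirr φ h) (hirr ψ h')]
      exact if_congr ⟨fun he => congrArg Subtype.val (e.injective (hμi he)),
        fun he => by subst he; rfl⟩ rfl rfl)
  refine ⟨⟨η₂ - η₁, hmem η₂ hη₂, sub_ne_zero.2 hne.symm⟩, extMap Y f, hiso,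
    agree_of_pivot hτ hiso hη₁ (Chars.irr_degree_ne_zero (hirr _ hη₁)) fun φ hφ => ⟨1, by
      rw [hdeg φ hφ η₁ hη₁, Int.cast_one, one_mul], ?_⟩⟩
  rw [Int.cast_one, one_smul, one_smul, extMap_of_mem f horth hn hφ,
    extMap_of_mem f horth hn hη₁]
  simp only [f, dif_pos (show φ ∈ Y from hφ), dif_pos hη₁]
  have := hμe (e ⟨φ, hφ⟩)
  rw [e.symm_apply_apply] at this
  rw [this, smul_sub]

/-- A nonprincipal linear character trivial on a proper normal subgroup. -/
lemma exists_linear_quot {Q : Type*} [Group Q] [Finite Q] (hQ : Group.IsSolvable Q)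
    {P : Subgroup Q} [P.Normal] (hP : P ≠ ⊤) :
    ∃ θ : IrrCharacter Q, (θ : Q → ℂ) ≠ (fun _ => 1) ∧ P ≤ CharApps.charKer θ ∧
      charDegree (θ : Q → ℂ) = 1 := by
  haveI : Nontrivial (Q ⧸ P) := QuotientGroup.nontrivial_iff.2 hP
  haveI : Group.IsSolvable (Q ⧸ P) := by
    haveI := hQ
    exact Group.isSolvable_of_surjective (QuotientGroup.mk'_surjective P)
  obtain ⟨lam, hlam⟩ := Chars.exists_nontrivial_hom (G := Q ⧸ P)
    (Group.IsSolvable.commutator_lt_top_of_nontrivial _).ne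
  refine ⟨⟨fun g => ((lam.comp (QuotientGroup.mk' P) g : ℂˣ) : ℂ), Chars.isIrrCharacter_linear _⟩,
    fun e => hlam (MonoidHom.ext fun q => Units.ext ?_), fun a ha => ?_, by simp [charDegree]⟩
  · obtain ⟨g, rfl⟩ := QuotientGroup.mk_surjective q
    exact congrFun e g
  · rw [CharApps.mem_charKer]
    simp [(QuotientGroup.eq_one_iff a).2 ha]

/-- A kernel of order not a prime power has two members of minimal degree, and the square sums
below each nonlinear degree dominate. -/
theorem feit_nonPrimePow [Fintype K] [Fintype (IrrCharacter K)]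
    (hC : ∀ k ∈ K, k ≠ 1 → Subgroup.centralizer ({k} : Set L) ≤ K) (hnil : Group.IsNilpotent K)
    (hnp : ¬ ∃ p m : ℕ, p.Prime ∧ Nat.card K = p ^ m) :
    1 < (inducedIrrAbove_finite K ⁅K, K⁆).toFinset.card ∧
    ∀ θ : IrrCharacter K, 1 < charDegree (θ : K → ℂ) →
      2 * K.index * charDegree (θ : K → ℂ) + 1 < ∑ ψ ∈ Finset.univ.filter (fun ψ : IrrCharacter K =>
        charDegree (ψ : K → ℂ) < charDegree (θ : K → ℂ)), charDegree (ψ : K → ℂ) ^ 2 := by
  classical
  haveI := hnil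
  have hsolv : Group.IsSolvable K := inferInstance
  have hK1 : Nat.card K ≠ 1 := fun h => hnp ⟨2, 0, Nat.prime_two, by rw [h, pow_zero]⟩
  -- conjugation invariance of the kernels
  have hinv : ∀ (A : Subgroup K) [A.Normal], Nat.Coprime (Nat.card A) A.index →
      ∀ (g : L) (x : K), x ∈ A → conjBy K g x ∈ A := by
    intro A _ hA g x hx
    have hpow : (conjBy K g x) ^ Nat.card A = 1 := by
      rw [← map_pow, show x ^ Nat.card A = 1 from
        orderOf_dvd_iff_pow_eq_one.1 (A.orderOf_dvd_natCard hx), map_one]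
    rw [← QuotientGroup.eq_one_iff, ← orderOf_eq_one_iff]
    refine Nat.eq_one_of_dvd_coprimes hA (orderOf_dvd_of_pow_eq_one ?_) ?_
    · rw [← QuotientGroup.mk_pow, hpow, QuotientGroup.mk_one]
    · rw [Subgroup.index_eq_card]; exact orderOf_dvd_natCard _
  refine ⟨?_, fun θ hθ => ?_⟩
  · obtain ⟨p, hp, hpd⟩ := Nat.exists_prime_and_dvd hK1
    haveI := Fact.mk hp
    obtain ⟨P, R, hPn, hRn, hPp, hpR, hPR⟩ := exists_direct_decomp hnil p
    haveI := hPn
    haveI := hRn
    obtain ⟨kp, hkp⟩ := IsPGroup.iff_card.1 hPp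
    have hPtop : P ≠ ⊤ := fun h => hnp ⟨p, kp, hp, by rw [← hkp, h, Subgroup.card_top]⟩
    have hRtop : R ≠ ⊤ := fun h => hpR (by rwa [h, Subgroup.card_top])
    have hcopP : Nat.Coprime (Nat.card P) P.index := by
      rw [hkp, hPR.symm.index_eq_card]
      exact Nat.Coprime.pow_left _ (hp.coprime_iff_not_dvd.2 hpR)
    obtain ⟨μ₀, hμ1, hμP, hμd⟩ := exists_linear_quot hsolv hPtop
    obtain ⟨ν, hν1, hνR, hνd⟩ := exists_linear_quot hsolv hRtop
    have hmem : ∀ χ : IrrCharacter K, (χ : K → ℂ) ≠ (fun _ => 1) → charDegree (χ : K → ℂ) = 1 →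
        indFun K (χ : K → ℂ) ∈ (inducedIrrAbove_finite K ⁅K, K⁆).toFinset := by
      intro χ h1 hd
      rw [Set.Finite.mem_toFinset, mem_inducedIrrAbove K (Subgroup.commutator_le_self K) χ.2]
      refine ⟨h1, fun a ha => ?_⟩
      obtain ⟨lam, hlam⟩ := Chars.exists_hom_of_degree_one (Chars.isCharacter_of_irr χ.2)
        (by rw [CharApps.deg_eq χ, hd, Nat.cast_one])
      have hac : a ∈ commutator K := by
        rw [← Subgroup.map_subtype_commutator] at ha
        obtain ⟨b, hb, e⟩ := ha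
        rwa [show a = b from Subtype.ext e.symm]
      have h2 : lam a = 1 := (Abelianization.commutator_subset_ker lam) hac
      simp [hlam, h2]
    refine Finset.one_lt_card.2 ⟨_, hmem μ₀ hμ1 hμd, _, hmem ν hν1 hνd, fun e => hν1 ?_⟩
    obtain ⟨g, hg⟩ := (mem_orbitFn K).1 ((indFun_eq_iff K μ₀.2 ν.2).1 e.symm)
    have hνP : P ≤ CharApps.charKer ν := fun x hx => by
      rw [CharApps.mem_charKer, ← hg]
      show (μ₀ : K → ℂ) (conjBy K g x) = (μ₀ : K → ℂ) (conjBy K g 1)
      rw [map_one]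
      exact hμP (hinv P hcopP g x hx)
    have htop : (⊤ : Subgroup K) ≤ CharApps.charKer ν := hPR.sup_eq_top ▸ sup_le hνP hνR
    funext x
    rw [CharApps.mem_charKer.1 (htop (Subgroup.mem_top x)), CharApps.deg_eq ν, hνd, Nat.cast_one]
  · obtain ⟨p, hp, hpd⟩ := Nat.exists_prime_and_dvd hθ.ne'
    haveI := Fact.mk hp
    obtain ⟨P, R, hPn, hRn, hPp, hpR, hPR⟩ := exists_direct_decomp hnil p
    haveI := hPn
    haveI := hRn
    let _ : Fintype (K ⧸ R) := Fintype.ofFinite _
    let _ : Fintype (K ⧸ P) := Fintype.ofFinite _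
    haveI := Chars.irrFintype (K ⧸ R)
    haveI := Chars.irrFintype (K ⧸ P)
    obtain ⟨kp, hkp⟩ := IsPGroup.iff_card.1 hPp
    have hcP : Nat.card (K ⧸ R) = Nat.card P := by
      rw [← Subgroup.index_eq_card]; exact hPR.index_eq_card
    have hcR : Nat.card (K ⧸ P) = Nat.card R := by
      rw [← Subgroup.index_eq_card]; exact hPR.symm.index_eq_card
    have hcopP : Nat.Coprime (Nat.card P) P.index := by
      rw [hkp, hPR.symm.index_eq_card]
      exact Nat.Coprime.pow_left _ (hp.coprime_iff_not_dvd.2 hpR)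
    let π : K →* (K ⧸ R) × (K ⧸ P) := (QuotientGroup.mk' R).prod (QuotientGroup.mk' P)
    have hπi : Function.Injective π := by
      rw [← MonoidHom.ker_eq_bot_iff, MonoidHom.ker_prod, QuotientGroup.ker_mk',
        QuotientGroup.ker_mk', inf_comm]
      exact hPR.disjoint.eq_bot
    have hπb : Function.Bijective π := hπi.bijective_of_nat_card_le (by
      rw [Nat.card_prod, hcP, hcR, hPR.card_mul_card])
    let π' := MulEquiv.ofBijective π hπb
    obtain ⟨φ, ψ, hφ, hψ, hφψ⟩ := (Chars.isIrrCharacter_prod_iff _).1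
      (Chars.isIrrCharacter_comp π'.symm.toMonoidHom π'.symm.surjective θ.2)
    have hab : charDegree (θ : K → ℂ) = charDegree φ * charDegree ψ := by
      have h1 := congrFun hφψ 1
      simp only [map_one, Prod.fst_one, Prod.snd_one] at h1
      have h2 : ((charDegree (θ : K → ℂ) : ℕ) : ℂ) = ((charDegree φ * charDegree ψ : ℕ) : ℂ) := by
        rw [Nat.cast_mul, ← CharApps.deg_eq θ, h1,
          CharApps.deg_eq_of_isChar (Chars.isCharacter_of_irr hφ),
          CharApps.deg_eq_of_isChar (Chars.isCharacter_of_irr hψ)]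
      exact_mod_cast h2
    set a := charDegree φ
    set b := charDegree ψ
    have hb0 : 0 < b := CharApps.deg_pos (⟨ψ, hψ⟩ : IrrCharacter _)
    have ha2 : 1 < a := by
      by_contra hle
      have ha1 : a = 1 := by
        have := CharApps.deg_pos (⟨φ, hφ⟩ : IrrCharacter _)
        change 0 < a at this
        omega
      obtain ⟨d, -, hd, hdvd⟩ := Chars.irr_degree_dvd_card hψ
      rw [hab, ha1, one_mul] at hpd
      refine hpR (hcR ▸ (hpd.trans ?_))
      rwa [show b = d by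
        show charDegree ψ = d
        rw [charDegree, hd, Complex.natCast_re, Nat.floor_natCast]]
    -- the two factor sums
    set A := Finset.univ.filter (fun φ' : IrrCharacter (K ⧸ R) => charDegree (φ' : K ⧸ R → ℂ) < a)
    set B := Finset.univ.filter (fun ψ' : IrrCharacter (K ⧸ P) => charDegree (ψ' : K ⧸ P → ℂ) ≤ b)
    have hA : a ^ 2 ≤ ∑ φ' ∈ A, charDegree (φ' : K ⧸ R → ℂ) ^ 2 :=
      sq_le_sum_lower hp (IsPGroup.iff_card.2 ⟨kp, hcP.trans hkp⟩) ⟨φ, hφ⟩ ha2
    have hPtop : P ≠ ⊤ := fun h => hnp ⟨p, kp, hp, by rw [← hkp, h, Subgroup.card_top]⟩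
    obtain ⟨ψ₁, hψ₁1, hψ₁d⟩ : ∃ ψ₁ : IrrCharacter (K ⧸ P),
        (ψ₁ : K ⧸ P → ℂ) ≠ (fun _ => 1) ∧ charDegree (ψ₁ : K ⧸ P → ℂ) = b := by
      by_cases h : ψ = fun _ => 1
      · haveI : Nontrivial (K ⧸ P) := QuotientGroup.nontrivial_iff.2 hPtop
        obtain ⟨μ₀, h1, -, h3⟩ := exists_linear_quot (Q := K ⧸ P)
          (Group.isSolvable_of_surjective (QuotientGroup.mk'_surjective P)) (P := ⊥) bot_ne_top
        refine ⟨μ₀, h1, h3.trans ?_⟩
        show 1 = charDegree ψ
        rw [h, charDegree, Complex.one_re, Nat.floor_one]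
      · exact ⟨⟨ψ, hψ⟩, h, rfl⟩
    let lift : IrrCharacter (K ⧸ P) → (K → ℂ) := fun χ g => (χ : K ⧸ P → ℂ) g
    have hlift : ∀ χ, IsIrrCharacter K (lift χ) := fun χ => Chars.isIrrCharacter_inflate P χ.2
    have hlift1 : lift ψ₁ ≠ fun _ => 1 := fun e => hψ₁1 (Chars.inflate_injective P
      (ψ' := fun _ => 1) e)
    set O := Finset.univ.filter (fun χ : IrrCharacter (K ⧸ P) => lift χ ∈ orbitFn K (lift ψ₁))
    have hO : O.card = K.index := by
      have hcard : (orbitFn K (lift ψ₁)).card = K.index := by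
        rw [card_orbitFn, inertia_eq_of_centralizer hC (hlift ψ₁) hlift1]
      rw [← hcard]
      refine Finset.card_bij (fun χ _ => lift χ) (fun χ h => (Finset.mem_filter.1 h).2)
        (fun χ _ χ' _ h => Subtype.ext (Chars.inflate_injective P h)) fun ρ hρ => ?_
      obtain ⟨g, rfl⟩ := (mem_orbitFn K).1 hρ
      obtain ⟨χ, hχ, e⟩ := Chars.exists_deflate_irr P (orbitFn_irr K (hlift ψ₁) hρ) fun x hx => by
        show lift ψ₁ (conjBy K g x) = lift ψ₁ (conjBy K g 1)
        rw [map_one]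
        show (ψ₁ : K ⧸ P → ℂ) (QuotientGroup.mk (conjBy K g x)) =
          (ψ₁ : K ⧸ P → ℂ) (QuotientGroup.mk 1)
        rw [(QuotientGroup.eq_one_iff _).2 (hinv P hcopP g x hx), QuotientGroup.mk_one]
      exact ⟨⟨χ, hχ⟩, Finset.mem_filter.2 ⟨Finset.mem_univ _, by
        rw [show lift ⟨χ, hχ⟩ = conjFn K g (lift ψ₁) from e.symm]; exact hρ⟩, e.symm⟩
    have hOd : ∀ χ ∈ O, charDegree (χ : K ⧸ P → ℂ) = b := by
      intro χ hχ
      obtain ⟨g, hg⟩ := (mem_orbitFn K).1 (Finset.mem_filter.1 hχ).2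
      have h1 := congrFun hg 1
      change lift ψ₁ (conjBy K g 1) = lift χ 1 at h1
      rw [map_one] at h1
      rw [← hψ₁d]
      exact congrArg (fun z : ℂ => ⌊z.re⌋₊) h1.symm
    have h1O : CharApps.oneIrr (K ⧸ P) ∉ O := fun h => by
      obtain ⟨g, hg⟩ := (mem_orbitFn K).1 (Finset.mem_filter.1 h).2
      refine hlift1 (funext fun x => ?_)
      obtain ⟨y, rfl⟩ := conjBy_surjective K g x
      exact congrFun hg y
    have hB : 1 + K.index * b ^ 2 ≤ ∑ ψ' ∈ B, charDegree (ψ' : K ⧸ P → ℂ) ^ 2 := by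
      refine le_trans (le_of_eq ?_)
        (Finset.sum_le_sum_of_subset (s := insert (CharApps.oneIrr (K ⧸ P)) O) fun χ hχ => ?_)
      · rw [Finset.sum_insert h1O, Finset.sum_congr rfl (fun χ hχ => by rw [hOd χ hχ]),
          Finset.sum_const, hO, smul_eq_mul,
          show charDegree (CharApps.oneIrr (K ⧸ P) : K ⧸ P → ℂ) = 1 by
            simp [charDegree, CharApps.oneIrr], one_pow]
      · refine Finset.mem_filter.2 ⟨Finset.mem_univ _, ?_⟩
        rcases Finset.mem_insert.1 hχ with rfl | h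
        · rw [show charDegree (CharApps.oneIrr (K ⧸ P) : K ⧸ P → ℂ) = 1 by
            simp [charDegree, CharApps.oneIrr]]
          exact hb0
        · exact (hOd χ h).le
    -- products lie below the degree of `θ`
    let F : IrrCharacter (K ⧸ R) × IrrCharacter (K ⧸ P) → IrrCharacter K := fun q =>
      ⟨fun x => (q.1 : K ⧸ R → ℂ) (π x).1 * (q.2 : K ⧸ P → ℂ) (π x).2,
        Chars.isIrrCharacter_comp π hπb.2 (Chars.isIrrCharacter_prod q.1.2 q.2.2)⟩
    have hFinj : Function.Injective F := by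
      rintro ⟨c, d⟩ ⟨c', d'⟩ h
      have hfun : (fun y : (K ⧸ R) × (K ⧸ P) => (c : K ⧸ R → ℂ) y.1 * (d : K ⧸ P → ℂ) y.2) =
          fun y => (c' : K ⧸ R → ℂ) y.1 * (d' : K ⧸ P → ℂ) y.2 := funext fun y => by
        obtain ⟨x, rfl⟩ := hπb.2 y
        exact congrFun (congrArg Subtype.val h) x
      have h1 := Chars.inner_prod (c : K ⧸ R → ℂ) c' (d : K ⧸ P → ℂ) d'
      rw [hfun, Chars.inner_irr_self ⟨_, Chars.isIrrCharacter_prod c'.2 d'.2⟩, Chars.inner_irr,
        Chars.inner_irr] at h1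
      split at h1
      · split at h1
        · subst_vars; rfl
        · simp at h1
      · simp at h1
    have hFd : ∀ q, charDegree (F q : K → ℂ) =
        charDegree (q.1 : K ⧸ R → ℂ) * charDegree (q.2 : K ⧸ P → ℂ) := fun q => by
      show ⌊((q.1 : K ⧸ R → ℂ) (π 1).1 * (q.2 : K ⧸ P → ℂ) (π 1).2).re⌋₊ = _
      rw [map_one, Prod.fst_one, Prod.snd_one, CharApps.deg_eq q.1, CharApps.deg_eq q.2,
        ← Nat.cast_mul, Complex.natCast_re, Nat.floor_natCast]
    have hT : (∑ φ' ∈ A, charDegree (φ' : K ⧸ R → ℂ) ^ 2) * (∑ ψ' ∈ B, charDegree (ψ' : K ⧸ P → ℂ) ^ 2) ≤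
        ∑ χ ∈ Finset.univ.filter (fun χ : IrrCharacter K =>
          charDegree (χ : K → ℂ) < charDegree (θ : K → ℂ)), charDegree (χ : K → ℂ) ^ 2 := by
      rw [Finset.sum_mul_sum, ← Finset.sum_product',
        Finset.sum_congr rfl (fun q _ => show _ = charDegree (F q : K → ℂ) ^ 2 by
          rw [hFd, mul_pow]), ← Finset.sum_image (f := fun χ : IrrCharacter K =>
          charDegree (χ : K → ℂ) ^ 2) hFinj.injOn]
      refine Finset.sum_le_sum_of_subset fun χ hχ => ?_
      obtain ⟨q, hq, rfl⟩ := Finset.mem_image.1 hχ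
      obtain ⟨h1, h2⟩ := Finset.mem_product.1 hq
      refine Finset.mem_filter.2 ⟨Finset.mem_univ _, ?_⟩
      rw [hFd, hab]
      exact Nat.mul_lt_mul_of_lt_of_le (Finset.mem_filter.1 h1).2 (Finset.mem_filter.1 h2).2 hb0
    refine lt_of_lt_of_le ?_ ((Nat.mul_le_mul hA hB).trans hT)
    rw [hab]
    have hab2 : 2 ≤ a * b := le_trans ha2 (Nat.le_mul_of_pos_right a hb0)
    have h4 : K.index * (2 * (a * b)) ≤ K.index * ((a * b) * (a * b)) :=
      Nat.mul_le_mul_left _ (Nat.mul_le_mul_right _ hab2)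
    nlinarith

/-- Feit's theorem. -/
theorem feit_coherence (hK1 : K ≠ ⊥) (hK2 : K ≠ ⊤)
    (hC : ∀ k ∈ K, k ≠ 1 → Subgroup.centralizer ({k} : Set L) ≤ K)
    (hne : Nat.card K ≠ K.index + 1) {τ : (L → ℂ) → (G → ℂ)}
    (hτ : IsLinearIsometryOn (zspanOn (inducedIrrAbove K ⊥) {1}ᶜ) τ)
    (hτ1 : ∀ α ∈ zspanOn (inducedIrrAbove K ⊥) {1}ᶜ, τ α 1 = 0) :
    IsCoherent (inducedIrrAbove K ⊥) {1}ᶜ τ ∨ ∃ p : ℕ, p.Prime ∧ (∃ m : ℕ, Nat.card K = p ^ m) ∧
      ⁅K, K⁆ ≠ ⊥ ∧ (⁅K, K⁆).relIndex K ≤ 4 * K.index ^ 2 + 1 := by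
  classical
  let _ : Fintype K := Fintype.ofFinite _
  haveI := Chars.irrFintype K
  have hnil := isNilpotent_kernel hC hK2
  haveI := hnil
  have hsolv : Group.IsSolvable K := inferInstance
  by_cases hexc : ∃ p : ℕ, p.Prime ∧ (∃ m : ℕ, Nat.card K = p ^ m) ∧
      ⁅K, K⁆ ≠ ⊥ ∧ (⁅K, K⁆).relIndex K ≤ 4 * K.index ^ 2 + 1
  · exact Or.inr hexc
  left
  set e := K.index with he
  have he2 : 2 ≤ e := by
    have h0 := Subgroup.index_ne_zero_of_finite (H := K)
    have h1 : e ≠ 1 := fun h => hK2 (Subgroup.index_eq_one.1 h)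
    omega
  set Y := (inducedIrrAbove_finite K ⁅K, K⁆).toFinset with hYdef
  have hY : ∀ φ, φ ∈ Y ↔ φ ∈ inducedIrrAbove K ⁅K, K⁆ := fun φ => Set.Finite.mem_toFinset _
  have hcardY : e * Y.card = (⁅K, K⁆).relIndex K - 1 := card_linear_members hC
  have hbound : 1 < Y.card ∧ ∀ θ : IrrCharacter K, 1 < charDegree (θ : K → ℂ) →
      2 * e * charDegree (θ : K → ℂ) + 1 < ∑ ψ ∈ Finset.univ.filter (fun ψ : IrrCharacter K =>
        charDegree (ψ : K → ℂ) < charDegree (θ : K → ℂ)), charDegree (ψ : K → ℂ) ^ 2 := by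
    by_cases hab : ⁅K, K⁆ = ⊥
    · refine ⟨?_, fun θ hθ => ?_⟩
      · by_contra hle
        rw [hab, Subgroup.relIndex_bot_left] at hcardY
        have hK0 : 1 < Nat.card K := K.one_lt_card_iff_ne_bot.2 hK1
        have hYp : 0 < Y.card := Nat.pos_of_ne_zero fun h => by rw [h, mul_zero] at hcardY; omega
        rw [show Y.card = 1 by omega, mul_one] at hcardY
        omega
      · have h := degree_sq_le_index θ.2 ⊤ fun d _ => norm_eq_of_commutes_mod_ker θ.2 fun c => by
          have h1 : ((d * c * d⁻¹ * c⁻¹ : K) : L) ∈ ⁅K, K⁆ := by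
            have := Subgroup.commutator_mem_commutator d.2 c.2
            rwa [commutatorElement_def] at this
          rw [hab, Subgroup.mem_bot] at h1
          rw [show d * c * d⁻¹ * c⁻¹ = 1 from Subtype.ext h1]
        rw [Subgroup.index_top] at h
        nlinarith
    by_cases hpp : ∃ p m : ℕ, p.Prime ∧ Nat.card K = p ^ m
    · obtain ⟨p, m, hp, hm⟩ := hpp
      have hbig : 4 * e ^ 2 + 1 < (⁅K, K⁆).relIndex K :=
        Nat.lt_of_not_le fun h => hexc ⟨p, hp, ⟨m, hm⟩, hab, h⟩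
      haveI := Fact.mk hp
      have hKp : IsPGroup p K := IsPGroup.iff_card.2 ⟨m, hm⟩
      have hcomm : (⁅K, K⁆).relIndex K = (commutator K).index := by
        rw [Subgroup.relIndex, ← Subgroup.map_subtype_commutator, Subgroup.subgroupOf,
          Subgroup.comap_map_eq_self_of_injective K.subtype_injective]
      refine ⟨?_, fun θ hθ => ?_⟩
      · by_contra hle
        have : e * Y.card ≤ e * 1 := Nat.mul_le_mul_left e (by omega)
        have : e ≤ 4 * e ^ 2 := by nlinarith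
        omega
      · have h1 := sq_le_sum_lower hp hKp θ hθ
        have h2 := commutator_index_le_sum_lower (Q := K) (charDegree (θ : K → ℂ)) hθ
        rw [← hcomm] at h2
        set d := charDegree (θ : K → ℂ)
        rcases Nat.lt_or_ge (2 * e) d with h | h
        · have h3 : (2 * e + 1) * d ≤ d ^ 2 := by rw [sq]; exact Nat.mul_le_mul_right _ h
          nlinarith
        · have h3 : 2 * e * d ≤ 2 * e * (2 * e) := Nat.mul_le_mul_left _ h
          nlinarith
    · exact feit_nonPrimePow hC hnil hpp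
  set F := (inducedIrrAbove_finite K ⊥).toFinset with hFdef
  have hF : ∀ φ, φ ∈ F ↔ φ ∈ inducedIrrAbove K ⊥ := fun φ => Set.Finite.mem_toFinset _
  have hFc : (↑F : Set (L → ℂ)) = inducedIrrAbove K ⊥ := Set.Finite.coe_toFinset _
  have hsub : Y ⊆ F := fun φ h => (hF φ).2 (inducedIrrAbove_subset K _ ((hY φ).1 h))
  have hirr : ∀ φ ∈ F, IsIrrCharacter L φ := fun φ h => inducedIrrAbove_isIrr hC φ ((hF φ).1 h)
  have hout : ∀ θ : IrrCharacter K, (θ : K → ℂ) ≠ (fun _ => 1) →
      (charDegree (indFun K (θ : K → ℂ)) = e * charDegree (θ : K → ℂ)) ∧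
      (indFun K (θ : K → ℂ) ∉ Y → 1 < charDegree (θ : K → ℂ)) := by
    intro θ h1
    refine ⟨charDegree_indFun K (Chars.isCharacter_of_irr θ.2), fun hY' => ?_⟩
    have hpos := CharApps.deg_pos θ
    by_contra hle
    obtain ⟨lam, hlam⟩ := Chars.exists_hom_of_degree_one (Chars.isCharacter_of_irr θ.2)
      (by rw [CharApps.deg_eq θ, show charDegree (θ : K → ℂ) = 1 by omega, Nat.cast_one])
    refine hY' ((hY _).2 ((mem_inducedIrrAbove K (Subgroup.commutator_le_self K) θ.2).2
      ⟨h1, fun a ha => ?_⟩))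
    have hac : a ∈ commutator K := by
      rw [← Subgroup.map_subtype_commutator] at ha
      obtain ⟨b, hb, e⟩ := ha
      rwa [show a = b from Subtype.ext e.symm]
    have h2 : lam a = 1 := (Abelianization.commutator_subset_ker lam) hac
    simp [hlam, h2]
  have hYd : ∀ φ ∈ Y, charDegree φ = e := by
    intro φ h
    obtain ⟨θ, hθ, h1, hθk, rfl⟩ := (hY φ).1 h
    rw [charDegree_indFun K (Chars.isCharacter_of_irr hθ)]
    have hb := degree_sq_le_central_step (B := ⁅K, K⁆) (C := K) (D := K) le_rfl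
      (fun x hx y hy => by
        have := Subgroup.commutator_mem_commutator hx hy
        rwa [commutatorElement_def] at this) hθ hθk
    rw [Subgroup.relIndex_self, one_pow, one_mul] at hb
    have hpos := CharApps.deg_pos (⟨θ, hθ⟩ : IrrCharacter K)
    rw [show charDegree θ = 1 from le_antisymm (by nlinarith) hpos, mul_one]
  obtain ⟨η₁, hη₁⟩ := Finset.card_pos.1 (lt_trans Nat.zero_lt_one hbound.1)
  rw [← hFc]
  refine coherent_by_degree F Y hsub hirr (by rw [hFc]; exact hτ) (by rw [hFc]; exact hτ1) ?_ ?_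
  · refine coherent_irr_equal_degree (fun η h => hirr η (hsub h)) (fun η h η' h' => ?_) hbound.1
      (isometry_mono (zspanOn_mono (fun φ h => (hF φ).1 (hsub h)) _) hτ)
      (fun α h => hτ1 α (zspanOn_mono (fun φ h => (hF φ).1 (hsub h)) _ h))
    rw [CharApps.deg_eq_of_isChar (Chars.isCharacter_of_irr (hirr η (hsub h))),
      CharApps.deg_eq_of_isChar (Chars.isCharacter_of_irr (hirr η' (hsub h'))), hYd η h, hYd η' h']
  intro χ hχ hχY
  obtain ⟨θ, hθ, h1, -, rfl⟩ := (hF χ).1 hχ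
  obtain ⟨hd, hgt⟩ := hout ⟨θ, hθ⟩ h1
  have hθgt : 1 < charDegree θ := hgt hχY
  refine ⟨η₁, hη₁, by rw [hYd η₁ hη₁, hd]; exact dvd_mul_right _ _, ?_⟩
  rw [hYd η₁ hη₁, hd]
  set S₁ := F.filter (fun ξ => ξ ∈ Y ∨ charDegree ξ < e * charDegree θ)
  rw [weight_nat S₁ (fun φ h => (hF φ).1 (Finset.mem_filter.1 h).1)
    (fun φ h => hirr φ (Finset.mem_filter.1 h).1)]
  have hset : Finset.univ.filter (fun ψ : IrrCharacter K => indFun K (ψ : K → ℂ) ∈ S₁) =
      (Finset.univ.filter (fun ψ : IrrCharacter K =>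
        charDegree (ψ : K → ℂ) < charDegree θ)).erase (CharApps.oneIrr K) := by
    ext ψ
    simp only [S₁, Finset.mem_filter, Finset.mem_univ, true_and, Finset.mem_erase, hF,
      mem_inducedIrrAbove_bot K ψ.2, ne_eq, Subtype.ext_iff]
    refine and_congr_right fun h1' => ⟨fun h => ?_, fun h => Or.inr ?_⟩
    · rcases h with h | h
      · obtain ⟨hd', -⟩ := hout ψ h1'
        rw [hYd _ h] at hd'
        have : charDegree (ψ : K → ℂ) = 1 := by
          have h0 : 0 < e := by omega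
          exact (Nat.mul_eq_left h0.ne').1 hd'.symm
        omega
      · rw [(hout ψ h1').1] at h
        exact Nat.lt_of_mul_lt_mul_left h
    · rw [(hout ψ h1').1]
      exact Nat.mul_lt_mul_of_pos_left h (by omega)
  rw [hset]
  have h := hbound.2 ⟨θ, hθ⟩ hθgt
  change 2 * e * charDegree θ + 1 < ∑ ψ ∈ Finset.univ.filter (fun ψ : IrrCharacter K =>
    charDegree (ψ : K → ℂ) < charDegree θ), charDegree (ψ : K → ℂ) ^ 2 at h
  rw [← Finset.add_sum_erase _ _ (Finset.mem_filter.2 ⟨Finset.mem_univ (CharApps.oneIrr K),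
      (show charDegree (CharApps.oneIrr K : K → ℂ) < charDegree θ by
        simpa [charDegree, CharApps.oneIrr] using hθgt)⟩),
    show charDegree (CharApps.oneIrr K : K → ℂ) = 1 by simp [charDegree, CharApps.oneIrr],
    one_pow] at h
  calc 2 * e * (e * charDegree θ) = e * (2 * e * charDegree θ) := by ring
    _ < e * _ := Nat.mul_lt_mul_of_pos_left (by omega) (by omega)

end CfsgLib.CharsMore
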