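import Cfsg.Agent.Lib.CharsMore.CoherenceDescent
import Cfsg.Agent.Lib.CharApps.NormalSum
import Cfsg.Agent.Lib.Chars.Degree
import Cfsg.Agent.Lib.Chars.Virtual
import Mathlib

/-!
# Degree bounds from an abelian subgroup isolated in centralisers
-/

set_option linter.style.haveILetI false
set_option linter.unusedSectionVars false

namespace CfsgLib.CharsMore

open Cfsg
open scoped ComplexConjugate

variable {G : Type*} [Group G] [Fintype G]

lemma central_value {χ : G → ℂ} (hχ : IsIrrCharacter G χ) {z : G} (hz : z ∈ Subgroup.center G) :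
    (∀ x, χ (z * x) = χ z / χ 1 * χ x) ∧ ‖χ z‖ = (charDegree χ : ℝ) := by
  refine ⟨?_, norm_eq_of_commutes_mod_ker hχ (d := z) fun c => by
    rw [← Subgroup.mem_center_iff.1 hz c]; group⟩
  obtain ⟨m, ρ, hρ, hρc⟩ := hχ
  haveI := hρ
  obtain ⟨c, hc⟩ := Chars.exists_scalar_of_mem_center ρ z hz
  have h1 : ∀ y, χ (z * y) = c * χ y := fun y => by
    rw [← hρc, Representation.character, Representation.character, map_mul, hc,
      Module.End.mul_eq_comp, LinearMap.smul_comp, LinearMap.id_comp, map_smul, smul_eq_mul]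
  intro x
  have h2 := h1 1
  rw [mul_one] at h2
  rw [h1, h2, mul_div_cancel_right₀ _ (Chars.irr_degree_ne_zero ⟨m, ρ, hρ, hρc⟩)]

section Setting

variable {H : Subgroup G}

/-- The key inequality: the multiplicity of the trivial character is small. -/
theorem isolated_bound (hab : ∀ a ∈ H, ∀ b ∈ H, a * b = b * a) (hZ : H ⊓ Subgroup.center G = ⊥)
    (hone : ∀ g : G, g ∉ Subgroup.center G → ∀ a b : G,
      Subgroup.centralizer ({g} : Set G) ⊓ H.map (MulAut.conj a).toMonoidHom ≠ ⊥ →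
      Subgroup.centralizer ({g} : Set G) ⊓ H.map (MulAut.conj b).toMonoidHom ≠ ⊥ →
      H.map (MulAut.conj a).toMonoidHom = H.map (MulAut.conj b).toMonoidHom)
    [Fintype H] {χ : G → ℂ} (hχ : IsIrrCharacter G χ) (hker : ∃ h ∈ H, χ h ≠ χ 1) :
    (Nat.card H : ℝ) * (classInner (fun h : H => χ h) (fun _ => 1)).re ^ 2 < (χ 1).re ^ 2 := by
  classical
  set N := Subgroup.normalizer (H : Set G) with hNdef
  have hHN : H ≤ N := Subgroup.le_normalizer
  have hH1 : H ≠ ⊥ := fun e => by
    obtain ⟨h, hh, hne⟩ := hker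
    rw [e, Subgroup.mem_bot] at hh
    exact hne (by rw [hh])
  set Z := Subgroup.center G
  haveI hn : (H.subgroupOf N).Normal := Subgroup.normal_in_normalizer
  letI : Fintype (H.subgroupOf N) := Fintype.ofFinite _
  haveI := Chars.irrFintype N
  set H' := H.subgroupOf N
  have hZN : ∀ z ∈ Z, z ∈ N := fun z hz => by
    refine Subgroup.mem_normalizer_iff.2 fun n => ?_
    rw [(Subgroup.mem_center_iff.1 hz n).symm, mul_inv_cancel_right]
  set r : N → ℂ := fun x => χ x
  have hrc : IsCharacter N r := Chars.isCharacter_restrict N (Chars.isCharacter_of_irr hχ)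
  have hrcl := Chars.isClassFunction_of_isCharacter hrc
  have hexp := Chars.classFun_eq_sum hrcl
  choose m hm using fun η : IrrCharacter N => Chars.inner_irr_right_nat hrc η
  set A := Finset.univ.filter (fun η : IrrCharacter N => H' ≤ CharApps.charKer η)
  set B := Finset.univ.filter (fun η : IrrCharacter N => ¬ H' ≤ CharApps.charKer η)
  set α : N → ℂ := ∑ η ∈ A, (m η : ℂ) • (η : N → ℂ) with hαdef
  set β : N → ℂ := ∑ η ∈ B, (m η : ℂ) • (η : N → ℂ) with hβdef
  have hsplit : r = α + β := by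
    rw [hαdef, hβdef, Finset.sum_filter_add_sum_filter_not]
    conv_lhs => rw [hexp]
    exact Finset.sum_congr rfl fun η _ => by rw [hm]
  have hinvA : ∀ η ∈ A, ∀ (k : H') (x : N), (η : N → ℂ) ((k : N) * x) = (η : N → ℂ) x := by
    intro η hη k x
    obtain ⟨d, ρ, hρ, hd⟩ := η.2
    have h1 := CharApps.mem_charKer.1 ((Finset.mem_filter.1 hη).2 k.2)
    rw [← hd] at h1 ⊢
    have h2 := (Chars.ker_iff ρ rfl (k : N)).1 h1
    simp [Representation.character, map_mul, h2]
  have hαinv : ∀ (k : H') (x : N), α ((k : N) * x) = α x := fun k x => by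
    simp only [hαdef, Finset.sum_apply, Pi.smul_apply]
    exact Finset.sum_congr rfl fun η hη => by rw [hinvA η hη k x]
  have havg : ∀ x : N, ∑ k : H', r ((k : N) * x) = (Nat.card H' : ℂ) * α x := fun x => by
    simp only [hsplit, Pi.add_apply, hαinv, Finset.sum_add_distrib, Finset.sum_const, Finset.card_univ,
      ← Nat.card_eq_fintype_card, nsmul_eq_mul]
    refine add_eq_left.2 ?_
    simp only [hβdef, Finset.sum_apply, Pi.smul_apply, smul_eq_mul]
    rw [Finset.sum_comm]
    refine Finset.sum_eq_zero fun η hη => ?_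
    rw [← Finset.mul_sum, CharApps.sum_coset_eq_zero H' η (Finset.mem_filter.1 hη).2, mul_zero]
  -- the set of elements not acting fixed point freely
  set W := Finset.univ.filter (fun x : N => ∃ h ∈ H, h ≠ 1 ∧ (x : G) * h = h * x)
  have hfree : ∀ x : N, x ∉ W → r x = α x := by
    intro x hx
    have hx' : ∀ h ∈ H, (x : G) * h = h * x → h = 1 := fun h hh he => by
      by_contra hne
      exact hx (Finset.mem_filter.2 ⟨Finset.mem_univ _, h, hh, hne, he⟩)
    let f : H' → H' := fun k => k * ⟨x * (k : N)⁻¹ * x⁻¹, hn.conj_mem _ (H'.inv_mem k.2) x⟩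
    have hinj : Function.Injective f := by
      intro a b e
      have e' : ((a : N) : G) * ((x : G) * ((a : N) : G)⁻¹ * (x : G)⁻¹) =
          ((b : N) : G) * ((x : G) * ((b : N) : G)⁻¹ * (x : G)⁻¹) := by
        simpa [f] using congrArg (fun k : H' => ((k : N) : G)) e
      have hb : ((b : N) : G)⁻¹ * ((a : N) : G) ∈ H := H.mul_mem (H.inv_mem b.2) a.2
      have h1 : (x : G) * (((b : N) : G)⁻¹ * ((a : N) : G)) =
          (((b : N) : G)⁻¹ * ((a : N) : G)) * x := by
        have h2 : ((b : N) : G)⁻¹ * ((a : N) : G) =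
            (x : G) * (((b : N) : G)⁻¹ * ((a : N) : G)) * (x : G)⁻¹ := by
          calc ((b : N) : G)⁻¹ * ((a : N) : G)
              = ((b : N) : G)⁻¹ * (((a : N) : G) * ((x : G) * ((a : N) : G)⁻¹ * (x : G)⁻¹)) *
                  ((x : G) * ((a : N) : G) * (x : G)⁻¹) := by group
            _ = ((b : N) : G)⁻¹ * (((b : N) : G) * ((x : G) * ((b : N) : G)⁻¹ * (x : G)⁻¹)) *
                  ((x : G) * ((a : N) : G) * (x : G)⁻¹) := by rw [e']
            _ = _ := by group
        conv_rhs => rw [h2]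
        group
      exact (Subtype.ext (Subtype.ext (inv_mul_eq_one.1 (hx' _ hb h1)))).symm
    have hsur := Finite.surjective_of_injective hinj
    have hconst : ∀ t : H', r ((t : N) * x) = r x := by
      intro t
      obtain ⟨k, rfl⟩ := hsur t
      have e : ((f k : H') : N) * x = (k : N) * x * (k : N)⁻¹ := by
        simp [f]
        group
      rw [e, hrcl x k]
    have h := havg x
    rw [Finset.sum_congr rfl (fun t _ => hconst t), Finset.sum_const, Finset.card_univ,
      ← Nat.card_eq_fintype_card, nsmul_eq_mul] at h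
    exact mul_left_cancel₀ (Nat.cast_ne_zero.2 Nat.card_pos.ne') h
  -- values on the centre
  set c := (classInner (fun h : H => χ h) (fun _ => 1)).re with hc
  have hαz : ∀ z : N, (z : G) ∈ Z → ‖α z‖ = |c| := by
    intro z hz
    obtain ⟨hmul, hnorm⟩ := central_value hχ hz
    have h := havg z
    have e : ∑ k : H', r ((k : N) * z) = χ z / χ 1 * ((Nat.card H : ℂ) *
        classInner (fun h : H => χ h) (fun _ => 1)) := by
      rw [Chars.inner_def, ← mul_assoc (Nat.card H : ℂ),
        mul_inv_cancel₀ (Nat.cast_ne_zero.2 Nat.card_pos.ne'), one_mul, Finset.mul_sum]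
      refine Fintype.sum_equiv (Subgroup.subgroupOfEquivOfLe hHN).toEquiv _ _ fun k => ?_
      simp only [map_one, mul_one]
      rw [← hmul]
      show χ (((k : N) : G) * z) = χ (z * ((k : N) : G))
      rw [Subgroup.mem_center_iff.1 hz]
    rw [e, show Nat.card H' = Nat.card H from
      Nat.card_congr (Subgroup.subgroupOfEquivOfLe hHN).toEquiv] at h
    obtain ⟨k, hk⟩ := Chars.inner_char_nat (Chars.isCharacter_restrict H (Chars.isCharacter_of_irr hχ))
      (Chars.isCharacter_one (G := H))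
    have hh : χ z / χ 1 * classInner (fun h : H => χ h) (fun _ => 1) = α z :=
      mul_left_cancel₀ (Nat.cast_ne_zero.2 Nat.card_pos.ne' : (Nat.card H : ℂ) ≠ 0)
        (by linear_combination h)
    have hd0 : (charDegree χ : ℝ) ≠ 0 := by
      have h0 := Chars.irr_degree_ne_zero hχ
      rw [CharApps.deg_eq_of_isChar (Chars.isCharacter_of_irr hχ)] at h0
      exact_mod_cast h0
    rw [← hh, hc, hk, norm_mul, norm_div, hnorm, CharApps.deg_eq_of_isChar (Chars.isCharacter_of_irr hχ),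
      Complex.norm_natCast, div_self hd0, one_mul, Complex.natCast_re, Complex.norm_natCast, Nat.abs_cast]
  -- norms on the normaliser
  have hB1 : (1 : ℝ) ≤ ∑ η ∈ B, (m η : ℝ) ^ 2 := by
    obtain ⟨h, hh, hne⟩ := hker
    have : ∃ η ∈ B, m η ≠ 0 := by
      by_contra hcon
      push Not at hcon
      have hrA : r = α := by
        rw [hsplit, hβdef, Finset.sum_eq_zero fun η hη => by rw [hcon η hη, Nat.cast_zero, zero_smul],
          add_zero]
      refine hne ?_
      have h1 := hαinv ⟨⟨h, hHN hh⟩, hh⟩ 1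
      rw [mul_one, ← hrA] at h1
      simpa [r] using h1
    obtain ⟨η, hη, hmη⟩ := this
    refine le_trans ?_ (Finset.single_le_sum (fun i _ => by positivity) hη)
    have : (1 : ℝ) ≤ (m η : ℝ) := by exact_mod_cast Nat.one_le_iff_ne_zero.2 hmη
    nlinarith
  have hnormAB : ∑ x : N, ‖r x‖ ^ 2 =
      ∑ x : N, ‖α x‖ ^ 2 + (Nat.card N : ℝ) * ∑ η ∈ B, (m η : ℝ) ^ 2 := by
    have key : ∀ S : Finset (IrrCharacter N), classInner (∑ η ∈ S, (m η : ℂ) • (η : N → ℂ))
        (∑ η ∈ S, (m η : ℂ) • (η : N → ℂ)) = ((∑ η ∈ S, (m η : ℝ) ^ 2 : ℝ) : ℂ) := by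
      intro S
      rw [Chars.inner_sum_left]
      push_cast
      refine Finset.sum_congr rfl fun η hη => ?_
      rw [Chars.inner_sum_right, Finset.sum_eq_single η]
      · rw [Chars.inner_smul_left, Chars.inner_smul_right, Chars.inner_irr_self, map_natCast]; ring
      · intro ζ _ hne
        rw [Chars.inner_smul_left, Chars.inner_smul_right, Chars.inner_irr_ne hne.symm]
        ring
      · exact fun h => absurd hη h
    have hN0 : (Nat.card N : ℝ) ≠ 0 := Nat.cast_ne_zero.2 Nat.card_pos.ne'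
    have hsum : ∀ f : N → ℂ, ∀ v : ℝ, classInner f f = (v : ℂ) → ∑ x : N, ‖f x‖ ^ 2 = Nat.card N * v := by
      intro f v hv
      rw [Chars.inner_self_eq, Complex.ofReal_inj, inv_mul_eq_iff_eq_mul₀ hN0] at hv
      exact hv
    have hr := hsum r (∑ η, (m η : ℝ) ^ 2) (by
      rw [← key Finset.univ, show ∑ η : IrrCharacter N, (m η : ℂ) • (η : N → ℂ) = r from by
        conv_rhs => rw [hexp]
        exact Finset.sum_congr rfl fun η _ => by rw [hm]])
    rw [hr, hsum α _ (key A), ← mul_add, Finset.sum_filter_add_sum_filter_not]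
  have hW : (Nat.card N : ℝ) + Nat.card H * Nat.card Z * c ^ 2 ≤ ∑ x ∈ W, ‖r x‖ ^ 2 := by
    have h1 := Finset.sum_filter_add_sum_filter_not Finset.univ (fun x : N => x ∈ W)
      (fun x => ‖r x‖ ^ 2)
    have h2 := Finset.sum_filter_add_sum_filter_not Finset.univ (fun x : N => x ∈ W)
      (fun x => ‖α x‖ ^ 2)
    rw [Finset.filter_mem_eq_inter, Finset.univ_inter] at h1 h2
    have h3 : ∑ x ∈ Finset.univ.filter (fun x : N => ¬ x ∈ W), ‖r x‖ ^ 2 =
        ∑ x ∈ Finset.univ.filter (fun x : N => ¬ x ∈ W), ‖α x‖ ^ 2 :=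
      Finset.sum_congr rfl fun x hx => by rw [hfree x (Finset.mem_filter.1 hx).2]
    let ι : H' × Z → N := fun p => (p.1 : N) * ⟨p.2, hZN p.2 p.2.2⟩
    have hι : Function.Injective ι := by
      rintro ⟨k, z⟩ ⟨k', z'⟩ e
      have e' : ((k : N) : G) * z = ((k' : N) : G) * z' := congrArg Subtype.val e
      have h4 : ((k' : N) : G)⁻¹ * ((k : N) : G) ∈ H ⊓ Subgroup.center G := by
        refine ⟨H.mul_mem (H.inv_mem k'.2) k.2, ?_⟩
        rw [show ((k' : N) : G)⁻¹ * ((k : N) : G) = (z' : G) * (z : G)⁻¹ by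
          rw [eq_mul_inv_iff_mul_eq, mul_assoc, e', inv_mul_cancel_left]]
        exact Z.mul_mem z'.2 (Z.inv_mem z.2)
      rw [hZ, Subgroup.mem_bot, inv_mul_eq_one] at h4
      obtain rfl : k' = k := Subtype.ext (Subtype.ext h4)
      exact Prod.ext rfl (Subtype.ext (mul_left_cancel e'))
    have hιW : Finset.univ.image ι ⊆ W := by
      intro x hx
      obtain ⟨⟨k, z⟩, -, rfl⟩ := Finset.mem_image.1 hx
      obtain ⟨⟨h, hh⟩, hne⟩ := Subgroup.ne_bot_iff_exists_ne_one.1 hH1
      refine Finset.mem_filter.2 ⟨Finset.mem_univ _, h, hh, fun e => hne (Subtype.ext e), ?_⟩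
      show ((k : N) : G) * z * h = h * (((k : N) : G) * z)
      rw [mul_assoc, ← Subgroup.mem_center_iff.1 z.2 h, ← mul_assoc, hab ((k : N) : G) k.2 h hh, mul_assoc]
    have h5 := Finset.sum_le_sum_of_subset_of_nonneg hιW (f := fun x : N => ‖α x‖ ^ 2)
      (fun _ _ _ => by positivity)
    rw [Finset.sum_image (fun a _ b _ e => hι e), Finset.sum_congr rfl
      (g := fun _ => c ^ 2) (fun p _ => by
        show ‖α ((p.1 : N) * ⟨p.2, _⟩)‖ ^ 2 = c ^ 2
        rw [hαinv, hαz _ p.2.2, sq_abs]), Finset.sum_const, Finset.card_univ, ← Nat.card_eq_fintype_card,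
      Nat.card_prod, nsmul_eq_mul, Nat.cast_mul,
      show Nat.card H' = Nat.card H from Nat.card_congr (Subgroup.subgroupOfEquivOfLe hHN).toEquiv] at h5
    have h6 : (Nat.card N : ℝ) ≤ (Nat.card N : ℝ) * ∑ η ∈ B, (m η : ℝ) ^ 2 :=
      le_mul_of_one_le_right (Nat.cast_nonneg _) hB1
    linarith
  -- counting over the conjugates
  set d := (χ 1).re
  have hd0 : 0 < d := by
    obtain ⟨n, hn, hn1⟩ := Chars.irr_degree_nat hχ
    show 0 < (χ 1).re
    rw [hn1, Complex.natCast_re]
    exact_mod_cast hn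
  have hzd : ∀ z ∈ Z, ‖χ z‖ ^ 2 = d ^ 2 := fun z hz => by
    rw [(central_value hχ hz).2]
    show _ = (χ 1).re ^ 2
    rw [CharApps.deg_eq_of_isChar (Chars.isCharacter_of_irr hχ), Complex.natCast_re]
  set V := Finset.univ.filter (fun g : G => g ∉ Z)
  have hV : ∑ g ∈ V, ‖χ g‖ ^ 2 = (Nat.card G : ℝ) - Nat.card Z * d ^ 2 := by
    have h := (Chars.isIrrCharacter_iff_inner_self.1 hχ).2
    rw [Chars.inner_self_eq, Complex.ofReal_eq_one,
      inv_mul_eq_iff_eq_mul₀ (Nat.cast_ne_zero.2 Nat.card_pos.ne'), mul_one] at h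
    rw [eq_sub_iff_add_eq, ← h, ← Finset.sum_filter_not_add_sum_filter Finset.univ (fun g : G => g ∈ Z),
      Finset.sum_congr rfl (fun z hz => hzd z (Finset.mem_filter.1 hz).2), Finset.sum_const,
      nsmul_eq_mul, Nat.card_eq_fintype_card (α := Z), Fintype.card_subtype]
  set W₀ := W.filter (fun x : N => (x : G) ∉ Z)
  have hW0 : ∑ x ∈ W₀, ‖r x‖ ^ 2 + Nat.card Z * d ^ 2 = ∑ x ∈ W, ‖r x‖ ^ 2 := by
    rw [← Finset.sum_filter_not_add_sum_filter W (fun x : N => (x : G) ∈ Z)]
    refine congrArg _ ?_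
    rw [Finset.sum_congr rfl (fun x hx => (hzd x (Finset.mem_filter.1 hx).2 : ‖r x‖ ^ 2 = d ^ 2)),
      Finset.sum_const, nsmul_eq_mul, Nat.card_eq_fintype_card (α := Z), Fintype.card_subtype]
    refine congrArg (fun k : ℕ => (k : ℝ) * d ^ 2) (Finset.card_bij' (fun z hz =>
        (⟨z, hZN z (Finset.mem_filter.1 hz).2⟩ : N)) (fun x _ => (x : G)) ?_ ?_
      (fun _ _ => rfl) (fun _ _ => rfl))
    · intro z hz
      obtain ⟨⟨h, hh⟩, hne⟩ := Subgroup.ne_bot_iff_exists_ne_one.1 hH1
      exact Finset.mem_filter.2 ⟨Finset.mem_filter.2 ⟨Finset.mem_univ _, h, hh,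
        fun e => hne (Subtype.ext e), (Subgroup.mem_center_iff.1 (Finset.mem_filter.1 hz).2 h).symm⟩,
        (Finset.mem_filter.1 hz).2⟩
    · intro x hx
      exact Finset.mem_filter.2 ⟨Finset.mem_univ _, (Finset.mem_filter.1 hx).2⟩
  have hcount : (Nat.card G : ℝ) * ∑ x ∈ W₀, ‖r x‖ ^ 2 ≤ Nat.card N * ∑ g ∈ V, ‖χ g‖ ^ 2 := by
    have h1 : (Nat.card G : ℝ) * ∑ x ∈ W₀, ‖r x‖ ^ 2 =
        ∑ p ∈ (Finset.univ : Finset G) ×ˢ W₀, ‖χ (p.1 * p.2 * p.1⁻¹)‖ ^ 2 := by
      rw [Finset.sum_product, Nat.card_eq_fintype_card, ← Finset.card_univ, ← nsmul_eq_mul,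
        ← Finset.sum_const]
      refine Finset.sum_congr rfl fun a _ => Finset.sum_congr rfl fun x _ => ?_
      rw [Chars.isClassFunction_of_isCharacter (Chars.isCharacter_of_irr hχ) (x : G) a]
    have hmaps : ∀ p ∈ (Finset.univ : Finset G) ×ˢ W₀, p.1 * (p.2 : G) * p.1⁻¹ ∈ V := by
      intro p hp
      refine Finset.mem_filter.2 ⟨Finset.mem_univ _, fun hz => ?_⟩
      refine (Finset.mem_filter.1 (Finset.mem_product.1 hp).2).2 ?_
      have h := (Subgroup.center G).mul_mem hz ((Subgroup.center G).one_mem)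
      have h2 : p.1⁻¹ * (p.1 * (p.2 : G) * p.1⁻¹) * p.1⁻¹⁻¹ ∈ Z :=
        (inferInstance : (Subgroup.center G).Normal).conj_mem _ hz p.1⁻¹
      simpa [mul_assoc] using h2
    rw [h1, ← Finset.sum_fiberwise_of_maps_to hmaps, Finset.mul_sum]
    refine Finset.sum_le_sum fun g hg => ?_
    rw [Finset.sum_congr rfl (fun p hp => by rw [(Finset.mem_filter.1 hp).2]), Finset.sum_const,
      nsmul_eq_mul]
    refine mul_le_mul_of_nonneg_right (Nat.cast_le.2 ?_) (by positivity)
    rcases ((((Finset.univ : Finset G) ×ˢ W₀).filter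
      (fun p => p.1 * (p.2 : G) * p.1⁻¹ = g)).eq_empty_or_nonempty) with he | ⟨⟨b, y⟩, hby⟩
    · rw [he, Finset.card_empty]; exact Nat.zero_le _
    rw [Nat.card_eq_fintype_card (α := N), Fintype.card_subtype]
    have hmem : ∀ (a : G) (x : N), x ∈ W₀ → a * (x : G) * a⁻¹ = g →
        Subgroup.centralizer ({g} : Set G) ⊓ H.map (MulAut.conj a).toMonoidHom ≠ ⊥ := by
      intro a x hx e
      obtain ⟨h, hh, hne, hcm⟩ := (Finset.mem_filter.1 (Finset.mem_filter.1 hx).1).2
      intro he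
      refine hne ((MulAut.conj a).injective ?_)
      rw [map_one, ← Subgroup.mem_bot, ← he]
      refine ⟨Subgroup.mem_centralizer_singleton_iff.2 ?_, h, hh, rfl⟩
      rw [← e, ← MulAut.conj_apply, ← map_mul, ← map_mul, hcm]
    obtain ⟨hby1, hby2⟩ := Finset.mem_filter.1 hby
    have hgZ : g ∉ Subgroup.center G := (Finset.mem_filter.1 hg).2
    have hnorm : ∀ a : G, ∀ x : N, x ∈ W₀ → a * (x : G) * a⁻¹ = g → b⁻¹ * a ∈ N := by
      intro a x hx e
      have h := hone g hgZ a b (hmem a x hx e) (hmem b y (Finset.mem_product.1 hby1).2 hby2)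
      refine Subgroup.mem_normalizer_iff.2 fun n => ?_
      have hiff : ∀ k : G, k ∈ H.map (MulAut.conj a).toMonoidHom ↔ a⁻¹ * k * a ∈ H := fun k =>
        ⟨by rintro ⟨h', hh', rfl⟩; simpa [mul_assoc] using hh',
          fun hk => ⟨a⁻¹ * k * a, hk, by simp [mul_assoc]⟩⟩
      have hiffb : ∀ k : G, k ∈ H.map (MulAut.conj b).toMonoidHom ↔ b⁻¹ * k * b ∈ H := fun k =>
        ⟨by rintro ⟨h', hh', rfl⟩; simpa [mul_assoc] using hh',
          fun hk => ⟨b⁻¹ * k * b, hk, by simp [mul_assoc]⟩⟩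
      have h7 := hiff (a * n * a⁻¹)
      rw [h, hiffb] at h7
      rw [show b⁻¹ * a * n * (b⁻¹ * a)⁻¹ = b⁻¹ * (a * n * a⁻¹) * b by group]
      exact (h7.trans (by rw [show a⁻¹ * (a * n * a⁻¹) * a = n by group])).symm
    refine Finset.card_le_card_of_injOn (fun p => b⁻¹ * p.1) ?_ ?_
    · intro p hp
      obtain ⟨hp1, hp2⟩ := Finset.mem_filter.1 hp
      exact Finset.mem_filter.2 ⟨Finset.mem_univ _,
        hnorm p.1 p.2 (Finset.mem_product.1 hp1).2 hp2⟩
    · rintro ⟨a, x⟩ hp ⟨a', x'⟩ hp' e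
      obtain rfl : a = a' := mul_left_cancel e
      have h8 := (Finset.mem_filter.1 hp).2.trans (Finset.mem_filter.1 hp').2.symm
      exact Prod.ext rfl (Subtype.ext (mul_left_cancel (mul_right_cancel h8)))
  rw [hV] at hcount
  set g := (Nat.card G : ℝ)
  set n := (Nat.card N : ℝ)
  set z := (Nat.card Z : ℝ)
  have hn0 : 0 < n := Nat.cast_pos.2 Nat.card_pos
  have hz0 : 0 < z := Nat.cast_pos.2 Nat.card_pos
  have hg0 : 0 < g := Nat.cast_pos.2 Nat.card_pos
  have hS : n + (Nat.card H : ℝ) * z * c ^ 2 - z * d ^ 2 ≤ ∑ x ∈ W₀, ‖r x‖ ^ 2 := by linarith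
  have h9 : g * (n + (Nat.card H : ℝ) * z * c ^ 2 - z * d ^ 2) ≤ n * (g - z * d ^ 2) :=
    (mul_le_mul_of_nonneg_left hS hg0.le).trans hcount
  show (Nat.card H : ℝ) * c ^ 2 < d ^ 2
  by_contra hcon
  push Not at hcon
  nlinarith [mul_pos (mul_pos hn0 hz0) (pow_pos hd0 2),
    mul_le_mul_of_nonneg_left hcon (mul_pos hg0 hz0).le]

/-- The degree bound. -/
theorem isolated_degree_bound (hab : ∀ a ∈ H, ∀ b ∈ H, a * b = b * a)
    (hZ : H ⊓ Subgroup.center G = ⊥)
    (hone : ∀ g : G, g ∉ Subgroup.center G → ∀ a b : G,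
      Subgroup.centralizer ({g} : Set G) ⊓ H.map (MulAut.conj a).toMonoidHom ≠ ⊥ →
      Subgroup.centralizer ({g} : Set G) ⊓ H.map (MulAut.conj b).toMonoidHom ≠ ⊥ →
      H.map (MulAut.conj a).toMonoidHom = H.map (MulAut.conj b).toMonoidHom)
    [Fintype H] {χ : G → ℂ} (hχ : IsIrrCharacter G χ) (hd : χ 1 ≠ 1)
    (hM : ∀ M : Subgroup G, M.Normal → H ≤ M → M = ⊤) :
    (Nat.card H : ℝ) < (1 + (χ 1).re) ^ 2 := by
  classical
  haveI := Chars.irrFintype G
  haveI := Chars.irrFintype H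
  obtain ⟨d, hd0, hd1⟩ := Chars.irr_degree_nat hχ
  have hχc := Chars.isCharacter_of_irr hχ
  have hψ : IsCharacter G (χ * fun g => conj (χ g)) :=
    Chars.isCharacter_mul hχc (Chars.isCharacter_conj hχc)
  choose n hn using fun ξ : IrrCharacter G => Chars.inner_irr_right_nat hψ ξ
  choose c hc using fun ξ : IrrCharacter G => Chars.inner_char_nat
    (Chars.isCharacter_restrict H (Chars.isCharacter_of_irr ξ.2)) (Chars.isCharacter_one (G := H))
  have hn1 : n (CharApps.oneIrr G) = 1 := by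
    have h := hn (CharApps.oneIrr G)
    have e : classInner (χ * fun g => conj (χ g))
        ((CharApps.oneIrr G : IrrCharacter G) : G → ℂ) = classInner χ χ := by
      simp [Chars.inner_def, CharApps.oneIrr]
    rw [e, (Chars.isIrrCharacter_iff_inner_self.1 hχ).2] at h
    exact_mod_cast h.symm
  have hexp := Chars.classFun_eq_sum (Chars.isClassFunction_of_isCharacter hψ)
  have hone1 : c (CharApps.oneIrr G) = 1 := by
    have h := hc (CharApps.oneIrr G)
    rw [show (fun h : H => ((CharApps.oneIrr G : IrrCharacter G) : G → ℂ) h) = fun _ => 1 from rfl,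
      Chars.inner_one_one] at h
    exact_mod_cast h.symm
  have hdeg : ∑ ξ : IrrCharacter G, n ξ * charDegree (ξ : G → ℂ) = d * d := by
    have h := congrFun hexp 1
    simp only [Finset.sum_apply, Pi.smul_apply, Pi.mul_apply, smul_eq_mul, hn, CharApps.deg_eq, hd1,
      map_natCast] at h
    exact_mod_cast h.symm
  have hres : d ≤ ∑ ξ : IrrCharacter G, n ξ * c ξ := by
    have hrc := Chars.isCharacter_restrict H hχc
    choose k hk using fun η : IrrCharacter H => Chars.inner_irr_right_nat hrc η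
    have h1 : ∀ η : IrrCharacter H, (η : H → ℂ) 1 = 1 := fun η =>
      Chars.irr_abelian_degree (fun a b => Subtype.ext (hab a a.2 b b.2)) η.2
    have h2 : ∑ η : IrrCharacter H, k η = d := by
      have h := congrFun (Chars.classFun_eq_sum (Chars.isClassFunction_of_isCharacter hrc)) 1
      simp only [Finset.sum_apply, Pi.smul_apply, smul_eq_mul, hk, h1, mul_one, OneMemClass.coe_one,
        hd1] at h
      exact_mod_cast h.symm
    have h3 : classInner (fun h : H => χ h) (fun h : H => χ h) =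
        ((∑ η : IrrCharacter H, k η * k η : ℕ) : ℂ) := by
      rw [Chars.inner_eq_sum (Chars.isClassFunction_of_isCharacter hrc)]
      simp only [hk, map_natCast]
      push_cast
      rfl
    have h4 : classInner (fun h : H => χ h) (fun h : H => χ h) =
        ((∑ ξ : IrrCharacter G, n ξ * c ξ : ℕ) : ℂ) := by
      have e : classInner (fun h : H => χ h) (fun h : H => χ h) =
          classInner (fun h : H => (χ * fun g => conj (χ g)) h) (fun _ => 1) := by
        simp [Chars.inner_def]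
      have e2 : (fun h : H => (χ * fun g => conj (χ g)) h) =
          ∑ ξ : IrrCharacter G, (n ξ : ℂ) • fun h : H => (ξ : G → ℂ) h := by
        funext h
        have := congrFun hexp h
        simp only [Finset.sum_apply, Pi.smul_apply, hn] at this ⊢
        exact this
      rw [e, e2, Chars.inner_sum_left]
      push_cast
      exact Finset.sum_congr rfl fun ξ _ => by rw [Chars.inner_smul_left, hc]
    have h5 : ∑ ξ : IrrCharacter G, n ξ * c ξ = ∑ η : IrrCharacter H, k η * k η := by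
      exact_mod_cast h4.symm.trans h3
    rw [h5, ← h2]
    exact Finset.sum_le_sum fun η _ => Nat.le_mul_self _
  set S := Finset.univ.erase (CharApps.oneIrr G)
  have hbound : ∀ ξ ∈ S, (Nat.card H : ℝ) * (c ξ : ℝ) ^ 2 < (charDegree (ξ : G → ℂ) : ℝ) ^ 2 := by
    intro ξ hξ
    have hker : ∃ h ∈ H, (ξ : G → ℂ) h ≠ (ξ : G → ℂ) 1 := by
      by_contra hcon
      push Not at hcon
      have htop := hM (CharApps.charKer ξ) (CharApps.charKer_normal ξ)
        fun h hh => CharApps.mem_charKer.2 (hcon h hh)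
      refine (Finset.mem_erase.1 hξ).1 (Subtype.ext (funext fun g => ?_))
      have hv : ∀ x, (ξ : G → ℂ) x = (ξ : G → ℂ) 1 := fun x =>
        CharApps.mem_charKer.1 (by rw [htop]; exact Subgroup.mem_top x)
      have hnorm := Chars.inner_irr_self ξ
      rw [Chars.inner_def, Finset.sum_congr rfl (fun x _ => by rw [hv x]), Finset.sum_const,
        Finset.card_univ, ← Nat.card_eq_fintype_card, nsmul_eq_mul, ← mul_assoc,
        inv_mul_cancel₀ (Nat.cast_ne_zero.2 Nat.card_pos.ne'), one_mul, CharApps.deg_eq, map_natCast]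
        at hnorm
      have h1 : charDegree (ξ : G → ℂ) * charDegree (ξ : G → ℂ) = 1 := by exact_mod_cast hnorm
      show (ξ : G → ℂ) g = 1
      rw [hv g, CharApps.deg_eq, Nat.eq_one_of_mul_eq_one_left h1, Nat.cast_one]
    have h := isolated_bound hab hZ hone ξ.2 hker
    rwa [hc ξ, Complex.natCast_re, CharApps.deg_eq, Complex.natCast_re] at h
  by_contra hcon
  push Not at hcon
  rw [hd1, Complex.natCast_re] at hcon
  have hlt : ∀ ξ ∈ S, n ξ * ((1 + d) * c ξ) ≤ n ξ * charDegree (ξ : G → ℂ) := fun ξ hξ => by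
    refine Nat.mul_le_mul_left _ ?_
    have h1 := hbound ξ hξ
    have h2 : (((1 + d) * c ξ : ℕ) : ℝ) ^ 2 < (charDegree (ξ : G → ℂ) : ℝ) ^ 2 := by
      refine lt_of_le_of_lt ?_ h1
      push_cast
      rw [mul_pow]
      exact mul_le_mul_of_nonneg_right hcon (sq_nonneg _)
    exact_mod_cast (pow_lt_pow_iff_left₀ (Nat.cast_nonneg _) (Nat.cast_nonneg _) two_ne_zero).1 h2
      |>.le
  have hstrict : ∃ ξ ∈ S, n ξ * ((1 + d) * c ξ) < n ξ * charDegree (ξ : G → ℂ) := by
    have hd2 : 2 ≤ d := by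
      rcases Nat.lt_or_ge d 2 with h | h
      · exact absurd (by rw [hd1, show d = 1 by omega, Nat.cast_one]) hd
      · exact h
    have hex : ∃ ξ ∈ S, n ξ * c ξ ≠ 0 := by
      by_contra hz
      push Not at hz
      rw [← Finset.add_sum_erase _ _ (Finset.mem_univ (CharApps.oneIrr G)),
        Finset.sum_eq_zero hz, hn1, hone1] at hres
      omega
    obtain ⟨ξ, hξ, hne⟩ := hex
    refine ⟨ξ, hξ, (Nat.mul_lt_mul_left (Nat.pos_of_ne_zero (left_ne_zero_of_mul hne))).2 ?_⟩
    have h1 := hbound ξ hξ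
    have h2 : (((1 + d) * c ξ : ℕ) : ℝ) ^ 2 < (charDegree (ξ : G → ℂ) : ℝ) ^ 2 := by
      refine lt_of_le_of_lt ?_ h1
      push_cast
      rw [mul_pow]
      exact mul_le_mul_of_nonneg_right hcon (sq_nonneg _)
    exact_mod_cast (pow_lt_pow_iff_left₀ (Nat.cast_nonneg _) (Nat.cast_nonneg _) two_ne_zero).1 h2
  have hsum := Finset.sum_lt_sum hlt hstrict
  rw [← Finset.add_sum_erase _ _ (Finset.mem_univ (CharApps.oneIrr G)), hn1, hone1] at hres
  rw [← Finset.add_sum_erase _ _ (Finset.mem_univ (CharApps.oneIrr G)), hn1,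
    show charDegree ((CharApps.oneIrr G : IrrCharacter G) : G → ℂ) = 1 by
      simp [charDegree, CharApps.oneIrr]] at hdeg
  simp_rw [show ∀ ξ, n ξ * ((1 + d) * c ξ) = (1 + d) * (n ξ * c ξ) from fun ξ => by ring] at hsum
  rw [← Finset.mul_sum] at hsum
  nlinarith

end Setting

end CfsgLib.CharsMore
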