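import Cfsg.Agent.Lib.CharsMore.Gallagher
import Cfsg.Agent.Lib.CharsMore.Extend
import Cfsg.Agent.Lib.CharsMore.Intertwiners
import Cfsg.Agent.Lib.Chars.Quotient
import Cfsg.Agent.Lib.Chars.Linear
import Mathlib

/-!
# Fully ramified characters
-/

set_option linter.unusedSectionVars false
set_option linter.style.haveILetI false

namespace CfsgLib.CharsMore.FullyRamified

open Cfsg
open scoped ComplexConjugate

/-- A character of a finite commutative group separating a nontrivial element. -/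
lemma exists_hom_ne_one {C : Type*} [CommGroup C] [Finite C] {c : C} (hc : c ≠ 1) :
    ∃ μ : C →* ℂˣ, μ c ≠ 1 := by
  by_contra h
  push Not at h
  refine hc (Chars.eq_one_of_forall_irr fun χ => ?_)
  obtain ⟨lam, hlam⟩ := Chars.exists_hom_of_degree_one (Chars.isCharacter_of_irr χ.2)
    (Chars.irr_abelian_degree (fun x y : C => mul_comm x y) χ.2)
  rw [hlam]
  simp [h lam]

variable {H : Type*} [Group H] [Fintype H] {Z : Subgroup H} [Z.Normal] [Fintype Z]
  {χ : H → ℂ} {θ : Z → ℂ} {e : ℕ}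

lemma invariant (hχ : IsIrrCharacter H χ) (hZ : ∀ z : Z, χ z = (e : ℂ) * θ z) (he : e ≠ 0) (g : H)
    (z : Z) : θ (conjBy Z g z) = θ z := by
  have h1 := hZ (conjBy Z g z)
  have h2 : χ ((conjBy Z g z : Z) : H) = χ z := by
    rw [coe_conjBy]
    exact Chars.isClassFunction_of_isCharacter (Chars.isCharacter_of_irr hχ) _ _
  rw [h2, hZ] at h1
  exact (mul_left_cancel₀ (Nat.cast_ne_zero.2 he) h1).symm

lemma inner_restrict (hθ : IsIrrCharacter Z θ) (hZ : ∀ z : Z, χ z = (e : ℂ) * θ z) :
    classInner (fun z : Z => χ z) θ = e := by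
  rw [show (fun z : Z => χ z) = (e : ℂ) • θ from funext hZ, Chars.inner_smul_left,
    Chars.inner_irr_self ⟨θ, hθ⟩, mul_one]

lemma multNat_indFun (hχ : IsIrrCharacter H χ) (hθ : IsIrrCharacter Z θ)
    (hZ : ∀ z : Z, χ z = (e : ℂ) * θ z) : multNat (indFun Z θ) χ = e := by
  have hind := Chars.isCharacter_indFun Z (Chars.isCharacter_of_irr hθ)
  have h1 : classInner (indFun Z θ) χ = (e : ℂ) := by
    rw [Chars.inner_indFun Z θ (Chars.isClassFunction_of_isCharacter (Chars.isCharacter_of_irr hχ)),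
      conj_inner (Chars.isCharacter_restrict Z (Chars.isCharacter_of_irr hχ))
        (Chars.isCharacter_of_irr hθ), inner_restrict hθ hZ]
  rw [inner_eq_multNat hind (Chars.isCharacter_of_irr hχ)] at h1
  exact_mod_cast h1

/-- Only `χ` lies over `θ`. -/
theorem eq_of_over (hχ : IsIrrCharacter H χ) (hθ : IsIrrCharacter Z θ) (he2 : e ^ 2 = Z.index)
    (hZ : ∀ z : Z, χ z = (e : ℂ) * θ z) {ξ : H → ℂ} (hξ : IsIrrCharacter H ξ)
    (h : classInner (fun z : Z => ξ z) θ ≠ 0) : ξ = χ := by
  classical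
  let _ := Chars.irrFintype H
  have he : e ≠ 0 := fun h0 => Subgroup.index_ne_zero_of_finite (H := Z) (by rw [← he2, h0]; rfl)
  have hind := Chars.isCharacter_indFun Z (Chars.isCharacter_of_irr hθ)
  have hsq : ∑ ψ : IrrCharacter H, multNat (indFun Z θ) ψ ^ 2 = e ^ 2 := by
    have h1 := inner_indFun_self_of_invariant Z hθ
      (fun g => funext fun z => invariant hχ hZ he g z)
    rw [← he2] at h1
    conv_lhs at h1 => arg 1; rw [char_eq_sum_multNat hind]
    rw [Chars.inner_sum_left] at h1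
    simp only [Chars.inner_smul_left, conj_inner hind (Chars.isCharacter_of_irr (Subtype.prop _)),
      inner_eq_multNat hind (Chars.isCharacter_of_irr (Subtype.prop _))] at h1
    have : (∑ ψ : IrrCharacter H, ((multNat (indFun Z θ) ψ ^ 2 : ℕ) : ℂ)) = ((e ^ 2 : ℕ) : ℂ) := by
      rw [← h1]
      exact Finset.sum_congr rfl fun ψ _ => by push_cast; ring
    exact_mod_cast this
  by_contra hne
  have hm : multNat (indFun Z θ) ξ ≠ 0 := by
    refine multNat_ne_zero hind (Chars.isCharacter_of_irr hξ) ?_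
    rwa [Chars.inner_indFun Z θ (Chars.isClassFunction_of_isCharacter (Chars.isCharacter_of_irr hξ)),
      conj_inner (Chars.isCharacter_restrict Z (Chars.isCharacter_of_irr hξ))
        (Chars.isCharacter_of_irr hθ)]
  have h2 : ∑ ψ ∈ ({⟨χ, hχ⟩, ⟨ξ, hξ⟩} : Finset (IrrCharacter H)),
      multNat (indFun Z θ) ψ ^ 2 ≤ e ^ 2 :=
    hsq ▸ Finset.sum_le_sum_of_subset (Finset.subset_univ _)
  rw [Finset.sum_pair (fun h' => hne (congrArg Subtype.val h').symm),
    multNat_indFun hχ hθ hZ] at h2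
  have : 0 < multNat (indFun Z θ) ξ ^ 2 := by positivity
  simp only at h2
  omega

/-- A fully ramified character vanishes outside `Z`. -/
theorem eq_zero_of_not_mem (hχ : IsIrrCharacter H χ) (hθ : IsIrrCharacter Z θ)
    (he2 : e ^ 2 = Z.index) (hZ : ∀ z : Z, χ z = (e : ℂ) * θ z) {x : H} (hx : x ∉ Z) : χ x = 0 := by
  classical
  let _ := Chars.irrFintype H
  have he : e ≠ 0 := fun h0 => Subgroup.index_ne_zero_of_finite (H := Z) (by rw [← he2, h0]; rfl)
  have hind := Chars.isCharacter_indFun Z (Chars.isCharacter_of_irr hθ)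
  have h1 : indFun Z θ x = 0 := by
    rw [Chars.indFun_apply, Finset.sum_eq_zero (fun y _ => Chars.extendByZero_of_not_mem _ _
      fun h => hx ?_), mul_zero]
    simpa [mul_assoc] using (inferInstance : Z.Normal).conj_mem _ h y
  rw [congrFun (char_eq_sum_multNat hind) x, Finset.sum_apply,
    Finset.sum_eq_single (⟨χ, hχ⟩ : IrrCharacter H) (fun ψ _ hne => ?_) (by simp),
    Pi.smul_apply, smul_eq_mul, multNat_indFun hχ hθ hZ] at h1
  · exact (mul_eq_zero.1 h1).resolve_left (Nat.cast_ne_zero.2 he)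
  · by_cases h0 : multNat (indFun Z θ) (ψ : H → ℂ) = 0
    · simp [h0]
    refine absurd (Subtype.ext (eq_of_over hχ hθ he2 hZ ψ.2 ?_)) hne
    rw [← conj_inner (Chars.isCharacter_restrict Z (Chars.isCharacter_of_irr ψ.2))
        (Chars.isCharacter_of_irr hθ), ← Chars.inner_indFun Z θ (Chars.isClassFunction_irr ψ),
      inner_eq_multNat hind (Chars.isCharacter_of_irr ψ.2)]
    exact_mod_cast h0

/-- There is no self-centralizing cyclic subgroup modulo `Z`. -/
theorem centralizer_ne_of_cyclic (hχ : IsIrrCharacter H χ) (hθ : IsIrrCharacter Z θ)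
    (he2 : e ^ 2 = Z.index) (hZ : ∀ z : Z, χ z = (e : ℂ) * θ z) (hne : Z ≠ ⊤)
    (C : Subgroup (H ⧸ Z)) (hC : IsCyclic C) :
    Subgroup.centralizer (C : Set (H ⧸ Z)) ≠ C := by
  classical
  intro hcent
  have he : e ≠ 0 := fun h0 => Subgroup.index_ne_zero_of_finite (H := Z) (by rw [← he2, h0]; rfl)
  obtain ⟨c₀, hgen⟩ := hC.exists_generator
  obtain ⟨x, hx⟩ := QuotientGroup.mk'_surjective Z (c₀ : H ⧸ Z)
  have hxZ : x ∉ Z := by
    intro h
    have hc1 : c₀ = 1 := Subtype.ext (by
      rw [← hx, OneMemClass.coe_one]; exact (QuotientGroup.eq_one_iff x).2 h)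
    have hCbot : C = ⊥ := by
      refine (Subgroup.eq_bot_iff_forall C).2 fun c hc => ?_
      obtain ⟨i, hi⟩ := Subgroup.mem_zpowers_iff.1 (hgen ⟨c, hc⟩)
      rw [hc1, one_zpow] at hi
      exact congrArg Subtype.val hi.symm
    refine hne (Subgroup.eq_top_iff' _ |>.2 fun y => ?_)
    have : (y : H ⧸ Z) ∈ Subgroup.centralizer (C : Set (H ⧸ Z)) := by
      rw [hCbot]
      exact Subgroup.mem_centralizer_iff.2 fun c hc => by
        rw [show c = 1 from hc, one_mul, mul_one]
    rw [hcent, hCbot, Subgroup.mem_bot] at this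
    exact (QuotientGroup.eq_one_iff y).1 this
  set K := C.comap (QuotientGroup.mk' Z) with hK
  have hZK : Z ≤ K := QuotientGroup.le_comap_mk' Z C
  have hxK : x ∈ K := by show QuotientGroup.mk' Z x ∈ C; rw [hx]; exact c₀.2
  let _ := Fintype.ofFinite K
  haveI : (Z.subgroupOf K).Normal := inferInstance
  let _ := Fintype.ofFinite (Z.subgroupOf K)
  let p : K →* C := ((QuotientGroup.mk' Z).comp K.subtype).codRestrict C fun x => x.2
  haveI : IsCyclic (↥K ⧸ Z.subgroupOf K) := by
    refine isCyclic_of_injective (QuotientGroup.lift (Z.subgroupOf K) p ?_) ?_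
    · intro a ha
      exact Subtype.ext ((QuotientGroup.eq_one_iff (N := Z) (a : H)).2 ha)
    · rw [injective_iff_map_eq_one]
      intro q
      induction q using QuotientGroup.induction_on with
      | H a =>
        intro ha
        refine (QuotientGroup.eq_one_iff a).2 ?_
        exact (QuotientGroup.eq_one_iff (N := Z) (a : H)).1 (congrArg Subtype.val ha)
  -- extend `θ` to `K`
  let eqv : Z.subgroupOf K ≃* Z := Subgroup.subgroupOfEquivOfLe hZK
  have hθ' : IsIrrCharacter (Z.subgroupOf K) (θ ∘ eqv.toMonoidHom) :=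
    Chars.isIrrCharacter_comp eqv.toMonoidHom eqv.surjective hθ
  obtain ⟨d, ρ, hρirr, hρθ, hinv, -⟩ := exists_invariant_rep (N := Z.subgroupOf K) hθ'
    (fun g n => by
      show θ (eqv (conjBy _ g n)) = θ (eqv n)
      rw [show eqv (conjBy _ g n) = conjBy Z (g : H) (eqv n) from Subtype.ext rfl,
        invariant hχ hZ he])
  haveI := hρirr
  obtain ⟨R, hR⟩ := repExtends_of_cyclic (Z.subgroupOf K) ρ hinv
  obtain ⟨-, hψ, hψZ⟩ := isIrrExt_of_rep (Z.subgroupOf K) R hR
  set ψ := R.character with hψdef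
  rw [hρθ] at hψZ
  have hψθ : ∀ z : Z, ψ ⟨z, hZK z.2⟩ = θ z := fun z => hψZ ⟨⟨z, hZK z.2⟩, z.2⟩
  -- every twist induces a multiple of `χ`
  haveI : IsMulCommutative C := inferInstance
  have hvan : ∀ (μ : C →* ℂˣ) (w : H), w ∉ Z →
      indFun K (fun k : K => (μ (p k) : ℂ) * ψ k) w = 0 := by
    intro μ w hw
    let _ := Chars.irrFintype H
    have hτ : IsIrrCharacter K (fun k : K => (μ (p k) : ℂ) * ψ k) :=
      Chars.isIrrCharacter_linear_mul (μ.comp p) hψ
    have hf := Chars.isCharacter_indFun K (Chars.isCharacter_of_irr hτ)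
    rw [congrFun (char_eq_sum_multNat hf) w, Finset.sum_apply]
    refine Finset.sum_eq_zero fun ξ _ => ?_
    by_cases h0 : multNat (indFun K fun k : K => (μ (p k) : ℂ) * ψ k) (ξ : H → ℂ) = 0
    · simp [h0]
    have hξK := Chars.isCharacter_restrict K (Chars.isCharacter_of_irr ξ.2)
    have hin : classInner (fun k : K => (ξ : H → ℂ) k) (fun k : K => (μ (p k) : ℂ) * ψ k) ≠ 0 := by
      rw [← conj_inner hξK (Chars.isCharacter_of_irr hτ),
        ← Chars.inner_indFun K _ (Chars.isClassFunction_irr ξ),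
        inner_eq_multNat hf (Chars.isCharacter_of_irr ξ.2)]
      exact_mod_cast h0
    have hcomp : (fun k : K => (μ (p k) : ℂ) * ψ k) ∘ (Subgroup.inclusion hZK) = θ := by
      funext z
      have h1 : p (Subgroup.inclusion hZK z) = 1 :=
        Subtype.ext ((QuotientGroup.eq_one_iff (N := Z) (z : H)).2 z.2)
      simp only [Function.comp_apply, h1, map_one, Units.val_one, one_mul]
      exact hψθ z
    have hge := inner_restrict_ge (Subgroup.inclusion hZK) hξK (Chars.isCharacter_of_irr hθ)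
      {(⟨_, hτ⟩ : IrrCharacter K)}
    rw [Finset.sum_singleton] at hge
    simp only [hcomp] at hge
    have h1 : multNat θ θ = 1 := by
      have h := Chars.inner_irr_self ⟨θ, hθ⟩
      rw [inner_eq_multNat (Chars.isCharacter_of_irr hθ) (Chars.isCharacter_of_irr hθ)] at h
      exact_mod_cast h
    rw [h1, mul_one] at hge
    have hξθ : classInner (fun z : Z => (ξ : H → ℂ) z) θ ≠ 0 := by
      rw [inner_eq_multNat (Chars.isCharacter_restrict Z (Chars.isCharacter_of_irr ξ.2))
        (Chars.isCharacter_of_irr hθ)]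
      have h2 := multNat_ne_zero hξK (Chars.isCharacter_of_irr hτ) hin
      have h3 : ((fun k : K => (ξ : H → ℂ) k) ∘ Subgroup.inclusion hZK) =
          fun z : Z => (ξ : H → ℂ) z := rfl
      rw [h3] at hge
      exact_mod_cast (show multNat (fun z : Z => (ξ : H → ℂ) z) θ ≠ 0 by omega)
    rw [eq_of_over hχ hθ he2 hZ ξ.2 hξθ, Pi.smul_apply,
      eq_zero_of_not_mem hχ hθ he2 hZ hw, smul_zero]
  -- the extension vanishes on the coset of a generator
  letI : CommGroup C := IsCyclic.commGroup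
  let _ : Fintype (C →* ℂˣ) := Fintype.ofFinite _
  have hzero : ∀ w : K, p w = c₀ → ψ w = 0 := by
    intro w hw
    have hwZ : (w : H) ∉ Z := by
      intro h
      refine hxZ ((QuotientGroup.eq_one_iff x).1 ?_)
      show QuotientGroup.mk' Z x = 1
      rw [hx, ← hw]
      exact (QuotientGroup.eq_one_iff (w : H)).2 h
    have key : ∀ y : H, (∑ μ : C →* ℂˣ, (μ c₀⁻¹ : ℂ) *
        extendByZero K (fun k : K => (μ (p k) : ℂ) * ψ k) (y⁻¹ * (w : H) * y)) =
        if y ∈ K then (Nat.card (C →* ℂˣ) : ℂ) * ψ w else 0 := by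
      intro y
      by_cases hy : y ∈ K
      · rw [if_pos hy]
        have hm : y⁻¹ * (w : H) * y ∈ K := K.mul_mem (K.mul_mem (K.inv_mem hy) w.2) hy
        have hpw : p ⟨_, hm⟩ = c₀ := by
          have : (⟨_, hm⟩ : K) = (⟨y, hy⟩ : K)⁻¹ * w * ⟨y, hy⟩ := rfl
          rw [this, map_mul, map_mul, map_inv, hw, mul_comm _ c₀, mul_assoc, inv_mul_cancel,
            mul_one]
        have hψc : ψ ⟨_, hm⟩ = ψ w := by
          have h := Chars.isClassFunction_of_isCharacter (Chars.isCharacter_of_irr hψ) w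
            (⟨y, hy⟩ : K)⁻¹
          rw [inv_inv] at h
          exact h
        rw [Finset.sum_congr rfl fun μ _ => by
          rw [Chars.extendByZero_of_mem _ _ hm, hpw, hψc, ← mul_assoc, ← Units.val_mul, ← map_mul,
            inv_mul_cancel, map_one, Units.val_one, one_mul], Finset.sum_const, Finset.card_univ,
          nsmul_eq_mul, Nat.card_eq_fintype_card]
      · rw [if_neg hy]
        by_cases hm : y⁻¹ * (w : H) * y ∈ K
        · set c := p ⟨_, hm⟩ with hc
          have hcne : c₀⁻¹ * c ≠ 1 := by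
            intro h
            apply hy
            have hcc : c = c₀ := (inv_mul_eq_one.1 h).symm
            have h2 : (c₀ : H ⧸ Z) * (y : H ⧸ Z) = (y : H ⧸ Z) * (c₀ : H ⧸ Z) := by
              have h3 : ((y⁻¹ * (w : H) * y : H) : H ⧸ Z) = (c₀ : H ⧸ Z) := by
                rw [← hcc]; rfl
              have h4 : ((w : H) : H ⧸ Z) = (c₀ : H ⧸ Z) := congrArg Subtype.val hw
              simp only [QuotientGroup.mk_mul, QuotientGroup.mk_inv, h4] at h3
              rw [mul_assoc, inv_mul_eq_iff_eq_mul] at h3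
              exact h3
            show QuotientGroup.mk' Z y ∈ C
            rw [← hcent, Subgroup.mem_centralizer_iff]
            intro a ha
            obtain ⟨i, hi⟩ := Subgroup.mem_zpowers_iff.1 (hgen ⟨a, ha⟩)
            have ha' : a = (c₀ : H ⧸ Z) ^ i := by
              rw [← Subgroup.coe_zpow, hi]
            rw [ha']
            exact Commute.zpow_left h2 i
          obtain ⟨μ₀, hμ₀⟩ := exists_hom_ne_one hcne
          have hsum : ∑ μ : C →* ℂˣ, (μ (c₀⁻¹ * c) : ℂ) = 0 := by
            have h := Fintype.sum_equiv (Equiv.mulLeft μ₀)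
              (fun μ : C →* ℂˣ => ((μ₀ * μ) (c₀⁻¹ * c) : ℂ))
              (fun μ : C →* ℂˣ => (μ (c₀⁻¹ * c) : ℂ)) fun μ => rfl
            simp only [MonoidHom.mul_apply, Units.val_mul, ← Finset.mul_sum] at h
            have hne1 : (μ₀ (c₀⁻¹ * c) : ℂ) ≠ 1 := fun h1 => hμ₀ (Units.ext h1)
            exact (mul_left_eq_self₀.1 h).resolve_left hne1
          rw [Finset.sum_congr rfl fun μ _ => by
            rw [Chars.extendByZero_of_mem _ _ hm, ← hc, ← mul_assoc, ← Units.val_mul, ← map_mul],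
            ← Finset.sum_mul, hsum, zero_mul]
        · refine Finset.sum_eq_zero fun μ _ => ?_
          rw [Chars.extendByZero_of_not_mem _ _ hm, mul_zero]
    have h1 : ∑ μ : C →* ℂˣ, (μ c₀⁻¹ : ℂ) *
        indFun K (fun k : K => (μ (p k) : ℂ) * ψ k) w = 0 :=
      Finset.sum_eq_zero fun μ _ => by rw [hvan μ w hwZ, mul_zero]
    simp only [Chars.indFun_apply, Finset.mul_sum, mul_left_comm (_ : ℂ) (Nat.card K : ℂ)⁻¹] at h1
    rw [Finset.sum_comm] at h1
    simp only [← Finset.mul_sum] at h1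
    rw [mul_eq_zero, or_iff_right (inv_ne_zero (Nat.cast_ne_zero.2 Nat.card_pos.ne')),
      Finset.sum_congr rfl fun y _ => key y, Finset.sum_ite, Finset.sum_const_zero, add_zero,
      Finset.sum_const, nsmul_eq_mul, ← mul_assoc, mul_eq_zero] at h1
    refine h1.resolve_left ?_
    exact mul_ne_zero (Nat.cast_ne_zero.2 (Finset.card_ne_zero.2 ⟨1, by simp [one_mem]⟩))
      (Nat.cast_ne_zero.2 Nat.card_pos.ne')
  have hnorm := coset_norm_avg (Z.subgroupOf K) hψ (by rw [funext hψZ]; exact hθ') ⟨x, hxK⟩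
  rw [Finset.sum_eq_zero (fun n _ => ?_), mul_zero] at hnorm
  · exact zero_ne_one hnorm
  rw [hzero _ ?_, zero_mul]
  rw [map_mul]
  have h1 : p (n : K) = 1 := Subtype.ext ((QuotientGroup.eq_one_iff (N := Z) _).2 n.2)
  rw [h1, one_mul]
  exact Subtype.ext hx

end CfsgLib.CharsMore.FullyRamified
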