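import Cfsg.Agent.Lib.CharsMore.ItoDegree
import Cfsg.Agent.Lib.CharsMore.CharAlg
import Cfsg.Agent.Lib.CharApps.Basic
import Cfsg.Agent.Lib.Chars.Quotient
import Cfsg.Agent.Lib.Base.Fitting
import Cfsg.Agent.Lib.Base.MinimalNormal
import Cfsg.Prelude.Def_Solvable
import Mathlib

/-!
# Kernels and degrees: the theorem of Broline and Garrison

If the kernel of an irreducible character is supplemented by a proper subgroup `H`, then either
some irreducible character has larger degree and smaller kernel, or the character vanishes on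
`H` outside its core.
-/

set_option linter.unusedSectionVars false
set_option linter.style.haveILetI false

namespace CfsgLib.CharsMore.KernelDegree

open Cfsg

variable {G : Type*} [Group G] [Finite G]

lemma charKer_lt {χ : IrrCharacter G} {H : Subgroup G} (hH : IsCoatom H)
    (hKH : CharApps.charKer χ ⊔ H = ⊤) :
    (∃ ψ : IrrCharacter G, charDegree (χ : G → ℂ) < charDegree (ψ : G → ℂ) ∧
      CharApps.charKer ψ < CharApps.charKer χ) ∨
    ∀ x ∈ H, x ∉ H.normalCore → (χ : G → ℂ) x = 0 := by
  classical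
  let _ := Fintype.ofFinite G
  let _ := Fintype.ofFinite H
  set K := CharApps.charKer χ with hKdef
  haveI := CharApps.charKer_normal χ
  set χH : H → ℂ := fun h => (χ : G → ℂ) h with hχH
  have hresC : IsCharacter H χH := Chars.isCharacter_restrict H (Chars.isCharacter_of_irr χ.2)
  have hindC : IsCharacter G (indFun H χH) := Chars.isCharacter_indFun H hresC
  -- every element is a product of one in the kernel and one in `H`
  have hcover : ∀ (ψ : IrrCharacter G), CharApps.charKer ψ ⊔ H = ⊤ →
      IsIrrCharacter H (fun h : H => (ψ : G → ℂ) h) := by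
    intro ψ hψ
    haveI := CharApps.charKer_normal ψ
    let f : H →* G ⧸ CharApps.charKer ψ := (QuotientGroup.mk' _).comp H.subtype
    have hf : Function.Surjective f := by
      intro q
      obtain ⟨g, rfl⟩ := QuotientGroup.mk_surjective q
      have hg : g ∈ CharApps.charKer ψ ⊔ H := hψ ▸ Subgroup.mem_top g
      obtain ⟨k, hk, h, hh, rfl⟩ := Subgroup.mem_sup_of_normal_left.1 hg
      refine ⟨⟨h, hh⟩, QuotientGroup.eq.2 ?_⟩
      show h⁻¹ * (k * h) ∈ _
      simpa [mul_assoc] using (CharApps.charKer_normal ψ).conj_mem k hk h⁻¹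
    obtain ⟨σ, hσ, hσe⟩ := Chars.exists_deflate_irr (CharApps.charKer ψ) ψ.2 fun x hx => hx
    have h := Chars.isIrrCharacter_comp f hf hσ
    have he : (fun h : H => (ψ : G → ℂ) h) = σ ∘ f := funext fun x => congrFun hσe (x : G)
    rw [he]; exact h
  have hirrH : IsIrrCharacter H χH := hcover χ hKH
  by_cases hbig : ∀ ψ : IrrCharacter G, classInner (indFun H χH) ψ ≠ 0 →
      charDegree (ψ : G → ℂ) ≤ charDegree (χ : G → ℂ)
  · right
    let _ := Chars.irrFintype G
    have hres : ∀ ψ : IrrCharacter G, classInner (indFun H χH) ψ ≠ 0 →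
        (fun h : H => (ψ : G → ℂ) h) = χH := by
      intro ψ hψ
      have h' : classInner (fun h : H => (ψ : G → ℂ) h) χH ≠ 0 := by
        rw [← conj_inner (Chars.isCharacter_restrict H (Chars.isCharacter_of_irr ψ.2)) hresC,
          ← Chars.inner_indFun H χH (Chars.isClassFunction_irr ψ)]
        exact hψ
      exact eq_of_constituent_degree (Chars.isCharacter_restrict H (Chars.isCharacter_of_irr ψ.2))
        hirrH h' (CharApps.deg_eq ψ) (CharApps.deg_eq χ) (hbig ψ hψ)
    -- on `H`, the induced character is a constant multiple of `χ`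
    set a : ℂ := ∑ ψ : IrrCharacter G, classInner (indFun H χH) ψ with ha
    have hexp : ∀ h : H, indFun H χH h = a * χH h := by
      intro h
      have h1 := congrFun (Chars.classFun_eq_sum (Chars.isClassFunction_indFun (H := H) χH)) (h : G)
      rw [h1, Finset.sum_apply, ha, Finset.sum_mul]
      refine Finset.sum_congr rfl fun ψ _ => ?_
      rw [Pi.smul_apply, smul_eq_mul]
      by_cases h0 : classInner (indFun H χH) ψ = 0
      · simp [h0]
      · exact congrArg _ (congrFun (hres ψ h0) h)
    have hdeg : (H.index : ℂ) = a := by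
      have h1 := hexp 1
      rw [OneMemClass.coe_one, Chars.indFun_one_apply] at h1
      exact mul_right_cancel₀ (Chars.irr_degree_ne_zero hirrH) h1
    intro x hxH hxc
    by_contra hne
    apply hxc
    have h1 := hexp ⟨x, hxH⟩
    rw [← hdeg, Chars.indFun_apply] at h1
    have h2 : ∀ g : G, extendByZero H χH (g⁻¹ * x * g) =
        if g⁻¹ * x * g ∈ H then (χ : G → ℂ) x else 0 := by
      intro g
      split_ifs with hg
      · rw [Chars.extendByZero_of_mem H χH hg]
        have := Chars.isClassFunction_irr χ x g⁻¹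
        simpa using this
      · exact Chars.extendByZero_of_not_mem H χH hg
    simp only [h2, Finset.sum_ite, Finset.sum_const_zero, add_zero, Finset.sum_const,
      nsmul_eq_mul] at h1
    rw [show χH ⟨x, hxH⟩ = (χ : G → ℂ) x from rfl, ← mul_assoc] at h1
    have h3 := mul_right_cancel₀ hne h1
    rw [inv_mul_eq_iff_eq_mul₀ (Nat.cast_ne_zero.2 Nat.card_pos.ne')] at h3
    norm_cast at h3
    rw [Subgroup.card_mul_index, Nat.card_eq_fintype_card, ← Finset.card_univ] at h3
    have hall := Finset.eq_univ_of_card _ (h3.trans (by simp))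
    intro g
    have hg : g⁻¹ ∈ Finset.univ.filter (fun g : G => g⁻¹ * x * g ∈ H) := by
      rw [hall]; exact Finset.mem_univ _
    simpa using (Finset.mem_filter.1 hg).2
  · left
    push Not at hbig
    obtain ⟨ψ, hψ, hlt⟩ := hbig
    replace hψ : classInner (fun h : H => (ψ : G → ℂ) h) χH ≠ 0 := by
      rw [← conj_inner (Chars.isCharacter_restrict H (Chars.isCharacter_of_irr ψ.2)) hresC,
        ← Chars.inner_indFun H χH (Chars.isClassFunction_irr ψ)]
      exact hψ
    refine ⟨ψ, hlt, ?_⟩
    have hLH : CharApps.charKer ψ ≤ H := by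
      by_contra hle
      have hψH : CharApps.charKer ψ ⊔ H = ⊤ :=
        hH.2 _ (lt_of_le_of_ne le_sup_right fun he => hle (he.symm ▸ le_sup_left))
      have hψirr := hcover ψ hψH
      rw [Chars.inner_irr_of_isIrr hψirr hirrH] at hψ
      split_ifs at hψ with he
      · have := congrFun he 1
        simp only [hχH, OneMemClass.coe_one, CharApps.deg_eq, Nat.cast_inj] at this
        omega
      · exact hψ rfl
    have hle : CharApps.charKer ψ ≤ K := by
      intro g hg
      -- `χ_H` occurs in `ψ_H`, on which `g` acts trivially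
      let M : Subgroup H := (CharApps.charKer ψ).subgroupOf H
      haveI : M.Normal := (CharApps.charKer_normal ψ).subgroupOf H
      let _ := Fintype.ofFinite M
      have hrestr : ∀ m : M, (ψ : G → ℂ) ((m : H) : G) = (ψ : G → ℂ) 1 := fun m => m.2
      obtain ⟨σ, hσ, hσe⟩ := Chars.exists_deflate M
        (Chars.isCharacter_restrict H (Chars.isCharacter_of_irr ψ.2)) fun m hm => hm
      let _ := Fintype.ofFinite (H ⧸ M)
      -- all constituents of an inflated character are inflated
      let _ := Chars.irrFintype (H ⧸ M)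
      have hsum := char_eq_sum_multNat hσ
      have h4 : classInner (fun h : H => (ψ : G → ℂ) h) χH =
          ∑ τ : IrrCharacter (H ⧸ M), (multNat σ τ : ℂ) *
            classInner (fun h : H => (τ : H ⧸ M → ℂ) h) χH := by
        rw [hσe]
        conv_lhs => rw [hsum]
        have : (fun g : H => (∑ τ : IrrCharacter (H ⧸ M), (multNat σ τ : ℂ) • (τ : H ⧸ M → ℂ)) g) =
            ∑ τ : IrrCharacter (H ⧸ M), (multNat σ τ : ℂ) • fun h : H => (τ : H ⧸ M → ℂ) h := by
          funext y; simp [Finset.sum_apply]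
        rw [this, Chars.inner_sum_left]
        simp only [Chars.inner_smul_left]
      rw [h4] at hψ
      obtain ⟨τ, -, hτ⟩ := Finset.exists_ne_zero_of_sum_ne_zero hψ
      have hτ' := right_ne_zero_of_mul hτ
      rw [Chars.inner_irr_of_isIrr (Chars.isIrrCharacter_inflate M τ.2) hirrH] at hτ'
      split_ifs at hτ' with he
      · have h5 := congrFun he ⟨g, hLH hg⟩
        have h6 := congrFun he 1
        simp only [hχH, OneMemClass.coe_one] at h5 h6
        rw [CharApps.mem_charKer, ← h5, ← h6]
        rw [show ((⟨g, hLH hg⟩ : H) : H ⧸ M) = 1 from (QuotientGroup.eq_one_iff _).2 hg]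
        rfl
      · exact absurd rfl hτ'
    refine lt_of_le_of_ne hle fun he => hH.1 ?_
    rw [← hKH]
    exact (sup_eq_right.2 (he ▸ hLH)).symm

/-- The index below an intermediate subgroup divides the whole. -/
lemma relIndex_dvd_of_le_of_le {A B C : Subgroup G} (hAB : A ≤ B) (hBC : B ≤ C) :
    A.relIndex B ∣ A.relIndex C :=
  Dvd.intro _ (Subgroup.relIndex_mul_relIndex A B C hAB hBC)

/-- Frattini argument for a subgroup. -/
lemma frattini_argument {p : ℕ} [Fact p.Prime] {M : Subgroup G} [M.Normal] {Q : Subgroup G}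
    (hQM : Q ≤ M) (hQ : IsPGroup p Q) (hidx : ¬ p ∣ Q.relIndex M) :
    Subgroup.normalizer (Q : Set G) ⊔ M = ⊤ := by
  have hQ' : IsPGroup p (Q.subgroupOf M) := hQ.of_equiv (Subgroup.subgroupOfEquivOfLe hQM).symm
  let S : Sylow p M := hQ'.toSylow hidx
  have h := Sylow.normalizer_sup_eq_top S
  have hS : ((S : Subgroup M).map M.subtype) = Q := by
    show (Q.subgroupOf M).map M.subtype = Q
    rw [Subgroup.map_subgroupOf_eq_of_le hQM]
  rwa [hS] at h

/-- A nilpotent normal subgroup has normal Sylow subgroups. -/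
lemma normal_of_sylow_le_nilpotent {q : ℕ} [Fact q.Prime] {K : Subgroup G} [hKn : K.Normal]
    (hK : Group.IsNilpotent K) {P : Subgroup G} (hPK : P ≤ K) (hP : IsPGroup q P)
    (hidx : ¬ q ∣ P.relIndex K) : P.Normal := by
  have hP' : IsPGroup q (P.subgroupOf K) := hP.of_equiv (Subgroup.subgroupOfEquivOfLe hPK).symm
  let S : Sylow q K := hP'.toSylow hidx
  have hall : ∀ (r : ℕ) (_ : Fact r.Prime) (S : Sylow r K), (S : Subgroup K).Normal :=
    ((Group.isNilpotent_of_finite_tfae (G := K)).out 0 3).1 hK
  haveI : (S : Subgroup K).Normal := hall q inferInstance S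
  haveI := S.characteristic_of_normal inferInstance
  have h : ((S : Subgroup K).map K.subtype).Normal := inferInstance
  rwa [show (S : Subgroup K).map K.subtype = P from Subgroup.map_subgroupOf_eq_of_le hPK] at h

/-- A group that is not nilpotent has a non-normal Sylow subgroup. -/
lemma exists_sylow_not_normal {M : Subgroup G} [M.Normal] (hM : ¬ M ≤ fittingSubgroup G) :
    ∃ (q : ℕ) (_ : Fact q.Prime) (P : Subgroup G), P ≤ M ∧ IsPGroup q P ∧
      ¬ q ∣ P.relIndex M ∧ ¬ P.Normal := by
  by_contra hcon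
  push Not at hcon
  apply hM
  refine Base.le_fittingSubgroup ?_
  refine ((Group.isNilpotent_of_finite_tfae (G := M)).out 0 3).2 fun q hq S => ?_
  haveI := hq
  have hmap := hcon q hq ((S : Subgroup M).map M.subtype) (Subgroup.map_subtype_le _)
    (S.2.map _) (by
      rw [Subgroup.relIndex, Subgroup.subgroupOf,
        Subgroup.comap_map_eq_self_of_injective M.subtype_injective]
      exact S.not_dvd_index)
  have := hmap.subgroupOf M
  rwa [Subgroup.subgroupOf, Subgroup.comap_map_eq_self_of_injective M.subtype_injective] at this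

/-- Broline and Garrison. -/
theorem broline_garrison (χ : IrrCharacter G)
    (h : ¬ CharApps.charKer χ ≤ fittingSubgroup G ∨
      (CharApps.charKer χ = fittingSubgroup G ∧
        (∀ [(CharApps.charKer χ).Normal], Group.IsSolvable (G ⧸ CharApps.charKer χ)) ∧
        CharApps.charKer χ ≠ ⊤)) :
    ∃ ψ : IrrCharacter G, charDegree (χ : G → ℂ) < charDegree (ψ : G → ℂ) ∧
      CharApps.charKer ψ < CharApps.charKer χ := by
  classical
  haveI := CharApps.charKer_normal χ
  set K := CharApps.charKer χ with hKdef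
  let _ := Fintype.ofFinite G
  -- the choice of a normal subgroup `M` with a non-normal Sylow subgroup `P`
  have key : ∀ M : Subgroup G, M.Normal → K ≤ M → ¬ M ≤ fittingSubgroup G →
      (∀ q : ℕ, Fact q.Prime → ∀ P : Subgroup G, P ≤ M → IsPGroup q P → ¬ q ∣ P.relIndex M →
        ¬ P.Normal → K ⊔ P = M ∧ ∀ H : Subgroup G, Subgroup.normalizer (P : Set G) ≤ H →
          IsCoatom H → (∀ x ∈ H, x ∉ H.normalCore → (χ : G → ℂ) x = 0) → False) →
      ∃ ψ : IrrCharacter G, charDegree (χ : G → ℂ) < charDegree (ψ : G → ℂ) ∧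
        CharApps.charKer ψ < K := by
    intro M hMn hKM hMF hfalse
    haveI := hMn
    obtain ⟨q, hq, P, hPM, hP, hidx, hPn⟩ := exists_sylow_not_normal hMF
    obtain ⟨hsup, hf⟩ := hfalse q hq P hPM hP hidx hPn
    rcases eq_top_or_exists_le_coatom (Subgroup.normalizer (P : Set G)) with ht | ⟨H, hH, hNH⟩
    · exact absurd (Subgroup.normalizer_eq_top_iff.1 ht) hPn
    have hKH : K ⊔ H = ⊤ := by
      refine top_le_iff.1 ?_
      rw [← frattini_argument hPM hP hidx, ← hsup]
      exact sup_le (hNH.trans le_sup_right)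
        (sup_le le_sup_left (Subgroup.le_normalizer.trans (hNH.trans le_sup_right)))
    rcases charKer_lt hH hKH with h1 | h1
    · exact h1
    · exact (hf H hNH hH h1).elim
  rcases h with hnF | ⟨hKF, hsol, hKtop⟩
  · refine key K inferInstance le_rfl hnF fun q hq P hPK hP hidx hPn =>
      ⟨sup_eq_left.2 hPK, fun H hNH hH hvan => ?_⟩
    haveI := hq
    have hPD : P ≤ K ⊓ H.normalCore := fun x hx => by
      refine ⟨hPK hx, ?_⟩
      by_contra hxc
      have h1 := hvan x (hNH (Subgroup.le_normalizer hx)) hxc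
      rw [CharApps.mem_charKer.1 (hPK hx)] at h1
      exact CharApps.deg_ne_zero χ h1
    refine hH.1 (top_le_iff.1 ?_)
    rw [← frattini_argument hPD hP (fun hd => hidx (hd.trans
      (relIndex_dvd_of_le_of_le hPD inf_le_left)))]
    exact sup_le hNH (inf_le_right.trans H.normalCore_le)
  haveI := hsol
  haveI : Nontrivial (G ⧸ K) := by
    rw [QuotientGroup.nontrivial_iff]; exact hKtop
  obtain ⟨Mq, hMq⟩ := Base.exists_isMinimalNormal (G := G ⧸ K)
  haveI := hMq.normal
  obtain ⟨p, hp, -, -, hMp⟩ := hMq.exists_prime inferInstance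
  haveI := Fact.mk hp
  set M := Mq.comap (QuotientGroup.mk' K) with hMdef
  have hKM : K ≤ M := fun x hx => by
    show (x : G ⧸ K) ∈ Mq
    rw [(QuotientGroup.eq_one_iff x).2 hx]; exact one_mem _
  have hMK : M ≠ K := fun he => hMq.ne_bot (by
    rw [← Subgroup.map_comap_eq_self_of_surjective (QuotientGroup.mk'_surjective K) Mq, ← hMdef,
      he, QuotientGroup.map_mk'_self])
  have hchief : ∀ L : Subgroup G, L.Normal → K ≤ L → L ≤ M → L = K ∨ L = M := by
    intro L hL hKL hLM
    rcases hMq.eq_bot_or_eq (hL.map _ (QuotientGroup.mk'_surjective K)) (by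
      rw [← Subgroup.map_comap_eq_self_of_surjective (QuotientGroup.mk'_surjective K) Mq]
      exact Subgroup.map_mono hLM) with h1 | h1
    · left
      refine le_antisymm (fun x hx => ?_) hKL
      have : (x : G ⧸ K) ∈ (⊥ : Subgroup (G ⧸ K)) := h1 ▸ ⟨x, hx, rfl⟩
      exact (QuotientGroup.eq_one_iff x).1 (Subgroup.mem_bot.1 this)
    · right
      rw [hMdef, ← h1, QuotientGroup.comap_map_mk', sup_eq_right.2 hKL]
  have hMF : ¬ M ≤ fittingSubgroup G := fun hle => hMK (le_antisymm (hKF ▸ hle) hKM)
  have hKnil : Group.IsNilpotent K := hKF ▸ Base.isNilpotent_fittingSubgroup G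
  have hMnorm : M.Normal := inferInstance
  refine key M hMnorm hKM hMF fun q hq P hPM hP hidx hPn => ?_
  haveI := hq
  have hPK : ¬ P ≤ K := fun hle => hPn (normal_of_sylow_le_nilpotent hKnil hle hP fun hd =>
    hidx (hd.trans (relIndex_dvd_of_le_of_le hle hKM)))
  have hKP : K ⊔ P = M := by
    rcases eq_or_ne ((K ⊔ P : Subgroup G).relIndex M) 1 with h1 | h1
    · exact le_antisymm (sup_le hKM hPM) (Subgroup.relIndex_eq_one.1 h1)
    exfalso
    obtain ⟨r, hr, hrd⟩ := Nat.exists_prime_and_dvd h1
    have hq' : r ∣ P.relIndex M := hrd.trans (Subgroup.relIndex_dvd_of_le_left M le_sup_right)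
    have hp' : r ∣ K.relIndex M := hrd.trans (Subgroup.relIndex_dvd_of_le_left M le_sup_left)
    have hcard : K.relIndex M = Nat.card Mq := by
      have h0 : (⊥ : Subgroup (G ⧸ K)).comap (QuotientGroup.mk' K) = K := by
        rw [MonoidHom.comap_bot, QuotientGroup.ker_mk']
      conv_lhs => rw [← h0]
      rw [Subgroup.relIndex_comap, Subgroup.relIndex_bot_left, hMdef,
        Subgroup.map_comap_eq_self_of_surjective (QuotientGroup.mk'_surjective K) Mq]
    obtain ⟨a, hpa⟩ := IsPGroup.iff_card.1 hMp
    rw [hcard, hpa] at hp'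
    have hrp : r = p := (Nat.prime_dvd_prime_iff_eq hr hp).1 (hr.dvd_of_dvd_pow hp')
    obtain ⟨x, hxP, hxK⟩ := SetLike.not_le_iff_exists.1 hPK
    have hqp : q = p := by
      by_contra hne
      obtain ⟨i, hi⟩ := hP ⟨x, hxP⟩
      obtain ⟨j, hj⟩ := hMp ⟨(x : G ⧸ K), hPM hxP⟩
      have hi' : ((x : G ⧸ K)) ^ q ^ i = 1 := by
        rw [← QuotientGroup.mk_pow, show x ^ q ^ i = 1 from congrArg Subtype.val hi]
        rfl
      have hj' : ((x : G ⧸ K)) ^ p ^ j = 1 := congrArg Subtype.val hj
      have hg := pow_gcd_eq_one.2 ⟨hi', hj'⟩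
      rw [((Nat.coprime_primes hq.out hp).2 hne).pow i j, pow_one] at hg
      exact hxK ((QuotientGroup.eq_one_iff x).1 hg)
    exact hidx (hqp ▸ hrp ▸ hq')
  refine ⟨hKP, fun H hNH hH hvan => ?_⟩
  have hPH : P ≤ H := Subgroup.le_normalizer.trans hNH
  set D := H.normalCore ⊓ M with hD
  have hDnotP : ¬ P ≤ D := fun hle => hH.1 (top_le_iff.1 (by
    rw [← frattini_argument hle hP (fun hd => hidx (hd.trans
      (relIndex_dvd_of_le_of_le hle inf_le_right)))]
    exact sup_le hNH (inf_le_left.trans H.normalCore_le)))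
  -- `O_p(K)` lies in the core
  set R := P ⊓ K with hR
  have hRidx : ¬ q ∣ R.relIndex K := by
    intro hd
    apply hidx
    rw [hR, Subgroup.inf_relIndex_right] at hd
    have h1 := Subgroup.relIndex_mul_relIndex (P ⊓ K) P M inf_le_left hPM
    have h2 := Subgroup.relIndex_mul_relIndex (P ⊓ K) K M inf_le_right hKM
    rw [Subgroup.inf_relIndex_left] at h1
    rw [Subgroup.inf_relIndex_right] at h2
    have h3 : K.relIndex M = K.relIndex P := by rw [← hKP, Subgroup.relIndex_sup_left]
    rw [h3, ← h1, mul_comm] at h2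
    rwa [← mul_left_cancel₀ (a := K.relIndex P) (Subgroup.index_ne_zero_of_finite
      (H := K.subgroupOf P)) h2]
  have hRn : R.Normal := normal_of_sylow_le_nilpotent hKnil inf_le_right
    (hP.to_le inf_le_left) hRidx
  have hRD : R ≤ D := le_inf
    (haveI := hRn; Subgroup.normal_le_normalCore.2 (inf_le_left.trans hPH))
    (inf_le_left.trans hPM)
  rcases hchief (K ⊔ D) inferInstance le_sup_left (sup_le hKM inf_le_right) with hcase | hcase
  · -- the character vanishes on `M` outside `K`
    have hzero : ∀ m ∈ M, m ∉ K → (χ : G → ℂ) m = 0 := by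
      intro m hm hmK
      rw [← hKP] at hm
      obtain ⟨k, hk, x, hx, rfl⟩ := Subgroup.mem_sup_of_normal_left.1 hm
      rw [(CharApps.char_mul_of_mem_ker (Chars.isCharacter_of_irr χ.2)
        (CharApps.mem_charKer.1 hk) x).1]
      refine hvan x (hPH hx) fun hxc => hmK (K.mul_mem hk ?_)
      have : x ∈ K ⊔ D := Subgroup.mem_sup_right ⟨hxc, hPM hx⟩
      rwa [hcase] at this
    let _ := Fintype.ofFinite M
    have hinner : classInner (fun m : M => (χ : G → ℂ) m) (fun _ : M => (1 : ℂ)) ≠ 0 := by
      rw [Chars.inner_def]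
      refine mul_ne_zero (inv_ne_zero (Nat.cast_ne_zero.2 Nat.card_pos.ne')) ?_
      have hterm : ∀ m : M, (χ : G → ℂ) m * starRingEnd ℂ 1 =
          if (m : G) ∈ K then (χ : G → ℂ) 1 else 0 := by
        intro m
        rw [map_one, mul_one]
        split_ifs with hm
        · exact CharApps.mem_charKer.1 hm
        · exact hzero m m.2 hm
      rw [Finset.sum_congr rfl fun m _ => hterm m, Finset.sum_ite, Finset.sum_const_zero,
        add_zero, Finset.sum_const, nsmul_eq_mul]
      refine mul_ne_zero (Nat.cast_ne_zero.2 fun h0 => ?_) (CharApps.deg_ne_zero χ)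
      rw [Finset.card_eq_zero, Finset.filter_eq_empty_iff] at h0
      exact h0 (Finset.mem_univ (1 : M)) K.one_mem
    apply hMK
    refine le_antisymm (fun m hm => ?_) hKM
    have hr := restrict_eq_mul_of_invariant M χ.2 Chars.isIrrCharacter_one (fun _ _ => rfl) hinner
    rw [CharApps.mem_charKer, hr ⟨m, hm⟩]
    exact (hr 1).symm
  · -- otherwise the core contains a Sylow subgroup
    apply hDnotP
    have h1 : D.relIndex M = D.relIndex K := by
      conv_lhs => rw [← hcase, sup_comm]
      exact Subgroup.relIndex_sup_left K D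
    have h2 : ¬ q ∣ D.relIndex M := by
      rw [h1]
      intro hd
      exact hRidx (hd.trans (Subgroup.relIndex_dvd_of_le_left K hRD))
    refine Subgroup.relIndex_eq_one.1 ?_
    by_contra hne
    obtain ⟨s, hs, hsd⟩ := Nat.exists_prime_and_dvd hne
    obtain ⟨b, hb⟩ := IsPGroup.iff_card.1 hP
    have hsq : s = q := (Nat.prime_dvd_prime_iff_eq hs hq.out).1
      (hs.dvd_of_dvd_pow (hb ▸ hsd.trans (Subgroup.relIndex_dvd_card _ _)))
    refine h2 (hsq ▸ hsd.trans ?_)
    rw [← Subgroup.relIndex_subgroupOf hPM]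
    exact Subgroup.relIndex_dvd_index_of_normal _ _

end CfsgLib.CharsMore.KernelDegree
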