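import Cfsg.Agent.Lib.CharsMore.CdTwo
import Cfsg.Agent.Lib.CharsMore.KernelDegree
import Cfsg.Agent.Lib.CharsMore.Gallagher
import Cfsg.Agent.Lib.Chars.Misc
import Mathlib

/-!
# Groups with three irreducible character degrees

Such groups are solvable of derived length at most three.
-/

set_option linter.unusedSectionVars false
set_option linter.style.haveILetI false

namespace CfsgLib.CharsMore.CdThree

open Cfsg
open scoped commutatorElement ComplexConjugate

universe u

/-- All degrees lie among `1`, `a`, `b`. -/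
def CdThreeLE (G : Type u) [Group G] (a b : ℕ) : Prop :=
  ∀ χ : IrrCharacter G,
    charDegree (χ : G → ℂ) = 1 ∨ charDegree (χ : G → ℂ) = a ∨ charDegree (χ : G → ℂ) = b

variable {G : Type u} [Group G] [Fintype G]

lemma CdThreeLE.quotient {a b : ℕ} (h : CdThreeLE G a b) (N : Subgroup G) [N.Normal] :
    CdThreeLE (G ⧸ N) a b :=
  fun ψ => h ⟨_, Chars.isIrrCharacter_inflate N ψ.2⟩

lemma CdThreeLE.symm {a b : ℕ} (h : CdThreeLE G a b) : CdThreeLE G b a :=
  fun χ => (h χ).imp id Or.symm

/-- A group with only linear characters is commutative. -/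
lemma mul_comm_of_linear (h : ∀ χ : IrrCharacter G, charDegree (χ : G → ℂ) = 1) (x y : G) :
    x * y = y * x := by
  refine commutatorElement_eq_one_iff_mul_comm.1 (Chars.eq_one_of_forall_irr fun χ => ?_)
  obtain ⟨lam, hlam⟩ := Chars.exists_hom_of_degree_one (Chars.isCharacter_of_irr χ.2)
    (by rw [CharApps.deg_eq, h χ, Nat.cast_one])
  rw [hlam]
  show (lam _ : ℂ) = (lam 1 : ℂ)
  rw [map_commutatorElement, commutatorElement_eq_one_iff_mul_comm.2 (mul_comm _ _), map_one]

lemma derivedSeries_two_eq_bot (h : ∀ a ∈ commutator G, ∀ b ∈ commutator G, a * b = b * a) :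
    derivedSeries G 2 = ⊥ := by
  rw [derivedSeries_succ, derivedSeries_one, Subgroup.commutator_eq_bot_iff_le_centralizer]
  exact fun a ha => Subgroup.mem_centralizer_iff.2 fun b hb => h b hb a ha

lemma derivedSeries_le_map {K : Subgroup G} {i : ℕ} (h : derivedSeries G i ≤ K) :
    ∀ j, derivedSeries G (i + j) ≤ (derivedSeries K j).map K.subtype
  | 0 => by
    rw [derivedSeries_zero, ← MonoidHom.range_eq_map, Subgroup.range_subtype]
    exact h
  | j + 1 => by
    rw [← Nat.add_assoc, derivedSeries_succ, derivedSeries_succ, Subgroup.map_commutator]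
    exact Subgroup.commutator_mono (derivedSeries_le_map h j) (derivedSeries_le_map h j)

lemma derivedSeries_eq_bot_of_le {K : Subgroup G} {i j : ℕ} (h : derivedSeries G i ≤ K)
    (hK : derivedSeries K j = ⊥) : derivedSeries G (i + j) = ⊥ := by
  have := derivedSeries_le_map h j
  rwa [hK, Subgroup.map_bot, le_bot_iff] at this

lemma derivedSeries_le_of_quotient {N : Subgroup G} [N.Normal] {i : ℕ}
    (h : derivedSeries (G ⧸ N) i = ⊥) : derivedSeries G i ≤ N := by
  intro x hx
  have h1 : QuotientGroup.mk' N x ∈ (derivedSeries G i).map (QuotientGroup.mk' N) :=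
    Subgroup.mem_map_of_mem _ hx
  rw [map_derivedSeries_eq (QuotientGroup.mk'_surjective N), h, Subgroup.mem_bot] at h1
  exact (QuotientGroup.eq_one_iff x).1 h1

lemma derivedSeries_three_of_two (h : derivedSeries G 2 = ⊥) : derivedSeries G 3 = ⊥ :=
  le_bot_iff.1 (h ▸ derivedSeries_antitone G (by norm_num))

/-! ### Constituents -/

lemma inner_mul_left (f h k : G → ℂ) :
    classInner (f * h) k = classInner f (fun g => conj (h g) * k g) := by
  rw [Chars.inner_def, Chars.inner_def]
  congr 1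
  refine Finset.sum_congr rfl fun g _ => ?_
  simp only [Pi.mul_apply, map_mul, Complex.conj_conj]
  ring

lemma deg_sum [Fintype (IrrCharacter G)] {φ : G → ℂ} (hφ : IsCharacter G φ) {d : ℕ}
    (hd : φ 1 = d) :
    d = ∑ ψ : IrrCharacter G, multNat φ ψ * charDegree (ψ : G → ℂ) := by
  have h := congrFun (char_eq_sum_multNat hφ) 1
  simp only [Finset.sum_apply, Pi.smul_apply, smul_eq_mul, CharApps.deg_eq, hd] at h
  exact_mod_cast h

/-- Splitting the degree of a character with constituents of two degrees only. -/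
lemma two_split {φ : G → ℂ} (hφ : IsCharacter G φ) {d : ℕ} (hd : φ 1 = d) {s t : ℕ} (hst : s ≠ t)
    (h : ∀ ψ : IrrCharacter G, classInner φ (ψ : G → ℂ) ≠ 0 →
      charDegree (ψ : G → ℂ) = s ∨ charDegree (ψ : G → ℂ) = t) :
    ∃ u v : ℕ, d = u * s + v * t ∧
      (∀ ψ : IrrCharacter G, classInner φ (ψ : G → ℂ) ≠ 0 → charDegree (ψ : G → ℂ) = s → 0 < u) ∧
      ∀ ψ : IrrCharacter G, classInner φ (ψ : G → ℂ) ≠ 0 → charDegree (ψ : G → ℂ) = t → 0 < v := by
  classical
  let _ := Chars.irrFintype G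
  set A : Finset (IrrCharacter G) := Finset.univ.filter fun ψ => charDegree (ψ : G → ℂ) = s with hA
  set B : Finset (IrrCharacter G) := Finset.univ.filter fun ψ => charDegree (ψ : G → ℂ) = t with hB
  refine ⟨∑ ψ ∈ A, multNat φ ψ, ∑ ψ ∈ B, multNat φ ψ, ?_, fun ψ hψ hs => ?_, fun ψ hψ ht => ?_⟩
  · have hA' : ∀ ψ ∈ A, multNat φ (ψ : G → ℂ) * s = multNat φ (ψ : G → ℂ) * charDegree (ψ : G → ℂ) :=
      fun ψ hψ => by rw [(Finset.mem_filter.1 hψ).2]
    have hB' : ∀ ψ ∈ B, multNat φ (ψ : G → ℂ) * t = multNat φ (ψ : G → ℂ) * charDegree (ψ : G → ℂ) :=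
      fun ψ hψ => by rw [(Finset.mem_filter.1 hψ).2]
    rw [deg_sum hφ hd, Finset.sum_mul, Finset.sum_mul, Finset.sum_congr rfl hA',
      Finset.sum_congr rfl hB',
      ← Finset.sum_union (Finset.disjoint_filter.2 fun ψ _ h1 h2 => hst (h1.symm.trans h2))]
    refine (Finset.sum_subset (Finset.subset_univ (A ∪ B)) fun ψ _ hn => ?_).symm
    by_cases h0 : classInner φ (ψ : G → ℂ) = 0
    · rw [inner_eq_multNat hφ (Chars.isCharacter_of_irr ψ.2), Nat.cast_eq_zero] at h0
      simp [h0]
    · exact absurd (h ψ h0) (by simpa [hA, hB] using hn)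
  all_goals
    refine lt_of_lt_of_le (Nat.pos_of_ne_zero
      (multNat_ne_zero hφ (Chars.isCharacter_of_irr ψ.2) hψ)) ?_
    exact Finset.single_le_sum (f := fun ψ : IrrCharacter G => multNat φ (ψ : G → ℂ))
      (fun _ _ => Nat.zero_le _) (by simp [A, B, *])

/-- If a product of two characters of the smaller degree has a constituent of the larger
degree, then they are conjugate up to a linear twist. -/
lemma twist_of_product {a b : ℕ} (ha : 1 < a) (hab : a < b) (hco : a.Coprime b)
    (hcd : CdThreeLE G a b) {χ₁ χ₂ ψ : IrrCharacter G} (h1 : charDegree (χ₁ : G → ℂ) = a)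
    (h2 : charDegree (χ₂ : G → ℂ) = a) (hψ : charDegree (ψ : G → ℂ) = b)
    (hc : classInner ((χ₁ : G → ℂ) * (χ₂ : G → ℂ)) (ψ : G → ℂ) ≠ 0) :
    ∃ lam : G →* ℂˣ, (χ₂ : G → ℂ) = fun g => (lam g : ℂ) * conj ((χ₁ : G → ℂ) g) := by
  classical
  set φ := (χ₁ : G → ℂ) * (χ₂ : G → ℂ) with hφdef
  have hφ : IsCharacter G φ :=
    Chars.isCharacter_mul (Chars.isCharacter_of_irr χ₁.2) (Chars.isCharacter_of_irr χ₂.2)
  have hd : φ 1 = ((a * a : ℕ) : ℂ) := by simp [hφdef, CharApps.deg_eq, h1, h2]
  obtain ⟨μ, hμ, hμ1⟩ : ∃ μ : IrrCharacter G, classInner φ (μ : G → ℂ) ≠ 0 ∧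
      charDegree (μ : G → ℂ) = 1 := by
    by_contra hcon
    push Not at hcon
    obtain ⟨u, v, he, -, hv⟩ := two_split hφ hd hab.ne fun ξ hξ =>
      (hcd ξ).resolve_left (hcon ξ hξ)
    have hv0 := hv ψ hc hψ
    have hdvd : a ∣ v * b :=
      (Nat.dvd_add_right (dvd_mul_left a u)).1 (he ▸ dvd_mul_left a a)
    have hav : a ≤ v := Nat.le_of_dvd hv0 (hco.dvd_of_dvd_mul_right hdvd)
    have : a * a < a * b := Nat.mul_lt_mul_of_pos_left hab (by omega)
    have : a * b ≤ v * b := Nat.mul_le_mul_right b hav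
    omega
  obtain ⟨lam, hlam⟩ := Chars.exists_hom_of_degree_one (Chars.isCharacter_of_irr μ.2)
    (by rw [CharApps.deg_eq, hμ1, Nat.cast_one])
  refine ⟨lam, ?_⟩
  rw [hφdef, mul_comm, inner_mul_left] at hμ
  have hirr : IsIrrCharacter G (fun g => conj ((χ₁ : G → ℂ) g) * (μ : G → ℂ) g) := by
    have := Chars.isIrrCharacter_linear_mul lam (Chars.isIrrCharacter_conj χ₁.2)
    convert this using 1
    funext g
    rw [hlam, mul_comm]
  rw [Chars.inner_irr_of_isIrr χ₂.2 hirr] at hμ
  have he : (χ₂ : G → ℂ) = fun g => conj ((χ₁ : G → ℂ) g) * (μ : G → ℂ) g := by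
    by_contra hne
    exact hμ (if_neg hne)
  rw [he]
  funext g
  rw [hlam, mul_comm]

/-- A nonabelian group has no faithful character of the smaller degree together with a
faithful character of the larger degree. -/
lemma comm_of_product {a b : ℕ} (ha : 1 < a) (hab : a < b) (hco : a.Coprime b)
    (hcd : CdThreeLE G a b) {χ₁ χ₂ ψ : IrrCharacter G} (h1 : charDegree (χ₁ : G → ℂ) = a)
    (h2 : charDegree (χ₂ : G → ℂ) = a) (hψ : charDegree (ψ : G → ℂ) = b)
    (hc : classInner ((χ₁ : G → ℂ) * (χ₂ : G → ℂ)) (ψ : G → ℂ) ≠ 0)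
    (hfaith : CharApps.charKer ψ = ⊥) : commutator G = ⊥ := by
  classical
  let _ := Chars.irrFintype G
  have hc1 := Chars.isCharacter_of_irr χ₁.2
  have hc2 := Chars.isCharacter_of_irr χ₂.2
  have hcψ := Chars.isCharacter_of_irr ψ.2
  set φ : G → ℂ := (ψ : G → ℂ) * (fun g => conj ((χ₂ : G → ℂ) g)) with hφdef
  have hφ : IsCharacter G φ := Chars.isCharacter_mul hcψ (Chars.isCharacter_conj hc2)
  have hd : φ 1 = ((b * a : ℕ) : ℂ) := by simp [hφdef, CharApps.deg_eq, hψ, h2]
  -- moving the factor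
  have hmove : ∀ ρ : IrrCharacter G, classInner φ (ρ : G → ℂ) ≠ 0 →
      classInner ((ρ : G → ℂ) * (χ₂ : G → ℂ)) (ψ : G → ℂ) ≠ 0 := by
    intro ρ hρ
    rw [hφdef, inner_mul_left] at hρ
    have e : (fun g => conj (conj ((χ₂ : G → ℂ) g)) * (ρ : G → ℂ) g) =
        (ρ : G → ℂ) * (χ₂ : G → ℂ) := by
      funext g; simp [mul_comm]
    rwa [e, ← conj_inner hcψ (Chars.isCharacter_mul (Chars.isCharacter_of_irr ρ.2) hc2)] at hρ
  have hnolin : ∀ ρ : IrrCharacter G, classInner φ (ρ : G → ℂ) ≠ 0 →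
      charDegree (ρ : G → ℂ) ≠ 1 := by
    intro ρ hρ hρ1
    obtain ⟨lam, hlam⟩ := Chars.exists_hom_of_degree_one (Chars.isCharacter_of_irr ρ.2)
      (by rw [CharApps.deg_eq, hρ1, Nat.cast_one])
    have h := hmove ρ hρ
    have hirr : IsIrrCharacter G ((ρ : G → ℂ) * (χ₂ : G → ℂ)) := by
      rw [hlam]; exact Chars.isIrrCharacter_linear_mul lam χ₂.2
    rw [Chars.inner_irr_of_isIrr hirr ψ.2] at h
    have he : (ρ : G → ℂ) * (χ₂ : G → ℂ) = (ψ : G → ℂ) := by
      by_contra hne
      exact h (if_neg hne)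
    have := congrFun he 1
    simp only [Pi.mul_apply, CharApps.deg_eq, hρ1, h2, hψ, Nat.cast_one, one_mul,
      Nat.cast_inj] at this
    omega
  have hχ1 : classInner φ (χ₁ : G → ℂ) ≠ 0 := by
    rw [hφdef, inner_mul_left]
    have e : (fun g => conj (conj ((χ₂ : G → ℂ) g)) * (χ₁ : G → ℂ) g) =
        (χ₁ : G → ℂ) * (χ₂ : G → ℂ) := by
      funext g; simp [mul_comm]
    rwa [e, ← conj_inner hcψ (Chars.isCharacter_mul hc1 hc2)]
  obtain ⟨u, v, he, hu, hv⟩ := two_split hφ hd hab.ne fun ξ hξ =>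
    (hcd ξ).resolve_left (hnolin ξ hξ)
  have hu0 := hu χ₁ hχ1 h1
  have hdvd : b ∣ u * a :=
    (Nat.dvd_add_left (dvd_mul_left b v)).1 (he ▸ dvd_mul_right b a)
  have hbu : b ≤ u := Nat.le_of_dvd hu0 (hco.symm.dvd_of_dvd_mul_right hdvd)
  have hv0 : v = 0 := by
    have : b * a ≤ u * a := Nat.mul_le_mul_right a hbu
    have : v * b = 0 := by omega
    rcases Nat.mul_eq_zero.1 this with h | h <;> omega
  have hdega : ∀ ρ : IrrCharacter G, classInner φ (ρ : G → ℂ) ≠ 0 →
      charDegree (ρ : G → ℂ) = a := fun ρ hρ =>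
    ((hcd ρ).resolve_left (hnolin ρ hρ)).resolve_right fun hb => by
      have := hv ρ hρ hb
      omega
  have hlin : ∀ (lam : G →* ℂˣ), ∀ g ∈ commutator G, (lam g : ℂ) = 1 := fun lam g hg => by
    rw [MonoidHom.mem_ker.1 (Abelianization.commutator_subset_ker lam hg), Units.val_one]
  have hone : ∀ g ∈ commutator G, (χ₂ : G → ℂ) g ≠ 0 → g = 1 := by
    intro g hg hne
    have hexp := congrFun (char_eq_sum_multNat hφ) g
    rw [Finset.sum_apply] at hexp
    have hterm : ∀ ρ : IrrCharacter G, ((multNat φ ρ : ℂ) • (ρ : G → ℂ)) g =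
        (multNat φ ρ : ℂ) * conj ((χ₂ : G → ℂ) g) := by
      intro ρ
      rw [Pi.smul_apply, smul_eq_mul]
      by_cases h0 : classInner φ (ρ : G → ℂ) = 0
      · rw [inner_eq_multNat hφ (Chars.isCharacter_of_irr ρ.2), Nat.cast_eq_zero] at h0
        simp [h0]
      · obtain ⟨lam, hlam⟩ := twist_of_product ha hab hco hcd (hdega ρ h0) h2 hψ (hmove ρ h0)
        rw [congrFun hlam g, hlin lam g hg]
        simp
    rw [Finset.sum_congr rfl fun ρ _ => hterm ρ, ← Finset.sum_mul] at hexp
    have hsum : ∑ ρ : IrrCharacter G, multNat φ (ρ : G → ℂ) = b := by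
      refine Nat.eq_of_mul_eq_mul_right (show 0 < a by omega) ?_
      rw [deg_sum hφ hd, Finset.sum_mul]
      refine Finset.sum_congr rfl fun ρ _ => ?_
      by_cases h0 : classInner φ (ρ : G → ℂ) = 0
      · rw [inner_eq_multNat hφ (Chars.isCharacter_of_irr ρ.2), Nat.cast_eq_zero] at h0
        simp [h0]
      · rw [hdega ρ h0]
    rw [← Nat.cast_sum, hsum, hφdef, Pi.mul_apply] at hexp
    have := mul_right_cancel₀ (star_ne_zero.2 hne) hexp
    have hg1 : g ∈ CharApps.charKer ψ := by
      show (ψ : G → ℂ) g = (ψ : G → ℂ) 1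
      rw [this, CharApps.deg_eq, hψ]
    simpa [hfaith] using hg1
  -- the restriction to the derived group is regular, so it contains the trivial character
  by_contra hne
  let N := commutator G
  let _ := Fintype.ofFinite N
  obtain ⟨x, hx, hx1⟩ := (Subgroup.bot_or_exists_ne_one N).resolve_left hne
  set θ : IrrCharacter N := Chars.principal N
  have hinner : classInner (fun n : N => (χ₂ : G → ℂ) n) (θ : N → ℂ) ≠ 0 := by
    rw [Chars.inner_def, Finset.sum_eq_single (1 : N) (fun n _ hn => ?_) (by simp)]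
    · simp [θ, Chars.principal_apply, CharApps.deg_eq, h2]
      omega
    · by_cases h0 : (χ₂ : G → ℂ) n = 0
      · simp [h0]
      · exact absurd (Subtype.ext (hone n n.2 h0)) hn
  have hconst := restrict_eq_mul_of_invariant N χ₂.2 θ.2
    (fun g n => by simp [θ, Chars.principal_apply]) hinner
  refine hx1 (hone x hx ?_)
  rw [show x = ((⟨x, hx⟩ : N) : G) from rfl, hconst, Chars.principal_apply,
    ← Chars.principal_apply (G := N) 1, ← hconst, OneMemClass.coe_one]
  exact CharApps.deg_ne_zero χ₂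

/-- Some product of two characters of the smaller degree has a constituent of the larger. -/
lemma exists_product {a b : ℕ} (hb1 : b ≠ 1) (hab : a ≠ b)
    (hcd : CdThreeLE G a b) {χ ψ : IrrCharacter G} (hχ : charDegree (χ : G → ℂ) = a)
    (hfaith : CharApps.charKer χ = ⊥) (hψ : charDegree (ψ : G → ℂ) = b) :
    ∃ χ₁ χ₂ ψ' : IrrCharacter G, charDegree (χ₁ : G → ℂ) = a ∧ charDegree (χ₂ : G → ℂ) = a ∧
      charDegree (ψ' : G → ℂ) = b ∧
      classInner ((χ₁ : G → ℂ) * (χ₂ : G → ℂ)) (ψ' : G → ℂ) ≠ 0 := by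
  classical
  let _ := Chars.irrFintype G
  by_contra hcon
  push Not at hcon
  obtain ⟨n, ρ, hρ, hρχ⟩ := id χ.2
  have hinj : Function.Injective ρ := by
    rw [← MonoidHom.ker_eq_bot_iff, eq_bot_iff]
    intro x hx
    have h := (Chars.ker_iff ρ hρχ x).mpr hx
    rw [← hfaith]
    exact h
  have hpow : ∀ i : ℕ, ∀ ξ : IrrCharacter G,
      classInner ((χ : G → ℂ) ^ i) (ξ : G → ℂ) ≠ 0 → charDegree (ξ : G → ℂ) ≠ b := by
    intro i
    induction i with
    | zero =>
      intro ξ hξ hξb
      rw [pow_zero, show (1 : G → ℂ) = (Chars.principal G : G → ℂ) from rfl,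
        Chars.inner_irr] at hξ
      split_ifs at hξ with h
      · subst h
        have h1 : (Chars.principal G : G → ℂ) 1 = 1 := Chars.principal_apply 1
        rw [CharApps.deg_eq, hξb] at h1
        exact hb1 (by exact_mod_cast h1)
      · exact hξ rfl
    | succ i ih =>
      intro ξ hξ hξb
      have hci : IsCharacter G ((χ : G → ℂ) ^ i) :=
        Chars.isCharacter_pow (Chars.isCharacter_of_irr χ.2) i
      rw [pow_succ, inner_mul_left] at hξ
      apply hξ
      rw [char_eq_sum_multNat hci, Chars.inner_sum_left]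
      refine Finset.sum_eq_zero fun φ _ => ?_
      rw [Chars.inner_smul_left]
      by_cases h0 : classInner ((χ : G → ℂ) ^ i) (φ : G → ℂ) = 0
      · rw [inner_eq_multNat hci (Chars.isCharacter_of_irr φ.2), Nat.cast_eq_zero] at h0
        simp [h0]
      rw [← inner_mul_left]
      rcases hcd φ with hd | hd | hd
      · obtain ⟨lam, hlam⟩ := Chars.exists_hom_of_degree_one (Chars.isCharacter_of_irr φ.2)
          (by rw [CharApps.deg_eq, hd, Nat.cast_one])
        have hirr : IsIrrCharacter G ((φ : G → ℂ) * (χ : G → ℂ)) := by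
          rw [hlam]; exact Chars.isIrrCharacter_linear_mul lam χ.2
        rw [Chars.inner_irr_of_isIrr hirr ξ.2, if_neg (fun he => hab ?_), mul_zero]
        have := congrFun he 1
        simpa [CharApps.deg_eq, hd, hχ, hξb] using this
      · rw [hcon φ χ ξ hd hχ hξb, mul_zero]
      · exact absurd hd (ih φ h0)
  obtain ⟨i, -, hi⟩ := Chars.exists_pow_inner_ne_zero ρ hinj ψ.2
  refine hpow i ψ ?_ hψ
  rw [← hρχ]
  exact hi

/-! ### Solvability -/

/-- The statement for all smaller groups. -/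
def SmallerBound (G : Type u) : Prop :=
  ∀ (H : Type u) [Group H] [Fintype H], Nat.card H < Nat.card G → ∀ a b : ℕ, a ≠ 0 → b ≠ 0 →
    CdThreeLE H a b → derivedSeries H 3 = ⊥

lemma isSolvable_quotient_of_smaller (ih : SmallerBound G) {a b : ℕ} (ha : a ≠ 0) (hb : b ≠ 0)
    (hcd : CdThreeLE G a b) (W : Subgroup G) [W.Normal] (hW : W ≠ ⊥) :
    Group.IsSolvable (G ⧸ W) := by
  let _ := Fintype.ofFinite (G ⧸ W)
  refine ⟨3, ih (G ⧸ W) ?_ a b ha hb (hcd.quotient W)⟩
  have := W.card_eq_card_quotient_mul_card_subgroup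
  have h3 : 1 < Nat.card W := (Subgroup.one_lt_card_iff_ne_bot W).mpr hW
  have h4 : 0 < Nat.card (G ⧸ W) := Nat.card_pos
  nlinarith

theorem isSolvable_of_coprime (ih : SmallerBound G) {a b : ℕ} (ha : 1 < a) (hab : a < b)
    (hco : a.Coprime b) (hcd : CdThreeLE G a b)
    (hbR : ∃ χ : IrrCharacter G, charDegree (χ : G → ℂ) = b) : Group.IsSolvable G := by
  classical
  by_contra hns
  have hq : ∀ (W : Subgroup G) [W.Normal], W ≠ ⊥ → Group.IsSolvable (G ⧸ W) :=
    fun W _ hW => isSolvable_quotient_of_smaller ih (by omega) (by omega) hcd W hW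
  have hnsol : ∀ (W : Subgroup G) [W.Normal], W ≠ ⊥ → ¬ Group.IsSolvable W := fun W _ hW h =>
    hns ((Group.isSolvable_iff_subgroup_quotient W).2 ⟨h, hq W hW⟩)
  have hF : fittingSubgroup G = ⊥ := by
    by_contra h
    haveI := Base.fittingSubgroup_normal' G
    haveI := Base.isNilpotent_fittingSubgroup G
    exact hnsol _ h inferInstance
  haveI : Nontrivial G := not_subsingleton_iff_nontrivial.1 fun _ => hns inferInstance
  obtain ⟨N, hN⟩ := Base.exists_isMinimalNormal (G := G)
  haveI := hN.normal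
  have hle : ∀ (W : Subgroup G) [W.Normal], W ≠ ⊥ → N ≤ W := by
    intro W _ hW
    refine (hN.le_or_inf_eq_bot W).resolve_right fun hinf => hns ?_
    haveI := hq W hW
    haveI := hq N hN.ne_bot
    have hinj : Function.Injective ((QuotientGroup.mk' W).prod (QuotientGroup.mk' N)) := by
      rw [← MonoidHom.ker_eq_bot_iff, MonoidHom.ker_prod, QuotientGroup.ker_mk',
        QuotientGroup.ker_mk', inf_comm]
      exact hinf
    exact Group.isSolvable_of_isSolvable_injective hinj
  have hbfaith : ∀ ψ : IrrCharacter G, charDegree (ψ : G → ℂ) = b → CharApps.charKer ψ = ⊥ := by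
    intro ψ hψ
    by_contra hK
    obtain ⟨ξ, hξ, -⟩ := KernelDegree.broline_garrison ψ (Or.inl fun h => hK (le_bot_iff.1 (hF ▸ h)))
    rcases hcd ξ with h | h | h <;> omega
  obtain ⟨ψ, hψ⟩ := hbR
  by_cases hall : ∀ χ : IrrCharacter G, charDegree (χ : G → ℂ) = a → N ≤ CharApps.charKer χ
  · -- the quotient has two degrees only
    have hcdQ : CdTwo.CdTwoLE (G ⧸ N) a := by
      intro χ
      let χ' : IrrCharacter G := ⟨_, Chars.isIrrCharacter_inflate N χ.2⟩
      rcases hcd χ' with h | h | h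
      · exact Or.inl h
      · exact Or.inr h
      · exfalso
        refine hN.ne_bot (le_bot_iff.1 ?_)
        rw [← hbfaith χ' h]
        intro x hx
        show (χ : G ⧸ N → ℂ) (x : G ⧸ N) = (χ : G ⧸ N → ℂ) ((1 : G) : G ⧸ N)
        rw [(QuotientGroup.eq_one_iff x).2 hx]
        rfl
    let _ := Fintype.ofFinite (G ⧸ N)
    obtain ⟨A, hAn, hAab, -, hAi⟩ :=
      CdTwo.exists_abelian_nilpotent_quotient (show a ≠ 0 by omega) hcdQ
    set π := QuotientGroup.mk' N
    set M := A.comap π with hM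
    haveI : M.Normal := hAn.comap π
    have hMidx : M.index = A.index :=
      Subgroup.index_comap_of_surjective _ (QuotientGroup.mk'_surjective N)
    let _ := Fintype.ofFinite M
    have hMcd : CdTwo.CdTwoLE M b := by
      intro θ
      obtain ⟨χ, hχ⟩ := exists_over M θ.2
      obtain ⟨k, hk0, hk, hkM⟩ := degree_quotient M χ.2 θ.2 hχ
      rw [CharApps.deg_eq, CharApps.deg_eq] at hk
      have hk' : charDegree (χ : G → ℂ) = k * charDegree (θ : M → ℂ) := by exact_mod_cast hk
      rcases hcd χ with h | h | h <;> rw [h] at hk'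
      · exact Or.inl (Nat.eq_one_of_mul_eq_one_left hk'.symm)
      · -- constituents are trivial on `N`, so linear
        left
        have hker : ∀ n : G, n ∈ N → (χ : G → ℂ) n = (χ : G → ℂ) 1 := fun n hn => hall χ h hn
        obtain ⟨σ, hσ, hσe⟩ := Chars.exists_deflate_irr N χ.2 hker
        let _ := Fintype.ofFinite A
        let p : M →* A := (π.comp M.subtype).codRestrict A fun x => x.2
        have hp : Function.Surjective p := by
          rintro ⟨v, hv⟩
          obtain ⟨g, rfl⟩ := QuotientGroup.mk'_surjective N v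
          exact ⟨⟨g, hv⟩, rfl⟩
        have hres : IsCharacter A (fun x : A => σ x) :=
          Chars.isCharacter_restrict A (Chars.isCharacter_of_irr hσ)
        let _ := Chars.irrFintype A
        by_contra hθ1
        apply hχ
        have e : (fun n : M => (χ : G → ℂ) n) =
            ∑ τ : IrrCharacter A, (multNat (fun x : A => σ x) τ : ℂ) • ((τ : A → ℂ) ∘ p) := by
          funext n
          rw [congrFun hσe (n : G)]
          have := congrFun (char_eq_sum_multNat hres) (p n)
          simp only [Finset.sum_apply, Pi.smul_apply, Function.comp_apply] at this ⊢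
          exact this
        rw [e, Chars.inner_sum_left]
        refine Finset.sum_eq_zero fun τ _ => ?_
        rw [Chars.inner_smul_left,
          show classInner ((τ : A → ℂ) ∘ p) (θ : M → ℂ) = _ from
            Chars.inner_irr_of_isIrr (Chars.isIrrCharacter_comp p hp τ.2) θ.2,
          if_neg, mul_zero]
        intro he
        apply hθ1
        have h1 := congrFun he 1
        rw [map_one, Chars.irr_abelian_degree
          (fun x y : A => Subtype.ext (hAab x x.2 y y.2)) τ.2, CharApps.deg_eq] at h1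
        exact_mod_cast h1.symm
      · right
        have hk1 : k = 1 := by
          by_contra hne
          obtain ⟨r, hr, hrk⟩ := Nat.exists_prime_and_dvd hne
          have h5 : r ∣ a := hAi r hr (hMidx ▸ hrk.trans hkM)
          have h6 : r ∣ b := hk' ▸ hrk.trans (dvd_mul_right _ _)
          exact hr.not_dvd_one (hco ▸ Nat.dvd_gcd h5 h6)
        rw [hk', hk1, one_mul]
    haveI : Group.IsSolvable M :=
      ⟨2, derivedSeries_two_eq_bot (CdTwo.commutator_abelian (by omega) hMcd)⟩
    have hNM : N ≤ M := QuotientGroup.le_comap_mk' N A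
    exact hnsol N hN.ne_bot
      (Group.isSolvable_of_isSolvable_injective (Subgroup.inclusion_injective hNM))
  · push Not at hall
    obtain ⟨χ, hχ, hχN⟩ := hall
    have hχf : CharApps.charKer χ = ⊥ := by
      by_contra h
      haveI := CharApps.charKer_normal χ
      exact hχN (hle _ h)
    obtain ⟨χ₁, χ₂, ψ', h1, h2, h3, h4⟩ := exists_product (by omega) hab.ne hcd hχ hχf hψ
    have hG' := comm_of_product ha hab hco hcd h1 h2 h3 h4 (hbfaith ψ' h3)
    exact hns ⟨1, by rw [derivedSeries_one, hG']⟩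

/-! ### The derived length -/

/-- A monomial character is trivial on the derived subgroup of a normal subgroup acting
trivially in all smaller degrees. -/
lemma monomial_ker {χ : IrrCharacter G} (hM : Chars.IsMonomial (χ : G → ℂ))
    (h1 : charDegree (χ : G → ℂ) ≠ 1) (D : Subgroup G) [D.Normal]
    (hD : ∀ ξ : IrrCharacter G, charDegree (ξ : G → ℂ) < charDegree (χ : G → ℂ) →
      D ≤ CharApps.charKer ξ) :
    ⁅D, D⁆ ≤ CharApps.charKer χ := by
  classical
  let _ := Chars.irrFintype G
  obtain ⟨H, lam, hlam⟩ := hM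
  let _ := Fintype.ofFinite H
  set n := charDegree (χ : G → ℂ) with hn
  have hidx : H.index = n := by
    have h := congrFun hlam 1
    rw [Chars.indFun_one_apply, CharApps.deg_eq] at h
    simpa using h.symm
  set π := indFun H (fun _ : H => (1 : ℂ)) with hπ
  have hπc : IsCharacter G π := Chars.isCharacter_indFun H Chars.isCharacter_one
  have hπd : π 1 = (n : ℂ) := by rw [hπ, Chars.indFun_one_apply, hidx, mul_one]
  have hsmall : ∀ ξ : IrrCharacter G, classInner π ξ ≠ 0 → charDegree (ξ : G → ℂ) < n := by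
    intro ξ hξ
    by_contra hge
    push Not at hge
    have he := eq_of_constituent_degree hπc ξ.2 hξ hπd (CharApps.deg_eq ξ) hge
    have h1' : classInner π (Chars.principal G : G → ℂ) = 1 := by
      rw [hπ, Chars.inner_indFun H _ (Chars.isClassFunction_irr _)]
      exact Chars.inner_one_one
    rw [he, Chars.inner_irr] at h1'
    split_ifs at h1' with hp
    · subst hp
      have := hπd
      rw [he, Chars.principal_apply] at this
      exact h1 (by exact_mod_cast this.symm)
    · norm_num at h1'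
  have hcore : D ≤ H.normalCore := by
    intro x hx g
    have hxg : g * x * g⁻¹ ∈ D := Subgroup.Normal.conj_mem inferInstance x hx g
    have h2 : π (g * x * g⁻¹) = π 1 := by
      rw [char_eq_sum_multNat hπc]
      simp only [Finset.sum_apply, Pi.smul_apply, smul_eq_mul]
      refine Finset.sum_congr rfl fun ξ _ => ?_
      by_cases h0 : classInner π (ξ : G → ℂ) = 0
      · rw [inner_eq_multNat hπc (Chars.isCharacter_of_irr ξ.2)] at h0
        simp [h0]
      · have := hD ξ (hsmall ξ h0) hxg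
        rw [show (ξ : G → ℂ) (g * x * g⁻¹) = (ξ : G → ℂ) 1 from this]
    by_contra hne
    rw [hπ, Chars.indFun_apply, Chars.indFun_apply] at h2
    have h3 := mul_left_cancel₀ (inv_ne_zero (Nat.cast_ne_zero.2 Nat.card_pos.ne')) h2
    have h4 := congrArg Complex.re h3
    simp only [Complex.re_sum] at h4
    refine absurd h4 (ne_of_lt (Finset.sum_lt_sum (fun z _ => ?_) ⟨1, Finset.mem_univ 1, ?_⟩))
    · rw [show z⁻¹ * 1 * z = ((1 : H) : G) by simp, Chars.extendByZero_coe]
      by_cases hz : z⁻¹ * (g * x * g⁻¹) * z ∈ H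
      · rw [Chars.extendByZero_of_mem _ _ hz]
      · rw [Chars.extendByZero_of_not_mem _ _ hz]; simp
    · rw [show (1 : G)⁻¹ * 1 * 1 = ((1 : H) : G) by simp, Chars.extendByZero_coe,
        Chars.extendByZero_of_not_mem _ _ (by simpa using hne)]
      simp
  rw [Subgroup.commutator_le]
  intro x hx y hy
  show (χ : G → ℂ) ⁅x, y⁆ = (χ : G → ℂ) 1
  rw [hlam, commutatorElement_def]
  exact indFun_linear_commutator H lam (hcore hx) (hcore hy)

theorem derived_three_of_monomial {a b : ℕ} (ha : 1 < a) (hab : a < b) (hcd : CdThreeLE G a b)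
    (hM : ∀ χ : G → ℂ, IsIrrCharacter G χ → Chars.IsMonomial χ) : derivedSeries G 3 = ⊥ := by
  classical
  haveI := derivedSeries_normal G 1
  haveI := derivedSeries_normal G 2
  have k1 : ∀ ξ : IrrCharacter G, charDegree (ξ : G → ℂ) = 1 →
      derivedSeries G 1 ≤ CharApps.charKer ξ := by
    intro ξ hξ x hx
    obtain ⟨lam, hlam⟩ := Chars.exists_hom_of_degree_one (Chars.isCharacter_of_irr ξ.2)
      (by rw [CharApps.deg_eq, hξ, Nat.cast_one])
    rw [derivedSeries_one] at hx
    show (ξ : G → ℂ) x = (ξ : G → ℂ) 1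
    simp [hlam, MonoidHom.mem_ker.1 (Abelianization.commutator_subset_ker lam hx)]
  have k2 : ∀ ξ : IrrCharacter G, charDegree (ξ : G → ℂ) < b →
      derivedSeries G 2 ≤ CharApps.charKer ξ := by
    intro ξ hξ
    rcases hcd ξ with h | h | h
    · exact (derivedSeries_antitone G one_le_two).trans (k1 ξ h)
    · rw [derivedSeries_succ]
      refine monomial_ker (hM _ ξ.2) (by omega) _ fun η hη => k1 η ?_
      rcases hcd η with h' | h' | h' <;> omega
    · omega
  rw [eq_bot_iff]
  intro x hx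
  refine Subgroup.mem_bot.2 (Chars.eq_one_of_forall_irr fun χ => ?_)
  rcases hcd χ with h | h | h
  · exact k1 χ h (derivedSeries_antitone G (by norm_num) hx)
  · exact k2 χ (by omega) (derivedSeries_antitone G (by norm_num) hx)
  · rw [derivedSeries_succ] at hx
    exact monomial_ker (hM _ χ.2) (by omega) _ (fun η hη => k2 η (h ▸ hη)) hx

/-- The case where every nonlinear degree is divisible by the prime `p`. -/
theorem bound_of_common (ih : SmallerBound G) {a b p : ℕ} (hp : p.Prime) (ha : 1 < a)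
    (hab : a < b) (hpa : p ∣ a) (hpb : p ∣ b) (hcd : CdThreeLE G a b)
    (haR : ∃ χ : IrrCharacter G, charDegree (χ : G → ℂ) = a) : derivedSeries G 3 = ⊥ := by
  classical
  obtain ⟨N, hNn, hNc, l, hl⟩ := Cfsg.Agent.S4456.result (G := G) p hp fun χ hχ => by
    rcases (hcd χ).resolve_left hχ with h | h <;> rwa [h]
  haveI := hNn
  let _ := Fintype.ofFinite N
  have hNcd : CdThreeLE N (ordCompl[p] a) (ordCompl[p] b) := by
    intro θ
    obtain ⟨χ, hχ⟩ := exists_over N θ.2
    obtain ⟨k, -, hk, hkN⟩ := degree_quotient N χ.2 θ.2 hχ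
    rw [CharApps.deg_eq, CharApps.deg_eq] at hk
    have hk' : charDegree (χ : G → ℂ) = k * charDegree (θ : N → ℂ) := by exact_mod_cast hk
    obtain ⟨i, -, rfl⟩ := (Nat.dvd_prime_pow hp).1 (hl ▸ hkN)
    obtain ⟨d, -, hd, hdd⟩ := Chars.irr_degree_dvd_card θ.2
    have hd' : charDegree (θ : N → ℂ) = d := by
      rw [CharApps.deg_eq] at hd; exact_mod_cast hd
    have hpθ : ¬ p ∣ charDegree (θ : N → ℂ) := fun h =>
      hp.not_dvd_one (hNc ▸ Nat.dvd_gcd ((hd' ▸ h).trans hdd) dvd_rfl)
    have e : ordCompl[p] (p ^ i * charDegree (θ : N → ℂ)) = charDegree (θ : N → ℂ) := by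
      exact Nat.ordCompl_pow_mul_of_not_dvd i hp hpθ
    rcases hcd χ with h | h | h <;> rw [h] at hk'
    · exact Or.inl (Nat.eq_one_of_mul_eq_one_left hk'.symm)
    · exact Or.inr (Or.inl (by conv_rhs => rw [hk', e]))
    · exact Or.inr (Or.inr (by conv_rhs => rw [hk', e]))
  have ha0 : ordCompl[p] a ≠ 0 := (Nat.ordCompl_pos p (by omega)).ne'
  have hb0 : ordCompl[p] b ≠ 0 := (Nat.ordCompl_pos p (by omega)).ne'
  haveI hp' := Fact.mk hp
  have hnilQ : Group.IsNilpotent (G ⧸ N) := by
    refine (IsPGroup.of_card (p := p) (n := l) ?_).isNilpotent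
    rw [← hl]; rfl
  -- the derived subgroup of `N`
  haveI : (⁅N, N⁆ : Subgroup G).Normal := Subgroup.commutator_normal N N
  set L : Subgroup G := ⁅N, N⁆ with hL
  have hLN : L ≤ N := Subgroup.commutator_le_self N
  have hLeq : (derivedSeries N 1).map N.subtype = L := by
    rw [derivedSeries_one, Subgroup.map_subtype_commutator]
  have hQdeg : ∀ ξ : IrrCharacter (G ⧸ L), ∃ i, charDegree (ξ : G ⧸ L → ℂ) = p ^ i := by
    intro ξ
    let _ := Fintype.ofFinite (G ⧸ L)
    set π := QuotientGroup.mk' L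
    haveI : (N.map π).Normal := hNn.map π (QuotientGroup.mk'_surjective L)
    let _ := Fintype.ofFinite (N.map π)
    obtain ⟨d, hd, hdd⟩ := ito_degree_dvd (N.map π) (by
      rintro _ ⟨x, hx, rfl⟩ _ ⟨y, hy, rfl⟩
      refine commutatorElement_eq_one_iff_mul_comm.1 ?_
      rw [← map_commutatorElement]
      exact (QuotientGroup.eq_one_iff _).2 (Subgroup.commutator_mem_commutator hx hy)) ξ.2
    have hidx : (N.map π).index = N.index :=
      N.index_map_eq (QuotientGroup.mk'_surjective L) (by rwa [QuotientGroup.ker_mk'])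
    obtain ⟨i, -, hi⟩ := (Nat.dvd_prime_pow hp).1 (hl ▸ hidx ▸ hdd)
    refine ⟨i, ?_⟩
    rw [CharApps.deg_eq, hi] at hd
    exact_mod_cast hd
  have hQcd : ∀ {c e : ℕ}, CdThreeLE G c e → ordCompl[p] e ≠ 1 →
      CdTwo.CdTwoLE (G ⧸ L) c := by
    intro c e hce he ξ
    obtain ⟨i, hi⟩ := hQdeg ξ
    refine ((hce.quotient L) ξ).imp id fun h => h.resolve_right fun h' => he ?_
    rw [← h', hi, Nat.ordCompl_self_pow hp]
  -- one part is trivial
  have hone : ∀ {c e : ℕ}, c ≠ 0 → ordCompl[p] e ≠ 0 → CdThreeLE G c e → ordCompl[p] e ≠ 1 →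
      CdTwo.CdTwoLE N (ordCompl[p] e) → derivedSeries G 3 = ⊥ := by
    intro c e hc0 he0 hce he hN2
    let _ := Fintype.ofFinite (G ⧸ L)
    have h2 : derivedSeries G 2 ≤ L := derivedSeries_le_of_quotient
      (derivedSeries_two_eq_bot (CdTwo.commutator_abelian hc0 (hQcd hce he)))
    rw [derivedSeries_succ]
    refine le_bot_iff.1 ((Subgroup.commutator_mono h2 h2).trans ?_)
    have hN'' := derivedSeries_two_eq_bot (CdTwo.commutator_abelian he0 hN2)
    rw [← hLeq, ← Subgroup.map_commutator, ← derivedSeries_succ, hN'', Subgroup.map_bot]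
  by_cases ha1 : ordCompl[p] a = 1
  · by_cases hb1 : ordCompl[p] b = 1
    · refine derived_three_of_monomial ha hab hcd fun χ hχ => ?_
      refine CdTwo.isMonomial_of_abelian_nilpotent (Nat.card G) G N le_rfl ?_ hnilQ χ hχ
      refine CdTwo.abelian_of_linear N fun θ => ?_
      rcases hNcd θ with h | h | h <;> rw [CharApps.deg_eq, h]
      · simp
      · rw [ha1, Nat.cast_one]
      · rw [hb1, Nat.cast_one]
    · refine hone (show a ≠ 0 by omega) hb0 hcd hb1 fun θ => ?_
      rcases hNcd θ with h | h | h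
      · exact Or.inl h
      · exact Or.inl (h.trans ha1)
      · exact Or.inr h
  by_cases hb1 : ordCompl[p] b = 1
  · refine hone (show b ≠ 0 by omega) ha0 hcd.symm ha1 fun θ => ?_
    rcases hNcd θ with h | h | h
    · exact Or.inl h
    · exact Or.inr h
    · exact Or.inl (h.trans hb1)
  -- the quotient is abelian
  let _ := Fintype.ofFinite (G ⧸ L)
  have h1 : derivedSeries G 1 ≤ L := by
    refine derivedSeries_le_of_quotient ?_
    rw [derivedSeries_one, commutator_eq_bot_iff_center_eq_top, Subgroup.eq_top_iff']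
    refine fun x => Subgroup.mem_center_iff.2 fun y => mul_comm_of_linear (fun ξ => ?_) y x
    rcases hQcd hcd hb1 ξ with h | h
    · exact h
    · exfalso
      obtain ⟨i, hi⟩ := hQdeg ξ
      rw [h] at hi
      exact ha1 (by rw [hi, Nat.ordCompl_self_pow hp])
  have hlt : Nat.card N < Nat.card G := by
    refine lt_of_le_of_ne (Subgroup.card_le_card_group N) fun e => ?_
    obtain ⟨χ, hχ⟩ := haR
    obtain ⟨d, -, hd, hdd⟩ := Chars.irr_degree_dvd_card χ.2
    rw [CharApps.deg_eq, hχ, Nat.cast_inj] at hd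
    exact hp.not_dvd_one (hNc ▸ Nat.dvd_gcd (e ▸ (hd ▸ hpa).trans hdd) dvd_rfl)
  have hN3 := ih N hlt _ _ ha0 hb0 hNcd
  have h2 : derivedSeries G 2 ≤ (derivedSeries N 2).map N.subtype := by
    rw [derivedSeries_succ, derivedSeries_succ N, Subgroup.map_commutator, hLeq]
    exact Subgroup.commutator_mono h1 h1
  have h3 : derivedSeries G 3 ≤ (derivedSeries N 3).map N.subtype := by
    rw [derivedSeries_succ, derivedSeries_succ N, Subgroup.map_commutator]
    exact Subgroup.commutator_mono h2 h2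
  rw [hN3, Subgroup.map_bot] at h3
  exact le_bot_iff.1 h3

/-- The solvable case with coprime degrees. -/
theorem bound_of_coprime [Group.IsSolvable G] {a b : ℕ} (ha : 1 < a) (hb : 1 < b)
    (hco : a.Coprime b) (hcd : CdThreeLE G a b)
    (haR : ∃ χ : IrrCharacter G, charDegree (χ : G → ℂ) = a)
    (hbR : ∃ χ : IrrCharacter G, charDegree (χ : G → ℂ) = b) : derivedSeries G 3 = ⊥ := by
  classical
  have hnab : ¬ commutator G ≤ ⊥ := by
    intro h
    obtain ⟨χ, hχ⟩ := haR
    have := Chars.irr_abelian_degree (fun x y : G => commutatorElement_eq_one_iff_mul_comm.1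
      (Subgroup.mem_bot.1 (h (Subgroup.commutator_mem_commutator (Subgroup.mem_top x)
        (Subgroup.mem_top y))))) χ.2
    rw [CharApps.deg_eq, hχ, Nat.cast_eq_one] at this
    omega
  obtain ⟨M, ⟨hMn, hMG⟩, hmax⟩ := Finite.exists_le_maximal
    (p := fun M : Subgroup G => ∃ _ : M.Normal, ¬ commutator G ≤ M) (a := ⊥)
    ⟨inferInstance, hnab⟩ |>.imp fun M h => h.2
  haveI := hMn
  let _ := Fintype.ofFinite (G ⧸ M)
  set π := QuotientGroup.mk' M with hπ
  have hπs : Function.Surjective π := QuotientGroup.mk'_surjective M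
  have hmapc : (commutator G).map π = commutator (G ⧸ M) := by
    rw [← derivedSeries_one, map_derivedSeries_eq hπs, derivedSeries_one]
  have hmin : ∀ (W : Subgroup (G ⧸ M)) [W.Normal], W ≠ ⊥ → commutator (G ⧸ M) ≤ W := by
    intro W _ hW
    rw [← hmapc, Subgroup.map_le_iff_le_comap]
    by_contra hn
    have hlt := hmax ⟨inferInstance, hn⟩ (QuotientGroup.le_comap_mk' M W)
    apply hW
    rw [← Subgroup.map_comap_eq_self_of_surjective hπs W,
      le_antisymm hlt (QuotientGroup.le_comap_mk' M W), QuotientGroup.map_mk'_self]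
  have hne : commutator (G ⧸ M) ≠ ⊥ := by
    rw [← hmapc, Ne, Subgroup.map_eq_bot_iff, QuotientGroup.ker_mk']
    exact hMG
  have hX2 : derivedSeries (G ⧸ M) 2 = ⊥ := by
    by_contra h
    haveI := derivedSeries_normal (G ⧸ M) 2
    have h1 := hmin _ h
    have h2 := Group.IsSolvable.commutator_lt_of_ne_bot hne
    rw [derivedSeries_succ, derivedSeries_one] at h1
    exact not_le_of_gt h2 h1
  have hXab : ∀ x ∈ commutator (G ⧸ M), ∀ y ∈ commutator (G ⧸ M), x * y = y * x := by
    intro x hx y hy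
    rw [derivedSeries_succ, derivedSeries_one, Subgroup.commutator_eq_bot_iff_le_centralizer] at hX2
    exact (Subgroup.mem_centralizer_iff.1 (hX2 hy) x hx).symm ▸ rfl
  have hXcd := hcd.quotient M
  by_cases hnil : Group.IsNilpotent (G ⧸ M)
  · exfalso
    -- a `q`-group
    obtain ⟨q, hq, hqd⟩ := Nat.exists_prime_and_dvd
      (show Nat.card (commutator (G ⧸ M)) ≠ 1 from fun h => hne (Subgroup.card_eq_one.1 h))
    haveI := Fact.mk hq
    have hXq : ∀ {r : ℕ}, r.Prime → r ∣ Nat.card (G ⧸ M) → r = q := by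
      intro r hr hrd
      haveI := Fact.mk hr
      obtain ⟨R⟩ : Nonempty (Sylow r (G ⧸ M)) := inferInstance
      have hall : ∀ (r : ℕ) (_ : Fact r.Prime) (S : Sylow r (G ⧸ M)),
          (S : Subgroup (G ⧸ M)).Normal :=
        ((Group.isNilpotent_of_finite_tfae (G := G ⧸ M)).out 0 3).1 hnil
      haveI := hall r inferInstance R
      have hR : (R : Subgroup (G ⧸ M)) ≠ ⊥ := R.ne_bot_of_dvd_card hrd
      obtain ⟨i, hi⟩ := IsPGroup.iff_card.1 R.2
      have := hqd.trans (Subgroup.card_dvd_of_le (hmin _ hR))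
      rw [hi] at this
      exact ((Nat.prime_dvd_prime_iff_eq hq hr).1 (hq.dvd_of_dvd_pow this)).symm
    have hcard := Nat.eq_prime_pow_of_unique_prime_dvd (p := q) (Nat.card_pos (α := G ⧸ M)).ne' hXq
    obtain ⟨ξ, hξ⟩ : ∃ ξ : IrrCharacter (G ⧸ M), charDegree (ξ : G ⧸ M → ℂ) ≠ 1 := by
      by_contra hcon
      push Not at hcon
      apply hne
      rw [commutator_eq_bot_iff_center_eq_top, Subgroup.eq_top_iff']
      exact fun x => Subgroup.mem_center_iff.2 fun y => mul_comm_of_linear hcon y x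
    obtain ⟨d, -, hd, hdd⟩ := Chars.irr_degree_dvd_card ξ.2
    rw [CharApps.deg_eq, Nat.cast_inj] at hd
    rw [← hd, hcard] at hdd
    obtain ⟨i, -, hi⟩ := (Nat.dvd_prime_pow hq).1 hdd
    set f := charDegree (ξ : G ⧸ M → ℂ) with hf
    obtain ⟨g, hg1, hfg, χ, hχ, hfull⟩ : ∃ g : ℕ, 1 < g ∧ f.Coprime g ∧
        ∃ χ : IrrCharacter G, charDegree (χ : G → ℂ) = g ∧ CdThreeLE G f g := by
      rcases (hXcd ξ).resolve_left hξ with h | h
      · obtain ⟨χ, hχ⟩ := hbR
        exact ⟨b, hb, by rw [hf, h]; exact hco, χ, hχ, by rw [hf, h]; exact hcd⟩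
      · obtain ⟨χ, hχ⟩ := haR
        exact ⟨a, ha, by rw [hf, h]; exact hco.symm, χ, hχ, by rw [hf, h]; exact hcd.symm⟩
    -- the restriction to `M` is irreducible
    let _ := Fintype.ofFinite M
    obtain ⟨θ, hθ⟩ := exists_below M χ.2
    obtain ⟨k, -, hk, hkM⟩ := degree_quotient M χ.2 θ.2 hθ
    rw [CharApps.deg_eq, CharApps.deg_eq] at hk
    have hk' : charDegree (χ : G → ℂ) = k * charDegree (θ : M → ℂ) := by exact_mod_cast hk
    rw [hχ] at hk'
    have hk1 : k = 1 := by
      obtain ⟨j, -, hj⟩ := (Nat.dvd_prime_pow hq).1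
        ((show k ∣ Nat.card (G ⧸ M) from hkM).trans (dvd_of_eq hcard))
      rcases j with - | j
      · simpa using hj
      exfalso
      have h5 : q ∣ g := hk' ▸ (hj ▸ dvd_pow_self q j.succ_ne_zero).trans (dvd_mul_right _ _)
      have h6 : q ∣ f := by
        rcases i with - | i
        · exact absurd (by simpa using hi) hξ
        · exact hi ▸ dvd_pow_self q i.succ_ne_zero
      exact hq.not_dvd_one (hfg ▸ Nat.dvd_gcd h6 h5)
    have hres : IsIrrCharacter M (fun n : M => (χ : G → ℂ) n) := by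
      rw [eq_of_constituent_degree (Chars.isCharacter_restrict M (Chars.isCharacter_of_irr χ.2))
        θ.2 hθ (d := g) (by rw [OneMemClass.coe_one, CharApps.deg_eq, hχ]) (CharApps.deg_eq θ)
        (by rw [hk', hk1, one_mul])]
      exact θ.2
    let _ := Chars.irrFintype G
    let β : IrrCharacter G := ⟨_, Chars.isIrrCharacter_inflate M ξ.2⟩
    have hβ : β ∈ quotIrr M := (mem_quotIrr M).2 fun x hx => by
      show (ξ : G ⧸ M → ℂ) (x : G ⧸ M) = (ξ : G ⧸ M → ℂ) ((1 : G) : G ⧸ M)
      rw [(QuotientGroup.eq_one_iff x).2 hx]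
      rfl
    have hprod := gallagher_irr M χ.2 hres hβ
    have hdeg : charDegree ((β : G → ℂ) * (χ : G → ℂ)) = f * g := by
      have h := CharApps.deg_eq (⟨_, hprod⟩ : IrrCharacter G)
      have hb' : (β : G → ℂ) 1 = (f : ℂ) := CharApps.deg_eq ξ
      change (β : G → ℂ) 1 * (χ : G → ℂ) 1 = _ at h
      rw [hb', CharApps.deg_eq, hχ] at h
      exact_mod_cast h.symm
    have hfpos : 1 < f := by
      have := CharApps.deg_pos ξ
      omega
    rcases hfull ⟨_, hprod⟩ with h | h | h <;> rw [hdeg] at h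
    · have := Nat.eq_one_of_mul_eq_one_left h; omega
    · nlinarith
    · nlinarith
  obtain ⟨V, hVn, q, hq, ⟨ξ, hξ⟩, hf1, hqf, hlt, hVab, hVq, hdV, hfpf⟩ :=
    CdTwo.frobenius_core hXab hnil fun W _ hW => by
      refine Subgroup.isNilpotent_of_ker_le_center (1 : (G ⧸ M) ⧸ W →* Unit) ?_
      refine fun x _ => Subgroup.mem_center_iff.2 fun y => ?_
      induction x using QuotientGroup.induction_on with | _ x =>
      induction y using QuotientGroup.induction_on with | _ y =>
      rw [← QuotientGroup.mk_mul, ← QuotientGroup.mk_mul, QuotientGroup.eq]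
      refine hmin W hW ?_
      have e : (y * x)⁻¹ * (x * y) = ⁅x⁻¹, y⁻¹⁆ := by simp [commutatorElement_def, mul_assoc]
      rw [e]
      exact Subgroup.commutator_mem_commutator (Subgroup.mem_top _) (Subgroup.mem_top _)
  obtain ⟨f, hf, g, hg0, hfg, hfull⟩ : ∃ f, V.index = f ∧ ∃ g, g ≠ 0 ∧ f.Coprime g ∧
      CdThreeLE G f g := by
    rcases (hXcd ξ).resolve_left (hξ ▸ hf1) with h | h <;> rw [hξ] at h
    · exact ⟨a, h, b, by omega, hco, hcd⟩
    · exact ⟨b, h, a, by omega, hco.symm, hcd.symm⟩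
  set K := V.comap π with hK
  haveI : K.Normal := hVn.comap π
  let _ := Fintype.ofFinite K
  have hKidx : K.index = f := by rw [hK, Subgroup.index_comap_of_surjective _ hπs, hf]
  have hKcd : CdTwo.CdTwoLE K g := by
    intro θ
    obtain ⟨χ, hχ⟩ := exists_over K θ.2
    obtain ⟨k, -, hk, hkK⟩ := degree_quotient K χ.2 θ.2 hχ
    rw [CharApps.deg_eq, CharApps.deg_eq] at hk
    have hk' : charDegree (χ : G → ℂ) = k * charDegree (θ : K → ℂ) := by exact_mod_cast hk
    rw [hKidx] at hkK
    rcases hfull χ with h | h | h <;> rw [h] at hk'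
    · exact Or.inl (Nat.eq_one_of_mul_eq_one_left hk'.symm)
    · left
      have hdf : charDegree (θ : K → ℂ) ∣ f := Dvd.intro_left _ hk'.symm
      obtain ⟨χ', hχ'⟩ := CdTwo.exists_twist_degree M hVn hq hlt hVab hVq hfpf hK θ
        fun h => hqf (hf ▸ h.trans hdf)
      rw [hf] at hχ'
      rcases hfull χ' with h | h | h <;> rw [h] at hχ'
      · exact Nat.eq_one_of_dvd_one ((dvd_mul_left _ _).trans hχ')
      · refine Nat.eq_one_of_dvd_one
          (Nat.dvd_of_mul_dvd_mul_left (k := f)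
            (Nat.pos_of_ne_zero (hf ▸ Subgroup.index_ne_zero_of_finite)) (by simpa using hχ'))
      · exact absurd (hfg ▸ Nat.dvd_gcd dvd_rfl ((dvd_mul_right _ _).trans hχ'))
          (fun h => hf1 (hf.trans (Nat.eq_one_of_dvd_one h)))
    · right
      have hk1 : k = 1 := Nat.eq_one_of_dvd_one
        (hfg ▸ Nat.dvd_gcd hkK (Dvd.intro _ hk'.symm))
      rw [hk', hk1, one_mul]
  refine derivedSeries_eq_bot_of_le (i := 1) (j := 2) (K := K) ?_
    (derivedSeries_two_eq_bot (CdTwo.commutator_abelian hg0 hKcd))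
  rw [derivedSeries_one, hK, ← Subgroup.map_le_iff_le_comap, hmapc]
  exact hdV

/-- At most three degrees: derived length at most three. -/
theorem derived_three : ∀ (n : ℕ) (G : Type u) [Group G] [Fintype G], Nat.card G ≤ n →
    ∀ a b : ℕ, a ≠ 0 → b ≠ 0 → CdThreeLE G a b → derivedSeries G 3 = ⊥ := by
  intro n
  induction n with
  | zero => intro G _ _ h; exact absurd h (Nat.card_pos (α := G)).not_ge
  | succ n ihn =>
    intro G _ _ hn a b ha0 hb0 hcd
    have ih : SmallerBound G := fun H _ _ h => ihn H (by omega)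
    have htwo : ∀ {m : ℕ}, m ≠ 0 → CdTwo.CdTwoLE G m → derivedSeries G 3 = ⊥ := fun hm h =>
      derivedSeries_three_of_two (derivedSeries_two_eq_bot (CdTwo.commutator_abelian hm h))
    wlog hab : a ≤ b generalizing a b
    · exact this b a hb0 ha0 hcd.symm (le_of_not_ge hab)
    by_cases haR : ∃ χ : IrrCharacter G, charDegree (χ : G → ℂ) = a
    swap
    · exact htwo hb0 fun χ => (hcd χ).imp id fun h => h.resolve_left fun h => haR ⟨χ, h⟩
    by_cases hbR : ∃ χ : IrrCharacter G, charDegree (χ : G → ℂ) = b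
    swap
    · exact htwo ha0 fun χ => (hcd χ).imp id fun h => h.resolve_right fun h => hbR ⟨χ, h⟩
    rcases hab.eq_or_lt with rfl | hlt
    · exact htwo ha0 fun χ => (hcd χ).imp id fun h => h.elim id id
    rcases eq_or_lt_of_le (show 1 ≤ a by omega) with h1 | ha
    · exact htwo hb0 fun χ => (hcd χ).elim Or.inl
        fun h => h.elim (fun h => Or.inl (h.trans h1.symm)) Or.inr
    by_cases hco : a.Coprime b
    · haveI := isSolvable_of_coprime ih ha hlt hco hcd hbR
      exact bound_of_coprime ha (by omega) hco hcd haR hbR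
    · obtain ⟨p, hp, hpa, hpb⟩ := Nat.Prime.not_coprime_iff_dvd.1 hco
      exact bound_of_common ih hp ha hlt hpa hpb hcd haR

end CfsgLib.CharsMore.CdThree
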