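import Cfsg.Agent.Lib.CharsMore.InducedIrr
import Cfsg.Agent.Lib.Chars.Degree
import Cfsg.Agent.Lib.Chars.Quotient

/-!
# Descent of coherence (Peterfalvi 6.2 and 6.3)
-/

set_option linter.unusedSectionVars false
set_option linter.style.haveILetI false

namespace CfsgLib.CharsMore

open Cfsg Module
open scoped ComplexConjugate commutatorElement

section DegreeBound

variable {C : Type*} [Group C] [Fintype C]

/-- An element commuting with everything modulo the kernel has maximal absolute value. -/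
lemma norm_eq_of_commutes_mod_ker {η : C → ℂ} (hη : IsIrrCharacter C η) {d : C}
    (hd : ∀ c : C, η (d * c * d⁻¹ * c⁻¹) = η 1) : ‖η d‖ = charDegree η := by
  obtain ⟨n, ρ, hρ, rfl⟩ := hη
  haveI := hρ
  have hcomm : ∀ c, ρ d * ρ c = ρ c * ρ d := fun c => by
    have h1 := (Chars.ker_iff ρ rfl _).1 (hd c)
    calc ρ d * ρ c = ρ (d * c * d⁻¹ * c⁻¹) * (ρ c * ρ d) := by
          rw [← map_mul, ← map_mul, ← map_mul]; group
      _ = ρ c * ρ d := by rw [h1, one_mul]
  let T : ρ.IntertwiningMap ρ :=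
    LinearMap.intertwiningMap_of_isIntertwiningMap ρ ρ (ρ d) (fun g x => by
      rw [← Module.End.mul_apply, hcomm, Module.End.mul_apply])
  obtain ⟨c, hc⟩ :=
    (Representation.IsIrreducible.algebraMap_intertwiningMap_bijective_of_isAlgClosed (ρ := ρ)).2 T
  have hω : ρ d = c • (LinearMap.id : (Fin n → ℂ) →ₗ[ℂ] _) := LinearMap.ext fun x => by
    have h2 : T x = (algebraMap ℂ (ρ.IntertwiningMap ρ) c) x := by rw [hc]
    simpa [T] using h2
  rw [(Chars.norm_character_eq_iff ρ d).2 ⟨c, hω⟩, charDegree, Representation.char_one,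
    Complex.natCast_re, Nat.floor_natCast]

/-- The square of the degree is at most the index of a subgroup on which the character has
maximal absolute value. -/
lemma degree_sq_le_index {η : C → ℂ} (hη : IsIrrCharacter C η) (D : Subgroup C)
    (hD : ∀ d ∈ D, ‖η d‖ = charDegree η) : charDegree η ^ 2 ≤ D.index := by
  classical
  have h1 := congrArg Complex.re (Chars.inner_irr_self (⟨η, hη⟩ : IrrCharacter C))
  rw [Chars.inner_self_eq, Complex.ofReal_re, Complex.one_re] at h1
  have hsum : ∑ g : C, ‖η g‖ ^ 2 = (Nat.card C : ℝ) := by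
    have hne : (Nat.card C : ℝ) ≠ 0 := Nat.cast_ne_zero.2 Nat.card_pos.ne'
    field_simp at h1
    exact h1
  have h2 : (Nat.card D : ℝ) * (charDegree η : ℝ) ^ 2 ≤ ∑ g : C, ‖η g‖ ^ 2 := by
    refine le_trans ?_ (Finset.sum_le_sum_of_subset_of_nonneg
      (Finset.subset_univ (Finset.univ.filter (· ∈ D))) fun g _ _ => by positivity)
    rw [Finset.sum_congr rfl (fun g hg => by rw [hD g (Finset.mem_filter.1 hg).2]),
      Finset.sum_const, nsmul_eq_mul, ← Fintype.card_subtype, ← Nat.card_eq_fintype_card]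
  rw [hsum, ← D.card_mul_index, Nat.cast_mul] at h2
  exact_mod_cast le_of_mul_le_mul_left h2 (by exact_mod_cast Nat.card_pos)

end DegreeBound

variable {L : Type*} [Group L] [Fintype L] {K : Subgroup L} [hK : K.Normal]

/-- The degree bound of Peterfalvi 6.2. -/
lemma degree_sq_le_central_step [Fintype K] {B C D : Subgroup L}
    (hCK : C ≤ K) (hcent : ∀ x ∈ D, ∀ y ∈ C, x * y * x⁻¹ * y⁻¹ ∈ B)
    {θ : K → ℂ} (hθ : IsIrrCharacter K θ) (hB : ∀ a : K, (a : L) ∈ B → θ a = θ 1) :
    charDegree θ ^ 2 ≤ C.relIndex K ^ 2 * D.relIndex C := by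
  classical
  set C' := C.subgroupOf K
  let _ : Fintype C' := Fintype.ofFinite _
  have hθc := Chars.isCharacter_of_irr hθ
  have hres := Chars.isCharacter_restrict C' hθc
  obtain ⟨η, hη⟩ := Chars.exists_constituent hres fun h0 =>
    Chars.irr_degree_ne_zero hθ (congrFun h0 1)
  have hηd : charDegree θ ≤ C.relIndex K * charDegree (η : C' → ℂ) := by
    have h1 : classInner (indFun C' (η : C' → ℂ)) θ ≠ 0 := by
      rw [Chars.inner_indFun C' _ (Chars.isClassFunction_of_isCharacter hθc), ← Chars.inner_conj]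
      exact (map_ne_zero _).mpr hη
    have h2 := Chars.re_le_of_inner_ne_zero hθ
      (Chars.isCharacter_indFun C' (Chars.isCharacter_of_irr η.2)) h1
    rw [Chars.indFun_one_apply, CharApps.deg_eq_of_isChar hθc, CharApps.deg_eq η, ← Nat.cast_mul,
      Complex.natCast_re, Complex.natCast_re, Nat.cast_le] at h2
    exact h2
  set D' := (D.subgroupOf K).subgroupOf C'
  have hηD : charDegree (η : C' → ℂ) ^ 2 ≤ D'.index := by
    refine degree_sq_le_index η.2 D' fun d hd => norm_eq_of_commutes_mod_ker η.2 fun c => ?_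
    have hb : ((d * c * d⁻¹ * c⁻¹ : C') : L) ∈ B := by
      simpa using hcent _ hd _ c.2
    have h1 := CharApps.constituent_scalar hres (c := 1) norm_one (z := d * c * d⁻¹ * c⁻¹)
      (by rw [mul_one]; exact hB _ hb) η hη
    rwa [mul_one] at h1
  have hidx : D'.index = D.relIndex C := Subgroup.relIndex_subgroupOf hCK
  calc charDegree θ ^ 2 ≤ (C.relIndex K * charDegree (η : C' → ℂ)) ^ 2 :=
        Nat.pow_le_pow_left hηd 2
    _ = C.relIndex K ^ 2 * charDegree (η : C' → ℂ) ^ 2 := mul_pow _ _ _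
    _ ≤ C.relIndex K ^ 2 * D.relIndex C := Nat.mul_le_mul_left _ (hidx ▸ hηD)

variable {G : Type*} [Group G] [Fintype G] {τ : (L → ℂ) → (G → ℂ)}

/-- Peterfalvi 6.2. -/
theorem coherent_central_step (hsolv : Group.IsSolvable K) {R : (L → ℂ) → Finset (G → ℂ)}
    (hS : IsCoherenceSystem (inducedIrrAbove K ⊥) τ R) {A B C D : Subgroup L} [A.Normal] [B.Normal]
    (hAK : A < K) (hBK : B < K) (hDC : D ≤ C) (hCK : C ≤ K)
    (hcent : ∀ x ∈ D, ∀ y ∈ C, x * y * x⁻¹ * y⁻¹ ∈ B)
    (hA : IsCoherent (inducedIrrAbove K A) {1}ᶜ τ)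
    (hlt : 4 * C.index ^ 2 * D.relIndex C < (A.relIndex K - 1) ^ 2) :
    IsCoherent (inducedIrrAbove K B) {1}ᶜ τ := by
  classical
  let _ : Fintype K := Fintype.ofFinite _
  refine coherent_of_degree_bound hsolv hS hAK hBK hA fun θ hθ hB => ?_
  have hb := degree_sq_le_central_step hCK hcent hθ hB
  have hidx : C.relIndex K * K.index = C.index := Subgroup.relIndex_mul_index hCK
  have hnat : (2 * K.index * charDegree θ) ^ 2 < (A.relIndex K - 1) ^ 2 := by
    refine lt_of_le_of_lt ?_ hlt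
    calc (2 * K.index * charDegree θ) ^ 2 = 4 * K.index ^ 2 * charDegree θ ^ 2 := by ring
      _ ≤ 4 * K.index ^ 2 * (C.relIndex K ^ 2 * D.relIndex C) := Nat.mul_le_mul_left _ hb
      _ = 4 * C.index ^ 2 * D.relIndex C := by rw [← hidx]; ring
  have h1 := lt_of_pow_lt_pow_left₀ 2 (Nat.zero_le _) hnat
  have h2 : 2 * K.index * charDegree θ + 1 < A.relIndex K := by omega
  have h3 : ((2 * K.index * charDegree θ + 1 : ℕ) : ℝ) < (A.relIndex K : ℝ) := by exact_mod_cast h2
  push_cast at h3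
  linarith

lemma commutator_mem_of_sup {Q : Type*} [Group Q] {X Y Z : Subgroup Q} [Y.Normal] [Z.Normal]
    (hYZ : Y ≤ Z) {a h : Q} (ha : a ∈ X ⊔ Y) (hX : ∀ u ∈ X, ⁅u, h⁆ ∈ Z) : ⁅a, h⁆ ∈ Z := by
  rw [← SetLike.mem_coe, Subgroup.mul_normal] at ha
  obtain ⟨u, hu, b, hb, rfl⟩ := Set.mem_mul.1 ha
  rw [show ⁅u * b, h⁆ = u * (b * (h * b⁻¹ * h⁻¹)) * u⁻¹ * ⁅u, h⁆ by
    simp only [commutatorElement_def]; group]
  exact Z.mul_mem (‹Z.Normal›.conj_mem _ (Z.mul_mem (hYZ hb)
    (‹Z.Normal›.conj_mem _ (Z.inv_mem (hYZ hb)) h)) u) (hX u hu)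

/-- A proper normal subgroup in a nilpotent section is not its own commutator with the section. -/
lemma commutator_sup_lt {M B A H : Subgroup L} [B.Normal] [A.Normal] [(M.subgroupOf H).Normal]
    [H.Normal] (hnil : Group.IsNilpotent (↥H ⧸ M.subgroupOf H)) (hMB : M ≤ B) (hBA : B < A)
    (hAH : A ≤ H) : ⁅A, H⁆ ⊔ B < A := by
  have hle : ⁅A, H⁆ ⊔ B ≤ A := sup_le (Subgroup.commutator_le_left A H) hBA.le
  refine lt_of_le_of_ne hle fun heq => hBA.not_ge ?_
  have key : ∀ n, ∀ a ∈ A, ∀ h : a ∈ H, (⟨a, h⟩ : H) ∈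
      (Subgroup.lowerCentralSeries (⊤ : Subgroup (↥H ⧸ M.subgroupOf H)) n).comap
        (QuotientGroup.mk' (M.subgroupOf H)) ⊔ B.subgroupOf H := by
    intro n
    induction n with
    | zero => intro a _ h; simp
    | succ n ih =>
      haveI : ((Subgroup.lowerCentralSeries (⊤ : Subgroup (↥H ⧸ M.subgroupOf H)) (n + 1)).comap
          (QuotientGroup.mk' (M.subgroupOf H))).Normal := Subgroup.Normal.comap inferInstance _
      set N := (Subgroup.lowerCentralSeries (⊤ : Subgroup (↥H ⧸ M.subgroupOf H)) (n + 1)).comap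
          (QuotientGroup.mk' (M.subgroupOf H)) ⊔ B.subgroupOf H
      have hAN : ⁅A, H⁆ ⊔ B ≤ N.map H.subtype := by
        refine sup_le ?_ ?_
        · rw [Subgroup.commutator_le]
          intro a ha h hh
          refine ⟨⁅(⟨a, hAH ha⟩ : H), ⟨h, hh⟩⁆, ?_, by simp [commutatorElement_def]⟩
          refine commutator_mem_of_sup (le_sup_right : _ ≤ N) (ih a ha (hAH ha)) fun u hu =>
            Subgroup.mem_sup_left ?_
          rw [Subgroup.mem_comap, map_commutatorElement]
          exact Subgroup.commutator_mem_commutator hu (Subgroup.mem_top _)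
        · intro b hb
          exact ⟨⟨b, hAH (hBA.le hb)⟩, Subgroup.mem_sup_right hb, rfl⟩
      intro a ha h
      obtain ⟨y, hy, e⟩ := hAN (heq.ge ha)
      have hya : y = ⟨a, h⟩ := Subtype.ext e
      exact hya ▸ hy
  obtain ⟨n, hn⟩ := Subgroup.nilpotent_iff_lowerCentralSeries.1 hnil
  intro a ha
  have h1 := key n a ha (hAH ha)
  rw [hn, MonoidHom.comap_bot, QuotientGroup.ker_mk', sup_eq_right.2] at h1
  · exact h1
  · intro x hx
    exact hMB hx

/-- Peterfalvi 6.3. -/
theorem coherent_nilpotent_section (hsolv : Group.IsSolvable K) {R : (L → ℂ) → Finset (G → ℂ)}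
    (hS : IsCoherenceSystem (inducedIrrAbove K ⊥) τ R) {M H₁ H : Subgroup L} [M.Normal]
    [H.Normal] (hHK : H ≤ K) [(M.subgroupOf H).Normal]
    (hnil : Group.IsNilpotent (↥H ⧸ M.subgroupOf H))
    (hbig : 4 * K.index ^ 2 + 1 < H₁.relIndex H) (hMH₁ : M ≤ H₁) (hH₁H : H₁ ≤ H) [H₁.Normal]
    (hcoh : IsCoherent (inducedIrrAbove K H₁) {1}ᶜ τ) :
    IsCoherent (inducedIrrAbove K M) {1}ᶜ τ := by
  classical
  suffices ∀ m, ∀ A : Subgroup L, A.Normal → M ≤ A → A ≤ H₁ → Nat.card A = m →
      IsCoherent (inducedIrrAbove K A) {1}ᶜ τ → IsCoherent (inducedIrrAbove K M) {1}ᶜ τ from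
    this _ H₁ ‹_› hMH₁ le_rfl rfl hcoh
  intro m
  induction m using Nat.strong_induction_on with
  | _ m ih =>
    intro A hAn hMA hAH₁ hcard hA
    rcases hMA.eq_or_lt with rfl | hlt
    · exact hA
    set T := (Finset.univ : Finset (Subgroup L)).filter (fun B => B.Normal ∧ M ≤ B ∧ B < A)
    obtain ⟨B, hBT, hBmax⟩ := T.exists_maximal ⟨M, by simp [T, hlt, ‹M.Normal›]⟩
    simp only [T, Finset.mem_filter, Finset.mem_univ, true_and] at hBT
    obtain ⟨hBn, hMB, hBA⟩ := hBT
    have hAH : A ≤ H := hAH₁.trans hH₁H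
    have hsub : ⁅A, H⁆ ≤ B := by
      have h1 := commutator_sup_lt hnil hMB hBA hAH
      have h2 : ⁅A, H⁆ ⊔ B ≤ B := hBmax (by
        simp only [T, Finset.mem_filter, Finset.mem_univ, true_and]
        exact ⟨inferInstance, hMB.trans le_sup_right, h1⟩) le_sup_right
      exact le_sup_left.trans h2
    have hh : H₁.relIndex H ≤ A.relIndex H :=
      Nat.le_of_dvd (Nat.pos_of_ne_zero Subgroup.index_ne_zero_of_finite)
        (Subgroup.relIndex_dvd_of_le_left H hAH₁)
    have hAK : A < K := by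
      refine lt_of_le_of_ne (hAH.trans hHK) fun e => ?_
      have : H = A := le_antisymm (e ▸ hHK) hAH
      rw [this, Subgroup.relIndex_self] at hh
      rw [this] at hbig
      omega
    refine ih (Nat.card B) ?_ B hBn hMB (hBA.le.trans hAH₁) rfl
      (coherent_central_step hsolv hS (A := A) (B := B) (C := H) (D := A) hAK (hBA.trans hAK) hAH
        hHK (fun x hx y hy => ?_) hA ?_)
    · rw [← hcard]
      exact (Set.toFinite _).card_lt_card (SetLike.coe_ssubset_coe.2 hBA)
    · have := hsub (Subgroup.commutator_mem_commutator hx hy)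
      rwa [commutatorElement_def] at this
    · have hidx : H.relIndex K * K.index = H.index := Subgroup.relIndex_mul_index hHK
      rw [← Subgroup.relIndex_mul_relIndex A H K hAH hHK, ← hidx]
      set h := A.relIndex H
      set q := H.relIndex K
      have hq : 1 ≤ q := Nat.one_le_iff_ne_zero.2 Subgroup.index_ne_zero_of_finite
      set e := K.index
      obtain ⟨s, hs⟩ : ∃ s, h = s + 1 := ⟨h - 1, by omega⟩
      have hs' : 4 * e ^ 2 + 1 ≤ s := by omega
      have h1 : q * s ≤ h * q - 1 := by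
        rw [hs, add_mul, one_mul, mul_comm s]
        omega
      calc 4 * (q * e) ^ 2 * h = q ^ 2 * (4 * e ^ 2 * (s + 1)) := by rw [hs]; ring
        _ < q ^ 2 * s ^ 2 := by
          refine Nat.mul_lt_mul_of_pos_left ?_ (by positivity)
          nlinarith
        _ = (q * s) ^ 2 := by ring
        _ ≤ (h * q - 1) ^ 2 := Nat.pow_le_pow_left h1 2

end CfsgLib.CharsMore
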