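import Cfsg.Agent.Lib.Chars.Monomial
import Cfsg.Agent.Lib.Chars.Quotient
import Cfsg.Agent.Lib.CharsMore.CharAlg
import Cfsg.Agent.Lib.CharApps.Basic
import Mathlib

/-!
# Abelian subgroups of small index in nilpotent linear groups

A nilpotent group with a faithful character of degree `n` has an abelian subgroup whose index
divides `n!`: its constituents are induced from linear characters, and the intersection of the
cores of the subgroups involved is abelian.
-/

set_option linter.unusedSectionVars false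
set_option linter.style.haveILetI false

namespace CfsgLib.CharsMore

open Cfsg

variable {G : Type*} [Group G] [Fintype G]

/-- An induced linear character is trivial on commutators of the core. -/
lemma indFun_linear_commutator (H : Subgroup G) (lam : H →* ℂˣ) {a b : G}
    (ha : a ∈ H.normalCore) (hb : b ∈ H.normalCore) :
    indFun H (fun h => (lam h : ℂ)) (a * b * a⁻¹ * b⁻¹) = indFun H (fun h => (lam h : ℂ)) 1 := by
  rw [Chars.indFun_apply, Chars.indFun_apply]
  congr 1
  refine Finset.sum_congr rfl fun x _ => ?_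
  have hmem : ∀ c ∈ H.normalCore, x⁻¹ * c * x ∈ H := fun c hc => by
    simpa using hc x⁻¹
  set a' : H := ⟨x⁻¹ * a * x, hmem a ha⟩ with ha'
  set b' : H := ⟨x⁻¹ * b * x, hmem b hb⟩ with hb'
  have e : x⁻¹ * (a * b * a⁻¹ * b⁻¹) * x = ((a' * b' * a'⁻¹ * b'⁻¹ : H) : G) := by
    simp [ha', hb', mul_assoc]
  rw [e, show x⁻¹ * 1 * x = ((1 : H) : G) by simp, Chars.extendByZero_coe,
    Chars.extendByZero_coe]
  simp [map_mul]

/-- An abelian subgroup of index dividing `n!`. -/
theorem exists_abelian_index_dvd_factorial [Group.IsNilpotent G] {χ : G → ℂ}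
    (hχ : IsCharacter G χ) (hfaith : ∀ g : G, χ g = χ 1 → g = 1) {n : ℕ} (hn : χ 1 = n) :
    ∃ A : Subgroup G, (∀ x ∈ A, ∀ y ∈ A, x * y = y * x) ∧ A.index ∣ n.factorial := by
  classical
  let _ := Chars.irrFintype G
  choose H lam hH using fun ψ : IrrCharacter G => Chars.isMonomial_of_nilpotent ψ.2
  let S : Finset (IrrCharacter G) := Finset.univ.filter fun ψ => multNat χ (ψ : G → ℂ) ≠ 0
  have hdeg : ∀ ψ : IrrCharacter G, (ψ : G → ℂ) 1 = ((H ψ).index : ℂ) := fun ψ => by
    rw [congrFun (hH ψ) 1, Chars.indFun_one_apply]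
    simp
  have hexp := char_eq_sum_multNat hχ
  have hsum : n = ∑ ψ : IrrCharacter G, multNat χ (ψ : G → ℂ) * (H ψ).index := by
    have h := congrFun hexp 1
    simp only [Finset.sum_apply, Pi.smul_apply, smul_eq_mul, hn, hdeg] at h
    exact_mod_cast h
  let X := Σ ψ : S, G ⧸ H ψ.1
  let act : G →* Equiv.Perm X := MonoidHom.mk' (fun g => Equiv.sigmaCongrRight fun ψ =>
    MulAction.toPerm g) (fun a b => Equiv.ext fun x => by
      simp [Equiv.sigmaCongrRight, mul_smul])
  refine ⟨act.ker, ?_, ?_⟩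
  · intro a ha b hb
    have hcore : ∀ c ∈ act.ker, ∀ ψ ∈ S, c ∈ (H ψ).normalCore := by
      intro c hc ψ hψ
      rw [Subgroup.normalCore_eq_ker, MonoidHom.mem_ker]
      refine Equiv.ext fun y => ?_
      have h := congrArg (fun σ : Equiv.Perm X => σ ⟨⟨ψ, hψ⟩, y⟩) (MonoidHom.mem_ker.1 hc)
      exact eq_of_heq (Sigma.mk.inj_iff.1 h).2
    have h1 : χ (a * b * a⁻¹ * b⁻¹) = χ 1 := by
      rw [hexp]
      simp only [Finset.sum_apply, Pi.smul_apply, smul_eq_mul]
      refine Finset.sum_congr rfl fun ψ _ => ?_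
      by_cases h0 : multNat χ (ψ : G → ℂ) = 0
      · simp [h0]
      · have hS : ψ ∈ S := by simp [S, h0]
        congr 1
        rw [hH ψ]
        exact indFun_linear_commutator _ _ (hcore a ha ψ hS) (hcore b hb ψ hS)
    have h2 := hfaith _ h1
    exact mul_inv_eq_iff_eq_mul.1 (mul_inv_eq_one.1 h2)
  · rw [Subgroup.index_ker]
    refine (Subgroup.card_subgroup_dvd_card act.range).trans ?_
    rw [Nat.card_perm]
    refine Nat.factorial_dvd_factorial ?_
    rw [Nat.card_sigma, hsum]
    show ∑ ψ : S, (H ψ.1).index ≤ _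
    rw [Finset.sum_coe_sort S fun ψ : IrrCharacter G => (H ψ).index]
    refine (Finset.sum_le_sum fun ψ hψ => ?_).trans
      (Finset.sum_le_sum_of_subset (Finset.filter_subset _ _))
    exact Nat.le_mul_of_pos_left _ (Nat.pos_of_ne_zero (Finset.mem_filter.1 hψ).2)

end CfsgLib.CharsMore
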