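import Cfsg.Agent.Lib.CharsMore.ItoDegree
import Cfsg.Agent.Lib.CharsMore.CharAlg
import Cfsg.Agent.Lib.CharsMore.MonomialAbelian
import Cfsg.Agent.Lib.CharsMore.Extend
import Cfsg.Agent.Lib.Base.MinimalNormal
import Cfsg.Agent.Lib.Base.Nilpotent
import Cfsg.Agent.Lib.Chars.Linear
import Cfsg.Agent.S4456
import Mathlib

/-!
# Groups with two irreducible character degrees
-/

set_option linter.unusedSectionVars false
set_option linter.style.haveILetI false

namespace CfsgLib.CharsMore.CdTwo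

open Cfsg
open scoped commutatorElement

universe u

/-- An abelian normal subgroup with nilpotent quotient makes all irreducibles monomial. -/
theorem isMonomial_of_abelian_nilpotent : ∀ (n : ℕ) (G : Type u) [Group G] [Fintype G]
    (N : Subgroup G) [N.Normal], Nat.card G ≤ n → (∀ a ∈ N, ∀ b ∈ N, a * b = b * a) →
    Group.IsNilpotent (G ⧸ N) → ∀ χ : G → ℂ, IsIrrCharacter G χ → Chars.IsMonomial χ := by
  intro n
  induction n with
  | zero => intro G _ _ N _ h; exact absurd h (Nat.card_pos (α := G)).not_ge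
  | succ n ih =>
    intro G _ _ N _ hn hab hnil χ hχ
    classical
    obtain ⟨m, ρ, hρ, hρχ⟩ := id hχ
    set R := MonoidHom.ker ρ
    by_cases hker : R = ⊥
    swap
    · haveI : Fintype (G ⧸ R) := Fintype.ofFinite _
      have hlt : Nat.card (G ⧸ R) < Nat.card G := by
        have := R.card_eq_card_quotient_mul_card_subgroup
        have h3 : 1 < Nat.card R := (Subgroup.one_lt_card_iff_ne_bot R).mpr hker
        have h4 : 0 < Nat.card (G ⧸ R) := Nat.card_pos
        nlinarith
      obtain ⟨ψ, hψ, hχψ⟩ := Chars.exists_deflate_irr R hχ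
        (fun x hx => (Chars.ker_iff ρ hρχ x).mpr hx)
      set π := QuotientGroup.mk' R
      haveI : (N.map π).Normal :=
        (inferInstance : N.Normal).map π (QuotientGroup.mk'_surjective R)
      have hab' : ∀ a ∈ N.map π, ∀ b ∈ N.map π, a * b = b * a := by
        rintro _ ⟨a, ha, rfl⟩ _ ⟨b, hb, rfl⟩
        rw [← map_mul, hab a ha b hb, map_mul]
      let f : G ⧸ N →* (G ⧸ R) ⧸ N.map π := QuotientGroup.map N (N.map π) π
        fun x hx => ⟨x, hx, rfl⟩
      have hf : Function.Surjective f := by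
        intro q
        obtain ⟨q, rfl⟩ := QuotientGroup.mk_surjective q
        obtain ⟨g, rfl⟩ := QuotientGroup.mk_surjective q
        exact ⟨(g : G ⧸ N), rfl⟩
      haveI := hnil
      obtain ⟨H, lam, hψH⟩ := ih (G ⧸ R) (N.map π) (by omega) hab'
        (Group.nilpotent_of_surjective f hf) ψ hψ
      refine ⟨H.comap π, lam.comp ((π.comp (H.comap π).subtype).codRestrict H (fun x => x.2)), ?_⟩
      rw [hχψ, hψH]
      exact (Chars.indFun_comap π (QuotientGroup.mk'_surjective R) H _).symm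
    have hinj : Function.Injective ρ := (MonoidHom.ker_eq_bot_iff ρ).mp hker
    let _ := Fintype.ofFinite N
    obtain ⟨θ, hθ⟩ := exists_below N hχ
    let T := inertia N (θ : N → ℂ)
    let _ := Fintype.ofFinite T
    have hNT : N ≤ T := le_inertia N (Chars.isClassFunction_irr θ)
    by_cases hT : T = ⊤
    · have hθ1 := Chars.irr_abelian_degree (fun x y : N => Subtype.ext (hab x x.2 y y.2)) θ.2
      have hinv : ∀ g x, (θ : N → ℂ) (conjBy N g x) = (θ : N → ℂ) x := fun g x =>
        (mem_inertia N).mp (show g ∈ T from hT ▸ Subgroup.mem_top g) x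
      have hNc : N ≤ Subgroup.center G := by
        intro a ha
        refine Subgroup.mem_center_iff.2 fun g => ?_
        obtain ⟨lam, hlam⟩ := Chars.exists_hom_of_degree_one (Chars.isCharacter_of_irr θ.2) hθ1
        set b : N := (conjBy N g ⟨a, ha⟩)⁻¹ * ⟨a, ha⟩ with hb
        have hb1 : (θ : N → ℂ) b = (θ : N → ℂ) 1 := by
          have h := hinv g ⟨a, ha⟩
          simp only [hlam, Units.val_inj] at h
          simp [hb, hlam, h]
        have hχb : χ b = χ 1 := by
          have h1 := restrict_eq_mul_of_invariant N hχ θ.2 hinv hθ b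
          have h2 := restrict_eq_mul_of_invariant N hχ θ.2 hinv hθ 1
          rw [h1, hb1, ← h2, OneMemClass.coe_one]
        have hb0 : (b : G) = 1 := hinj (by
          rw [map_one]; exact (Chars.ker_iff ρ hρχ _).1 hχb)
        simp only [hb, Subgroup.coe_mul, InvMemClass.coe_inv, coe_conjBy, inv_mul_eq_one] at hb0
        exact mul_inv_eq_iff_eq_mul.1 hb0
      haveI := hnil
      haveI : Group.IsNilpotent G := Subgroup.isNilpotent_of_ker_le_center (QuotientGroup.mk' N)
        (by rwa [QuotientGroup.ker_mk'])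
      exact Chars.isMonomial_of_nilpotent hχ
    · obtain ⟨ψ, hψ, hind, -, -⟩ := exists_correspondent N hNT θ.2 rfl hχ hθ
      have hlt : Nat.card T < Nat.card G := lt_of_le_of_ne (Subgroup.card_le_card_group T)
        fun e => hT (Subgroup.eq_top_of_card_eq T e)
      let g : ↥T ⧸ N.subgroupOf T →* G ⧸ N :=
        QuotientGroup.map (N.subgroupOf T) N T.subtype fun x hx => hx
      haveI := hnil
      haveI : Group.IsNilpotent (↥T ⧸ N.subgroupOf T) := by
        refine Subgroup.isNilpotent_of_ker_le_center g fun q => ?_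
        induction q using QuotientGroup.induction_on with
        | _ x =>
          intro hx
          have h2 := (QuotientGroup.eq_one_iff (N := N) (x : G)).1 hx
          rw [(QuotientGroup.eq_one_iff x).2 h2]
          exact one_mem _
      rw [← hind]
      exact Chars.isMonomial_indFun_of_isMonomial (ih T (N.subgroupOf T) (by omega)
        (fun a ha b hb => Subtype.ext (hab a ha b hb)) inferInstance ψ hψ)

/-- A subgroup all of whose irreducible characters are linear is abelian. -/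
lemma abelian_of_linear {G : Type*} [Group G] [Finite G] (K : Subgroup G)
    (h : ∀ θ : IrrCharacter K, (θ : K → ℂ) 1 = 1) : ∀ a ∈ K, ∀ b ∈ K, a * b = b * a := by
  intro a ha b hb
  have hc : ⁅(⟨a, ha⟩ : K), (⟨b, hb⟩ : K)⁆ = 1 := by
    refine Chars.eq_one_of_forall_irr fun θ => ?_
    obtain ⟨lam, hlam⟩ := Chars.exists_hom_of_degree_one (Chars.isCharacter_of_irr θ.2) (h θ)
    rw [hlam]
    show (lam _ : ℂ) = (lam 1 : ℂ)
    rw [map_commutatorElement, commutatorElement_eq_one_iff_mul_comm.2 (mul_comm _ _), map_one]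
  exact congrArg Subtype.val (commutatorElement_eq_one_iff_mul_comm.1 hc)

variable {G : Type u} [Group G] [Fintype G]

/-- The degree hypothesis. -/
def CdTwoLE (G : Type u) [Group G] (m : ℕ) : Prop :=
  ∀ χ : IrrCharacter G, charDegree (χ : G → ℂ) = 1 ∨ charDegree (χ : G → ℂ) = m

lemma CdTwoLE.quotient {m : ℕ} (h : CdTwoLE G m) (N : Subgroup G) [N.Normal] :
    CdTwoLE (G ⧸ N) m :=
  fun ψ => h ⟨_, Chars.isIrrCharacter_inflate N ψ.2⟩

/-- An abelian normal subgroup with nilpotent quotient and order prime to `m`. -/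
theorem exists_abelian_nilpotent_quotient {m : ℕ} (hm0 : m ≠ 0) (hcd : CdTwoLE G m) :
    ∃ N : Subgroup G, ∃ _ : N.Normal, (∀ a ∈ N, ∀ b ∈ N, a * b = b * a) ∧
      Group.IsNilpotent (G ⧸ N) ∧ ∀ r : ℕ, r.Prime → r ∣ N.index → r ∣ m := by
  classical
  let ι := {p : ℕ // p ∈ m.primeFactors}
  have hex : ∀ p : ι, ∃ M : Subgroup G, M.Normal ∧ (Nat.card M).Coprime p.1 ∧
      ∃ k : ℕ, M.index = p.1 ^ k := fun p => Cfsg.Agent.S4456.result p.1
    (Nat.prime_of_mem_primeFactors p.2) fun χ hχ =>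
      ((hcd χ).resolve_left hχ).symm ▸ Nat.dvd_of_mem_primeFactors p.2
  choose M hMn hMc hMi using hex
  haveI := hMn
  let f : G →* (∀ p : ι, G ⧸ M p) := Pi.monoidHom fun p => QuotientGroup.mk' (M p)
  refine ⟨f.ker, inferInstance, ?_, ?_, fun r hr hd => ?_⟩
  · have hco : Nat.Coprime (Nat.card f.ker) m := by
      refine Nat.coprime_of_dvd fun r hr h1 h2 => ?_
      have hmem : r ∈ m.primeFactors := Nat.mem_primeFactors.2 ⟨hr, h2, hm0⟩
      have hle : f.ker ≤ M ⟨r, hmem⟩ := fun x hx =>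
        (QuotientGroup.eq_one_iff x).1 (congrFun (MonoidHom.mem_ker.1 hx) ⟨r, hmem⟩)
      have h3 : r ∣ Nat.card (M ⟨r, hmem⟩) := h1.trans (Subgroup.card_dvd_of_le hle)
      exact hr.not_dvd_one ((hMc ⟨r, hmem⟩) ▸ Nat.dvd_gcd h3 dvd_rfl)
    let _ := Fintype.ofFinite f.ker
    have hlin : ∀ θ : IrrCharacter f.ker, (θ : f.ker → ℂ) 1 = 1 := by
      intro θ
      obtain ⟨χ, hχ⟩ := exists_over f.ker θ.2
      obtain ⟨k, -, hk, -⟩ := degree_quotient f.ker χ.2 θ.2 hχ
      rw [CharApps.deg_eq, CharApps.deg_eq] at hk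
      have hk' : charDegree (χ : G → ℂ) = k * charDegree (θ : f.ker → ℂ) := by exact_mod_cast hk
      obtain ⟨d, -, hd, hdd⟩ := Chars.irr_degree_dvd_card θ.2
      have hd' : charDegree (θ : f.ker → ℂ) = d := by
        rw [CharApps.deg_eq] at hd; exact_mod_cast hd
      have h1 : charDegree (θ : f.ker → ℂ) ∣ m := by
        rcases hcd χ with h | h <;> rw [h] at hk'
        · exact (Dvd.intro_left _ hk'.symm).trans (one_dvd m)
        · exact Dvd.intro_left _ hk'.symm
      rw [CharApps.deg_eq, Nat.cast_eq_one]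
      exact Nat.eq_one_of_dvd_one (hco ▸ Nat.dvd_gcd (hd' ▸ hdd) h1)
    exact abelian_of_linear f.ker hlin
  · haveI : ∀ p : ι, Group.IsNilpotent (G ⧸ M p) := fun p => by
      haveI := Fact.mk (Nat.prime_of_mem_primeFactors p.2)
      obtain ⟨k, hk⟩ := hMi p
      refine (IsPGroup.of_card (p := p.1) (n := k) ?_).isNilpotent
      rw [← hk]; rfl
    exact Subgroup.isNilpotent_of_ker_le_center (QuotientGroup.kerLift f)
      (by rw [(MonoidHom.ker_eq_bot_iff _).2 (QuotientGroup.kerLift_injective f)]; exact bot_le)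
  · rw [Subgroup.index_ker] at hd
    have h1 := hd.trans (Subgroup.card_subgroup_dvd_card f.range)
    rw [Nat.card_pi] at h1
    obtain ⟨p, -, hp⟩ := (hr.prime.dvd_finsetProd_iff _).1 h1
    obtain ⟨k, hk⟩ := hMi p
    have hp' : r ∣ p.1 ^ k := hk ▸ hp
    rw [(Nat.prime_dvd_prime_iff_eq hr (Nat.prime_of_mem_primeFactors p.2)).1
      (hr.dvd_of_dvd_pow hp')]
    exact Nat.dvd_of_mem_primeFactors p.2

/-- With at most two degrees the derived subgroup is abelian. -/
theorem commutator_abelian {m : ℕ} (hm0 : m ≠ 0) (hcd : CdTwoLE G m) :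
    ∀ a ∈ commutator G, ∀ b ∈ commutator G, a * b = b * a := by
  classical
  obtain ⟨N, hN, hab, hnil, -⟩ := exists_abelian_nilpotent_quotient hm0 hcd
  let _ := Chars.irrFintype G
  -- linear characters are trivial on `G'`
  have hlin : ∀ ψ : IrrCharacter G, charDegree (ψ : G → ℂ) = 1 → ∀ x ∈ commutator G,
      (ψ : G → ℂ) x = (ψ : G → ℂ) 1 := by
    intro ψ hψ x hx
    obtain ⟨lam, hlam⟩ := Chars.exists_hom_of_degree_one (Chars.isCharacter_of_irr ψ.2)
      (by rw [CharApps.deg_eq, hψ, Nat.cast_one])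
    have h := Abelianization.commutator_subset_ker lam hx
    rw [hlam]
    simp [MonoidHom.mem_ker.1 h]
  intro a ha b hb
  refine commutatorElement_eq_one_iff_mul_comm.1 (Chars.eq_one_of_forall_irr fun χ => ?_)
  rcases hcd χ with h1 | h1
  · exact hlin χ h1 _ (Subgroup.commutator_mem_commutator (Subgroup.mem_top a) (Subgroup.mem_top b))
  obtain ⟨H, lam, hlam⟩ :=
    isMonomial_of_abelian_nilpotent (Nat.card G) G N le_rfl hab hnil χ χ.2
  let _ := Fintype.ofFinite H
  have hidx : H.index = m := by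
    have h := congrFun hlam 1
    rw [Chars.indFun_one_apply, CharApps.deg_eq, h1] at h
    simpa using h.symm
  -- the permutation character on the cosets of `H` has only linear constituents
  set π := indFun H (fun _ : H => (1 : ℂ)) with hπ
  have hπc : IsCharacter G π := Chars.isCharacter_indFun H Chars.isCharacter_one
  have hπd : π 1 = (m : ℂ) := by rw [hπ, Chars.indFun_one_apply, hidx, mul_one]
  have hlinπ : ∀ ψ : IrrCharacter G, classInner π ψ ≠ 0 → charDegree (ψ : G → ℂ) = 1 := by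
    intro ψ hψ
    refine (hcd ψ).elim id fun hm => ?_
    have he := eq_of_constituent_degree hπc ψ.2 hψ hπd (CharApps.deg_eq ψ) hm.ge
    have h1' : classInner π (Chars.principal G : G → ℂ) = 1 := by
      rw [hπ, Chars.inner_indFun H _ (Chars.isClassFunction_irr _)]
      exact Chars.inner_one_one
    rw [he, Chars.inner_irr] at h1'
    split_ifs at h1' with hp
    · rw [hp] at hm
      have : (Chars.principal G : G → ℂ) 1 = 1 := Chars.principal_apply 1
      rw [CharApps.deg_eq, hm] at this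
      have hm1 : m = 1 := by exact_mod_cast this
      rw [hp, hm, hm1]
    · norm_num at h1'
  have hcore : commutator G ≤ H.normalCore := by
    intro x hx g
    have h2 : π (g * x * g⁻¹) = π 1 := by
      rw [Chars.isClassFunction_of_isCharacter hπc x g, char_eq_sum_multNat hπc]
      simp only [Finset.sum_apply, Pi.smul_apply, smul_eq_mul]
      refine Finset.sum_congr rfl fun ψ _ => ?_
      by_cases h0 : classInner π (ψ : G → ℂ) = 0
      · rw [inner_eq_multNat hπc (Chars.isCharacter_of_irr ψ.2)] at h0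
        simp [h0]
      · rw [hlin ψ (hlinπ ψ h0) x hx]
    by_contra hne
    rw [hπ, Chars.indFun_apply, Chars.indFun_apply] at h2
    have h3 := mul_left_cancel₀ (inv_ne_zero (Nat.cast_ne_zero.2 Nat.card_pos.ne')) h2
    have h4 := congrArg Complex.re h3
    simp only [Complex.re_sum] at h4
    refine absurd h4 (ne_of_lt (Finset.sum_lt_sum (fun z _ => ?_) ⟨1, Finset.mem_univ 1, ?_⟩))
    · rw [show z⁻¹ * 1 * z = ((1 : H) : G) by simp, Chars.extendByZero_coe]
      by_cases hz : z⁻¹ * (g * x * g⁻¹) * z ∈ H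
      · rw [Chars.extendByZero_of_mem _ _ hz]
      · rw [Chars.extendByZero_of_not_mem _ _ hz]; simp
    · rw [show (1 : G)⁻¹ * 1 * 1 = ((1 : H) : G) by simp, Chars.extendByZero_coe,
        Chars.extendByZero_of_not_mem _ _ (by simpa using hne)]
      simp
  rw [hlam]
  exact indFun_linear_commutator H lam (hcore ha) (hcore hb)

/-- An irreducible fixed by a linear character: its order divides the degree. -/
lemma pow_degree_eq_one {X : Type*} [Group X] [Finite X] {ψ : X → ℂ} (hψ : IsIrrCharacter X ψ)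
    {d : ℕ} (hd : ψ 1 = d) (μ : X →* ℂˣ) (h : ∀ x, (μ x : ℂ) * ψ x = ψ x) : μ ^ d = 1 := by
  obtain ⟨n, ρ, hρ, rfl⟩ := hψ
  have hn : n = d := by simpa using hd
  subst hn
  let σ : Representation ℂ X (Fin n → ℂ) :=
    { toFun := fun x => (μ x : ℂ) • ρ x
      map_one' := by simp
      map_mul' := fun a b => by
        rw [map_mul, map_mul, Units.val_mul, smul_mul_assoc, mul_smul_comm, smul_smul] }
  have hc : ρ.character = σ.character := funext fun x => by
    show _ = LinearMap.trace ℂ _ ((μ x : ℂ) • ρ x)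
    rw [map_smul, smul_eq_mul]
    exact (h x).symm
  obtain ⟨e⟩ := Chars.equiv_of_character_eq ρ σ hc
  refine MonoidHom.ext fun x => Units.ext ?_
  have h2 := congrArg (fun f : X →* ℂˣ => (f x : ℂ)) (detHom_eq_of_equiv e)
  simp only [coe_detHom] at h2
  have h3 : LinearMap.det (σ x) = (μ x : ℂ) ^ n * LinearMap.det (ρ x) := by
    show LinearMap.det ((μ x : ℂ) • ρ x) = _
    rw [LinearMap.det_smul, Module.finrank_fin_fun]
  rw [h3] at h2
  have hne : LinearMap.det (ρ x) ≠ 0 := by rw [← coe_detHom]; exact Units.ne_zero _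
  simpa using mul_right_cancel₀ hne (h2.trans (one_mul _).symm)

lemma mem_maximal_closure {X : Type*} [Group X] [Finite X] (H : Subgroup X) (hH : H ≠ ⊤) :
    ∃ K : Subgroup X, IsCoatom K ∧ H ≤ K :=
  (eq_top_or_exists_le_coatom H).resolve_left hH

/-- A metabelian group all of whose proper quotients are nilpotent: Frobenius. -/
theorem frobenius_core {X : Type u} [Group X] [Fintype X]
    (hab' : ∀ a ∈ commutator X, ∀ b ∈ commutator X, a * b = b * a) (hnn : ¬ Group.IsNilpotent X)
    (hmin : ∀ (W : Subgroup X) [W.Normal], W ≠ ⊥ → Group.IsNilpotent (X ⧸ W)) :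
    ∃ (V : Subgroup X) (_ : V.Normal) (q : ℕ), q.Prime ∧
      (∃ χ : IrrCharacter X, charDegree (χ : X → ℂ) = V.index) ∧ V.index ≠ 1 ∧
      ¬ q ∣ V.index ∧ V.index < Nat.card V ∧
      (∀ a ∈ V, ∀ b ∈ V, a * b = b * a) ∧ (∀ a ∈ V, a ^ q = 1) ∧ commutator X ≤ V ∧
      ∀ (x : X), x ∉ V → ∀ v ∈ V, x * v = v * x → v = 1 := by
  classical
  haveI : Group.IsSolvable X := by
    refine ⟨2, ?_⟩
    rw [derivedSeries_succ, derivedSeries_one, Subgroup.commutator_eq_bot_iff_le_centralizer]
    exact fun a ha => Subgroup.mem_centralizer_iff.2 fun b hb => hab' b hb a ha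
  haveI : Nontrivial X := not_subsingleton_iff_nontrivial.1 fun _ => hnn inferInstance
  obtain ⟨V, hV⟩ := Base.exists_isMinimalNormal (G := X)
  haveI := hV.normal
  obtain ⟨q, hq, hVc, hVq, hVp⟩ := hV.exists_prime inferInstance
  haveI := Fact.mk hq
  have hVab : ∀ a ∈ V, ∀ b ∈ V, a * b = b * a := fun a ha b hb =>
    congrArg Subtype.val (hVc.is_comm.comm ⟨a, ha⟩ ⟨b, hb⟩)
  -- a complement
  obtain ⟨H, hH, hVH⟩ : ∃ H : Subgroup X, IsCoatom H ∧ ¬ V ≤ H := by
    by_contra hcon
    push Not at hcon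
    apply hnn
    have hΦ : V ≤ frattini X := by
      refine le_iInf fun H => le_iInf fun hH => hcon H hH
    have hne : frattini X ≠ ⊥ := fun h => hV.ne_bot (le_bot_iff.1 (h ▸ hΦ))
    haveI : Group.IsNilpotent ((⊤ : Subgroup X).map (QuotientGroup.mk' (frattini X))) := by
      haveI := hmin (frattini X) hne
      infer_instance
    haveI := Base.isNilpotent_of_map_frattini (M := (⊤ : Subgroup X)) le_top inferInstance
    exact Group.nilpotent_of_mulEquiv Subgroup.topEquiv
  have hVHtop : V ⊔ H = ⊤ :=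
    hH.2 _ (lt_of_le_of_ne le_sup_right fun e => hVH (e.symm ▸ le_sup_left))
  have hnorm : ∀ D : Subgroup X, D ≤ H → (∀ h ∈ H, ∀ d ∈ D, h * d * h⁻¹ ∈ D) →
      (∀ v ∈ V, ∀ d ∈ D, v * d = d * v) → D.Normal := by
    intro D hDH hDn hDc
    refine ⟨fun d hd g => ?_⟩
    obtain ⟨v, hv, h, hh, rfl⟩ := Subgroup.mem_sup_of_normal_left.1 (hVHtop ▸ Subgroup.mem_top g)
    have h1 := hDn h hh d hd
    have : v * h * d * (v * h)⁻¹ = h * d * h⁻¹ := by
      rw [mul_inv_rev, ← mul_assoc, mul_assoc v h, mul_assoc v (h * d), hDc v hv _ h1,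
        mul_inv_cancel_right]
    rw [this]; exact h1
  have hVHbot : V ⊓ H = ⊥ := by
    have hn : (V ⊓ H).Normal := by
      refine hnorm _ inf_le_right (fun h hh d hd =>
        ⟨(inferInstance : V.Normal).conj_mem d hd.1 h, H.mul_mem (H.mul_mem hh hd.2) (H.inv_mem hh)⟩)
        fun v hv d hd => hVab v hv d hd.1
    exact (hV.eq_bot_or_eq hn inf_le_left).resolve_right fun e => hVH (e ▸ inf_le_right)
  -- no nontrivial normal subgroup meets `V` trivially
  have huniq : ∀ D : Subgroup X, D.Normal → V ⊓ D = ⊥ → D = ⊥ := by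
    intro D hD hVD
    by_contra hne
    haveI := hD
    apply hnn
    haveI := hmin V hV.ne_bot
    haveI := hmin D hne
    exact Subgroup.isNilpotent_of_ker_le_center
      ((QuotientGroup.mk' V).prod (QuotientGroup.mk' D))
      (by rw [MonoidHom.ker_prod, QuotientGroup.ker_mk', QuotientGroup.ker_mk', hVD]; exact bot_le)
  -- `V` is not central, so it lies in the derived subgroup
  have hVd : V ≤ commutator X := by
    rcases hV.le_or_inf_eq_bot (commutator X) with h | h
    · exact h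
    exfalso
    apply hnn
    haveI := hmin V hV.ne_bot
    refine Subgroup.isNilpotent_of_ker_le_center (QuotientGroup.mk' V) ?_
    rw [QuotientGroup.ker_mk']
    intro v hv
    refine Subgroup.mem_center_iff.2 fun g => ?_
    have hc : g * v * g⁻¹ * v⁻¹ ∈ V ⊓ commutator X :=
      ⟨V.mul_mem ((inferInstance : V.Normal).conj_mem v hv g) (V.inv_mem hv),
        Subgroup.commutator_mem_commutator (Subgroup.mem_top g) (Subgroup.mem_top v)⟩
    rw [h, Subgroup.mem_bot, mul_inv_eq_one] at hc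
    exact mul_inv_eq_iff_eq_mul.1 hc
  -- `H` is abelian
  have hHd : H ⊓ commutator X = ⊥ := by
    refine huniq _ (hnorm _ inf_le_left (fun h hh d hd => ⟨H.mul_mem (H.mul_mem hh hd.1) (H.inv_mem hh),
      (inferInstance : (commutator X).Normal).conj_mem d hd.2 h⟩)
      fun v hv d hd => hab' v (hVd hv) d hd.2) ?_
    rw [← le_bot_iff, ← hVHbot]
    exact le_inf inf_le_left (inf_le_right.trans inf_le_left)
  have hHab : ∀ a ∈ H, ∀ b ∈ H, a * b = b * a := fun a ha b hb => by
    refine commutatorElement_eq_one_iff_mul_comm.1 (Subgroup.mem_bot.1 (hHd ▸ ⟨?_,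
      Subgroup.commutator_mem_commutator (Subgroup.mem_top a) (Subgroup.mem_top b)⟩))
    exact H.mul_mem (H.mul_mem (H.mul_mem ha hb) (H.inv_mem ha)) (H.inv_mem hb)
  have hdX : commutator X ≤ V := by
    intro d hd
    obtain ⟨v, hv, h, hh, rfl⟩ := Subgroup.mem_sup_of_normal_left.1 (hVHtop ▸ Subgroup.mem_top d)
    have : h ∈ H ⊓ commutator X :=
      ⟨hh, by simpa using mul_mem (inv_mem (hVd hv)) hd⟩
    rw [hHd, Subgroup.mem_bot] at this
    rw [this, mul_one]; exact hv
  -- fixed point freeness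
  have hfpf : ∀ h ∈ H, h ≠ 1 → ∀ v ∈ V, h * v = v * h → v = 1 := by
    intro h hh hne v hv hc
    set U := V ⊓ Subgroup.centralizer ({h} : Set X) with hU
    have hUn : U.Normal := by
      refine ⟨fun u hu g => ?_⟩
      obtain ⟨w, hw, k, hk, rfl⟩ := Subgroup.mem_sup_of_normal_left.1 (hVHtop ▸ Subgroup.mem_top g)
      have hku : k * u * k⁻¹ ∈ U := by
        refine ⟨(inferInstance : V.Normal).conj_mem u hu.1 k,
          Subgroup.mem_centralizer_singleton_iff.2 ?_⟩
        have h1 := Subgroup.mem_centralizer_singleton_iff.1 hu.2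
        have h2 : k⁻¹ * h = h * k⁻¹ := hHab _ (inv_mem hk) h hh
        calc k * u * k⁻¹ * h = k * (u * h) * k⁻¹ := by rw [mul_assoc, h2]; simp [mul_assoc]
          _ = h * (k * u * k⁻¹) := by
            rw [h1, ← mul_assoc, hHab k hk h hh]; simp [mul_assoc]
      have : w * k * u * (w * k)⁻¹ = k * u * k⁻¹ := by
        rw [mul_inv_rev, ← mul_assoc, mul_assoc w k, mul_assoc w (k * u), hVab w hw _ hku.1,
          mul_inv_cancel_right]
      rw [this]; exact hku
    rcases hV.eq_bot_or_eq hUn inf_le_left with h0 | h0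
    · exact Subgroup.mem_bot.1 (h0 ▸ ⟨hv, Subgroup.mem_centralizer_singleton_iff.2 hc.symm⟩)
    exfalso
    apply hne
    have hz : Subgroup.zpowers h = ⊥ := by
      have hle : Subgroup.zpowers h ≤ H := Subgroup.zpowers_le.2 hh
      refine huniq _ (hnorm _ hle (fun k hk d hd => ?_) fun w hw d hd => ?_) ?_
      · rw [hHab k hk d (hle hd), mul_inv_cancel_right]; exact hd
      · obtain ⟨i, rfl⟩ := Subgroup.mem_zpowers_iff.1 hd
        have h1 : w ∈ U := h0.symm ▸ hw
        exact ((Commute.zpow_left (Subgroup.mem_centralizer_singleton_iff.1 h1.2).symm i).eq).symm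
      · rw [← le_bot_iff, ← hVHbot]
        exact inf_le_inf_left _ hle
    exact Subgroup.zpowers_eq_bot.1 hz
  have hfpf' : ∀ x : X, x ∉ V → ∀ v ∈ V, x * v = v * x → v = 1 := by
    intro x hx v hv hc
    obtain ⟨w, hw, h, hh, rfl⟩ := Subgroup.mem_sup_of_normal_left.1 (hVHtop ▸ Subgroup.mem_top x)
    refine hfpf h hh (fun h1 => hx (by rw [h1, mul_one]; exact hw)) v hv ?_
    rw [mul_assoc] at hc
    have : w * (h * v) = w * (v * h) := by rw [hc, ← mul_assoc, ← mul_assoc, hVab v hv w hw]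
    exact mul_left_cancel this
  -- a faithful character on `V`
  let _ := Fintype.ofFinite V
  obtain ⟨v₀, hv₀⟩ : ∃ v : V, v ≠ 1 := by
    haveI := (Subgroup.nontrivial_iff_ne_bot V).2 hV.ne_bot
    exact exists_ne 1
  obtain ⟨θ, hθ⟩ : ∃ θ : IrrCharacter V, (θ : V → ℂ) v₀ ≠ (θ : V → ℂ) 1 := by
    by_contra hcon
    push Not at hcon
    exact hv₀ (Chars.eq_one_of_forall_irr hcon)
  have hθ1 := Chars.irr_abelian_degree (fun x y : V => Subtype.ext (hVab x x.2 y y.2)) θ.2
  obtain ⟨lam, hlam⟩ := Chars.exists_hom_of_degree_one (Chars.isCharacter_of_irr θ.2) hθ1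
  have hinertia : inertia V (θ : V → ℂ) = V := by
    refine le_antisymm (fun g hg => ?_) (le_inertia V (Chars.isClassFunction_irr θ))
    by_contra hgV
    let φ : V →* V :=
      { toFun := fun v => conjBy V g v * v⁻¹
        map_one' := by simp
        map_mul' := fun a b => Subtype.ext (by
          simp only [map_mul, Subgroup.coe_mul, InvMemClass.coe_inv, mul_inv_rev]
          rw [hVab (b : X)⁻¹ (inv_mem b.2) (a : X)⁻¹ (inv_mem a.2)]
          have := hVab (conjBy V g b : X) (conjBy V g b).2 (a : X)⁻¹ (inv_mem a.2)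
          calc (conjBy V g a : X) * (conjBy V g b : X) * ((a : X)⁻¹ * (b : X)⁻¹)
              = (conjBy V g a : X) * ((conjBy V g b : X) * (a : X)⁻¹) * (b : X)⁻¹ := by
                simp [mul_assoc]
            _ = _ := by rw [this]; simp [mul_assoc]) }
    have hφ : Function.Injective φ := by
      rw [injective_iff_map_eq_one]
      intro v hv
      have h1 : conjBy V g v * v⁻¹ = 1 := hv
      rw [mul_inv_eq_one] at h1
      have h2 : g * (v : X) * g⁻¹ = v := by
        have := congrArg Subtype.val h1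
        simpa [coe_conjBy] using this
      refine Subtype.ext (hfpf' g hgV v v.2 ?_)
      exact mul_inv_eq_iff_eq_mul.1 h2
    obtain ⟨v, hv⟩ := (Finite.injective_iff_surjective.1 hφ) v₀
    apply hθ
    have h1 := (mem_inertia V).1 hg v
    rw [hlam] at h1 ⊢
    simp only [Units.val_inj] at h1
    rw [← hv]
    simp [φ, h1]
  obtain ⟨χ, hχ⟩ := exists_over V θ.2
  have hdeg := clifford_degree V χ.2 θ.2 hχ
  rw [hinertia, hθ1, mul_one, inner_eq_multNat (Chars.isCharacter_restrict V
    (Chars.isCharacter_of_irr χ.2)) (Chars.isCharacter_of_irr θ.2), CharApps.deg_eq] at hdeg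
  have hdeg' : charDegree (χ : X → ℂ) = multNat (fun v : V => (χ : X → ℂ) v) (θ : V → ℂ) * V.index := by
    exact_mod_cast hdeg
  have hVne : V ≠ ⊤ := fun h => hnn (by
    haveI := hVp.isNilpotent
    subst h
    exact Group.nilpotent_of_mulEquiv Subgroup.topEquiv)
  have hidx : charDegree (χ : X → ℂ) = V.index := by
    obtain ⟨k, hk0, hk, hkd⟩ := degree_quotient V χ.2 θ.2 hχ
    rw [hθ1, mul_one, CharApps.deg_eq] at hk
    have hk' : charDegree (χ : X → ℂ) = k := by exact_mod_cast hk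
    have hle : k ≤ V.index := Nat.le_of_dvd (Nat.pos_of_ne_zero Subgroup.index_ne_zero_of_finite) hkd
    have hm0' : multNat (fun v : V => (χ : X → ℂ) v) (θ : V → ℂ) ≠ 0 :=
      multNat_ne_zero (Chars.isCharacter_restrict V (Chars.isCharacter_of_irr χ.2))
        (Chars.isCharacter_of_irr θ.2) hχ
    have hge := Nat.le_mul_of_pos_left V.index (Nat.pos_of_ne_zero hm0')
    omega
  set m := V.index with hm
  -- the orbits of `H` on `V \ 1` are regular
  have hcomp : Nat.card H = m := by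
    exact ((Subgroup.isComplement'_of_disjoint_and_mul_eq_univ (disjoint_iff.2 hVHbot)
      (by rw [← Subgroup.normal_mul, hVHtop]; rfl)).symm.index_eq_card).symm
  have hinj : Function.Injective (fun h : H => (h : X) * v₀ * (h : X)⁻¹) := by
    intro a b hab
    by_contra hne
    have hne' : (b : X)⁻¹ * a ≠ 1 := fun h1 => hne (Subtype.ext (inv_mul_eq_one.1 h1).symm)
    refine hv₀ (Subtype.ext (hfpf _ (mul_mem (inv_mem b.2) a.2) hne' _ v₀.2 ?_))
    have := congrArg (fun t => (b : X)⁻¹ * t * a) hab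
    simpa [mul_assoc] using this
  have hlt : m < Nat.card V := by
    rw [← hcomp]
    have hmem : ∀ h : H, (h : X) * v₀ * (h : X)⁻¹ ∈ V := fun h =>
      (inferInstance : V.Normal).conj_mem _ v₀.2 _
    refine lt_of_lt_of_le (Nat.lt_succ_self _) ?_
    have h1 : Function.Injective (fun o : Option H =>
        o.elim (1 : V) fun h => ⟨_, hmem h⟩) := by
      rintro (_ | a) (_ | b) hab
      · rfl
      · exact absurd (congrArg Subtype.val hab).symm (by simpa [conj_eq_one_iff] using hv₀)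
      · exact absurd (congrArg Subtype.val hab) (by simpa [conj_eq_one_iff] using hv₀)
      · exact congrArg some (hinj (congrArg Subtype.val hab))
    simpa [Finite.card_option] using Nat.card_le_card_of_injective _ h1
  refine ⟨V, inferInstance, q, hq, ⟨χ, hidx⟩, fun h => hVne (Subgroup.index_eq_one.1 h),
    fun hqm => ?_, hlt, hVab, hVq, hdX, hfpf'⟩
  -- `q` does not divide `m`: a `q`-element of `H` would fix a point of `V \ 1`
  obtain ⟨h, hh⟩ := exists_prime_orderOf_dvd_card' q (show q ∣ Nat.card H by rwa [hcomp])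
  set E := Subgroup.zpowers (h : X) with hE
  have hEp : IsPGroup q E := IsPGroup.of_card (n := 1) (by
    rw [pow_one, hE, Nat.card_zpowers, Subgroup.orderOf_coe, hh])
  have hh1 : (h : X) ≠ 1 := fun e => by
    rw [← Subgroup.orderOf_coe, e, orderOf_one] at hh
    exact hq.one_lt.ne hh
  have hle : E ≤ Subgroup.normalizer (V : Set X) := by
    rw [Subgroup.normalizer_eq_top]; exact le_top
  haveI : Group.IsNilpotent ↥(E ⊔ V) := (hEp.to_sup_of_normal_right' hVp hle).isNilpotent
  haveI : (V.subgroupOf (E ⊔ V)).Normal := inferInstance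
  have hne : (V.subgroupOf (E ⊔ V)) ≠ ⊥ := fun h0 => hV.ne_bot (by
    rw [← Subgroup.map_subgroupOf_eq_of_le (le_sup_right : V ≤ E ⊔ V), h0, Subgroup.map_bot])
  obtain ⟨⟨z, hzE⟩, ⟨hzV, hzc⟩, hz1⟩ := (Subgroup.bot_or_exists_ne_one _).resolve_left
    (Base.inf_center_ne_bot_of_isNilpotent hne)
  refine hz1 (Subtype.ext (hfpf h h.2 hh1 z hzV ?_))
  exact congrArg Subtype.val (Subgroup.mem_center_iff.1 hzc
    ⟨h, (le_sup_left : E ≤ E ⊔ V) (Subgroup.mem_zpowers _)⟩)

/-- A group all of whose proper quotients are nilpotent, with two degrees: Frobenius. -/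
theorem frobenius_quotient {X : Type u} [Group X] [Fintype X] {m : ℕ} (hm0 : m ≠ 0)
    (hcd : CdTwoLE X m) (hnn : ¬ Group.IsNilpotent X)
    (hmin : ∀ (W : Subgroup X) [W.Normal], W ≠ ⊥ → Group.IsNilpotent (X ⧸ W)) :
    ∃ (V : Subgroup X) (_ : V.Normal) (q : ℕ), q.Prime ∧ V.index = m ∧ ¬ q ∣ m ∧ m < Nat.card V ∧
      (∀ a ∈ V, ∀ b ∈ V, a * b = b * a) ∧ (∀ a ∈ V, a ^ q = 1) ∧ commutator X ≤ V ∧
      ∀ (x : X), x ∉ V → ∀ v ∈ V, x * v = v * x → v = 1 := by
  obtain ⟨V, hV, q, hq, ⟨χ, hχ⟩, h1, h2, h3, h4⟩ :=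
    frobenius_core (commutator_abelian hm0 hcd) hnn hmin
  have he : V.index = m := hχ ▸ (hcd χ).resolve_left (hχ ▸ h1)
  exact ⟨V, hV, q, hq, he, he ▸ h2, he ▸ h3, h4⟩

/-- Twisting by the characters of a fixed-point-free section gives a character of degree
divisible by the index. -/
lemma exists_twist_degree (N : Subgroup G) [N.Normal] {V : Subgroup (G ⧸ N)} (hVn : V.Normal)
    {q : ℕ} (hq : q.Prime) (hmV : V.index < Nat.card V) (hVab : ∀ a ∈ V, ∀ b ∈ V, a * b = b * a)
    (hVq : ∀ a ∈ V, a ^ q = 1) (hfpf : ∀ x : G ⧸ N, x ∉ V → ∀ v ∈ V, x * v = v * x → v = 1)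
    {K : Subgroup G} (hK : K = V.comap (QuotientGroup.mk' N)) (ψ : IrrCharacter K)
    (hqd : ¬ q ∣ charDegree (ψ : K → ℂ)) :
    ∃ χ : IrrCharacter G, V.index * charDegree (ψ : K → ℂ) ∣
      charDegree (χ : G → ℂ) := by
  classical
  set π := QuotientGroup.mk' N
  subst hK
  haveI : (V.comap π).Normal := hVn.comap π
  set m := V.index with hm
  have hKidx : (V.comap π).index = m := by
    rw [Subgroup.index_comap_of_surjective _ (QuotientGroup.mk'_surjective N)]
  let _ := Fintype.ofFinite (V.comap π)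
  let _ := Fintype.ofFinite V
  let p : (V.comap π) →* V := (π.comp (V.comap π).subtype).codRestrict V fun x => x.2
  have hp : Function.Surjective p := by
    rintro ⟨v, hv⟩
    obtain ⟨g, rfl⟩ := QuotientGroup.mk'_surjective N v
    exact ⟨⟨g, hv⟩, rfl⟩
  set d := charDegree (ψ : (V.comap π) → ℂ) with hd
  have hψ1 : (ψ : (V.comap π) → ℂ) 1 = (d : ℂ) := CharApps.deg_eq ψ
  let tw : (V →* ℂˣ) → IrrCharacter (V.comap π) := fun μ =>
    ⟨_, Chars.isIrrCharacter_linear_mul (μ.comp p) ψ.2⟩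
  have htw : ∀ μ x, (tw μ : (V.comap π) → ℂ) x = (μ (p x) : ℂ) * (ψ : (V.comap π) → ℂ) x := fun _ _ => rfl
  -- an element outside `(V.comap π)` fixes at most one twist
  have hone : ∀ g : G, g ∉ (V.comap π) → ∀ μ μ' : V →* ℂˣ, g ∈ inertia (V.comap π) (tw μ : (V.comap π) → ℂ) →
      g ∈ inertia (V.comap π) (tw μ' : (V.comap π) → ℂ) → μ = μ' := by
    intro g hg μ μ' h1 h2
    have hgV : π g ∉ V := hg
    set δ := μ⁻¹ * μ' with hδ
    let c : V →* V :=
      { toFun := fun v => ⟨π g * (v : G ⧸ N) * (π g)⁻¹, hVn.conj_mem _ v.2 (π g)⟩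
        map_one' := Subtype.ext (by simp)
        map_mul' := fun a b => Subtype.ext (by simp [mul_assoc]) }
    let η : V →* ℂˣ := (δ.comp c) * δ⁻¹
    have hpc : ∀ x : (V.comap π), p (conjBy (V.comap π) g x) = c (p x) := fun x => Subtype.ext (by
      show π (conjBy (V.comap π) g x : G) = π g * π (x : G) * (π g)⁻¹
      rw [coe_conjBy, map_mul, map_mul, map_inv])
    -- `η` fixes the twist by `μ'`
    have hfix : ∀ x : (V.comap π), ((η.comp p) x : ℂ) * (tw μ' : (V.comap π) → ℂ) x = (tw μ' : (V.comap π) → ℂ) x := by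
      intro x
      have e1 := (mem_inertia (V.comap π)).1 h1 x
      have e2 := (mem_inertia (V.comap π)).1 h2 x
      rw [htw, htw, hpc] at e1 e2
      have hne1 : (μ (c (p x)) : ℂ) ≠ 0 := Units.ne_zero _
      have hne2 : (μ' (p x) : ℂ) ≠ 0 := Units.ne_zero _
      simp only [η, δ, MonoidHom.comp_apply, MonoidHom.mul_apply, MonoidHom.inv_apply, mul_inv,
        inv_inv, Units.val_mul, Units.val_inv_eq_inv_val, htw]
      field_simp
      linear_combination ((μ (c (p x)) : ℂ)) * e2 - ((μ' (c (p x)) : ℂ)) * e1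
    have hη : η ^ d = 1 := by
      have h3 := pow_degree_eq_one (tw μ').2 (d := d) (by rw [htw]; simpa using hψ1) (η.comp p) hfix
      refine MonoidHom.ext fun v => ?_
      obtain ⟨x, rfl⟩ := hp v
      exact DFunLike.congr_fun h3 x
    have hηq : η ^ q = 1 := MonoidHom.ext fun v => by
      rw [MonoidHom.pow_apply, ← map_pow,
        show v ^ q = 1 from Subtype.ext (hVq _ v.2), map_one, MonoidHom.one_apply]
    have hη1 : η = 1 := by
      have hco : Nat.Coprime q d := hq.coprime_iff_not_dvd.2 hqd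
      refine MonoidHom.ext fun v => ?_
      have e1 : η v ^ q = 1 := DFunLike.congr_fun hηq v
      have e2 : η v ^ d = 1 := DFunLike.congr_fun hη v
      simpa [hco.gcd_eq_one] using pow_gcd_eq_one.2 ⟨e1, e2⟩
    -- fixed point freeness makes `v ↦ c v / v` bijective
    let φ : V →* V :=
      { toFun := fun v => c v * v⁻¹
        map_one' := by simp
        map_mul' := fun a b => Subtype.ext (by
          have hcc : ∀ s t : V, (s : G ⧸ N) * t = t * s := fun s t => hVab s s.2 t t.2
          have e : c (a * b) * (a * b)⁻¹ = c a * a⁻¹ * (c b * b⁻¹) := Subtype.ext (by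
            simp only [map_mul, Subgroup.coe_mul, InvMemClass.coe_inv, mul_inv_rev]
            rw [hVab _ (inv_mem b.2) _ (inv_mem a.2)]
            calc (c a : G ⧸ N) * c b * ((a : G ⧸ N)⁻¹ * (b : G ⧸ N)⁻¹)
                = (c a : G ⧸ N) * ((c b : G ⧸ N) * (a : G ⧸ N)⁻¹) * (b : G ⧸ N)⁻¹ := by
                  simp [mul_assoc]
              _ = _ := by rw [hVab _ (c b).2 _ (inv_mem a.2)]; simp [mul_assoc])
          exact congrArg Subtype.val e) }
    have hφ : Function.Injective φ := by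
      rw [injective_iff_map_eq_one]
      intro v hv
      have h1 : c v * v⁻¹ = 1 := hv
      rw [mul_inv_eq_one] at h1
      have h2 : π g * (v : G ⧸ N) * (π g)⁻¹ = v := congrArg Subtype.val h1
      refine Subtype.ext (hfpf _ hgV v v.2 ?_)
      exact mul_inv_eq_iff_eq_mul.1 h2
    have hδ1 : δ = 1 := MonoidHom.ext fun w => by
      obtain ⟨v, rfl⟩ := (Finite.injective_iff_surjective.1 hφ) w
      have := DFunLike.congr_fun hη1 v
      simpa [φ, η] using this
    exact inv_mul_eq_one.1 hδ1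
  -- some twist has inertia group `(V.comap π)`
  obtain ⟨μ, hμ⟩ : ∃ μ : V →* ℂˣ, inertia (V.comap π) (tw μ : (V.comap π) → ℂ) = (V.comap π) := by
    by_contra hcon
    push Not at hcon
    have hbad : ∀ μ, ∃ g, g ∈ inertia (V.comap π) (tw μ : (V.comap π) → ℂ) ∧ g ∉ (V.comap π) := fun μ =>
      SetLike.exists_of_lt (lt_of_le_of_ne (le_inertia (V.comap π) (Chars.isClassFunction_irr (tw μ)))
        (hcon μ).symm)
    choose g hg hgK using hbad
    have hinj : Function.Injective fun μ : V →* ℂˣ => (g μ : G ⧸ (V.comap π)) := by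
      intro μ μ' he
      refine hone (g μ) (hgK μ) μ μ' (hg μ) ?_
      have hx : (g μ')⁻¹ * g μ ∈ (V.comap π) := QuotientGroup.eq.1 he.symm
      have := mul_mem (hg μ') (le_inertia (V.comap π) (Chars.isClassFunction_irr (tw μ')) hx)
      simpa using this
    have hle := Nat.card_le_card_of_injective _ hinj
    have hcV : commutator V = ⊥ := by
      rw [commutator_eq_bot_iff_center_eq_top]
      exact Subgroup.eq_top_iff' _ |>.2 fun a => Subgroup.mem_center_iff.2 fun b =>
        Subtype.ext (hVab b b.2 a a.2)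
    rw [Chars.card_monoidHom_units, hcV, Subgroup.index_bot] at hle
    have : Nat.card (G ⧸ (V.comap π)) = m := hKidx
    omega
  obtain ⟨χ, hχ⟩ := exists_over (V.comap π) (tw μ).2
  have hc := clifford_degree (V.comap π) χ.2 (tw μ).2 hχ
  rw [hμ, hKidx, inner_eq_multNat (Chars.isCharacter_restrict (V.comap π)
    (Chars.isCharacter_of_irr χ.2)) (Chars.isCharacter_of_irr (tw μ).2), CharApps.deg_eq,
    show (tw μ : (V.comap π) → ℂ) 1 = (d : ℂ) by rw [htw]; simpa using hψ1] at hc
  have hc' : charDegree (χ : G → ℂ) =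
      multNat (fun x : (V.comap π) => (χ : G → ℂ) x) (tw μ : (V.comap π) → ℂ) * m * d := by exact_mod_cast hc
  exact ⟨χ, hc' ▸ (mul_assoc _ m d).symm ▸ dvd_mul_left _ _⟩

/-- Either the group is nilpotent or it has an abelian normal subgroup of index `m`. -/
theorem abelian_index_of_not_nilpotent {m : ℕ} (hm0 : m ≠ 0) (hcd : CdTwoLE G m)
    (hnn : ¬ Group.IsNilpotent G) :
    ∃ A : Subgroup G, A.Normal ∧ (∀ a ∈ A, ∀ b ∈ A, a * b = b * a) ∧ A.index = m := by
  classical
  obtain ⟨N, ⟨hN, hNn⟩, hmax⟩ := Finite.exists_le_maximal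
    (p := fun N : Subgroup G => ∃ _ : N.Normal, ¬ Group.IsNilpotent (G ⧸ N)) (a := ⊥)
    ⟨inferInstance, fun h => hnn (Group.nilpotent_of_mulEquiv QuotientGroup.quotientBot)⟩
    |>.imp fun N h => h.2
  let _ := Fintype.ofFinite (G ⧸ N)
  set π := QuotientGroup.mk' N
  have hmin : ∀ (W : Subgroup (G ⧸ N)) [W.Normal], W ≠ ⊥ → Group.IsNilpotent ((G ⧸ N) ⧸ W) := by
    intro W _ hW
    have hle : N ≤ W.comap π := QuotientGroup.le_comap_mk' N W
    have hlt : ¬ W.comap π ≤ N := fun h => hW (by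
      rw [← Subgroup.map_comap_eq_self_of_surjective (QuotientGroup.mk'_surjective N) W,
        le_antisymm h hle, QuotientGroup.map_mk'_self])
    by_contra hWn
    refine hlt (hmax ⟨inferInstance, fun h => hWn ?_⟩ hle)
    let f : G ⧸ W.comap π →* (G ⧸ N) ⧸ W := QuotientGroup.map (W.comap π) W π le_rfl
    refine @Group.nilpotent_of_surjective _ _ _ _ h f ?_
    intro q
    obtain ⟨q, rfl⟩ := QuotientGroup.mk_surjective q
    obtain ⟨g, rfl⟩ := QuotientGroup.mk_surjective q
    exact ⟨(g : G ⧸ W.comap π), rfl⟩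
  obtain ⟨V, hVn, q, hq, hidx, hqm, hmV, hVab, hVq, hdV, hfpf⟩ :=
    frobenius_quotient hm0 (hcd.quotient N) hNn hmin
  set K := V.comap π with hK
  haveI : K.Normal := hVn.comap π
  have hKidx : K.index = m := by
    rw [hK, Subgroup.index_comap_of_surjective _ (QuotientGroup.mk'_surjective N), hidx]
  refine ⟨K, inferInstance, ?_, hKidx⟩
  refine abelian_of_linear K fun ψ => ?_
  obtain ⟨χ, hχ⟩ := exists_over K ψ.2
  obtain ⟨k, -, hk, -⟩ := degree_quotient K χ.2 ψ.2 hχ
  rw [CharApps.deg_eq, CharApps.deg_eq] at hk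
  have hk' : charDegree (χ : G → ℂ) = k * charDegree (ψ : K → ℂ) := by exact_mod_cast hk
  have hdm : charDegree (ψ : K → ℂ) ∣ m := by
    rcases hcd χ with h | h <;> rw [h] at hk'
    · exact (Dvd.intro_left _ hk'.symm).trans (one_dvd m)
    · exact Dvd.intro_left _ hk'.symm
  obtain ⟨χ', hχ'⟩ := exists_twist_degree N hVn hq (hidx ▸ hmV) hVab hVq hfpf hK ψ
    fun h => hqm (h.trans hdm)
  rw [CharApps.deg_eq, Nat.cast_eq_one]
  rcases hcd χ' with h | h <;> rw [h, hidx] at hχ'
  · exact Nat.eq_one_of_dvd_one ((dvd_mul_left _ _).trans hχ')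
  · refine Nat.eq_one_of_dvd_one ?_
    exact Nat.dvd_of_mul_dvd_mul_left (Nat.pos_of_ne_zero hm0) (by simpa using hχ')

/-- In a nilpotent group with two degrees, `m` is a prime power. -/
theorem prime_pow_of_nilpotent [hnil : Group.IsNilpotent G] {m : ℕ} (hm1 : m ≠ 1) (hm0 : m ≠ 0)
    (hcd : CdTwoLE G m) (hm : ∃ χ : IrrCharacter G, charDegree (χ : G → ℂ) = m) :
    ∃ p e : ℕ, p.Prime ∧ m = p ^ e := by
  classical
  obtain ⟨p, hp⟩ : ∃ p : ℕ, ∃ _ : Fact p.Prime, ∃ P : Sylow p G, ¬ IsMulCommutative (P : Subgroup G) := by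
    by_contra hcon
    push Not at hcon
    obtain ⟨χ, hχ⟩ := hm
    apply hm1
    rw [← hχ]
    have hall : ∀ (r : ℕ) (_ : Fact r.Prime) (S : Sylow r G), (S : Subgroup G).Normal :=
      ((Group.isNilpotent_of_finite_tfae (G := G)).out 0 3).1 hnil
    obtain ⟨e⟩ : Nonempty ((∀ r : (Nat.card G).primeFactors, ∀ P : Sylow r G, (P : Subgroup G)) ≃* G) :=
      ((Group.isNilpotent_of_finite_tfae (G := G)).out 0 4).1 hnil
    have hcomm : ∀ a b : G, a * b = b * a := by
      intro a b
      obtain ⟨a, rfl⟩ := e.surjective a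
      obtain ⟨b, rfl⟩ := e.surjective b
      rw [← map_mul, ← map_mul]
      congr 1
      funext r S
      haveI := Fact.mk (Nat.prime_of_mem_primeFactors r.2)
      exact (hcon r.1 inferInstance S).is_comm.comm (a r S) (b r S)
    have := Chars.irr_abelian_degree hcomm χ.2
    rw [CharApps.deg_eq] at this
    exact_mod_cast this
  obtain ⟨hpF, P, hP⟩ := hp
  have hall : ∀ (r : ℕ) (_ : Fact r.Prime) (S : Sylow r G), (S : Subgroup G).Normal :=
    ((Group.isNilpotent_of_finite_tfae (G := G)).out 0 3).1 hnil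
  haveI := hall p hpF P
  let _ := Fintype.ofFinite (P : Subgroup G)
  obtain ⟨θ, hθ⟩ : ∃ θ : IrrCharacter ↥(P : Subgroup G), (θ : ↥(P : Subgroup G) → ℂ) 1 ≠ 1 := by
    by_contra hcon
    push Not at hcon
    refine hP ⟨⟨fun a b => ?_⟩⟩
    refine commutatorElement_eq_one_iff_mul_comm.1 (Chars.eq_one_of_forall_irr fun θ => ?_)
    obtain ⟨lam, hlam⟩ := Chars.exists_hom_of_degree_one (Chars.isCharacter_of_irr θ.2) (hcon θ)
    rw [hlam]
    simp [commutatorElement_def]
  obtain ⟨d, -, hd, hdd⟩ := Chars.irr_degree_dvd_card θ.2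
  obtain ⟨i, hi⟩ := IsPGroup.iff_card.1 P.2
  obtain ⟨j, -, hj⟩ := (Nat.dvd_prime_pow hpF.out).1 (hi ▸ hdd)
  -- the character is `G`-invariant and the index is prime to `p`
  obtain ⟨χ, hχ⟩ := exists_over (P : Subgroup G) θ.2
  obtain ⟨k, -, hk, hkd⟩ := degree_quotient (P : Subgroup G) χ.2 θ.2 hχ
  rw [CharApps.deg_eq, hd] at hk
  have hk' : charDegree (χ : G → ℂ) = k * p ^ j := by rw [← hj]; exact_mod_cast hk
  have hj0 : j ≠ 0 := fun h => hθ (by rw [hd, hj, h, pow_zero, Nat.cast_one])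
  rcases hcd χ with h | h
  · exfalso
    rw [h] at hk'
    have := Nat.eq_one_of_mul_eq_one_left hk'.symm
    exact absurd this (Nat.one_lt_pow hj0 hpF.out.one_lt).ne'
  rw [h] at hk'
  -- a nonlinear character of the `p`-quotient has degree `m`
  obtain ⟨M, hMn, hMc, l, hl⟩ := Cfsg.Agent.S4456.result p hpF.out fun ψ hψ =>
    ((hcd ψ).resolve_left hψ).symm ▸ hk' ▸ (dvd_pow_self p hj0).trans (dvd_mul_left _ _)
  haveI := hMn
  let _ := Fintype.ofFinite (G ⧸ M)
  obtain ⟨ψ, hψ⟩ : ∃ ψ : IrrCharacter (G ⧸ M), (ψ : G ⧸ M → ℂ) 1 ≠ 1 := by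
    by_contra hcon
    push Not at hcon
    refine hP ⟨⟨fun a b => Subtype.ext ?_⟩⟩
    refine commutatorElement_eq_one_iff_mul_comm.1 ?_
    have h1 : ((⁅(a : G), (b : G)⁆ : G) : G ⧸ M) = 1 := by
      refine Chars.eq_one_of_forall_irr fun ξ => ?_
      obtain ⟨lam, hlam⟩ :=
        Chars.exists_hom_of_degree_one (Chars.isCharacter_of_irr ξ.2) (hcon ξ)
      rw [hlam]
      simp [commutatorElement_def]
    have h2 : ⁅(a : G), (b : G)⁆ ∈ M := (QuotientGroup.eq_one_iff _).1 h1
    have h3 : ⁅(a : G), (b : G)⁆ ∈ (P : Subgroup G) :=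
      Subgroup.commutator_le_self _ (Subgroup.commutator_mem_commutator a.2 b.2)
    have hdisj : M ⊓ (P : Subgroup G) = ⊥ := disjoint_iff.1 (Subgroup.disjoint_of_coprime_natCard (by
      rw [hi]; exact hMc.pow_right i))
    exact Subgroup.mem_bot.1 (hdisj ▸ ⟨h2, h3⟩)
  have hψd : charDegree (ψ : G ⧸ M → ℂ) = m := ((hcd.quotient M) ψ).resolve_left fun h1 =>
    hψ (by rw [CharApps.deg_eq, h1, Nat.cast_one])
  obtain ⟨d', -, hd', hdd'⟩ := Chars.irr_degree_dvd_card ψ.2
  have hQ : Nat.card (G ⧸ M) = p ^ l := hl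
  rw [hQ] at hdd'
  obtain ⟨e, -, he⟩ := (Nat.dvd_prime_pow hpF.out).1 hdd'
  refine ⟨p, e, hpF.out, ?_⟩
  rw [CharApps.deg_eq, hψd, he] at hd'
  exact_mod_cast hd'

end CfsgLib.CharsMore.CdTwo
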