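import Cfsg.Agent.Lib.CharsMore.InertiaAbelian
import Mathlib

/-!
# The restriction of an invariant character to an abelian chief factor
-/

set_option linter.style.haveILetI false
set_option linter.unusedSectionVars false

namespace CfsgLib.CharsMore

open Cfsg
open scoped ComplexConjugate commutatorElement

variable {G : Type*} [Group G] [Fintype G] {K L : Subgroup G} [hK : K.Normal] [hL : L.Normal]

lemma going_down_conj (g : G) (x : L.subgroupOf K) :
    (⟨g * ((x : K) : G) * g⁻¹, hK.conj_mem _ (x : K).2 g⟩ : K) ∈ L.subgroupOf K :=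
  hL.conj_mem _ x.2 g

/-- The going down theorem. -/
theorem going_down (hLK : L ≤ K) [Fintype K] [Fintype (L.subgroupOf K)]
    (hchief : ∀ M : Subgroup G, M.Normal → L ≤ M → M ≤ K → M = L ∨ M = K) (hab : ⁅K, K⁆ ≤ L)
    {ϑ : K → ℂ} (hϑ : IsIrrCharacter K ϑ)
    (hinv : ∀ (g : G) (n : K), ϑ ⟨g * n * g⁻¹, hK.conj_mem (n : G) n.2 g⟩ = ϑ n) :
    ∃ φ : L.subgroupOf K → ℂ, IsIrrCharacter (L.subgroupOf K) φ ∧
      ((fun x : L.subgroupOf K => ϑ x) = φ ∨
      (∃ e : ℕ, (fun x : L.subgroupOf K => ϑ x) = (e : ℂ) • φ ∧ e ^ 2 = L.relIndex K) ∨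
      ((orbitFn (L.subgroupOf K) φ).card = L.relIndex K ∧
        (fun x : L.subgroupOf K => ϑ x) = ∑ ψ ∈ orbitFn (L.subgroupOf K) φ, ψ)) := by
  classical
  set L' := L.subgroupOf K with hL'
  set r : L' → ℂ := fun x => ϑ x with hr
  have hϑc := Chars.isCharacter_of_irr hϑ
  have hrc : IsCharacter L' r := Chars.isCharacter_restrict L' hϑc
  have hcomm : ∀ x y : K, x * y * x⁻¹ * y⁻¹ ∈ L' := fun x y => by
    show ((x * y * x⁻¹ * y⁻¹ : K) : G) ∈ L
    exact hab (Subgroup.commutator_mem_commutator x.2 y.2)
  obtain ⟨φI, hφI⟩ := Chars.exists_constituent hrc fun h0 =>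
    Chars.irr_degree_ne_zero hϑ (congrFun h0 1)
  set φ : L' → ℂ := (φI : L' → ℂ)
  have hφ : IsIrrCharacter L' φ := φI.2
  refine ⟨φ, hφ, ?_⟩
  obtain ⟨e, he⟩ := Chars.inner_char_nat hrc (Chars.isCharacter_of_irr hφ)
  have he0 : e ≠ 0 := fun h => hφI (by rw [he, h, Nat.cast_zero])
  have hT := le_inertia L' (Chars.isClassFunction_of_isCharacter (Chars.isCharacter_of_irr hφ))
  set T := inertia L' φ with hTdef
  have hTn : T.Normal := ⟨fun x hx k => by
    have : k * x * k⁻¹ = (k * x * k⁻¹ * x⁻¹) * x := by group
    rw [this]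
    exact T.mul_mem (hT (hcomm k x)) hx⟩
  -- the inertia group is normal in the whole group
  have hTG : (T.map K.subtype).Normal := by
    refine ⟨?_⟩
    rintro _ ⟨x, hx, rfl⟩ g
    refine ⟨⟨g * x * g⁻¹, hK.conj_mem _ x.2 g⟩, ?_, rfl⟩
    let σ : L' →* L' :=
      { toFun := fun n => ⟨⟨g * ((n : K) : G) * g⁻¹, hK.conj_mem _ (n : K).2 g⟩, going_down_conj g n⟩
        map_one' := by ext; simp
        map_mul' := fun a b => by ext; simp [mul_assoc] }
    have hσ : Function.Bijective σ := by
      refine Finite.injective_iff_bijective.1 fun a b h => Subtype.ext (Subtype.ext ?_)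
      have h1 := congrArg (fun y : L' => ((y : K) : G)) h
      exact mul_left_cancel (mul_right_cancel h1)
    have hφg : IsIrrCharacter L' (fun n => φ (σ n)) := Chars.isIrrCharacter_comp σ hσ.2 hφ
    have hin : classInner r (fun n => φ (σ n)) ≠ 0 := by
      have : classInner r (fun n => φ (σ n)) = classInner r φ := by
        rw [Chars.inner_def, Chars.inner_def]
        refine congrArg _ (Fintype.sum_equiv (Equiv.ofBijective σ hσ) _ _ fun n => ?_)
        show r n * _ = r (σ n) * _
        rw [show r (σ n) = r n from hinv g (n : K)]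
        rfl
      rwa [this]
    obtain ⟨k, hk⟩ := restrict_constituents_conj L' hϑ hφ hφg hφI hin
    -- `x` also fixes the conjugate
    have hfix : conjFn L' x (conjFn L' k φ) = conjFn L' k φ := by
      rw [← conjFn_mul, show k * x = (k * x * k⁻¹) * k by group, conjFn_mul,
        show conjFn L' (k * x * k⁻¹) φ = φ from hTn.conj_mem x hx k]
    rw [hk] at hfix
    refine (mem_inertia L').2 fun n => ?_
    obtain ⟨m, rfl⟩ := hσ.2 n
    have h1 : φ (σ (conjBy L' x m)) = φ (σ m) := congrFun hfix m
    refine Eq.trans (congrArg φ ?_) h1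
    refine Subtype.ext (Subtype.ext ?_)
    simp [conjBy, σ, mul_assoc]
  have hcl := clifford L' hϑ hφ hφI
  rw [he] at hcl
  rcases hchief _ hTG (fun l hl => ⟨⟨l, hLK hl⟩, hT hl, rfl⟩) (Subgroup.map_subtype_le T) with h | h
  · -- the inertia group is the smaller subgroup
    have hTL : T = L' := by
      rw [hL', ← h, Subgroup.subgroupOf, Subgroup.comap_map_eq_self_of_injective K.subtype_injective]
    refine Or.inr (Or.inr ⟨?_, ?_⟩)
    · rw [card_orbitFn, ← hTdef, hTL]; rfl
    · obtain ⟨ψ, hψ, -, -, hval⟩ := exists_correspondent L' (le_refl L') hφ hTL.symm hϑ hφI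
      have hψe : ψ = (e : ℂ) • φ := funext fun n => by
        have := hval n
        rwa [he] at this
      have h1 := (Chars.isIrrCharacter_iff_inner_self.1 hψ).2
      rw [hψe, Chars.inner_smul_left, Chars.inner_smul_right, (Chars.isIrrCharacter_iff_inner_self.1 hφ).2, map_natCast,
        mul_one] at h1
      have : e * e = 1 := by exact_mod_cast h1
      have e1 : e = 1 := Nat.eq_one_of_mul_eq_one_left this
      rw [e1, Nat.cast_one, one_smul] at hcl
      exact hcl
  · -- invariant constituent
    have hTtop : T = ⊤ := by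
      rw [← Subgroup.comap_map_eq_self_of_injective K.subtype_injective T, h]
      exact Subgroup.subgroupOf_self K
    have hinvφ : ∀ k, conjFn L' k φ = φ := fun k => (hTtop ▸ Subgroup.mem_top k : k ∈ T)
    have horb : orbitFn L' φ = {φ} := by
      ext ψ
      simp [mem_orbitFn, hinvφ, eq_comm]
    rw [horb, Finset.sum_singleton] at hcl
    set S : Set G := (L : Set G) ∪ {g | ∃ hg : g ∈ K, ϑ ⟨g, hg⟩ ≠ 0} with hS
    set V := Subgroup.closure S
    have hVK : V ≤ K := (Subgroup.closure_le K).2 fun g hg => by
      rcases hg with h | ⟨h, -⟩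
      exacts [hLK h, h]
    have hVn : V.Normal := ⟨fun v hv g => by
      refine Subgroup.closure_induction (p := fun v _ => g * v * g⁻¹ ∈ V) ?_ ?_ ?_ ?_ hv
      · rintro s (h | ⟨h, hne⟩)
        · exact Subgroup.subset_closure (Or.inl (hL.conj_mem _ h g))
        · exact Subgroup.subset_closure (Or.inr ⟨hK.conj_mem _ h g, by rwa [hinv g ⟨s, h⟩]⟩)
      · simp [V.one_mem]
      · intro a b _ _ ha hb
        have := V.mul_mem ha hb
        rwa [show g * a * g⁻¹ * (g * b * g⁻¹) = g * (a * b) * g⁻¹ by group] at this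
      · intro a _ ha
        have := V.inv_mem ha
        rwa [show (g * a * g⁻¹)⁻¹ = g * a⁻¹ * g⁻¹ by group] at this⟩
    rcases hchief V hVn (fun l hl => Subgroup.subset_closure (Or.inl hl)) hVK with hV | hV
    · -- `ϑ` vanishes outside the smaller subgroup
      refine Or.inr (Or.inl ⟨e, hcl, ?_⟩)
      have hvan : ∀ k : K, k ∉ L' → ϑ k = 0 := fun k hk => by
        by_contra hne
        exact hk ((hV ▸ Subgroup.subset_closure (Or.inr ⟨k.2, hne⟩) : (k : G) ∈ L))
      have hn1 : classInner r r = (e : ℂ) ^ 2 := by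
        rw [show r = (e : ℂ) • φ from hcl, Chars.inner_smul_left, Chars.inner_smul_right, (Chars.isIrrCharacter_iff_inner_self.1 hφ).2, map_natCast,
          mul_one, sq]
      have hn2 : classInner r r = (L'.index : ℂ) * classInner ϑ ϑ := by
        rw [Chars.inner_def, Chars.inner_def, ← Finset.sum_subset
          (Finset.subset_univ (Finset.univ.filter (· ∈ L')))
          (fun x _ hx => by rw [hvan x (by simpa using hx), zero_mul]),
          Finset.sum_subtype (Finset.univ.filter (· ∈ L')) (p := (· ∈ L')) (fun x => by simp),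
          ← L'.card_mul_index, Nat.cast_mul, mul_inv, ← mul_assoc]
        have : (L'.index : ℂ) ≠ 0 := Nat.cast_ne_zero.2 Subgroup.index_ne_zero_of_finite
        field_simp
        rfl
      rw [hn1, (Chars.isIrrCharacter_iff_inner_self.1 hϑ).2, mul_one] at hn2
      exact_mod_cast hn2
    · -- all the twists by the linear characters of the quotient differ
      refine Or.inl ?_
      haveI := Chars.irrFintype K
      set I := indFun L' φ
      have hI := inner_indFun_self_of_invariant L' hφ hinvφ
      let tw : IrrCharacter K → (K → ℂ) := fun β => (β : K → ℂ) * ϑ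
      have hval1 : ∀ β ∈ quotIrr L', ∀ n : L', tw β n = ϑ n := fun β hβ n => by
        have h1 := CharApps.mem_charKer.1 ((mem_quotIrr L').1 hβ n.2)
        rw [quotIrr_linear L' hcomm hβ] at h1
        show (β : K → ℂ) (n : K) * ϑ n = ϑ n
        rw [h1, one_mul]
      have htwirr : ∀ β ∈ quotIrr L', IsIrrCharacter K (tw β) := fun β hβ => by
        obtain ⟨μ, hμ⟩ := Chars.exists_hom_of_degree_one (Chars.isCharacter_of_irr β.2)
          (quotIrr_linear L' hcomm hβ)
        show IsIrrCharacter K ((β : K → ℂ) * ϑ)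
        rw [hμ]
        exact Chars.isIrrCharacter_linear_mul μ hϑ
      have hinj : ∀ β ∈ quotIrr L', ∀ β' ∈ quotIrr L', tw β = tw β' → β = β' := by
        intro β hβ β' hβ' htw
        obtain ⟨μ, hμ⟩ := Chars.exists_hom_of_degree_one (Chars.isCharacter_of_irr β.2)
          (quotIrr_linear L' hcomm hβ)
        obtain ⟨μ', hμ'⟩ := Chars.exists_hom_of_degree_one (Chars.isCharacter_of_irr β'.2)
          (quotIrr_linear L' hcomm hβ')
        refine Subtype.ext ?_
        rw [hμ, hμ']
        have hVW : V ≤ (MonoidHom.eqLocus μ μ').map K.subtype := by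
          refine (Subgroup.closure_le _).2 fun g hg => ?_
          rcases hg with hl | ⟨hgK, hne⟩
          · refine ⟨⟨g, hLK hl⟩, ?_, rfl⟩
            refine Units.ext ?_
            have h1 := CharApps.mem_charKer.1 ((mem_quotIrr L').1 hβ (show ⟨g, hLK hl⟩ ∈ L' from hl))
            have h2 := CharApps.mem_charKer.1 ((mem_quotIrr L').1 hβ' (show ⟨g, hLK hl⟩ ∈ L' from hl))
            rw [hμ] at h1
            rw [hμ'] at h2
            simp only [map_one, Units.val_one] at h1 h2
            rw [h1, h2]
          · refine ⟨⟨g, hgK⟩, ?_, rfl⟩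
            have h1 := congrFun htw ⟨g, hgK⟩
            simp only [tw, Pi.mul_apply, hμ, hμ'] at h1
            exact Units.ext (mul_right_cancel₀ hne h1)
        funext k
        obtain ⟨k', hk', hkk⟩ := hVW (show (k : G) ∈ V by rw [hV]; exact k.2)
        rw [← Subtype.ext hkk]
        exact congrArg Units.val hk'
      have hcoef : ∀ β ∈ quotIrr L', classInner I (tw β) = (e : ℂ) := fun β hβ => by
        rw [Chars.inner_indFun L' φ (Chars.isClassFunction_of_isCharacter
          (Chars.isCharacter_of_irr (htwirr β hβ))),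
          show (fun n : L' => tw β n) = r from funext (hval1 β hβ), ← Chars.inner_conj, he,
          map_natCast]
      have hsum := Chars.inner_eq_sum (Chars.isClassFunction_indFun L' φ) I
      rw [hI] at hsum
      choose m hm using fun χ : IrrCharacter K =>
        Chars.inner_char_nat (Chars.isCharacter_indFun L' (Chars.isCharacter_of_irr hφ))
          (Chars.isCharacter_of_irr χ.2)
      have hm' : ∀ χ : IrrCharacter K, classInner I (χ : K → ℂ) = (m χ : ℂ) := hm
      rw [Finset.sum_congr rfl (fun χ _ => by rw [hm' χ, map_natCast])] at hsum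
      have hsum' : L'.index = ∑ χ : IrrCharacter K, m χ * m χ := by exact_mod_cast hsum
      let tw' : {β // β ∈ quotIrr L'} → IrrCharacter K := fun β => ⟨tw β.1, htwirr β.1 β.2⟩
      have hle : (quotIrr L').card * (e * e) ≤ L'.index := by
        have hc : ((quotIrr L').attach.image tw').card = (quotIrr L').card := by
          rw [Finset.card_image_of_injective _ (fun a b hab' =>
            Subtype.ext (hinj _ a.2 _ b.2 (congrArg Subtype.val hab'))), Finset.card_attach]
        have hv : ∀ χ ∈ (quotIrr L').attach.image tw', m χ * m χ = e * e := by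
          intro χ hχ
          obtain ⟨β, -, rfl⟩ := Finset.mem_image.1 hχ
          have h2 := hcoef β.1 β.2
          rw [show classInner I (tw β.1) = (m (tw' β) : ℂ) from hm' (tw' β), Nat.cast_inj] at h2
          rw [h2]
        rw [hsum', ← hc, ← smul_eq_mul, ← Finset.sum_const, ← Finset.sum_congr rfl hv]
        exact Finset.sum_le_sum_of_subset (Finset.subset_univ _)

      have hcard : (quotIrr L').card = L'.index := by
        rw [← CharApps.sum_filter_degree_sq L', Finset.card_eq_sum_ones]
        refine Finset.sum_congr (Finset.ext fun β => by simp [mem_quotIrr]) fun β hβ => ?_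
        have h1 : β ∈ quotIrr L' := (mem_quotIrr L').2 (Finset.mem_filter.1 hβ).2
        rw [(CharApps.deg_eq_one_iff β).1 (quotIrr_linear L' hcomm h1), one_pow]
      rw [hcard] at hle
      have e1 : e = 1 := by
        have h1 : e * e ≤ 1 := Nat.le_of_mul_le_mul_left (by rwa [mul_one])
          (Nat.pos_of_ne_zero Subgroup.index_ne_zero_of_finite)
        have h2 : e ≤ e * e := Nat.le_mul_self e
        omega
      rw [e1, Nat.cast_one, one_smul] at hcl
      exact hcl

end CfsgLib.CharsMore
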