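import Cfsg.Agent.Lib.CharsMore.CliffordDegree
import Cfsg.Agent.Lib.CharsMore.Extend
import Cfsg.Agent.Lib.Chars.Induction
import Cfsg.Agent.Lib.Base.MinimalNormal
import Cfsg.Agent.Lib.Base.Nilpotent
import Cfsg.Agent.Lib.CharApps.Basic
import Mathlib

/-!
# Characters induced from a maximal subgroup are not quasiprimitive
-/

set_option linter.style.haveILetI false
set_option linter.unusedSectionVars false

namespace CfsgLib.CharsMore

open Cfsg
open scoped ComplexConjugate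

/-- A chief factor above a proper normal subgroup with solvable quotient. -/
lemma exists_chief_above {X : Type*} [Group X] [Finite X] (M : Subgroup X) [M.Normal]
    (hs : Group.IsSolvable (X ⧸ M)) (hM : M ≠ ⊤) :
    ∃ K : Subgroup X, K.Normal ∧ M < K ∧
      (∀ K' : Subgroup X, K'.Normal → M ≤ K' → K' ≤ K → K' = M ∨ K' = K) ∧
      (∀ a ∈ K, ∀ b ∈ K, a * b * a⁻¹ * b⁻¹ ∈ M) ∧
      ∃ p m : ℕ, p.Prime ∧ M.relIndex K = p ^ m := by
  haveI := hs
  haveI : Nontrivial (X ⧸ M) := QuotientGroup.nontrivial_iff.2 hM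
  obtain ⟨N, hN⟩ := Base.exists_isMinimalNormal (G := X ⧸ M)
  haveI := hN.normal
  obtain ⟨p, hp, hcomm, -, hP⟩ := hN.exists_prime inferInstance
  haveI := Fact.mk hp
  obtain ⟨m, hm⟩ := IsPGroup.iff_card.1 hP
  set π := QuotientGroup.mk' M
  have hsur : Function.Surjective π := QuotientGroup.mk'_surjective M
  refine ⟨N.comap π, inferInstance, lt_of_le_of_ne ?_ ?_, ?_, ?_, p, m, hp, ?_⟩
  · intro x hx
    show π x ∈ N
    rw [show π x = 1 from (QuotientGroup.eq_one_iff x).2 hx]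
    exact N.one_mem
  · intro e
    refine hN.ne_bot ?_
    rw [← Subgroup.map_comap_eq_self_of_surjective hsur N, ← e, Subgroup.map_eq_bot_iff,
      QuotientGroup.ker_mk']
  · intro K' hK' h1 h2
    have hker : π.ker ≤ K' := by rw [QuotientGroup.ker_mk']; exact h1
    rcases hN.eq_bot_or_eq (hK'.map π hsur) (by
      rw [← Subgroup.map_comap_eq_self_of_surjective hsur N]; exact Subgroup.map_mono h2) with h | h
    · refine Or.inl ?_
      rw [← Subgroup.comap_map_eq_self hker, h, MonoidHom.comap_bot, QuotientGroup.ker_mk']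
    · refine Or.inr ?_
      rw [← h, Subgroup.comap_map_eq_self hker]
  · intro a ha b hb
    refine (QuotientGroup.eq_one_iff _).1 ?_
    show π (a * b * a⁻¹ * b⁻¹) = 1
    have hc : π a * π b = π b * π a :=
      congrArg Subtype.val (hcomm.is_comm.comm ⟨π a, ha⟩ ⟨π b, hb⟩)
    rw [map_mul, map_mul, map_mul, map_inv, map_inv, hc]
    group
  · rw [← hm]
    have h : M = (⊥ : Subgroup (X ⧸ M)).comap π := by
      rw [MonoidHom.comap_bot, QuotientGroup.ker_mk']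
    refine (congrArg (fun S => Subgroup.relIndex S (N.comap π)) h).trans ?_
    rw [Subgroup.relIndex_comap, Subgroup.map_comap_eq_self_of_surjective hsur,
      Subgroup.relIndex_bot_left]

/-- A character with irreducible restriction is irreducible. -/
lemma isIrr_of_restrict_irr {X Y : Type*} [Group X] [Group Y] [Finite Y] (f : Y →* X) {χ : X → ℂ}
    (hχ : IsCharacter X χ) (h : IsIrrCharacter Y (fun y => χ (f y))) : IsIrrCharacter X χ := by
  letI := Fintype.ofFinite Y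
  obtain ⟨n, ρ, rfl⟩ := hχ
  haveI : Representation.IsIrreducible (ρ.comp f : Representation ℂ Y (Fin n → ℂ)) :=
    (Chars.isIrreducible_iff_inner_self _).2 (Chars.isIrrCharacter_iff_inner_self.1 h).2
  haveI := isIrreducible_of_comp f ρ
  exact Chars.isIrrCharacter_character ρ

/-- A character meeting an irreducible one in its full degree is a multiple of it. -/
lemma eq_smul_of_degree {X : Type*} [Group X] [Fintype X] {r α : X → ℂ} (hr : IsCharacter X r)
    (hα : IsIrrCharacter X α) {e : ℕ} (he : classInner r α = (e : ℂ))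
    (h1 : r 1 = (e : ℂ) * α 1) : r = (e : ℂ) • α := by
  classical
  haveI := Chars.irrFintype X
  choose m hm using fun χ : IrrCharacter X => Chars.inner_irr_right_nat hr χ
  have hexp := Chars.classFun_eq_sum (Chars.isClassFunction_of_isCharacter hr)
  rw [← Finset.add_sum_erase _ _ (Finset.mem_univ (⟨α, hα⟩ : IrrCharacter X))] at hexp
  have h := congrFun hexp 1
  simp only [Pi.add_apply, Finset.sum_apply, Pi.smul_apply, smul_eq_mul, he, h1,
    hm, CharApps.deg_eq] at h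
  have h0 : ∑ χ ∈ Finset.univ.erase (⟨α, hα⟩ : IrrCharacter X),
      m χ * charDegree (χ : X → ℂ) = 0 := by
    exact_mod_cast (left_eq_add.1 h)
  rw [hexp, show classInner r ((⟨α, hα⟩ : IrrCharacter X) : X → ℂ) = (e : ℂ) from he,
    Finset.sum_eq_zero fun χ hχ => ?_, add_zero]
  have h2 := (Finset.sum_eq_zero_iff.1 h0 χ hχ)
  rw [hm, (Nat.mul_eq_zero.1 h2).resolve_right (CharApps.deg_pos χ).ne', Nat.cast_zero, zero_smul]

variable {G : Type*} [Group G] [Fintype G]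

/-- Restriction to a normal supplement of the inducing subgroup. -/
lemma indFun_restrict_supplement (H N : Subgroup G) [Fintype N] [hN : N.Normal]
    (hsup : ∀ x : G, ∃ n ∈ N, ∃ h ∈ H, x = n * h) {ϑ : H → ℂ} (hϑ : IsClassFunction H ϑ) :
    (fun n : N => indFun H ϑ n) =
      indFun (H.subgroupOf N) (fun d : H.subgroupOf N => ϑ ⟨((d : N) : G), d.2⟩) := by
  classical
  funext g
  set D := H.subgroupOf N
  set f : N → ℂ := fun n => extendByZero D (fun d : D => ϑ ⟨((d : N) : G), d.2⟩) (n⁻¹ * g * n)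
  have hext : ∀ n : N, f n = extendByZero H ϑ ((n : G)⁻¹ * g * n) := fun n => by
    by_cases hm : n⁻¹ * g * n ∈ D
    · have hm' : (n : G)⁻¹ * g * n ∈ H := hm
      exact (Chars.extendByZero_of_mem D _ hm).trans (Chars.extendByZero_of_mem H ϑ hm').symm
    · have hm' : (n : G)⁻¹ * g * n ∉ H := hm
      exact (Chars.extendByZero_of_not_mem D _ hm).trans
        (Chars.extendByZero_of_not_mem H ϑ hm').symm
  let F : G → ℂ := fun x => extendByZero H ϑ (x⁻¹ * g * x)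
  have hFh : ∀ (x : G) (h : H), F (x * h) = F x := by
    intro x h
    simp only [F]
    rw [show (x * (h : G))⁻¹ * g * (x * h) = (h : G)⁻¹ * (x⁻¹ * g * x) * h by group]
    by_cases hm : x⁻¹ * g * x ∈ H
    · rw [Chars.extendByZero_of_mem H ϑ hm,
        Chars.extendByZero_of_mem H ϑ (H.mul_mem (H.mul_mem (H.inv_mem h.2) hm) h.2)]
      have := hϑ ⟨_, hm⟩ h⁻¹
      simp only [inv_inv] at this
      exact this
    · rw [Chars.extendByZero_of_not_mem H ϑ hm, Chars.extendByZero_of_not_mem H ϑ]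
      intro hc
      refine hm ?_
      have := H.mul_mem (H.mul_mem h.2 hc) (H.inv_mem h.2)
      simpa [mul_assoc] using this
  have hcount : (Nat.card H : ℂ) * ∑ n : N, F n = (Nat.card D : ℂ) * ∑ x : G, F x := by
    have h1 : ∑ p : N × H, F ((p.1 : G) * p.2) = (Nat.card H : ℂ) * ∑ n : N, F n := by
      rw [Fintype.sum_prod_type, Finset.mul_sum]
      refine Finset.sum_congr rfl fun n _ => ?_
      simp [hFh, Nat.card_eq_fintype_card]
    rw [← h1, ← Finset.sum_fiberwise Finset.univ (fun p : N × H => (p.1 : G) * p.2)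
      (fun p : N × H => F ((p.1 : G) * p.2)), Finset.mul_sum]
    refine Finset.sum_congr rfl fun x _ => ?_
    rw [Finset.sum_congr rfl (g := fun _ => F x) (fun p hp => by rw [(Finset.mem_filter.1 hp).2]),
      Finset.sum_const, nsmul_eq_mul]
    refine congrArg (fun k : ℕ => (k : ℂ) * F x) ?_
    rw [Nat.card_eq_fintype_card, ← Finset.card_univ]
    obtain ⟨n₀, hn₀, h₀, hh₀, rfl⟩ := hsup x
    refine (Finset.card_bij (fun (d : D) _ =>
      ((⟨n₀, hn₀⟩ * (d : N), ⟨((d : N) : G)⁻¹ * h₀, H.mul_mem (H.inv_mem d.2) hh₀⟩) : N × H))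
      (fun d _ => Finset.mem_filter.2 ⟨Finset.mem_univ _, by simp [mul_assoc]⟩)
      (fun a _ b _ hab => Subtype.ext (mul_left_cancel (Prod.mk.inj hab).1)) (fun p hp => ?_)).symm
    have he : (p.1 : G) * p.2 = n₀ * h₀ := (Finset.mem_filter.1 hp).2
    have hd : (n₀⁻¹ * p.1 : G) = h₀ * (p.2 : G)⁻¹ := by
      rw [eq_mul_inv_iff_mul_eq, mul_assoc, he, inv_mul_cancel_left]
    refine ⟨⟨⟨n₀⁻¹ * p.1, N.mul_mem (N.inv_mem hn₀) p.1.2⟩, ?_⟩, Finset.mem_univ _, ?_⟩
    · show n₀⁻¹ * (p.1 : G) ∈ H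
      rw [hd]
      exact H.mul_mem hh₀ (H.inv_mem p.2.2)
    · refine Prod.ext (Subtype.ext (mul_inv_cancel_left _ _)) (Subtype.ext ?_)
      show (n₀⁻¹ * (p.1 : G))⁻¹ * h₀ = p.2
      rw [hd, mul_inv_rev, inv_inv, mul_assoc, inv_mul_cancel, mul_one]
  rw [Chars.indFun_apply, Chars.indFun_apply]
  show (Nat.card H : ℂ)⁻¹ * ∑ x : G, F x = (Nat.card D : ℂ)⁻¹ * ∑ n : N, f n
  rw [Finset.sum_congr rfl (fun n _ => hext n)]
  have hH : (Nat.card H : ℂ) ≠ 0 := Nat.cast_ne_zero.2 Nat.card_pos.ne'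
  have hD : (Nat.card D : ℂ) ≠ 0 := Nat.cast_ne_zero.2 Nat.card_pos.ne'
  field_simp
  linear_combination -hcount

/-- The data of a homogeneous restriction to a normal supplement. -/
lemma homogeneous_data {L H : Subgroup G} (hLH : L ≤ H) {ϑ : H → ℂ} (hϑ : IsIrrCharacter H ϑ)
    (hϑL : IsIrrCharacter L (fun x : L => ϑ ⟨(x : G), hLH x.2⟩))
    (N : Subgroup G) [Fintype N] [N.Normal] [Fintype (H.subgroupOf N)] (hLN : L ≤ N)
    (hsup : ∀ x : G, ∃ n ∈ N, ∃ h ∈ H, x = n * h) {φ : N → ℂ} (hφ : IsIrrCharacter N φ) {e : ℕ}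
    (he : (fun n : N => indFun H ϑ n) = (e : ℂ) • φ) :
    IsIrrCharacter (H.subgroupOf N) (fun d => ϑ ⟨((d : N) : G), d.2⟩) ∧
      classInner (fun d : H.subgroupOf N => φ d) (fun d => ϑ ⟨((d : N) : G), d.2⟩) = (e : ℂ) ∧
      (e : ℂ) * φ 1 = ((H.subgroupOf N).index : ℂ) * ϑ 1 := by
  classical
  set α : (H.subgroupOf N) → ℂ := fun d => ϑ ⟨((d : N) : G), d.2⟩
  have hα : IsCharacter (H.subgroupOf N) α := Chars.isCharacter_comp
    ((N.subtype.comp (H.subgroupOf N).subtype).codRestrict H fun d => d.2) (Chars.isCharacter_of_irr hϑ)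
  have hind : (fun n : N => indFun H ϑ n) = indFun (H.subgroupOf N) α := indFun_restrict_supplement H N hsup
    (Chars.isClassFunction_of_isCharacter (Chars.isCharacter_of_irr hϑ))
  rw [hind] at he
  refine ⟨isIrr_of_restrict_irr
    (((Subgroup.inclusion hLN)).codRestrict (H.subgroupOf N) fun x => hLH x.2) hα hϑL, ?_, ?_⟩
  · have h := Chars.inner_indFun (H.subgroupOf N) α (Chars.isClassFunction_of_isCharacter
      (Chars.isCharacter_of_irr hφ))
    rw [he, Chars.inner_smul_left, (Chars.isIrrCharacter_iff_inner_self.1 hφ).2, mul_one] at h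
    rw [← Chars.inner_conj, ← h, map_natCast]
  · have h := congrFun he 1
    rw [Chars.indFun_one_apply, Pi.smul_apply, smul_eq_mul] at h
    rw [← h]
    rfl

lemma normal_mul_surj {H N : Subgroup G} [N.Normal] (h : N ⊔ H = ⊤) (x : G) :
    ∃ n ∈ N, ∃ a ∈ H, x = n * a := by
  have hx : x ∈ ((N ⊔ H : Subgroup G) : Set G) := by rw [h]; trivial
  rw [Subgroup.normal_mul] at hx
  obtain ⟨n, hn, a, ha, rfl⟩ := hx
  exact ⟨n, hn, a, ha, rfl⟩

/-- Berger's lemma: such an induced character is inhomogeneous on some normal subgroup. -/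
theorem not_homogeneous_of_induced (L H : Subgroup G) [L.Normal] (hLH : L ≤ H) (hmax : IsCoatom H)
    (hsolv : Group.IsSolvable (G ⧸ L)) (ϑ : H → ℂ) (hϑ : IsIrrCharacter H ϑ)
    (hϑL : IsIrrCharacter L (fun x : L => ϑ ⟨(x : G), hLH x.2⟩))
    (hind : IsIrrCharacter G (indFun H ϑ)) :
    ∃ M : Subgroup G, M.Normal ∧ L ≤ M ∧ ¬ ∃ (φ : M → ℂ) (e : ℕ),
      IsIrrCharacter M φ ∧ (fun m : M => indFun H ϑ m) = (e : ℂ) • φ := by
  classical
  by_contra hcon
  push Not at hcon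
  have hdeg0 : ϑ 1 ≠ 0 := Chars.irr_degree_ne_zero hϑ
  set M₀ := H.normalCore with hM₀def
  have hLM : L ≤ M₀ := Subgroup.normal_le_normalCore.2 hLH
  have hM₀H : M₀ ≤ H := H.normalCore_le
  have hcore : ∀ S : Subgroup G, S.Normal → S ≤ H → S ≤ M₀ := fun S hS h =>
    Subgroup.normal_le_normalCore.2 h
  haveI hQ : Group.IsSolvable (G ⧸ M₀) := by
    haveI := hsolv
    refine Group.isSolvable_of_surjective (f := QuotientGroup.map L M₀ (MonoidHom.id G) hLM) ?_
    intro y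
    obtain ⟨x, rfl⟩ := QuotientGroup.mk'_surjective M₀ y
    exact ⟨QuotientGroup.mk' L x, rfl⟩
  set π := QuotientGroup.mk' M₀
  have hπ : ∀ x, π x = 1 ↔ x ∈ M₀ := fun x => QuotientGroup.eq_one_iff x
  obtain ⟨K, hKn, hMK, hchief, hKab, p, m, hp, hpm⟩ :=
    exists_chief_above M₀ hQ (fun h => hmax.1 (top_le_iff.1 (h ▸ hM₀H)))
  have hKH : ¬ K ≤ H := fun h => not_le_of_gt hMK (hcore K hKn h)
  have hKsup : ∀ x : G, ∃ k ∈ K, ∃ h ∈ H, x = k * h :=
    normal_mul_surj (hmax.2 _ (right_lt_sup.2 hKH))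
  have hHK : H ⊓ K ≤ M₀ := by
    refine hcore _ ⟨fun y hy g => ?_⟩ inf_le_left
    obtain ⟨k, hk, h, hh, rfl⟩ := hKsup g
    have h1 : h * y * h⁻¹ ∈ H ⊓ K :=
      ⟨H.mul_mem (H.mul_mem hh hy.1) (H.inv_mem hh), hKn.conj_mem y hy.2 h⟩
    rw [show k * h * y * (k * h)⁻¹ =
      (k * (h * y * h⁻¹) * k⁻¹ * (h * y * h⁻¹)⁻¹) * (h * y * h⁻¹) by group]
    exact (H ⊓ K).mul_mem ⟨hM₀H (hKab k hk _ h1.2), hMK.le (hKab k hk _ h1.2)⟩ h1
  have hrel : H.relIndex K = M₀.relIndex K := by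
    refine le_antisymm (Nat.le_of_dvd (Nat.pos_of_ne_zero Subgroup.index_ne_zero_of_finite)
      (Subgroup.relIndex_dvd_of_le_left K hM₀H)) ?_
    rw [← Subgroup.inf_relIndex_right H K]
    exact Nat.le_of_dvd (Nat.pos_of_ne_zero Subgroup.index_ne_zero_of_finite)
      (Subgroup.relIndex_dvd_of_le_left K hHK)
  obtain ⟨φ, e, hφ, hφe⟩ := hcon K hKn (hLM.trans hMK.le)
  letI : Fintype K := Fintype.ofFinite _
  letI : Fintype (H.subgroupOf K) := Fintype.ofFinite _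
  obtain ⟨hαirr, hin, hdeg⟩ := homogeneous_data hLH hϑ hϑL K (hLM.trans hMK.le) hKsup hφ hφe
  change (e : ℂ) * φ 1 = ((H.relIndex K : ℕ) : ℂ) * ϑ 1 at hdeg
  rw [hrel] at hdeg
  have hidx : 1 < M₀.relIndex K := by
    have h0 : M₀.relIndex K ≠ 0 := Subgroup.index_ne_zero_of_finite
    have h1 : M₀.relIndex K ≠ 1 := fun h => not_le_of_gt hMK (Subgroup.relIndex_eq_one.1 h)
    omega
  have he0 : e ≠ 0 := fun h => by
    rw [h, Nat.cast_zero, zero_mul] at hdeg
    rcases mul_eq_zero.1 hdeg.symm with h' | h'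
    · have : M₀.relIndex K = 0 := by exact_mod_cast h'
      omega
    · exact hdeg0 h'
  -- the degrees, from homogeneity on the core
  obtain ⟨β, c, hβ, hβe⟩ := hcon M₀ inferInstance hLM
  let f : H.subgroupOf K →* M₀ :=
    { toFun := fun d => ⟨((d : K) : G), hHK ⟨d.2, (d : K).2⟩⟩
      map_one' := rfl
      map_mul' := fun _ _ => rfl }
  have hf : Function.Surjective f := fun x => ⟨⟨⟨x, hMK.le x.2⟩, hM₀H x.2⟩, rfl⟩
  letI : Fintype M₀ := Fintype.ofFinite _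
  have hγ : IsIrrCharacter (H.subgroupOf K) (fun d => β (f d)) := Chars.isIrrCharacter_comp f hf hβ
  have hres : (fun d : H.subgroupOf K => φ d) = ((c : ℂ) / e) • fun d => β (f d) := by
    funext d
    have h1 : indFun H ϑ ((d : K) : G) = (e : ℂ) * φ (d : K) := congrFun hφe (d : K)
    have h2 : indFun H ϑ ((d : K) : G) = (c : ℂ) * β (f d) := congrFun hβe (f d)
    rw [h1] at h2
    have : (e : ℂ) ≠ 0 := Nat.cast_ne_zero.2 he0
    rw [Pi.smul_apply, smul_eq_mul]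
    field_simp
    linear_combination h2
  have hsame : (fun d => β (f d)) = fun d : H.subgroupOf K => ϑ ⟨((d : K) : G), d.2⟩ := by
    by_contra hne
    rw [hres, Chars.inner_smul_left, Chars.inner_irr_of_isIrr hγ hαirr, if_neg hne, mul_zero] at hin
    exact he0 (by exact_mod_cast hin.symm)
  rw [hres, hsame, Chars.inner_smul_left, (Chars.isIrrCharacter_iff_inner_self.1 hαirr).2,
    mul_one] at hin
  have hφ1 : φ 1 = (e : ℂ) * ϑ 1 := by
    have := congrFun hres 1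
    rw [hsame, hin] at this
    exact this
  have hee : e * e = M₀.relIndex K := by
    rw [hφ1, ← mul_assoc] at hdeg
    exact_mod_cast mul_right_cancel₀ hdeg0 hdeg
  -- the subgroup is not normal
  have hMH : M₀ ≠ H := by
    intro heq
    have htop : K = ⊤ := by
      refine eq_top_iff.2 fun x _ => ?_
      obtain ⟨k, hk, h, hh, rfl⟩ := hKsup x
      exact K.mul_mem hk (hMK.le (heq ▸ hh))
    have hi : IsIrrCharacter K (fun x : K => indFun H ϑ x) :=
      Chars.isIrrCharacter_comp K.subtype (fun y => ⟨⟨y, htop ▸ Subgroup.mem_top y⟩, rfl⟩) hind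
    have h1 := (Chars.isIrrCharacter_iff_inner_self.1 hi).2
    rw [hφe, Chars.inner_smul_left, Chars.inner_smul_right,
      (Chars.isIrrCharacter_iff_inner_self.1 hφ).2, map_natCast, mul_one] at h1
    have : e * e = 1 := by exact_mod_cast h1
    omega
  -- the next chief factor
  obtain ⟨A', hA'n, hMA', -, hA'ab, q, n, hq, hqn⟩ := exists_chief_above (M₀.subgroupOf H) (by
    refine Group.isSolvable_of_isSolvable_injective
      (f := QuotientGroup.map (M₀.subgroupOf H) M₀ H.subtype (fun x hx => hx)) ?_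
    rw [← MonoidHom.ker_eq_bot_iff, eq_bot_iff]
    intro y hy
    obtain ⟨x, rfl⟩ := QuotientGroup.mk'_surjective _ y
    exact (QuotientGroup.eq_one_iff x).2 ((QuotientGroup.eq_one_iff (x : G)).1 hy))
    (fun h => hMH (le_antisymm hM₀H (Subgroup.subgroupOf_eq_top.1 h)))
  set A := A'.map H.subtype with hAdef
  have hAH : A ≤ H := Subgroup.map_subtype_le A'
  have hMA : M₀ ≤ A := fun x hx => ⟨⟨x, hM₀H hx⟩, hMA'.le hx, rfl⟩
  have hAconj : ∀ h ∈ H, ∀ a ∈ A, h * a * h⁻¹ ∈ A := by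
    rintro h hh _ ⟨a, ha, rfl⟩
    exact ⟨⟨h, hh⟩ * a * ⟨h, hh⟩⁻¹, hA'n.conj_mem a ha _, rfl⟩
  have hAne : ¬ A ≤ M₀ := fun h => not_le_of_gt hMA' fun x hx => h ⟨x, hx, rfl⟩
  have hAab : ∀ a ∈ A, ∀ b ∈ A, a * b * a⁻¹ * b⁻¹ ∈ M₀ := by
    rintro _ ⟨a, ha, rfl⟩ _ ⟨b, hb, rfl⟩
    exact hA'ab a ha b hb
  have hArel : M₀.relIndex A = q ^ n := by
    rw [← hqn, ← Subgroup.relIndex_map_map_of_injective _ _ H.subtype_injective,
      Subgroup.map_subgroupOf_eq_of_le hM₀H]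
  -- faithfulness modulo the core
  have hfaith : ∀ x ∈ H, (∀ k ∈ K, π x * π k = π k * π x) → x ∈ M₀ := by
    haveI : (K.map π).Normal := hKn.map π (QuotientGroup.mk'_surjective M₀)
    set C := (Subgroup.centralizer ((K.map π : Subgroup (G ⧸ M₀)) : Set (G ⧸ M₀))).comap π
    have hC : ∀ x, x ∈ C ↔ ∀ k ∈ K, π k * π x = π x * π k := fun x => by
      simp only [C, Subgroup.mem_comap, Subgroup.mem_centralizer_iff]
      exact ⟨fun h k hk => h _ ⟨k, hk, rfl⟩, by rintro h _ ⟨k, hk, rfl⟩; exact h k hk⟩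
    intro x hx hxc
    refine hcore (H ⊓ C) ⟨fun y hy g => ?_⟩ inf_le_left ⟨hx, (hC x).2 fun k hk => (hxc k hk).symm⟩
    obtain ⟨k, hk, h, hh, rfl⟩ := hKsup g
    have h1 : h * y * h⁻¹ ∈ H ⊓ C := ⟨H.mul_mem (H.mul_mem hh hy.1) (H.inv_mem hh),
      (inferInstance : C.Normal).conj_mem y hy.2 h⟩
    have h2 : k * (h * y * h⁻¹) * k⁻¹ * (h * y * h⁻¹)⁻¹ ∈ M₀ := by
      rw [← hπ, map_mul, map_mul, map_mul, (hC _).1 h1.2 k hk, map_inv, map_inv]
      group
    rw [show k * h * y * (k * h)⁻¹ =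
      (k * (h * y * h⁻¹) * k⁻¹ * (h * y * h⁻¹)⁻¹) * (h * y * h⁻¹) by group]
    exact (H ⊓ C).mul_mem ⟨hM₀H h2, (hC _).2 fun k' _ => by rw [(hπ _).2 h2, one_mul, mul_one]⟩ h1
  set K₂ := K ⊔ A with hK₂def
  have hKK₂ : K ≤ K₂ := le_sup_left
  have hAK₂ : A ≤ K₂ := le_sup_right
  have hmem₂ : ∀ {x}, x ∈ K₂ → ∃ k ∈ K, ∃ a ∈ A, x = k * a := fun {x} hx => by
    have hx' : x ∈ ((K ⊔ A : Subgroup G) : Set G) := hx
    rw [Subgroup.normal_mul] at hx'
    obtain ⟨k, hk, a, ha, rfl⟩ := hx'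
    exact ⟨k, hk, a, ha, rfl⟩
  have hK₂n : K₂.Normal := ⟨fun x hx g => by
    obtain ⟨k, hk, h, hh, rfl⟩ := hKsup g
    obtain ⟨k', hk', a, ha, rfl⟩ := hmem₂ hx
    rw [show k * h * (k' * a) * (k * h)⁻¹ = k * ((h * k' * h⁻¹) * (h * a * h⁻¹)) * k⁻¹ by group]
    exact K₂.mul_mem (K₂.mul_mem (hKK₂ hk) (K₂.mul_mem (hKK₂ (hKn.conj_mem k' hk' h))
      (hAK₂ (hAconj h hh a ha)))) (K₂.inv_mem (hKK₂ hk))⟩
  have hHK₂ : ∀ x ∈ H, x ∈ K₂ → x ∈ A := by
    intro x hx hx2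
    obtain ⟨k, hk, a, ha, rfl⟩ := hmem₂ hx2
    exact A.mul_mem (hMA (hHK ⟨(H.mul_mem_cancel_right (hAH ha)).1 hx, hk⟩)) ha
  have hrelA : K.relIndex K₂ = M₀.relIndex A := by
    rw [hK₂def, sup_comm, Subgroup.relIndex_sup_right, ← Subgroup.inf_relIndex_right K A,
      show K ⊓ A = M₀ from le_antisymm (fun x hx => hHK ⟨hAH hx.2, hx.1⟩) (le_inf hMK.le hMA)]
  -- the two primes differ
  have hpq : q ≠ p := by
    rintro rfl
    set S := K₂.map π
    haveI := Fact.mk hq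
    have hS : IsPGroup q S := by
      refine IsPGroup.iff_card.2 ⟨m + n, ?_⟩
      rw [← Subgroup.relIndex_bot_left, ← Subgroup.relIndex_comap, MonoidHom.comap_bot,
        QuotientGroup.ker_mk', ← Subgroup.relIndex_mul_relIndex M₀ K K₂ hMK.le hKK₂, hrelA, hpm,
        hArel, pow_add]
    haveI : Group.IsNilpotent S := hS.isNilpotent
    haveI : (K.map π).Normal := hKn.map π (QuotientGroup.mk'_surjective M₀)
    haveI : ((K.map π).subgroupOf S).Normal := inferInstance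
    have hne : (K.map π).subgroupOf S ≠ ⊥ := by
      intro h
      refine not_le_of_gt hMK fun k hk => (hπ k).1 ?_
      have : (⟨π k, ⟨k, hKK₂ hk, rfl⟩⟩ : S) ∈ (⊥ : Subgroup S) := h ▸ ⟨k, hk, rfl⟩
      exact congrArg Subtype.val (Subgroup.mem_bot.1 this)
    obtain ⟨⟨y, hyS⟩, hy, hy1⟩ := (Subgroup.bot_or_exists_ne_one _).resolve_left
      (Base.inf_center_ne_bot_of_isNilpotent hne)
    obtain ⟨k₀, hk₀, hk₀y⟩ : y ∈ K.map π := hy.1
    set F := K ⊓ (Subgroup.centralizer ((A.map π : Subgroup (G ⧸ M₀)) : Set (G ⧸ M₀))).comap π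
    have hFmem : ∀ x, x ∈ F ↔ x ∈ K ∧ ∀ a ∈ A, π a * π x = π x * π a := fun x => by
      simp only [F, Subgroup.mem_inf, Subgroup.mem_comap, Subgroup.mem_centralizer_iff]
      exact and_congr_right fun _ =>
        ⟨fun h a ha => h _ ⟨a, ha, rfl⟩, by rintro h _ ⟨a, ha, rfl⟩; exact h a ha⟩
    have hMF : M₀ ≤ F := fun x hx => (hFmem x).2 ⟨hMK.le hx, fun a _ => by
      rw [(hπ x).2 hx, one_mul, mul_one]⟩
    have hFn : F.Normal := ⟨fun x hx g => by
      obtain ⟨k, hk, h, hh, rfl⟩ := hKsup g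
      have h1 : h * x * h⁻¹ ∈ F := by
        refine (hFmem _).2 ⟨hKn.conj_mem x ((hFmem x).1 hx).1 h, fun a ha => ?_⟩
        have h2 := ((hFmem x).1 hx).2 (h⁻¹ * a * h⁻¹⁻¹) (hAconj h⁻¹ (H.inv_mem hh) a ha)
        simp only [map_mul, map_inv, inv_inv] at h2 ⊢
        calc π a * (π h * π x * (π h)⁻¹) = π h * ((π h)⁻¹ * π a * π h * π x) * (π h)⁻¹ := by group
          _ = π h * (π x * ((π h)⁻¹ * π a * π h)) * (π h)⁻¹ := by rw [h2]
          _ = π h * π x * (π h)⁻¹ * π a := by group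
      rw [show k * h * x * (k * h)⁻¹ =
        (k * (h * x * h⁻¹) * k⁻¹ * (h * x * h⁻¹)⁻¹) * (h * x * h⁻¹) by group]
      exact F.mul_mem (hMF (hKab k hk _ ((hFmem _).1 h1).1)) h1⟩
    have hk₀F : k₀ ∈ F := (hFmem k₀).2 ⟨hk₀, fun a ha => by
      rw [hk₀y]
      exact congrArg Subtype.val
        (Subgroup.mem_center_iff.1 hy.2 ⟨π a, ⟨a, hAK₂ ha, rfl⟩⟩)⟩
    rcases hchief F hFn hMF inf_le_left with h | h
    · exact hy1 (Subtype.ext (hk₀y.symm.trans ((hπ k₀).2 (h ▸ hk₀F))))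
    · refine hAne fun a ha => hfaith a (hAH ha) fun k hk => ?_
      exact ((hFmem k).1 (h.symm ▸ hk)).2 a ha
  -- homogeneity on the larger subgroup
  obtain ⟨φ₂, e₂, hφ₂, hφ₂e⟩ := hcon K₂ hK₂n (hLM.trans (hMK.le.trans hKK₂))
  letI : Fintype K₂ := Fintype.ofFinite _
  letI : Fintype (H.subgroupOf K₂) := Fintype.ofFinite _
  letI : Fintype (K.subgroupOf K₂) := Fintype.ofFinite _
  have hsup₂ : ∀ x : G, ∃ k ∈ K₂, ∃ h ∈ H, x = k * h := fun x => by
    obtain ⟨k, hk, h, hh, rfl⟩ := hKsup x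
    exact ⟨k, hKK₂ hk, h, hh, rfl⟩
  obtain ⟨hα₂, hin₂, hdeg₂⟩ :=
    homogeneous_data hLH hϑ hϑL K₂ (hLM.trans (hMK.le.trans hKK₂)) hsup₂ hφ₂ hφ₂e
  set φ' : K.subgroupOf K₂ → ℂ := fun x => φ ⟨((x : K₂) : G), x.2⟩
  have hφ' : IsIrrCharacter (K.subgroupOf K₂) φ' :=
    Chars.isIrrCharacter_comp (Subgroup.subgroupOfEquivOfLe hKK₂).toMonoidHom
      (Subgroup.subgroupOfEquivOfLe hKK₂).surjective hφ
  have he₂0 : (e₂ : ℂ) ≠ 0 := fun h => by
    have := congrFun hφ₂e 1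
    rw [Pi.smul_apply, smul_eq_mul, h, zero_mul, OneMemClass.coe_one] at this
    exact Chars.irr_degree_ne_zero hind this
  have hres₂ : (fun x : K.subgroupOf K₂ => φ₂ x) = ((e : ℂ) / e₂) • φ' := by
    funext x
    have h1 : indFun H ϑ ((x : K₂) : G) = (e₂ : ℂ) * φ₂ (x : K₂) := congrFun hφ₂e (x : K₂)
    have h2 : indFun H ϑ ((x : K₂) : G) = (e : ℂ) * φ' x := congrFun hφe ⟨_, x.2⟩
    rw [h1] at h2
    rw [Pi.smul_apply, smul_eq_mul]
    field_simp
    linear_combination h2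
  obtain ⟨j, hj0, hj, hjd⟩ := degree_quotient (K.subgroupOf K₂) hφ₂ hφ' (by
    rw [hres₂, Chars.inner_smul_left, (Chars.isIrrCharacter_iff_inner_self.1 hφ').2, mul_one]
    exact div_ne_zero (Nat.cast_ne_zero.2 he0) he₂0)
  change j ∣ K.relIndex K₂ at hjd
  rw [hrelA, hArel] at hjd
  have h21 : φ₂ 1 = (e : ℂ) / e₂ * φ' 1 := congrFun hres₂ 1
  have hje : e₂ * j = e := by
    rw [hj] at h21
    have h3 := mul_right_cancel₀ (Chars.irr_degree_ne_zero hφ') h21
    have : (e₂ : ℂ) * j = e := by rw [h3]; field_simp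
    exact_mod_cast this
  have hj1 : j = 1 := by
    obtain ⟨i, -, hi⟩ := (Nat.dvd_prime_pow hq).1 hjd
    have h4 : j ∣ p ^ m := by
      rw [← hpm, ← hee, ← hje]
      exact Dvd.dvd.mul_left (dvd_mul_left j e₂) _
    obtain ⟨i', -, hi'⟩ := (Nat.dvd_prime_pow hp).1 h4
    exact Nat.eq_one_of_dvd_coprimes (Nat.Coprime.pow i i' ((Nat.coprime_primes hq hp).2 hpq))
      (hi ▸ dvd_rfl) (hi' ▸ dvd_rfl)
  rw [hj1, mul_one] at hje
  subst hje
  have hφ21 : φ₂ 1 = (e₂ : ℂ) * ϑ 1 := by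
    rw [hj, hj1, Nat.cast_one, one_mul]
    exact hφ1
  have hrD := eq_smul_of_degree (Chars.isCharacter_restrict _ (Chars.isCharacter_of_irr hφ₂)) hα₂
    hin₂ hφ21
  rw [hφ21, ← mul_assoc] at hdeg₂
  have hidx2 := mul_right_cancel₀ hdeg0 hdeg₂
  -- the norm is concentrated inside the subgroup
  have hT : ∑ x : K₂, ‖φ₂ x‖ ^ 2 = (Nat.card K₂ : ℝ) := by
    have h := (Chars.isIrrCharacter_iff_inner_self.1 hφ₂).2
    rw [Chars.inner_self_eq, Complex.ofReal_eq_one,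
      inv_mul_eq_iff_eq_mul₀ (Nat.cast_ne_zero.2 Nat.card_pos.ne'), mul_one] at h
    exact h
  have hD : ∑ d : H.subgroupOf K₂, ‖φ₂ d‖ ^ 2 = (Nat.card K₂ : ℝ) := by
    have h := (Chars.isIrrCharacter_iff_inner_self.1 hα₂).2
    rw [Chars.inner_self_eq, Complex.ofReal_eq_one,
      inv_mul_eq_iff_eq_mul₀ (Nat.cast_ne_zero.2 Nat.card_pos.ne'), mul_one] at h
    have hcr : ((e₂ * e₂ : ℕ) : ℝ) = (((H.subgroupOf K₂).index : ℕ) : ℝ) := by
      have : e₂ * e₂ = (H.subgroupOf K₂).index := by exact_mod_cast hidx2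
      rw [this]
    rw [← (H.subgroupOf K₂).card_mul_index, Nat.cast_mul, ← hcr, ← h, Finset.sum_mul]
    refine Finset.sum_congr rfl fun d _ => ?_
    rw [show φ₂ (d : K₂) = (e₂ : ℂ) * ϑ ⟨((d : K₂) : G), d.2⟩ from congrFun hrD d, norm_mul,
      Complex.norm_natCast]
    push_cast
    ring
  have hoff : ∀ x : K₂, (x : G) ∉ H → φ₂ x = 0 := by
    intro x hx
    have h1 : ∑ y ∈ Finset.univ.filter (fun y : K₂ => y ∉ H.subgroupOf K₂), ‖φ₂ y‖ ^ 2 = 0 := by
      have h2 := Finset.sum_filter_add_sum_filter_not Finset.univ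
        (fun y : K₂ => y ∈ H.subgroupOf K₂) (fun y => ‖φ₂ y‖ ^ 2)
      rw [hT, Finset.sum_subtype (Finset.univ.filter (fun y : K₂ => y ∈ H.subgroupOf K₂))
        (p := fun y => y ∈ H.subgroupOf K₂) (fun y => by simp), hD] at h2
      linarith
    have h3 := (Finset.sum_eq_zero_iff_of_nonneg (fun y _ => by positivity)).1 h1 x
      (Finset.mem_filter.2 ⟨Finset.mem_univ _, hx⟩)
    exact norm_eq_zero.1 (pow_eq_zero_iff two_ne_zero |>.1 h3)
  have hoff2 : ∀ x : K₂, x ∉ K.subgroupOf K₂ → φ₂ x = 0 := by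
    intro x hxK
    by_contra hne
    have hxH : (x : G) ∈ H := by
      by_contra h
      exact hne (hoff x h)
    refine hxK (hMK.le (hfaith x hxH fun k hk => ?_) : (x : G) ∈ K)
    have h1 : φ₂ ((⟨k, hKK₂ hk⟩ : K₂) * x * (⟨k, hKK₂ hk⟩ : K₂)⁻¹) ≠ 0 := by
      rwa [Chars.isClassFunction_of_isCharacter (Chars.isCharacter_of_irr hφ₂) x ⟨k, hKK₂ hk⟩]
    have h2 : k * (x : G) * k⁻¹ ∈ H := by
      by_contra h
      exact h1 (hoff _ h)
    have h3 : k * (x : G) * k⁻¹ * (x : G)⁻¹ ∈ M₀ := by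
      refine hHK ⟨H.mul_mem h2 (H.inv_mem hxH), ?_⟩
      rw [show k * (x : G) * k⁻¹ * (x : G)⁻¹ = k * ((x : G) * k⁻¹ * (x : G)⁻¹) by group]
      exact K.mul_mem hk (hKn.conj_mem _ (K.inv_mem hk) _)
    have h4 := (hπ _).2 h3
    simp only [map_mul, map_inv] at h4
    exact ((mul_inv_eq_iff_eq_mul.1 (mul_inv_eq_one.1 h4))).symm
  have hlast : (Nat.card K₂ : ℝ) = Nat.card K := by
    have h := (Chars.isIrrCharacter_iff_inner_self.1 hφ').2
    rw [Chars.inner_self_eq, Complex.ofReal_eq_one,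
      inv_mul_eq_iff_eq_mul₀ (Nat.cast_ne_zero.2 Nat.card_pos.ne'), mul_one] at h
    rw [← hT, ← Nat.card_congr (Subgroup.subgroupOfEquivOfLe hKK₂).toEquiv, ← h,
      ← Finset.sum_subset (Finset.subset_univ (Finset.univ.filter (· ∈ K.subgroupOf K₂)))
      (fun y _ hy => by simp [hoff2 y (by simpa using hy)]),
      Finset.sum_subtype (Finset.univ.filter (fun y : K₂ => y ∈ K.subgroupOf K₂))
        (p := fun y => y ∈ K.subgroupOf K₂) (fun y => by simp)]
    refine Finset.sum_congr rfl fun d _ => ?_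
    have := congrFun hres₂ d
    rw [Pi.smul_apply, div_self he₂0, one_smul] at this
    rw [this]
  have hK₂K : K₂ = K :=
    (Subgroup.eq_of_le_of_card_ge hKK₂ (Nat.le_of_eq (by exact_mod_cast hlast))).symm
  exact hAne fun a ha => hHK ⟨hAH ha, hK₂K ▸ hAK₂ ha⟩

end CfsgLib.CharsMore
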