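import Cfsg.Agent.Lib.CharsMore.BrauerInduction
import Cfsg.Agent.Lib.CharsMore.Feit
import Cfsg.Agent.Lib.CharApps.NormalSum
import Cfsg.Agent.Lib.Chars.MonSpan
import Cfsg.Agent.Lib.CNGroups.Basic
import Mathlib

/-!
# Sections as combinations of characters with algebraic integer coefficients
-/

set_option linter.style.haveILetI false
set_option linter.unusedSectionVars false

namespace CfsgLib.CharsMore

open Cfsg
open scoped ComplexConjugate

universe u

variable {G : Type u} [Group G] [Fintype G]

/-- A class function with algebraic integer products on every elementary subgroup has algebraic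
integer products. -/
theorem inner_integral_of_elementary {θ : G → ℂ} (hθ : IsClassFunction G θ)
    (hE : ∀ (E : Subgroup G) [Fintype E] (p : ℕ), p.Prime → IsElementary p E →
      ∀ η : IrrCharacter E, IsIntegral ℤ (classInner (fun e : E => θ e) (η : E → ℂ)))
    (χ : IrrCharacter G) : IsIntegral ℤ (classInner θ (χ : G → ℂ)) := by
  classical
  have key : ∀ f ∈ elemSpanAll G, IsIntegral ℤ (classInner (θ * f) (χ : G → ℂ)) := by
    intro f hf
    induction hf using AddSubgroup.closure_induction with
    | mem f hf =>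
      obtain ⟨E, ξ, p, hp, h1, h2, rfl⟩ := hf
      letI : Fintype E := Fintype.ofFinite _
      rw [show θ * indFun E ξ = indFun E ((fun h : E => θ h) * ξ) from
        (Chars.indFun_mul_restrict E ξ hθ).symm,
        Chars.inner_indFun E _ (Chars.isClassFunction_irr χ)]
      have hc : IsCharacter E ((fun e : E => conj (ξ e)) * fun e : E => (χ : G → ℂ) e) :=
        Chars.isCharacter_mul (Chars.isCharacter_conj h2)
          (Chars.isCharacter_restrict E (Chars.isCharacter_of_irr χ.2))
      obtain ⟨m, ρ, hρ⟩ := hc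
      obtain ⟨k, ζ, hζ⟩ := Chars.exists_sum_irr ρ
      rw [hρ] at hζ
      have e : classInner ((fun h : E => θ h) * ξ) (fun h : E => (χ : G → ℂ) h) =
          classInner (fun h : E => θ h)
            ((fun e : E => conj (ξ e)) * fun e : E => (χ : G → ℂ) e) := by
        rw [Chars.inner_def, Chars.inner_def]
        refine congrArg _ (Finset.sum_congr rfl fun x _ => ?_)
        simp only [Pi.mul_apply, map_mul, Complex.conj_conj]
        ring
      rw [e, hζ, Chars.inner_sum_right]
      exact IsIntegral.sum _ fun i _ => hE E p hp h1 (ζ i)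
    | zero =>
      rw [mul_zero, Chars.inner_zero_left]
      exact isIntegral_zero
    | add x y _ _ hx hy => rw [mul_add, Chars.inner_add_left]; exact hx.add hy
    | neg x _ hx => rw [mul_neg, Chars.inner_neg_left]; exact hx.neg
  have := key _ one_mem_elemSpanAll
  rwa [show θ * (fun _ : G => (1 : ℂ)) = θ from mul_one θ] at this

/-- A nilpotent group generated by elements of order prime to `n` has order prime to `n`. -/
lemma card_coprime_of_generators {X : Type*} [Group X] [Finite X] [Group.IsNilpotent X] {n : ℕ}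
    (hgen : Subgroup.closure {x : X | (orderOf x).Coprime n} = ⊤) : (Nat.card X).Coprime n := by
  refine Nat.coprime_of_dvd fun q hq hqX hqn => ?_
  haveI := Fact.mk hq
  obtain ⟨P, R, -, hR, hPp, hqR, hcomp⟩ := exists_direct_decomp (Q := X) inferInstance q
  haveI := hR
  obtain ⟨j, hj⟩ := IsPGroup.iff_card.1 hPp
  have hidx : R.index = q ^ j := by rw [hcomp.index_eq_card, hj]
  have htop : R = ⊤ := by
    rw [← top_le_iff, ← hgen, Subgroup.closure_le]
    intro x hx
    rw [SetLike.mem_coe, ← QuotientGroup.eq_one_iff, ← orderOf_eq_one_iff]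
    refine Nat.eq_one_of_dvd_coprimes (Nat.Coprime.pow_right j (Nat.Coprime.coprime_dvd_right hqn hx))
      (orderOf_map_dvd (QuotientGroup.mk' R) x) ?_
    rw [Subgroup.index_eq_card] at hidx
    rw [← hidx]
    exact orderOf_dvd_natCard _
  rw [htop, Subgroup.card_top] at hqR
  exact hqR hqX

/-- Splitting off the part of order prime to `n`. -/
lemma exists_parts {x : G} {m n : ℕ} (hmn : orderOf x ∣ m * n) (hcop : Nat.Coprime m n) :
    ∃ u v : G, x = u * v ∧ Commute u v ∧ orderOf u ∣ m ∧ orderOf v ∣ n := by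
  obtain ⟨a, b, hab⟩ := (Int.isCoprime_iff_nat_coprime.2 (by simpa using hcop) :
    IsCoprime (m : ℤ) (n : ℤ))
  have hx : x ^ ((m : ℤ) * n) = 1 := by
    rw [← Nat.cast_mul, zpow_natCast, ← orderOf_dvd_iff_pow_eq_one]
    exact hmn
  refine ⟨x ^ (b * n), x ^ (a * m), ?_, Commute.zpow_zpow (Commute.refl x) _ _, ?_, ?_⟩
  · rw [← zpow_add, add_comm, hab, zpow_one]
  · rw [orderOf_dvd_iff_pow_eq_one, ← zpow_natCast, ← zpow_mul,
      show b * (n : ℤ) * m = (m : ℤ) * n * b by ring, zpow_mul, hx, one_zpow]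
  · rw [orderOf_dvd_iff_pow_eq_one, ← zpow_natCast, ← zpow_mul,
      show a * (m : ℤ) * n = (m : ℤ) * n * a by ring, zpow_mul, hx, one_zpow]

/-- Coprime commuting factors are powers of the product. -/
lemma parts_mem_zpowers {u v : G} (h : Commute u v) (hc : (orderOf u).Coprime (orderOf v)) :
    u ∈ Subgroup.zpowers (u * v) ∧ v ∈ Subgroup.zpowers (u * v) := by
  obtain ⟨j, hj1, hj2⟩ := Nat.chineseRemainder hc 1 0
  have e : (u * v) ^ j = u := by
    rw [h.mul_pow, pow_eq_pow_iff_modEq.2 hj1, pow_eq_pow_iff_modEq.2 hj2, pow_one, pow_zero,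
      mul_one]
  have hu : u ∈ Subgroup.zpowers (u * v) := by
    have := Subgroup.npow_mem_zpowers (u * v) j
    rwa [e] at this
  refine ⟨hu, ?_⟩
  have := Subgroup.mul_mem _ (Subgroup.inv_mem _ hu) (Subgroup.mem_zpowers (u * v))
  rwa [inv_mul_cancel_left] at this

/-- The function counting the section of `g` in `π`-parts, scaled by `n`, has algebraic integer
coordinates. -/
theorem section_inner_integral {m n : ℕ} (hmn : Nat.card G = m * n) (hcop : Nat.Coprime m n)
    (g : G) {ϑ : G → ℂ}
    (h1 : ∀ x : G, (∃ v : G, IsConj v g ∧ (∃ u : G, x = u * v ∧ Commute u v ∧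
      Nat.Coprime (orderOf u) n ∧ Nat.Coprime (orderOf v) m)) → ϑ x = n)
    (h0 : ∀ x : G, (¬ ∃ v : G, IsConj v g ∧ (∃ u : G, x = u * v ∧ Commute u v ∧
      Nat.Coprime (orderOf u) n ∧ Nat.Coprime (orderOf v) m)) → ϑ x = 0) :
    IsClassFunction G ϑ ∧ ∀ χ : IrrCharacter G, IsIntegral ℤ (classInner ϑ (χ : G → ℂ)) := by
  classical
  set Q : G → Prop := fun x => ∃ v : G, IsConj v g ∧ (∃ u : G, x = u * v ∧ Commute u v ∧
    Nat.Coprime (orderOf u) n ∧ Nat.Coprime (orderOf v) m) with hQ
  have hQc : ∀ x c : G, Q x → Q (c * x * c⁻¹) := by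
    rintro x c ⟨v, hv, u, rfl, huv, hu, hv'⟩
    refine ⟨c * v * c⁻¹, (isConj_iff.2 ⟨c, rfl⟩ : IsConj v (c * v * c⁻¹)).symm.trans hv,
      c * u * c⁻¹, by group, ?_, ?_, ?_⟩
    · exact huv.map (MulAut.conj c).toMonoidHom
    · rwa [← MulAut.conj_apply, MulEquiv.orderOf_eq]
    · rwa [← MulAut.conj_apply, MulEquiv.orderOf_eq]
  have hval : ∀ x, ϑ x = if Q x then (n : ℂ) else 0 := fun x => by
    by_cases h : Q x
    · rw [if_pos h, h1 x h]
    · rw [if_neg h, h0 x h]
  have hcl : IsClassFunction G ϑ := fun x c => by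
    rw [hval, hval]
    refine if_congr ⟨fun h => ?_, hQc x c⟩ rfl rfl
    have := hQc _ c⁻¹ h
    rwa [show c⁻¹ * (c * x * c⁻¹) * c⁻¹⁻¹ = x by group] at this
  refine ⟨hcl, inner_integral_of_elementary hcl fun E _ p hp hE η => ?_⟩
  haveI : Group.IsNilpotent E := Chars.isNilpotent_of_isElementary hp hE
  have hnil : Group.IsNilpotent (E : Subgroup G) := inferInstance
  set S : Set E := {x : E | (orderOf x).Coprime n}
  set R := Subgroup.closure S
  have hRn : R.Normal := ⟨fun x hx c => by
    refine Subgroup.closure_induction (p := fun x _ => c * x * c⁻¹ ∈ R) ?_ ?_ ?_ ?_ hx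
    · intro s hs
      refine Subgroup.subset_closure ?_
      show (orderOf (c * s * c⁻¹)).Coprime n
      rwa [← MulAut.conj_apply, MulEquiv.orderOf_eq]
    · simp [R.one_mem]
    · intro a b _ _ ha hb
      have := R.mul_mem ha hb
      rwa [show c * a * c⁻¹ * (c * b * c⁻¹) = c * (a * b) * c⁻¹ by group] at this
    · intro a _ ha
      have := R.inv_mem ha
      rwa [show (c * a * c⁻¹)⁻¹ = c * a⁻¹ * c⁻¹ by group] at this⟩
  haveI := hRn
  have hRc : (Nat.card R).Coprime n := by
    refine card_coprime_of_generators ?_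
    rw [eq_top_iff]
    intro x _
    have h := Subgroup.closure_closure_coe_preimage (k := S)
    have hx : x ∈ (⊤ : Subgroup R) := trivial
    rw [← h] at hx
    refine Subgroup.closure_mono (fun y hy => ?_) hx
    show (orderOf y).Coprime n
    rw [← Subgroup.orderOf_coe]
    exact hy
  have hEdvd : Nat.card E ∣ m * n := hmn ▸ Subgroup.card_subgroup_dvd_card E
  have hidx : R.index ∣ n := by
    refine Nat.Coprime.dvd_of_dvd_mul_left ?_ ((R.index_dvd_card).trans hEdvd)
    refine Nat.coprime_of_dvd fun q hq hqi hqm => ?_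
    haveI := Fact.mk hq
    rw [Subgroup.index_eq_card] at hqi
    obtain ⟨y, hy⟩ := exists_prime_orderOf_dvd_card' q hqi
    obtain ⟨x, rfl⟩ := QuotientGroup.mk'_surjective R y
    obtain ⟨u, v, rfl, -, hu, hv⟩ := exists_parts (x := x)
      ((orderOf_dvd_natCard x).trans hEdvd) hcop
    rw [map_mul, show QuotientGroup.mk' R u = 1 from (QuotientGroup.eq_one_iff u).2
      (Subgroup.subset_closure (Nat.Coprime.coprime_dvd_left hu hcop)), one_mul] at hy
    have : q ∣ n := (hy ▸ orderOf_map_dvd (QuotientGroup.mk' R) v).trans hv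
    exact hq.ne_one (Nat.eq_one_of_dvd_coprimes hcop hqm this)
  have hinvR : ∀ (r : R) (x : E), ϑ (((r : E) * x : E) : G) = ϑ (x : G) := by
    have key : ∀ (r : R) (x : E), Q (x : G) → Q (((r : E) * x : E) : G) := by
      rintro r x ⟨v, hv, u, hxe, huv, hu, hv'⟩
      have hvn : orderOf v ∣ n :=
        Nat.Coprime.dvd_of_dvd_mul_left hv' (hmn ▸ orderOf_dvd_natCard v)
      have huv' : (orderOf u).Coprime (orderOf v) := hu.coprime_dvd_right hvn
      obtain ⟨hmu, hmv⟩ := parts_mem_zpowers huv huv'
      rw [← hxe] at hmu hmv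
      have hzE : Subgroup.zpowers (x : G) ≤ E := Subgroup.zpowers_le.2 x.2
      set uE : E := ⟨u, hzE hmu⟩
      have huR : uE ∈ R := Subgroup.subset_closure (show (orderOf uE).Coprime n by
        rw [← Subgroup.orderOf_coe]; exact hu)
      have hru : (orderOf ((r : E) * uE)).Coprime n := by
        have : (r : E) * uE = ((r * ⟨uE, huR⟩ : R) : E) := rfl
        rw [this, Subgroup.orderOf_coe]
        exact hRc.coprime_dvd_left (orderOf_dvd_natCard _)
      refine ⟨v, hv, (((r : E) * uE : E) : G), ?_, ?_, ?_, hv'⟩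
      · show ((r : E) : G) * (x : G) = ((r : E) : G) * u * v
        rw [mul_assoc, ← hxe]
      · refine CfsgLib.CNGroups.commute_of_coprime hnil ((r : E) * uE).2 (hzE hmv) ?_
        rw [Subgroup.orderOf_coe]
        exact hru.coprime_dvd_right hvn
      · rw [Subgroup.orderOf_coe]; exact hru
    intro r x
    rw [hval, hval]
    refine if_congr ⟨fun h => ?_, key r x⟩ rfl rfl
    have := key r⁻¹ _ h
    rwa [Subgroup.coe_inv, inv_mul_cancel_left] at this
  letI : Fintype R := Fintype.ofFinite _
  have hexp : classInner (fun e : E => ϑ e) (η : E → ℂ) * (Nat.card E : ℂ) =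
      ∑ x : E, ϑ x * conj ((η : E → ℂ) x) := by
    rw [Chars.inner_def, mul_comm, ← mul_assoc,
      mul_inv_cancel₀ (Nat.cast_ne_zero.2 Nat.card_pos.ne'), one_mul]
  by_cases hker : R ≤ CharApps.charKer η
  · have hinvη : ∀ (r : R) (x : E), (η : E → ℂ) ((r : E) * x) = (η : E → ℂ) x := by
      intro r x
      obtain ⟨d, ρ, hρ, hd⟩ := η.2
      have h1 := CharApps.mem_charKer.1 (hker r.2)
      rw [← hd] at h1 ⊢
      have h2 := (Chars.ker_iff ρ rfl (r : E)).1 h1
      simp [Representation.character, map_mul, h2]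
    obtain ⟨j, hj⟩ := hidx
    let F : E ⧸ R → ℂ := Quotient.lift (fun x : E => (j : ℂ) *
      ((if Q (x : G) then (1 : ℂ) else 0) * conj ((η : E → ℂ) x))) (by
        intro a b hab
        have hr : a⁻¹ * b ∈ R := QuotientGroup.leftRel_apply.1 hab
        have hr' : b * a⁻¹ ∈ R := by
          have := hRn.conj_mem _ hr a
          rwa [mul_inv_cancel_left] at this
        have e : b = ((⟨b * a⁻¹, hr'⟩ : R) : E) * a := by simp
        have h3 := hinvR ⟨b * a⁻¹, hr'⟩ a
        rw [← e, hval, hval] at h3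
        have h4 : (if Q (b : G) then (1 : ℂ) else 0) = if Q (a : G) then (1 : ℂ) else 0 := by
          by_cases hn0 : (n : ℂ) = 0
          · have hn0' : n = 0 := by exact_mod_cast hn0
            have : Nat.card G = 0 := by rw [hmn, hn0', mul_zero]
            exact absurd this Nat.card_pos.ne'
          · split_ifs at h3 ⊢ <;> first | rfl | exact absurd h3 hn0 | exact absurd h3.symm hn0
        show _ = _
        rw [h4]
        conv_rhs => rw [e, hinvη])
    letI : Fintype (E ⧸ R) := Fintype.ofFinite _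
    have hsum : ∑ x : E, ϑ x * conj ((η : E → ℂ) x) =
        (Nat.card E : ℂ) * ∑ q : E ⧸ R, F q := by
      rw [← Finset.sum_fiberwise Finset.univ (QuotientGroup.mk (s := R)), Finset.mul_sum]
      refine Finset.sum_congr rfl fun q _ => ?_
      obtain ⟨a, rfl⟩ := QuotientGroup.mk_surjective q
      have hfib : ∀ x ∈ Finset.univ.filter (fun x : E => (QuotientGroup.mk x : E ⧸ R) = QuotientGroup.mk a),
          ϑ x * conj ((η : E → ℂ) x) = (R.index : ℂ) * F (QuotientGroup.mk a) := by
        intro x hx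
        rw [← (Finset.mem_filter.1 hx).2]
        show _ = (R.index : ℂ) * ((j : ℂ) * ((if Q (x : G) then (1 : ℂ) else 0) * conj ((η : E → ℂ) x)))
        have hne : (n : ℂ) = (R.index : ℂ) * j := by rw [hj, Nat.cast_mul]
        rw [hval]
        split_ifs
        · rw [hne]; ring
        · ring
      rw [Finset.sum_congr rfl hfib, Finset.sum_const, nsmul_eq_mul, ← mul_assoc]
      refine congrArg (fun z => z * F (QuotientGroup.mk a)) ?_
      rw [← Nat.cast_mul, Nat.cast_inj, ← R.card_mul_index]
      refine congrArg (· * R.index) ?_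
      rw [Nat.card_eq_fintype_card, ← Finset.card_univ]
      exact (Finset.card_bij (fun (r : R) _ => a * (r : E))
        (fun r _ => Finset.mem_filter.2 ⟨Finset.mem_univ _, by
          rw [QuotientGroup.eq]; simp⟩)
        (fun r _ s _ h => Subtype.ext (mul_left_cancel h))
        (fun x hx => ⟨⟨a⁻¹ * x, QuotientGroup.eq.1 (Finset.mem_filter.1 hx).2.symm⟩,
          Finset.mem_univ _, mul_inv_cancel_left a x⟩)).symm
    have hE0 : (Nat.card E : ℂ) ≠ 0 := Nat.cast_ne_zero.2 Nat.card_pos.ne'
    rw [hsum, mul_comm] at hexp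
    rw [mul_left_cancel₀ hE0 hexp]
    refine IsIntegral.sum _ fun q _ => ?_
    obtain ⟨a, rfl⟩ := QuotientGroup.mk_surjective q
    refine (isIntegral_algebraMap (x := (j : ℤ))).mul (IsIntegral.mul ?_ ?_)
    · split_ifs
      · exact isIntegral_one
      · exact isIntegral_zero
    · have h := Chars.char_isIntegral (Chars.isCharacter_conj (Chars.isCharacter_of_irr η.2)) a
      exact h
  · have hzero : ∑ x : E, ϑ x * conj ((η : E → ℂ) x) = 0 := by
      have hR0 : (Nat.card R : ℂ) ≠ 0 := Nat.cast_ne_zero.2 Nat.card_pos.ne'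
      refine (mul_eq_zero.1 ?_).resolve_left hR0
      calc (Nat.card R : ℂ) * ∑ x : E, ϑ x * conj ((η : E → ℂ) x)
          = ∑ r : R, ∑ x : E, ϑ (((r : E) * x : E) : G) * conj ((η : E → ℂ) ((r : E) * x)) := by
            rw [Nat.card_eq_fintype_card, ← Finset.card_univ, ← nsmul_eq_mul, ← Finset.sum_const]
            exact Finset.sum_congr rfl fun r _ =>
              (Equiv.sum_comp (Equiv.mulLeft (r : E))
                (fun x : E => ϑ x * conj ((η : E → ℂ) x))).symm
        _ = ∑ x : E, ∑ r : R, ϑ (x : G) * conj ((η : E → ℂ) ((r : E) * x)) := by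
            rw [Finset.sum_comm]
            exact Finset.sum_congr rfl fun x _ => Finset.sum_congr rfl fun r _ => by rw [hinvR]
        _ = 0 := Finset.sum_eq_zero fun x _ => by
            rw [← Finset.mul_sum, ← map_sum, CharApps.sum_coset_eq_zero R η hker x, map_zero, mul_zero]
    rw [hzero] at hexp
    rw [(mul_eq_zero.1 hexp).resolve_right (Nat.cast_ne_zero.2 Nat.card_pos.ne')]
    exact isIntegral_zero

end CfsgLib.CharsMore
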