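import Cfsg.Agent.Lib.CharsMore.CliffordDegree
import Cfsg.Agent.Lib.CharApps.RealForm
import Cfsg.Agent.Lib.CharApps.PermIndicator
import Cfsg.Agent.Lib.Chars.DefectZero
import Cfsg.Agent.Lib.Chars.Misc
import Cfsg.Agent.Lib.KnownA.AltRank
import Mathlib

/-!
# Strongly real characters over characters of defect zero
-/

set_option linter.unusedSectionVars false
set_option linter.style.haveILetI false

namespace CfsgLib.CharsMore.StronglyRealOver

open Cfsg CharApps Matrix
open scoped ComplexConjugate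

variable {G : Type*} [Group G] [Fintype G]

/-- Characters of indicator `-1` have even multiplicity in permutation characters. -/
theorem even_of_fsInd_neg (P : Subgroup G) {χ : G → ℂ} (hχ : IsIrrCharacter G χ)
    (hreal : ∀ g, conj (χ g) = χ g) (hν : fsInd χ = -1) {m : ℕ}
    (hm : classInner (indFun P (fun _ : P => (1 : ℂ))) χ = m) : Even m := by
  classical
  obtain ⟨n, ρ, hρ, rfl⟩ := id hχ
  haveI := hρ
  obtain ⟨⟨M, hM0, hMinv⟩, hsymm⟩ := exists_invariant_form ρ hreal
  have hT : Mᵀ = -M := by rw [hsymm M hMinv, hν, neg_one_smul]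
  let _ := Fintype.ofFinite P
  have hρm : ∀ g (x : Fin n → ℂ), ρ g x = repMat ρ g *ᵥ x := fun g x => by
    rw [← Matrix.toLin'_apply]
    exact congrArg (fun f => f x) (Matrix.toLin'_toMatrix' (ρ g)).symm
  -- the form is nondegenerate
  have hMu : IsUnit M.det := by
    rw [← Matrix.isUnit_iff_isUnit_det, ← Matrix.mulVec_injective_iff_isUnit]
    rw [← Matrix.coe_mulVecLin, ← LinearMap.ker_eq_bot]
    let K : Subrepresentation ρ :=
      { toSubmodule := LinearMap.ker M.mulVecLin
        apply_mem_toSubmodule := fun g x hx => by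
          rw [LinearMap.mem_ker, Matrix.mulVecLin_apply] at hx ⊢
          rw [hρm]
          have h := hMinv g⁻¹
          have h1 : (repMat ρ g⁻¹)ᵀ * M = M * repMat ρ g := by
            have := congrArg (· * repMat ρ g) h
            rwa [Matrix.mul_assoc _ (repMat ρ g⁻¹), ← repMat_mul, inv_mul_cancel, repMat_one,
              Matrix.mul_one] at this
          rw [Matrix.mulVec_mulVec, ← h1, ← Matrix.mulVec_mulVec, hx, Matrix.mulVec_zero] }
    rcases (Chars.isIrreducible_iff ρ).1 hρ |>.2 (LinearMap.ker M.mulVecLin)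
      (fun g x hx => K.apply_mem_toSubmodule g hx) with h | h
    · exact h
    · exact absurd (Matrix.ext_iff_mulVec.2 fun x => by
        rw [Matrix.zero_mulVec]
        exact (LinearMap.mem_ker.1 (h ▸ Submodule.mem_top : x ∈ LinearMap.ker M.mulVecLin))) hM0
  -- the average over `P`
  set E : Matrix (Fin n) (Fin n) ℂ := (Nat.card P : ℂ)⁻¹ • ∑ x : P, repMat ρ x with hE
  have hEM : Eᵀ * M = M * E := by
    simp only [hE, Matrix.transpose_smul, Matrix.transpose_sum, Matrix.smul_mul, Matrix.mul_smul,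
      Finset.sum_mul, Finset.mul_sum]
    refine congrArg _ (Fintype.sum_equiv (Equiv.inv P) _ _ fun x => ?_)
    have h := congrArg (· * repMat ρ (x : G)⁻¹) (hMinv (x : G))
    rw [Matrix.mul_assoc _ (repMat ρ (x : G)), ← repMat_mul, mul_inv_cancel, repMat_one,
      Matrix.mul_one] at h
    simpa using h
  set σ : Representation ℂ P (Fin n → ℂ) := ρ.comp P.subtype
  have hEfix : ∀ x, E *ᵥ x ∈ σ.invariants := by
    intro x g
    show ρ (g : G) (E *ᵥ x) = E *ᵥ x
    rw [hρm, Matrix.mulVec_mulVec, hE, Matrix.mul_smul, Finset.mul_sum]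
    refine congrArg (· *ᵥ x) (congrArg _ (Fintype.sum_equiv (Equiv.mulLeft g) _ _ fun y => ?_))
    rw [← repMat_mul]; rfl
  have hEid : ∀ x ∈ σ.invariants, E *ᵥ x = x := by
    intro x hx
    have hx' : ∀ g : P, repMat ρ (g : G) *ᵥ x = x := fun g => (hρm (g : G) x).symm.trans (hx g)
    rw [hE, Matrix.smul_mulVec, Matrix.sum_mulVec, Finset.sum_congr rfl fun g _ => hx' g,
      Finset.sum_const, Finset.card_univ, ← Nat.cast_smul_eq_nsmul ℂ,
      smul_smul, ← Nat.card_eq_fintype_card, inv_mul_cancel₀ (Chars.card_ne_zero P), one_smul]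
  have hrange : LinearMap.range E.mulVecLin = σ.invariants := by
    refine le_antisymm ?_ fun x hx => ⟨x, hEid x hx⟩
    rintro _ ⟨x, rfl⟩
    exact hEfix x
  have hEE : E * E = E := Matrix.ext_iff_mulVec.2 fun x => by
    rw [← Matrix.mulVec_mulVec, hEid _ (hEfix x)]
  have halt : ∀ v, v ⬝ᵥ (M * E) *ᵥ v = 0 := by
    intro v
    have e : M * E = Eᵀ * M * E := by rw [hEM, Matrix.mul_assoc, hEE]
    have h0 : ∀ w : Fin n → ℂ, w ⬝ᵥ M *ᵥ w = 0 := by
      intro w
      have h : w ⬝ᵥ M *ᵥ w = -(w ⬝ᵥ M *ᵥ w) := by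
        conv_lhs => rw [Matrix.dotProduct_mulVec, ← Matrix.mulVec_transpose, hT,
          Matrix.neg_mulVec, neg_dotProduct, dotProduct_comm]
      exact CharZero.eq_neg_self_iff.1 h
    rw [e, ← Matrix.mulVec_mulVec, ← Matrix.mulVec_mulVec, Matrix.dotProduct_mulVec v Eᵀ,
      Matrix.vecMul_transpose]
    exact h0 _
  have h1 := KnownA.even_rank_of_alternating (M * E) halt
  rw [Matrix.rank_mul_eq_right_of_isUnit_det M E hMu, Matrix.rank, hrange] at h1
  have h2 : classInner σ.character (fun _ => 1) = (m : ℂ) := by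
    rw [← hm, inner_perm P (Chars.isClassFunction_of_isCharacter (Chars.isCharacter_of_irr hχ)),
      Chars.inner_def]
    refine congrArg _ (Finset.sum_congr rfl fun x _ => ?_)
    rw [map_one, mul_one, hreal]
    rfl
  rw [Chars.inner_one_eq_finrank_invariants, Nat.cast_inj] at h2
  rwa [h2] at h1

/-- A defect zero character of a normal subgroup of 2-power index, conjugate to its complex
conjugate, lies under a strongly real character with multiplicity one. -/
theorem exists_stronglyReal (N : Subgroup G) [N.Normal] [Fintype N] (h2 : IsPGroup 2 (G ⧸ N))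
    (φ : IrrCharacter N)
    (hdef : 2 ^ (Nat.card N).factorization 2 ∣ charDegree (φ : N → ℂ))
    (hconj : ∃ g : G, ∀ n : N, (φ : N → ℂ) (conjBy N g n) = conj ((φ : N → ℂ) n)) :
    ∃ χ : IrrCharacter G, fsInd (χ : G → ℂ) = 1 ∧
      classInner (fun n : N => (χ : G → ℂ) n) (φ : N → ℂ) = 1 := by
  classical
  let _ := Chars.irrFintype G
  obtain ⟨g₀, hg₀⟩ := hconj
  obtain ⟨P⟩ : Nonempty (Sylow 2 G) := inferInstance
  set π := indFun (P : Subgroup G) (fun _ : (P : Subgroup G) => (1 : ℂ)) with hπ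
  have hπc : IsCharacter G π := Chars.isCharacter_indFun _ Chars.isCharacter_one
  have hφc := Chars.isCharacter_of_irr φ.2
  have hresc : ∀ χ : IrrCharacter G, IsCharacter N fun n : N => (χ : G → ℂ) n := fun χ =>
    Chars.isCharacter_restrict N (Chars.isCharacter_of_irr χ.2)
  set m : IrrCharacter G → ℕ := fun χ => multNat π (χ : G → ℂ) with hmdef
  set e : IrrCharacter G → ℕ := fun χ => multNat (fun n : N => (χ : G → ℂ) n) (φ : N → ℂ) with hedef
  have hm : ∀ χ : IrrCharacter G, classInner π (χ : G → ℂ) = (m χ : ℂ) := fun χ =>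
    inner_eq_multNat hπc (Chars.isCharacter_of_irr χ.2)
  have he : ∀ χ : IrrCharacter G,
      classInner (fun n : N => (χ : G → ℂ) n) (φ : N → ℂ) = (e χ : ℂ) := fun χ =>
    inner_eq_multNat (hresc χ) hφc
  -- the defect zero character
  obtain ⟨l, hl⟩ := IsPGroup.iff_card.1 h2
  set s := (Nat.card N).factorization 2 with hs
  set d := charDegree (φ : N → ℂ) with hd
  have hn' : ¬ 2 ^ (s + 1) ∣ Nat.card N := Nat.pow_succ_factorization_not_dvd Nat.card_pos.ne'
    Nat.prime_two
  obtain ⟨d', -, hd', hdN⟩ := Chars.irr_degree_dvd_card φ.2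
  have hdd : d' = d := by
    rw [CharApps.deg_eq] at hd'
    exact_mod_cast hd'.symm
  rw [hdd] at hdN
  obtain ⟨a, ha⟩ := hdef
  have hodd : Odd a := by
    rw [Nat.odd_iff, ← Nat.two_dvd_ne_zero]
    exact fun h => hn' ((pow_succ 2 s ▸ mul_dvd_mul_left (2 ^ s) h).trans (ha ▸ hdN))
  have hidx : (P : Subgroup G).index * 2 ^ s = Nat.card N := by
    have h1 := (P : Subgroup G).card_mul_index
    rw [P.card_eq_multiplicity, N.card_eq_card_quotient_mul_card_subgroup, hl] at h1
    rw [Nat.factorization_mul (pow_ne_zero _ two_ne_zero) Nat.card_pos.ne', Finsupp.add_apply,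
      Nat.prime_two.factorization_pow, Finsupp.single_eq_same, pow_add, mul_assoc,
      mul_comm (2 ^ s)] at h1
    exact Nat.eq_of_mul_eq_mul_left (pow_pos two_pos l) h1
  have hvan : ∀ n : N, π n * conj ((φ : N → ℂ) n) ≠ 0 → n = 1 := by
    intro n hn
    by_contra hne
    have h0 : (φ : N → ℂ) n ≠ 0 := fun h => hn (by rw [h, map_zero, mul_zero])
    obtain ⟨x, hx⟩ : ∃ x : G, x⁻¹ * (n : G) * x ∈ (P : Subgroup G) := by
      by_contra hcon
      push Not at hcon
      apply hn
      rw [hπ, Chars.indFun_apply, Finset.sum_eq_zero fun x _ =>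
        Chars.extendByZero_of_not_mem _ _ (hcon x), mul_zero, zero_mul]
    obtain ⟨i, hi'⟩ := P.2 ⟨_, hx⟩
    have hi : orderOf (x⁻¹ * (n : G) * x) ∣ 2 ^ i :=
      orderOf_dvd_of_pow_eq_one (congrArg Subtype.val hi')
    obtain ⟨j, -, hj⟩ := (Nat.dvd_prime_pow Nat.prime_two).1 hi
    have hord : orderOf n = 2 ^ j := by
      rw [← Subgroup.orderOf_coe, ← hj]
      refine (orderOf_injective (MulAut.conj x⁻¹).toMonoidHom (MulAut.conj x⁻¹).injective _).symm.trans ?_
      simp
    rcases j with - | j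
    · exact hne (orderOf_eq_one_iff.1 hord)
    · exact h0 (Chars.eq_zero_of_dvd_orderOf φ.2 Nat.prime_two (CharApps.deg_eq φ) hn'
        ⟨a, ha⟩ (hord ▸ dvd_pow_self 2 j.succ_ne_zero))
  have hinner : classInner (fun n : N => π n) (φ : N → ℂ) = (a : ℂ) := by
    rw [Chars.inner_def, Finset.sum_eq_single 1 (fun n _ hn => by_contra fun h => hn (hvan n h))
      (by simp), OneMemClass.coe_one, hπ, Chars.indFun_one_apply, mul_one, CharApps.conj_deg,
      CharApps.deg_eq, ← hd, ha, ← hidx]
    have : ((P : Subgroup G).index : ℂ) ≠ 0 := Nat.cast_ne_zero.2 Subgroup.index_ne_zero_of_finite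
    push_cast
    field_simp
  have hsum : ∑ χ : IrrCharacter G, m χ * e χ = a := by
    have h1 : (fun n : N => π n) =
        ∑ χ : IrrCharacter G, (m χ : ℂ) • (fun n : N => (χ : G → ℂ) n) := by
      funext n
      rw [congrFun (char_eq_sum_multNat hπc) (n : G)]
      simp [Finset.sum_apply, hmdef]
    rw [h1, Chars.inner_sum_left] at hinner
    simp only [Chars.inner_smul_left, he] at hinner
    exact_mod_cast hinner
  -- complex conjugation
  let bar : IrrCharacter G → IrrCharacter G := fun χ => ⟨_, Chars.isIrrCharacter_conj χ.2⟩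
  have hbm : ∀ χ, m (bar χ) = m χ := by
    intro χ
    have h1 : classInner π (bar χ : G → ℂ) = conj (classInner π (χ : G → ℂ)) := by
      rw [Chars.inner_def, Chars.inner_def, map_mul, map_inv₀, map_natCast, map_sum]
      refine congrArg _ (Finset.sum_congr rfl fun g _ => ?_)
      rw [map_mul, Complex.conj_conj]
      congr 1
      rw [hπ, Chars.indFun_apply, map_mul, map_inv₀, map_natCast, map_sum]
      refine congrArg _ (Finset.sum_congr rfl fun x _ => ?_)
      by_cases hx : x⁻¹ * g * x ∈ (P : Subgroup G)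
      · rw [Chars.extendByZero_of_mem _ _ hx, map_one]
      · rw [Chars.extendByZero_of_not_mem _ _ hx, map_zero]
    rw [hm, hm, map_natCast] at h1
    exact_mod_cast h1
  have hbe : ∀ χ, e (bar χ) = e χ := by
    intro χ
    have h1 : classInner (fun n : N => (bar χ : G → ℂ) n) (φ : N → ℂ) =
        conj (classInner (fun n : N => (χ : G → ℂ) n) (conjFn N g₀ (φ : N → ℂ))) := by
      rw [Chars.inner_def, Chars.inner_def, map_mul, map_inv₀, map_natCast, map_sum]
      refine congrArg _ (Finset.sum_congr rfl fun n _ => ?_)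
      rw [map_mul, Complex.conj_conj]
      show conj ((χ : G → ℂ) n) * conj ((φ : N → ℂ) n) = _
      rw [← hg₀ n]
      rfl
    rw [inner_restrict_conjFn N (Chars.isClassFunction_irr χ) g₀, he, he, map_natCast] at h1
    exact_mod_cast h1
  -- parity
  obtain ⟨χ, hν, hme⟩ : ∃ χ : IrrCharacter G, fsInd (χ : G → ℂ) = 1 ∧ Odd (m χ * e χ) := by
    by_contra hcon
    push Not at hcon
    have hzero : ((∑ χ : IrrCharacter G, m χ * e χ : ℕ) : ZMod 2) = 0 := by
      rw [Nat.cast_sum]
      refine Finset.sum_involution (fun χ _ => bar χ) (fun χ _ => ?_) (fun χ _ hne h => ?_)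
        (fun χ _ => Finset.mem_univ _) (fun χ _ => Subtype.ext (funext fun g => Complex.conj_conj _))
      · rw [hbm, hbe]; exact CharTwo.add_self_eq_zero _
      · have hreal : ∀ g, conj ((χ : G → ℂ) g) = (χ : G → ℂ) g := fun g =>
          congrFun (congrArg Subtype.val h) g
        apply hne
        rw [ZMod.natCast_eq_zero_iff_even]
        rcases fsInd_of_real χ hreal with h1 | h1
        · exact Nat.not_odd_iff_even.1 (hcon χ h1)
        · exact (even_of_fsInd_neg _ χ.2 hreal h1 (hm χ)).mul_right _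
    rw [hsum, ZMod.natCast_eq_zero_iff_even] at hzero
    exact (Nat.not_even_iff_odd.2 hodd) hzero
  refine ⟨χ, hν, ?_⟩
  have he0 : e χ ≠ 0 := fun h => by rw [h, mul_zero] at hme; exact absurd hme (by decide)
  have hne : classInner (fun n : N => (χ : G → ℂ) n) (φ : N → ℂ) ≠ 0 := by
    rw [he]; exact_mod_cast he0
  obtain ⟨k, -, hk, hkN⟩ := degree_quotient N χ.2 φ.2 hne
  rw [clifford_degree N χ.2 φ.2 hne, he] at hk
  have hk' : e χ * (inertia N (φ : N → ℂ)).index = k := by
    exact_mod_cast mul_right_cancel₀ (Chars.irr_degree_ne_zero φ.2) hk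
  obtain ⟨j, -, hj⟩ := (Nat.dvd_prime_pow Nat.prime_two).1
    (show e χ ∣ 2 ^ l from ((Dvd.intro _ hk').trans hkN).trans (dvd_of_eq hl))
  rw [he, hj]
  rcases j with - | j
  · simp
  · rw [hj] at hme
    exact absurd (Nat.odd_mul.1 hme).2 (by simp [Nat.not_odd_iff_even, Nat.even_pow])

end CfsgLib.CharsMore.StronglyRealOver
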