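import Cfsg.Agent.Lib.CharsMore.StronglyRealCount
import Cfsg.Agent.Lib.CharsMore.StronglyRealOver
import Cfsg.Agent.Lib.CharsMore.FullyRamified
import Mathlib

/-!
# The average degree of strongly real characters of a split group
-/

set_option linter.unusedSectionVars false
set_option linter.style.haveILetI false

namespace CfsgLib.CharsMore.AverageReal

open Cfsg CharApps StronglyRealCount
open scoped ComplexConjugate

variable {G : Type*} [Group G] [Fintype G]

/-- At most `[G : I]` linear characters are trivial on `I`. -/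
lemma card_homs_trivial_le (I : Subgroup G) [Fintype I] {ι : Type*} (s : Finset ι)
    (F : ι → G →* ℂˣ) (hF : Set.InjOn F s) (h : ∀ i ∈ s, ∀ x ∈ I, F i x = 1) :
    s.card ≤ I.index := by
  classical
  let _ := Chars.irrFintype G
  set π := indFun I (fun _ : I => (1 : ℂ)) with hπ
  have hπc : IsCharacter G π := Chars.isCharacter_indFun I Chars.isCharacter_one
  have hsum := CdThree.deg_sum hπc (d := I.index) (by rw [hπ, Chars.indFun_one_apply, mul_one])
  let E : ι → IrrCharacter G := fun i => ⟨_, Chars.isIrrCharacter_linear (F i)⟩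
  have hinj : Set.InjOn E s := by
    intro a ha b hb hab
    refine hF ha hb (MonoidHom.ext fun g => Units.ext ?_)
    exact congrFun (congrArg Subtype.val hab) g
  calc s.card = ∑ i ∈ s, 1 := Finset.card_eq_sum_ones _
    _ ≤ ∑ i ∈ s, multNat π (E i : G → ℂ) * charDegree (E i : G → ℂ) := by
      refine Finset.sum_le_sum fun i hi => Nat.mul_pos (Nat.pos_of_ne_zero ?_) (CharApps.deg_pos _)
      refine multNat_ne_zero hπc (Chars.isCharacter_of_irr (E i).2) ?_
      rw [hπ, Chars.inner_indFun I _ (Chars.isClassFunction_irr _)]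
      have e : (fun x : I => (E i : G → ℂ) x) = fun _ : I => (1 : ℂ) :=
        funext fun x => by
          show (F i (x : G) : ℂ) = 1
          rw [h i hi x x.2, Units.val_one]
      rw [e, Chars.inner_one_one]
      exact one_ne_zero
    _ ≤ I.index := by
      refine le_trans ?_ hsum.ge
      rw [← Finset.sum_image hinj (f := fun ξ : IrrCharacter G =>
        multNat π (ξ : G → ℂ) * charDegree (ξ : G → ℂ))]
      exact Finset.sum_le_sum_of_subset (Finset.subset_univ _)

theorem average_ge (N P : Subgroup G) [N.Normal] (q : ℕ) (hq : q.Prime) (hq2 : q ≠ 2)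
    (hNc : ∀ a ∈ N, ∀ b ∈ N, a * b = b * a) (hNq : ∀ a ∈ N, a ^ q = 1) (hP : IsPGroup 2 P)
    (hP1 : P ≠ ⊥) (hdisj : N ⊓ P = ⊥) (hprod : N ⊔ P = ⊤) (hN1 : N ≠ ⊥)
    (hmin : ∀ M : Subgroup G, M.Normal → M ≠ ⊥ → N ≤ M) [Fintype (IrrCharacter G)] :
    4 * (Finset.univ.filter fun χ : IrrCharacter G =>
        (charDegree (χ : G → ℂ) = 1 ∨ 2 ∣ charDegree (χ : G → ℂ)) ∧ fsInd (χ : G → ℂ) = 1).card ≤
      3 * ∑ χ ∈ (Finset.univ.filter fun χ : IrrCharacter G =>
        (charDegree (χ : G → ℂ) = 1 ∨ 2 ∣ charDegree (χ : G → ℂ)) ∧ fsInd (χ : G → ℂ) = 1),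
        charDegree (χ : G → ℂ) := by
  classical
  haveI := Fact.mk hq
  let _ := Fintype.ofFinite P
  let _ := Fintype.ofFinite N
  -- an involution inverting `N`
  haveI : Nontrivial P := (Subgroup.nontrivial_iff_ne_bot P).2 hP1
  haveI : Nontrivial (Subgroup.center P) := hP.center_nontrivial
  obtain ⟨z₀, hz₀⟩ := exists_prime_orderOf_dvd_card' 2 (show 2 ∣ Nat.card (Subgroup.center P) by
    obtain ⟨k, hk, hk'⟩ := (hP.to_subgroup (Subgroup.center P)).nontrivial_iff_card.1 inferInstance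
    exact hk' ▸ dvd_pow_self 2 hk.ne')
  set z : G := ((z₀ : P) : G) with hzdef
  have hzP : z ∈ P := (z₀ : P).2
  have hzord : orderOf z = 2 := by rw [hzdef, Subgroup.orderOf_coe, Subgroup.orderOf_coe, hz₀]
  have hz2 : z * z = 1 := by rw [← pow_two, ← hzord, pow_orderOf_eq_one]
  have hzc : ∀ p ∈ P, p * z = z * p := fun p hp =>
    congrArg Subtype.val (Subgroup.mem_center_iff.1 z₀.2 ⟨p, hp⟩)
  have hdecomp : ∀ g : G, ∃ n ∈ N, ∃ p ∈ P, g = n * p := fun g => by
    obtain ⟨n, hn, p, hp, e⟩ := Subgroup.mem_sup_of_normal_left.1 (hprod ▸ Subgroup.mem_top g)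
    exact ⟨n, hn, p, hp, e.symm⟩
  -- `z` centralises no element of `N`
  have hfpf : ∀ a ∈ N, z * a = a * z → a = 1 := by
    set C := N ⊓ Subgroup.centralizer ({z} : Set G) with hC
    have hCn : C.Normal := ⟨fun c hc g => by
      obtain ⟨n, hn, p, hp, rfl⟩ := hdecomp g
      have h1 : p * c * p⁻¹ ∈ N := (inferInstance : N.Normal).conj_mem c hc.1 p
      have e : n * p * c * (n * p)⁻¹ = p * c * p⁻¹ := by
        calc n * p * c * (n * p)⁻¹ = (n * (p * c * p⁻¹)) * n⁻¹ := by group
          _ = ((p * c * p⁻¹) * n) * n⁻¹ := by rw [hNc n hn _ h1]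
          _ = _ := by group
      rw [e]
      refine ⟨h1, Subgroup.mem_centralizer_singleton_iff.2 ?_⟩
      have h2 : c * z = z * c := Subgroup.mem_centralizer_singleton_iff.1 hc.2
      have h3 : p⁻¹ * z = z * p⁻¹ := hzc _ (P.inv_mem hp)
      calc p * c * p⁻¹ * z = p * (c * z) * p⁻¹ := by rw [mul_assoc (p * c), h3]; group
        _ = (p * z) * c * p⁻¹ := by rw [h2]; group
        _ = _ := by rw [hzc p hp]; group⟩
    intro a ha hza
    by_contra ha1
    have hCN : N ≤ C := hmin C hCn fun h => ha1 (Subgroup.mem_bot.1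
      (h ▸ ⟨ha, Subgroup.mem_centralizer_singleton_iff.2 hza.symm⟩))
    -- the centraliser of `N` in `P` would be a normal subgroup
    set D := P ⊓ Subgroup.centralizer (N : Set G) with hD
    have hDn : D.Normal := ⟨fun d hd g => by
      obtain ⟨n, hn, p, hp, rfl⟩ := hdecomp g
      have h0 : p * d * p⁻¹ ∈ Subgroup.centralizer (N : Set G) :=
        (inferInstance : (Subgroup.centralizer (N : Set G)).Normal).conj_mem d hd.2 p
      have e : n * p * d * (n * p)⁻¹ = p * d * p⁻¹ := by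
        calc n * p * d * (n * p)⁻¹ = (n * (p * d * p⁻¹)) * n⁻¹ := by group
          _ = ((p * d * p⁻¹) * n) * n⁻¹ := by rw [Subgroup.mem_centralizer_iff.1 h0 n hn]
          _ = _ := by group
      rw [e]
      exact ⟨P.mul_mem (P.mul_mem hp hd.1) (P.inv_mem hp), h0⟩⟩
    have hzD : z ∈ D := ⟨hzP, Subgroup.mem_centralizer_iff.2 fun b hb =>
      Subgroup.mem_centralizer_singleton_iff.1 (hCN hb).2⟩
    have hz1 : z ≠ 1 := fun h => by rw [h, orderOf_one] at hzord; exact absurd hzord (by norm_num)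
    have hND := hmin D hDn fun h => hz1 (Subgroup.mem_bot.1 (h ▸ hzD))
    exact hN1 (le_bot_iff.1 ((le_inf le_rfl (hND.trans inf_le_left)).trans hdisj.le))
  have hinvN : ∀ a ∈ N, z * a * z⁻¹ = a⁻¹ := by
    intro a ha
    have hb : z * a * z⁻¹ ∈ N := (inferInstance : N.Normal).conj_mem a ha z
    refine eq_inv_of_mul_eq_one_right (hfpf _ (N.mul_mem ha hb) ?_)
    have hzi : z⁻¹ = z := inv_eq_of_mul_eq_one_left hz2
    have h1 : z * (a * (z * a * z⁻¹)) = (z * a * z⁻¹) * a * z := by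
      rw [hzi]
      calc z * (a * (z * a * z)) = (z * a * z) * a * z := by group
        _ = _ := rfl
    rw [h1, hNc _ hb a ha]
  -- the projection to `P`
  let f : P →* G ⧸ N := (QuotientGroup.mk' N).comp P.subtype
  have hf : Function.Bijective f := by
    refine ⟨?_, fun z' => ?_⟩
    · rw [injective_iff_map_eq_one]
      intro x hx
      have hxN : (x : G) ∈ N := (QuotientGroup.eq_one_iff (x : G)).1 hx
      exact Subtype.ext (Subgroup.mem_bot.1 (hdisj ▸ ⟨hxN, x.2⟩ : (x : G) ∈ (⊥ : Subgroup G)))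
    · obtain ⟨g, rfl⟩ := QuotientGroup.mk'_surjective N z'
      obtain ⟨n, hn, p, hp, rfl⟩ := hdecomp g
      refine ⟨⟨p, hp⟩, ?_⟩
      show QuotientGroup.mk' N p = QuotientGroup.mk' N (n * p)
      rw [map_mul, show QuotientGroup.mk' N n = 1 from (QuotientGroup.eq_one_iff n).2 hn, one_mul]
  let π : G →* G :=
    P.subtype.comp ((MulEquiv.ofBijective f hf).symm.toMonoidHom.comp (QuotientGroup.mk' N))
  have hπ : ∀ n ∈ N, ∀ p ∈ P, π (n * p) = p := by
    intro n hn p hp
    have h1 : (MulEquiv.ofBijective f hf).symm (QuotientGroup.mk' N (n * p)) = ⟨p, hp⟩ := by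
      rw [MulEquiv.symm_apply_eq]
      show QuotientGroup.mk' N (n * p) = QuotientGroup.mk' N p
      rw [map_mul, show QuotientGroup.mk' N n = 1 from (QuotientGroup.eq_one_iff n).2 hn, one_mul]
    exact congrArg Subtype.val h1
  have hπP : ∀ g, π g ∈ P := fun g => Subtype.prop _
  have hπN : ∀ g, g * (π g)⁻¹ ∈ N := fun g => by
    obtain ⟨n, hn, p, hp, rfl⟩ := hdecomp g
    rwa [hπ n hn p hp, mul_inv_cancel_right]
  have hπid : ∀ p ∈ P, π p = p := fun p hp => by simpa using hπ 1 N.one_mem p hp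
  -- a nontrivial character of `N`
  obtain ⟨a₀, ha₀, ha₀1⟩ := (Subgroup.bot_or_exists_ne_one N).resolve_left hN1
  letI : CommGroup N := { (inferInstance : Group N) with
    mul_comm := fun a b => Subtype.ext (hNc a a.2 b b.2) }
  obtain ⟨lam, hlam⟩ := FullyRamified.exists_hom_ne_one
    (c := (⟨a₀, ha₀⟩ : N)) (fun h => ha₀1 (congrArg Subtype.val h))
  set θ : N → ℂ := fun n => (lam n : ℂ) with hθdef
  have hθ : IsIrrCharacter N θ := Chars.isIrrCharacter_linear lam
  set I := inertia N θ with hI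
  let _ := Fintype.ofFinite I
  have hNI : N ≤ I := le_inertia N (Chars.isClassFunction_of_isCharacter (Chars.isCharacter_of_irr hθ))
  have hπI : ∀ g, g ∈ I → π g ∈ I := fun g hg => by
    have e : π g = (g * (π g)⁻¹)⁻¹ * g := by group
    rw [e]
    exact I.mul_mem (I.inv_mem (hNI (hπN g))) hg
  have hinvI : ∀ g ∈ I, ∀ n : N, lam (conjBy N g n) = lam n := fun g hg n =>
    Units.ext ((mem_inertia N).1 hg n)
  let ψ : I →* ℂˣ :=
    { toFun := fun g => lam ⟨(g : G) * (π g)⁻¹, hπN g⟩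
      map_one' := by
        rw [show (⟨((1 : I) : G) * (π ((1 : I) : G))⁻¹, hπN _⟩ : N) = 1 from Subtype.ext (by simp),
          map_one]
      map_mul' := fun g h => by
        rw [← hinvI (π g) (hπI g g.2) ⟨(h : G) * (π h)⁻¹, hπN h⟩, ← map_mul]
        congr 1
        exact Subtype.ext (by simp [mul_assoc]) }
  have hψapp : ∀ g : I, ψ g = lam ⟨(g : G) * (π g)⁻¹, hπN g⟩ := fun _ => rfl
  set ψc : I → ℂ := fun g => (ψ g : ℂ) with hψc
  have hψirr : IsIrrCharacter I ψc := Chars.isIrrCharacter_linear ψ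
  have hψN : ∀ n : N, ψc ⟨n, hNI n.2⟩ = θ n := fun n => by
    show (lam _ : ℂ) = (lam n : ℂ)
    congr 2
    refine Subtype.ext ?_
    show (n : G) * (π (n : G))⁻¹ = n
    have := hπ n n.2 1 P.one_mem
    rw [mul_one] at this
    rw [this, inv_one, mul_one]
  have hover : classInner (fun n : N => ψc ⟨n, hNI n.2⟩) θ ≠ 0 := by
    rw [funext hψN, Chars.inner_irr_self ⟨θ, hθ⟩]; exact one_ne_zero
  let χ : IrrCharacter G := ⟨_, isIrr_indFun_of_over N hNI hθ rfl hψirr hover⟩
  -- it is real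
  have hnorm : ∀ g : I, conj (ψc g) = ((ψ g)⁻¹ : ℂˣ) := fun g => by
    show conj (ψ g : ℂ) = _
    rw [Units.val_inv_eq_inv_val]
    refine (Complex.inv_eq_conj ?_).symm
    refine Complex.norm_eq_one_of_pow_eq_one (n := Nat.card I) ?_ Nat.card_pos.ne'
    rw [← Units.val_pow_eq_pow_val, ← map_pow, pow_card_eq_one', map_one, Units.val_one]
  have hzI : ∀ g, g ∈ I → z * g * z⁻¹ ∈ I := by
    intro g hg
    have e : z * g * z⁻¹ = (g * (π g)⁻¹)⁻¹ * π g := by
      rw [← hinvN _ (hπN g)]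
      calc z * g * z⁻¹ = z * (g * (π g)⁻¹) * (π g * z⁻¹) := by group
        _ = z * (g * (π g)⁻¹) * (z⁻¹ * π g) := by
          rw [show π g * z⁻¹ = z⁻¹ * π g from by
            rw [eq_inv_mul_iff_mul_eq, ← mul_assoc, ← hzc _ (hπP g), mul_inv_cancel_right]]
        _ = _ := by group
    rw [e]
    exact I.mul_mem (I.inv_mem (hNI (hπN g))) (hπI g hg)
  have hψz : ∀ g (hg : g ∈ I), ψ ⟨z * g * z⁻¹, hzI g hg⟩ = (ψ ⟨g, hg⟩)⁻¹ := by
    intro g hg
    rw [hψapp, hψapp, ← map_inv lam]
    congr 1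
    refine Subtype.ext ?_
    show z * g * z⁻¹ * (π (z * g * z⁻¹))⁻¹ = (g * (π g)⁻¹)⁻¹
    have hπz : π (z * g * z⁻¹) = π g := by
      rw [map_mul, map_mul, map_inv, hπid z hzP, ← hzc _ (hπP g), mul_inv_cancel_right]
    rw [← hinvN _ (hπN g), hπz]
    calc z * g * z⁻¹ * (π g)⁻¹ = z * g * (z⁻¹ * (π g)⁻¹) := by group
      _ = z * g * ((π g)⁻¹ * z⁻¹) := by
        rw [← mul_inv_rev, ← mul_inv_rev, hzc _ (hπP g)]
      _ = _ := by group
  have hreal : ∀ g, conj ((χ : G → ℂ) g) = (χ : G → ℂ) g := by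
    intro g
    show conj (indFun I ψc g) = indFun I ψc g
    rw [Chars.indFun_apply, map_mul, map_inv₀, map_natCast, map_sum]
    refine congrArg _ (Fintype.sum_equiv (Equiv.mulRight z⁻¹) _ _ fun x => ?_)
    simp only [Equiv.coe_mulRight]
    have e : (x * z⁻¹)⁻¹ * g * (x * z⁻¹) = z * (x⁻¹ * g * x) * z⁻¹ := by group
    rw [e]
    by_cases hx : x⁻¹ * g * x ∈ I
    · rw [Chars.extendByZero_of_mem _ _ hx, Chars.extendByZero_of_mem _ _ (hzI _ hx), hnorm]
      show _ = (ψ _ : ℂ)
      rw [hψz _ hx]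
    · rw [Chars.extendByZero_of_not_mem _ _ hx, map_zero, Chars.extendByZero_of_not_mem]
      intro h
      apply hx
      have := hzI _ h
      have e2 : z * (z * (x⁻¹ * g * x) * z⁻¹) * z⁻¹ = x⁻¹ * g * x := by
        calc z * (z * (x⁻¹ * g * x) * z⁻¹) * z⁻¹ = (z * z) * (x⁻¹ * g * x) * (z * z)⁻¹ := by group
          _ = _ := by rw [hz2]; group
      rwa [e2] at this
  -- the multiplicity in the permutation character is one
  have hperm : classInner (indFun P (fun _ : P => (1 : ℂ))) (χ : G → ℂ) = ((1 : ℕ) : ℂ) := by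
    rw [inner_perm P (Chars.isClassFunction_irr χ)]
    simp only [hreal]
    set PI := P ⊓ I with hPI
    let _ := Fintype.ofFinite PI
    have hcount : ∀ x : G, ∑ p : P, extendByZero I ψc (x⁻¹ * (p : G) * x) = (Nat.card PI : ℂ) := by
      intro x
      set y := π x with hy
      have hyP : y ∈ P := hπP x
      have hval : ∀ p : P, extendByZero I ψc (x⁻¹ * (p : G) * x) =
          if y⁻¹ * (p : G) * y ∈ I then 1 else 0 := by
        intro p
        set n := y⁻¹ * (x * y⁻¹)⁻¹ * y with hn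
        have hnN : n ∈ N := by
          have := (inferInstance : N.Normal).conj_mem _ (N.inv_mem (hπN x)) y⁻¹
          simpa [hn, hy] using this
        set p' := y⁻¹ * (p : G) * y with hp'
        have hp'P : p' ∈ P := P.mul_mem (P.mul_mem (P.inv_mem hyP) p.2) hyP
        have e : x⁻¹ * (p : G) * x = (n * (p' * n⁻¹ * p'⁻¹)) * p' := by
          simp only [hn, hp', hy]; group
        have hmN : n * (p' * n⁻¹ * p'⁻¹) ∈ N :=
          N.mul_mem hnN ((inferInstance : N.Normal).conj_mem _ (N.inv_mem hnN) p')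
        split_ifs with hpI
        · have hxI : x⁻¹ * (p : G) * x ∈ I := e ▸ I.mul_mem (hNI hmN) hpI
          rw [Chars.extendByZero_of_mem _ _ hxI]
          show (ψ _ : ℂ) = 1
          rw [hψapp]
          have e2 : (⟨(x⁻¹ * (p : G) * x) * (π (x⁻¹ * (p : G) * x))⁻¹, hπN _⟩ : N) =
              ⟨n, hnN⟩ * conjBy N p' ⟨n, hnN⟩⁻¹ := by
            refine Subtype.ext ?_
            show x⁻¹ * (p : G) * x * (π (x⁻¹ * (p : G) * x))⁻¹ = n * (p' * n⁻¹ * p'⁻¹)
            rw [e, hπ _ hmN _ hp'P, mul_inv_cancel_right]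
          rw [e2, map_mul, hinvI p' hpI, map_inv, mul_inv_cancel, Units.val_one]
        · refine Chars.extendByZero_of_not_mem _ _ fun hxI => hpI ?_
          rw [e] at hxI
          exact (I.mul_mem_cancel_left (hNI hmN)).1 hxI
      rw [Finset.sum_congr rfl fun p _ => hval p, ← Finset.sum_filter, Finset.sum_const,
        nsmul_eq_mul, mul_one, Nat.card_eq_fintype_card, ← Finset.card_univ, Nat.cast_inj]
      refine Finset.card_bij'
        (fun p hp => (⟨y⁻¹ * (p : G) * y, P.mul_mem (P.mul_mem (P.inv_mem hyP) p.2) hyP,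
          (Finset.mem_filter.1 hp).2⟩ : PI))
        (fun w _ => (⟨y * (w : G) * y⁻¹, P.mul_mem (P.mul_mem hyP w.2.1) (P.inv_mem hyP)⟩ : P))
        (fun _ _ => Finset.mem_univ _) (fun w _ => ?_) (fun p _ => ?_) (fun w _ => ?_)
      · refine Finset.mem_filter.2 ⟨Finset.mem_univ _, ?_⟩
        have : y⁻¹ * (y * (w : G) * y⁻¹) * y = (w : G) := by group
        rw [this]; exact w.2.2
      · refine Subtype.ext ?_
        show y * (y⁻¹ * (p : G) * y) * y⁻¹ = (p : G)
        group
      · refine Subtype.ext ?_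
        show y⁻¹ * (y * (w : G) * y⁻¹) * y = (w : G)
        group
    have hcardI : Nat.card I = Nat.card N * Nat.card PI := by
      rw [← Nat.card_prod]
      refine (Nat.card_eq_of_bijective (fun np : N × PI =>
        (⟨(np.1 : G) * (np.2 : G), I.mul_mem (hNI np.1.2) np.2.2.2⟩ : I)) ⟨?_, ?_⟩).symm
      · intro u v huv
        have h1 : (u.1 : G) * (u.2 : G) = (v.1 : G) * (v.2 : G) := congrArg Subtype.val huv
        have h2 := congrArg π h1
        rw [hπ _ u.1.2 _ u.2.2.1, hπ _ v.1.2 _ v.2.2.1] at h2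
        rw [h2, mul_left_inj] at h1
        exact Prod.ext (Subtype.ext h1) (Subtype.ext h2)
      · intro g
        exact ⟨(⟨_, hπN g⟩, ⟨π g, hπP g, hπI g g.2⟩), Subtype.ext (inv_mul_cancel_right _ _)⟩
    have hcardG : Nat.card G = Nat.card N * Nat.card P := by
      rw [N.card_eq_card_quotient_mul_card_subgroup, mul_comm,
        ← Nat.card_congr (Equiv.ofBijective f hf)]
    show (Nat.card P : ℂ)⁻¹ * ∑ p : P, indFun I ψc (p : G) = _
    simp only [Chars.indFun_apply]
    rw [← Finset.mul_sum, Finset.sum_comm, Finset.sum_congr rfl fun x _ => hcount x,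
      Finset.sum_const, Finset.card_univ, nsmul_eq_mul, ← Nat.card_eq_fintype_card, hcardI, hcardG]
    have h1 : (Nat.card P : ℂ) ≠ 0 := Nat.cast_ne_zero.2 Nat.card_pos.ne'
    have h2 : (Nat.card N : ℂ) ≠ 0 := Nat.cast_ne_zero.2 Nat.card_pos.ne'
    have h3 : (Nat.card PI : ℂ) ≠ 0 := Nat.cast_ne_zero.2 Nat.card_pos.ne'
    push_cast
    field_simp
  have hχν : fsInd (χ : G → ℂ) = 1 := (fsInd_of_real χ hreal).resolve_right fun h =>
    absurd (StronglyRealOver.even_of_fsInd_neg P χ.2 hreal h hperm) (by decide)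
  -- the degree
  obtain ⟨l, hl⟩ := IsPGroup.iff_card.1 hP
  have hidxN : N.index = 2 ^ l := by
    rw [← hl]; exact (Nat.card_congr (Equiv.ofBijective f hf)).symm
  obtain ⟨j, -, hj⟩ := (Nat.dvd_prime_pow Nat.prime_two).1
    (hidxN ▸ Subgroup.index_dvd_of_le hNI : I.index ∣ 2 ^ l)
  have hj0 : j ≠ 0 := by
    intro h0
    rw [h0, pow_zero, Subgroup.index_eq_one] at hj
    apply hlam
    set a : N := ⟨a₀, ha₀⟩
    have h1 := hinvI z (hj ▸ Subgroup.mem_top z) a
    rw [show conjBy N z a = a⁻¹ from Subtype.ext (hinvN _ a.2), map_inv] at h1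
    have h2 : (lam a) ^ 2 = 1 := by
      rw [pow_two]
      nth_rewrite 1 [← h1]
      exact inv_mul_cancel _
    have h3 : (lam a) ^ q = 1 := by
      rw [← map_pow, show a ^ q = 1 from Subtype.ext (hNq _ a.2), map_one]
    have hco : Nat.Coprime 2 q := (Nat.coprime_primes Nat.prime_two hq).2 (Ne.symm hq2)
    simpa [hco.gcd_eq_one] using pow_gcd_eq_one.2 ⟨h2, h3⟩
  have hχd : charDegree (χ : G → ℂ) = I.index := by
    have h : (χ : G → ℂ) 1 = (I.index : ℂ) * ψc 1 := Chars.indFun_one_apply (H := I) ψc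
    rw [CharApps.deg_eq, show ψc 1 = 1 by simp [hψc], mul_one] at h
    exact_mod_cast h
  -- the two families
  set S := Finset.univ.filter fun χ : IrrCharacter G =>
    (charDegree (χ : G → ℂ) = 1 ∨ 2 ∣ charDegree (χ : G → ℂ)) ∧ fsInd (χ : G → ℂ) = 1 with hS
  set L : Finset (IrrCharacter G) :=
    S.filter fun ξ : IrrCharacter G => charDegree (ξ : G → ℂ) = 1 with hL
  have hhom : ∀ ξ : IrrCharacter G, ξ ∈ L → ∃ l : G →* ℂˣ, (ξ : G → ℂ) = (fun g => (l g : ℂ)) ∧
      (∀ g, l g * l g = 1) := by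
    intro ξ hξ
    obtain ⟨h1, h2⟩ := Finset.mem_filter.1 hξ
    have h3 := (Finset.mem_filter.1 h1).2.2
    obtain ⟨l, hl⟩ := Chars.exists_hom_of_degree_one (Chars.isCharacter_of_irr ξ.2)
      (by rw [CharApps.deg_eq, h2, Nat.cast_one])
    refine ⟨l, hl, fun g => Units.ext ?_⟩
    have hr : conj ((l g : ℂ)) = (l g : ℂ) := by
      have := real_of_fsInd ξ h3 g
      rwa [congrFun hl g] at this
    have hn : ‖(l g : ℂ)‖ = 1 := by
      refine Complex.norm_eq_one_of_pow_eq_one (n := Nat.card G) ?_ Nat.card_pos.ne'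
      rw [← Units.val_pow_eq_pow_val, ← map_pow, pow_card_eq_one', map_one, Units.val_one]
    rw [Units.val_mul]
    conv_lhs => arg 1; rw [← hr]
    rw [← Complex.normSq_eq_conj_mul_self, Complex.normSq_eq_norm_sq, hn]
    simp
  choose! Lh hLh hLh2 using hhom
  let F : IrrCharacter G → IrrCharacter G := fun ξ =>
    ⟨_, Chars.isIrrCharacter_linear_mul (Lh ξ) χ.2⟩
  have hFS : ∀ ξ ∈ L, F ξ ∈ S ∧ charDegree (F ξ : G → ℂ) = I.index := by
    intro ξ hξ
    have hd : charDegree (F ξ : G → ℂ) = I.index := by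
      have h := CharApps.deg_eq (F ξ)
      change (Lh ξ 1 : ℂ) * (χ : G → ℂ) 1 = _ at h
      rw [map_one, Units.val_one, one_mul, CharApps.deg_eq, hχd] at h
      exact_mod_cast h.symm
    refine ⟨Finset.mem_filter.2 ⟨Finset.mem_univ _,
      Or.inr (hd ▸ hj ▸ dvd_pow_self 2 hj0), ?_⟩, hd⟩
    rw [← hχν]
    simp only [fsInd]
    refine congrArg _ (Finset.sum_congr rfl fun g _ => ?_)
    show (Lh ξ (g * g) : ℂ) * _ = _
    rw [map_mul, hLh2 ξ hξ, Units.val_one, one_mul]
  have hfib : ∀ η ∈ L.image F, (L.filter fun ξ => F ξ = η).card ≤ I.index := by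
    intro η hη
    obtain ⟨ξ₀, hξ₀, rfl⟩ := Finset.mem_image.1 hη
    refine card_homs_trivial_le I _ (fun ξ => Lh ξ * Lh ξ₀) ?_ ?_
    · intro a ha b hb hab
      have h1 : Lh a = Lh b := mul_right_cancel hab
      refine Subtype.ext ?_
      rw [hLh a (Finset.mem_filter.1 ha).1, hLh b (Finset.mem_filter.1 hb).1, h1]
    · intro ξ hξ x hx
      obtain ⟨hξL, hξF⟩ := Finset.mem_filter.1 hξ
      set μ := Lh ξ * Lh ξ₀ with hμ
      have hμ2 : ∀ g, μ g * μ g = 1 := fun g => by
        rw [hμ, MonoidHom.mul_apply, mul_mul_mul_comm, hLh2 ξ hξL, hLh2 ξ₀ hξ₀, one_mul]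
      have hμN : ∀ n ∈ N, μ n = 1 := by
        intro n hn
        have h3 : (μ n) ^ q = 1 := by rw [← map_pow, hNq n hn, map_one]
        have h2 : (μ n) ^ 2 = 1 := by rw [pow_two]; exact hμ2 n
        have hco : Nat.Coprime 2 q := (Nat.coprime_primes Nat.prime_two hq).2 (Ne.symm hq2)
        simpa [hco.gcd_eq_one] using pow_gcd_eq_one.2 ⟨h2, h3⟩
      have hfix : ∀ g, (μ g : ℂ) * (χ : G → ℂ) g = (χ : G → ℂ) g := by
        intro g
        have h2 : (Lh ξ g : ℂ) * (χ : G → ℂ) g = (Lh ξ₀ g : ℂ) * (χ : G → ℂ) g :=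
          congrFun (congrArg Subtype.val hξF) g
        rw [hμ, MonoidHom.mul_apply, Units.val_mul, mul_comm (Lh ξ g : ℂ), mul_assoc, h2,
          ← mul_assoc, ← Units.val_mul, hLh2 ξ₀ hξ₀, Units.val_one, one_mul]
      set μI : I →* ℂˣ := μ.comp I.subtype
      have hψ' : IsIrrCharacter I (fun h : I => (μI h : ℂ) * ψc h) :=
        Chars.isIrrCharacter_linear_mul μI hψirr
      have hres' : (fun n : N => (fun h : I => (μI h : ℂ) * ψc h) ⟨n, hNI n.2⟩) = θ := by
        funext n
        show (μ (n : G) : ℂ) * _ = _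
        rw [hμN n n.2, Units.val_one, one_mul]
        exact hψN n
      have heq : (fun h : I => (μI h : ℂ) * ψc h) = ψc := by
        refine indFun_injective_of_over N hNI hθ rfl hψ'
          (by rw [hres', Chars.inner_irr_self ⟨θ, hθ⟩]; exact one_ne_zero) hψirr hover ?_
        have hμcl : IsClassFunction G fun g => (μ g : ℂ) :=
          Chars.isClassFunction_of_isCharacter
            (Chars.isCharacter_of_irr (Chars.isIrrCharacter_linear μ))
        rw [show (fun h : I => (μI h : ℂ) * ψc h) =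
            fun h : I => (fun g => (μ g : ℂ)) (h : G) * ψc h from rfl,
          Chars.indFun_mul_restrict I _ hμcl]
        exact funext hfix
      have h4 := congrFun heq ⟨x, hx⟩
      exact Units.ext ((mul_eq_right₀ (Units.ne_zero (ψ ⟨x, hx⟩))).1 h4)
  have hLle : L.card ≤ I.index * (L.image F).card :=
    Finset.card_le_mul_card_image _ _ hfib
  -- the inequality
  set A := L.image F with hA
  have hAS : A ⊆ S := fun η hη => by
    obtain ⟨ξ, hξ, rfl⟩ := Finset.mem_image.1 hη
    exact (hFS ξ hξ).1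
  have hAd : ∀ η ∈ A, charDegree (η : G → ℂ) = I.index := fun η hη => by
    obtain ⟨ξ, hξ, rfl⟩ := Finset.mem_image.1 hη
    exact (hFS ξ hξ).2
  have hd2 : 2 ≤ I.index := by rw [hj]; exact Nat.le_self_pow hj0 2
  have hsplit : 4 * S.card + (3 * I.index - 4) * A.card ≤
      3 * (∑ η ∈ S, charDegree (η : G → ℂ)) + L.card := by
    rw [hL, Finset.card_eq_sum_ones S, Finset.card_eq_sum_ones (S.filter _),
      Finset.sum_filter (s := S), Finset.mul_sum, Finset.mul_sum, ← Finset.sum_add_distrib]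
    have hAe : (3 * I.index - 4) * A.card = ∑ η ∈ S, if η ∈ A then 3 * I.index - 4 else 0 := by
      rw [← Finset.sum_filter, Finset.sum_const, smul_eq_mul, mul_comm,
        Finset.filter_mem_eq_inter, Finset.inter_eq_right.2 hAS]
    rw [hAe, ← Finset.sum_add_distrib]
    refine Finset.sum_le_sum fun η hη => ?_
    have hmem := (Finset.mem_filter.1 hη).2.1
    have hpos := CharApps.deg_pos η
    by_cases hηA : η ∈ A
    · rw [if_pos hηA, hAd η hηA]; omega
    · rw [if_neg hηA]
      rcases hmem with h | ⟨c, hc⟩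
      · rw [if_pos h, h]; norm_num
      · rw [hc] at hpos ⊢
        omega
  have : I.index * A.card ≤ (3 * I.index - 4) * A.card := Nat.mul_le_mul_right _ (by omega)
  omega

end CfsgLib.CharsMore.AverageReal
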