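import Cfsg.Agent.Lib.CharsMore.InducedCore
import Cfsg.Agent.Lib.CharsMore.CoherenceDescent
import Cfsg.Agent.Lib.CharsMore.BrauerInduction
import Cfsg.Agent.Lib.CharsMore.CliffordDegree
import Cfsg.Agent.Lib.CharApps.HeightZero
import Cfsg.Agent.Lib.Chars.Monomial
import Cfsg.Agent.Lib.Base.MinimalNormal
import Mathlib

/-!
# Monomiality over a normal subgroup with abelian Sylow subgroups
-/

set_option linter.style.haveILetI false
set_option linter.unusedSectionVars false

namespace CfsgLib.CharsMore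

open Cfsg
open scoped ComplexConjugate

/-- An irreducible character trivial on commutators has degree one. -/
lemma degree_one_of_commutators {X : Type*} [Group X] [Fintype X] {χ : X → ℂ}
    (hχ : IsIrrCharacter X χ) (h : ∀ a b : X, χ (a * b * a⁻¹ * b⁻¹) = χ 1) : χ 1 = 1 := by
  have hnorm := (Chars.isIrrCharacter_iff_inner_self.1 hχ).2
  have hG : (Nat.card X : ℂ) ≠ 0 := Nat.cast_ne_zero.2 Nat.card_pos.ne'
  rw [Chars.inner_def, inv_mul_eq_iff_eq_mul₀ hG, mul_one] at hnorm
  have hn : ∀ x, χ x * conj (χ x) = (charDegree χ : ℂ) ^ 2 := fun x => by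
    rw [Complex.mul_conj', norm_eq_of_commutes_mod_ker hχ (d := x) (h x)]
    norm_num
  rw [Finset.sum_congr rfl (fun x _ => hn x), Finset.sum_const, Finset.card_univ,
    ← Nat.card_eq_fintype_card, nsmul_eq_mul, mul_eq_left₀ hG] at hnorm
  have h2 : charDegree χ ^ 2 = 1 := by exact_mod_cast hnorm
  rw [CharApps.deg_eq_of_isChar (Chars.isCharacter_of_irr hχ),
    (Nat.pow_eq_one.1 h2).resolve_right (by norm_num), Nat.cast_one]

/-- A character with irreducible induced character is irreducible. -/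
lemma isIrr_of_indFun_irr {X : Type*} [Group X] [Fintype X] (D : Subgroup X) [Fintype D]
    {α : D → ℂ} (hα : IsCharacter D α) (h : IsIrrCharacter X (indFun D α)) :
    IsIrrCharacter D α := by
  classical
  obtain ⟨m, ρ, hρ⟩ := hα
  obtain ⟨k, ξ, hξ⟩ := Chars.exists_sum_irr ρ
  rw [hρ] at hξ
  have hind : indFun D α = ∑ i, indFun D (ξ i : D → ℂ) := by rw [hξ, Chars.indFun_sum]
  have hch : ∀ i, IsCharacter X (indFun D (ξ i : D → ℂ)) := fun i =>
    Chars.isCharacter_indFun D (Chars.isCharacter_of_irr (ξ i).2)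
  choose n hn using fun i j => Chars.inner_char_nat (hch i) (hch j)
  have hpos : ∀ i, 1 ≤ n i i := fun i => by
    refine Nat.one_le_iff_ne_zero.2 fun h0 => ?_
    have h1 := congrFun ((Chars.inner_self_eq_zero_iff _).1 (by rw [hn, h0, Nat.cast_zero] :
      classInner (indFun D (ξ i : D → ℂ)) (indFun D (ξ i : D → ℂ)) = 0)) 1
    rw [Chars.indFun_one_apply] at h1
    exact (mul_ne_zero (Nat.cast_ne_zero.2 Subgroup.index_ne_zero_of_finite)
      (Chars.irr_degree_ne_zero (ξ i).2)) h1
  have hsum := (Chars.isIrrCharacter_iff_inner_self.1 h).2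
  rw [hind, Chars.inner_sum_left, Finset.sum_congr rfl (fun i _ => Chars.inner_sum_right _ _ _)] at hsum
  simp only [hn] at hsum
  have hsum' : ∑ i, ∑ j, n i j = 1 := by exact_mod_cast hsum
  have hle : k ≤ 1 := by
    rw [← hsum']
    calc k = ∑ _i : Fin k, 1 := by simp
      _ ≤ ∑ i, ∑ j, n i j := Finset.sum_le_sum fun i _ =>
        (hpos i).trans (Finset.single_le_sum (fun j _ => Nat.zero_le (n i j)) (Finset.mem_univ i))
  obtain rfl | rfl : k = 0 ∨ k = 1 := by omega
  · simp at hsum'
  · rw [hξ, Fin.sum_univ_one]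
    exact (ξ 0).2

/-- A surjective image of a group with abelian Sylow subgroups has abelian Sylow subgroups. -/
lemma comm_pgroup_image {X Y : Type*} [Group X] [Finite X] [Group Y] {f : X →* Y}
    (hf : Function.Surjective f) {p : ℕ} [Fact p.Prime]
    (h : ∀ P : Sylow p X, ∀ a ∈ P, ∀ b ∈ P, a * b = b * a) {P : Subgroup Y} (hP : IsPGroup p P) :
    ∀ a ∈ P, ∀ b ∈ P, a * b = b * a := by
  haveI := Finite.of_surjective f hf
  obtain ⟨S, hS⟩ := hP.exists_le_sylow
  obtain ⟨T, rfl⟩ := Sylow.mapSurjective_surjective hf p S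
  intro a ha b hb
  obtain ⟨x, hx, rfl⟩ := hS ha
  obtain ⟨y, hy, rfl⟩ := hS hb
  rw [← map_mul, ← map_mul, h T x hx y hy]

/-- A noncentral abelian normal subgroup inside a group with abelian Sylow subgroups. -/
lemma exists_noncentral {Q : Type*} [Group Q] [Finite Q] [Group.IsSolvable Q] (N : Subgroup Q)
    [N.Normal] (hab : ∀ (p : ℕ) [Fact p.Prime] (P : Subgroup Q), IsPGroup p P → P ≤ N →
      ∀ a ∈ P, ∀ b ∈ P, a * b = b * a)
    (hne : ¬ ∀ a ∈ N, ∀ b ∈ N, a * b = b * a) :
    ∃ A : Subgroup Q, A.Normal ∧ A ≤ N ∧ (∀ a ∈ A, ∀ b ∈ A, a * b = b * a) ∧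
      ¬ ∀ a ∈ A, ∀ b ∈ N, a * b = b * a := by
  classical
  set Z := N ⊓ Subgroup.centralizer (N : Set Q) with hZ
  have hZn : Z.Normal := inferInstance
  set π := QuotientGroup.mk' Z
  have hsur : Function.Surjective π := QuotientGroup.mk'_surjective Z
  haveI : (N.map π).Normal := (inferInstance : N.Normal).map π hsur
  have hmap : N.map π ≠ ⊥ := fun e => hne fun a ha b hb => by
    rw [Subgroup.map_eq_bot_iff, QuotientGroup.ker_mk'] at e
    exact (Subgroup.mem_centralizer_iff.1 (e hb).2 a ha)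
  obtain ⟨M, hMN, hM⟩ := Base.exists_isMinimalNormal_le hmap
  haveI := hM.normal
  obtain ⟨p, hp, -, -, hMp⟩ := hM.exists_prime inferInstance
  haveI := Fact.mk hp
  set A := M.comap π
  have hker : π.ker = Z := QuotientGroup.ker_mk' Z
  have hAN : A ≤ N := by
    intro x hx
    obtain ⟨y, hy, hxy⟩ := hMN hx
    have h1 : y⁻¹ * x ∈ Z := (QuotientGroup.eq (s := Z)).1 hxy
    simpa using N.mul_mem hy h1.1
  have hZA : Z ≤ A := fun x hx => by
    show π x ∈ M
    rw [show π x = 1 from (QuotientGroup.eq_one_iff x).2 hx]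
    exact M.one_mem
  refine ⟨A, inferInstance, hAN, ?_, fun h => hM.ne_bot ?_⟩
  · obtain ⟨P⟩ : Nonempty (Sylow p A) := inferInstance
    set Z' := Z.subgroupOf A
    have hidx : ∃ m, Z'.index = p ^ m := by
      obtain ⟨m, hm⟩ := IsPGroup.iff_card.1 hMp
      refine ⟨m, ?_⟩
      have h1 : Z.relIndex A = Nat.card M := by
        have h : Z = (⊥ : Subgroup (Q ⧸ Z)).comap π := by rw [MonoidHom.comap_bot, hker]
        refine (congrArg (fun S => Subgroup.relIndex S A) h).trans ?_
        rw [Subgroup.relIndex_comap, Subgroup.map_comap_eq_self_of_surjective hsur,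
          Subgroup.relIndex_bot_left]
      exact h1.trans hm
    obtain ⟨m, hm⟩ := hidx
    have htop : (P : Subgroup A) ⊔ Z' = ⊤ := by
      rw [← Subgroup.index_eq_one]
      have h1 := Subgroup.index_dvd_of_le (le_sup_left : (P : Subgroup A) ≤ (P : Subgroup A) ⊔ Z')
      have h2 := Subgroup.index_dvd_of_le (le_sup_right : Z' ≤ (P : Subgroup A) ⊔ Z')
      rw [hm] at h2
      obtain ⟨i, -, hi⟩ := (Nat.dvd_prime_pow hp).1 h2
      rw [hi]
      rcases Nat.eq_zero_or_pos i with h0 | h0
      · rw [h0, pow_zero]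
      · exact absurd ((dvd_pow_self p h0.ne').trans (hi ▸ h1)) P.not_dvd_index
    have hPc : ∀ a ∈ (P : Subgroup A), ∀ b ∈ (P : Subgroup A), a * b = b * a := fun a ha b hb =>
      Subtype.ext (hab p ((P : Subgroup A).map A.subtype) (P.2.map _)
        ((Subgroup.map_subtype_le _).trans hAN) _ ⟨a, ha, rfl⟩ _ ⟨b, hb, rfl⟩)
    have hZc : Z' ≤ Subgroup.center A := fun z hz => Subgroup.mem_center_iff.2 fun a =>
      Subtype.ext (Subgroup.mem_centralizer_iff.1 (hz : (z : Q) ∈ Z).2 a (hAN a.2))
    have hPZ : (P : Subgroup A) ≤ Subgroup.centralizer ((P : Subgroup A) ⊔ Z' : Subgroup A) := by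
      rw [Subgroup.le_centralizer_iff]
      exact sup_le (fun a ha b hb => hPc b hb a ha) (hZc.trans (Subgroup.center_le_centralizer _))
    have hc : (⊤ : Subgroup A) ≤ Subgroup.center A := by
      rw [← htop]
      refine sup_le (fun a ha => ?_) hZc
      have h := hPZ ha
      rw [htop, Subgroup.coe_top, Subgroup.centralizer_univ] at h
      exact h
    intro a ha b hb
    exact congrArg Subtype.val (Subgroup.mem_center_iff.1 (hc (Subgroup.mem_top (⟨b, hb⟩ : A))) ⟨a, ha⟩)
  · rw [← Subgroup.map_comap_eq_self_of_surjective hsur M, Subgroup.map_eq_bot_iff, hker]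
    exact fun x hx => ⟨hAN hx, Subgroup.mem_centralizer_iff.2 fun b hb => (h x hx b hb).symm⟩

universe u

/-- Characters with irreducible restriction to an A-group are monomial in solvable groups. -/
theorem monomial_over_agroup : ∀ (n : ℕ) {G : Type u} [Group G] [Fintype G] [Group.IsSolvable G],
    Nat.card G ≤ n → ∀ (N : Subgroup G) [N.Normal],
    (∀ (p : ℕ) [Fact p.Prime] (P : Subgroup G), IsPGroup p P → P ≤ N →
      ∀ a ∈ P, ∀ b ∈ P, a * b = b * a) →
    ∀ ψ : G → ℂ, IsIrrCharacter G ψ → IsIrrCharacter N (fun x : N => ψ x) →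
    ∃ (U : Subgroup G) (lam : U → ℂ), IsCharacter U lam ∧ lam 1 = 1 ∧ indFun U lam = ψ := by
  intro n
  induction n with
  | zero => intro G _ _ _ h; exact absurd h (Nat.card_pos (α := G)).not_ge
  | succ n ih =>
    intro G _ _ _ hn N _ hab ψ hψ hψN
    classical
    have hψc := Chars.isCharacter_of_irr hψ
    set χI : IrrCharacter G := ⟨ψ, hψ⟩
    haveI : (CharApps.charKer χI).Normal := CharApps.charKer_normal χI
    set C := N ⊓ CharApps.charKer χI with hC
    haveI : C.Normal := inferInstance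
    set π := QuotientGroup.mk' C
    have hsur : Function.Surjective π := QuotientGroup.mk'_surjective C
    haveI : (N.map π).Normal := (inferInstance : N.Normal).map π hsur
    have hker : ∀ a b : G, π a * π b = π b * π a → ψ (a * b * a⁻¹ * b⁻¹) = ψ 1 := fun a b h => by
      have h1 : π (a * b * a⁻¹ * b⁻¹) = 1 := by
        rw [map_mul, map_mul, map_mul, map_inv, map_inv, h]; group
      exact CharApps.mem_charKer.1 ((QuotientGroup.eq_one_iff _).1 h1 :
        a * b * a⁻¹ * b⁻¹ ∈ C).2
    by_cases hcomm : ∀ a ∈ N.map π, ∀ b ∈ N.map π, a * b = b * a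
    · -- linear
      have h1 : ψ 1 = 1 := by
        letI : Fintype N := Fintype.ofFinite _
        have := degree_one_of_commutators (χ := fun x : N => ψ x) hψN fun a b =>
          hker (a : G) b (hcomm _ ⟨a, a.2, rfl⟩ _ ⟨b, b.2, rfl⟩)
        exact this
      refine ⟨⊤, fun x => ψ x, Chars.isCharacter_restrict ⊤ hψc, h1, ?_⟩
      exact Chars.indFun_top ψ (Chars.isClassFunction_of_isCharacter hψc)
    haveI : Group.IsSolvable (G ⧸ C) := inferInstance
    have hNab : ∀ (p : ℕ) [Fact p.Prime] (P : Subgroup (G ⧸ C)), IsPGroup p P → P ≤ N.map π →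
        ∀ a ∈ P, ∀ b ∈ P, a * b = b * a := by
      intro p _ P hP hPN
      let f : N →* N.map π := π.subgroupMap N
      have hf : Function.Surjective f := MonoidHom.subgroupMap_surjective π N
      have h := comm_pgroup_image hf (fun (S : Sylow p N) a ha b hb => Subtype.ext
        (hab p ((S : Subgroup N).map N.subtype) (S.2.map _) (Subgroup.map_subtype_le _)
          _ ⟨a, ha, rfl⟩ _ ⟨b, hb, rfl⟩))
        (P := P.subgroupOf (N.map π)) (hP.comap_of_injective _ Subtype.val_injective)
      intro a ha b hb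
      exact congrArg Subtype.val (h ⟨a, hPN ha⟩ ha ⟨b, hPN hb⟩ hb)
    obtain ⟨A', hA'n, hA'N, hA'ab, hA'nc⟩ := exists_noncentral (N.map π) hNab hcomm
    haveI := hA'n
    set A := A'.comap π with hA
    haveI : A.Normal := inferInstance
    have hAN : A ≤ N := fun x hx => by
      obtain ⟨y, hy, hxy⟩ := hA'N hx
      have h1 : y⁻¹ * x ∈ C := (QuotientGroup.eq (s := C)).1 hxy
      simpa using N.mul_mem hy h1.1
    letI : Fintype A := Fintype.ofFinite _
    obtain ⟨φI, hφI⟩ := Chars.exists_constituent (Chars.isCharacter_restrict A hψc) fun h0 =>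
      Chars.irr_degree_ne_zero hψ (congrFun h0 1)
    set φ : A → ℂ := (φI : A → ℂ)
    have hφ : IsIrrCharacter A φ := φI.2
    have hAT := le_inertia A (Chars.isClassFunction_of_isCharacter (Chars.isCharacter_of_irr hφ))
    set T := inertia A φ with hTdef
    have hTtop : T ≠ ⊤ := by
      intro e
      have hinv : ∀ g m, φ (conjBy A g m) = φ m :=
        fun g => (mem_inertia A).1 (e ▸ Subgroup.mem_top g : g ∈ T)
      have hres := restrict_eq_mul_of_invariant A hψ hφ hinv hφI
      set c := classInner (fun n : A => ψ n) φ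
      have hscal : ∀ a : A, ‖ψ a‖ = (charDegree ψ : ℝ) := by
        intro a
        have h1 : ‖φ a‖ = (charDegree φ : ℝ) := norm_eq_of_commutes_mod_ker hφ fun b => by
          have h2 := CharApps.constituent_scalar (Chars.isCharacter_restrict A hψc) (c := 1)
            norm_one (z := a * b * a⁻¹ * b⁻¹) (by
              rw [mul_one]
              exact hker a b (hA'ab _ a.2 _ b.2)) φI hφI
          rwa [mul_one] at h2
        have h3 : ψ 1 = c * φ 1 := hres 1
        rw [hres a, norm_mul, h1, ← Complex.norm_natCast (charDegree φ),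
          ← CharApps.deg_eq_of_isChar (Chars.isCharacter_of_irr hφ), ← norm_mul, ← h3,
          CharApps.deg_eq_of_isChar hψc, Complex.norm_natCast]
      refine hA'nc ?_
      intro a' ha' b' hb'
      obtain ⟨a, rfl⟩ := hsur a'
      obtain ⟨b, hb, rfl⟩ := hb'
      have haN : a ∈ N := hAN ha'
      obtain ⟨d, ρ, hρirr, hρ⟩ := hψ
      have hd : (Module.finrank ℂ (Fin d → ℂ) : ℝ) = (charDegree ψ : ℝ) := by
        have h4 := CharApps.deg_eq_of_isChar hψc
        rw [← hρ, Representation.char_one] at h4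
        rw [← hρ]
        exact_mod_cast h4
      obtain ⟨ω, hω⟩ := (Chars.norm_character_eq_iff ρ a).1 (by rw [hρ, hd]; exact hscal ⟨a, ha'⟩)
      have h5 : ρ a * ρ b = ρ b * ρ a := by
        rw [hω, Module.End.mul_eq_comp, Module.End.mul_eq_comp, LinearMap.smul_comp,
          LinearMap.id_comp, LinearMap.comp_smul, LinearMap.comp_id]
      have h9 : ρ (a * b * a⁻¹ * b⁻¹) = ρ 1 := by
        rw [map_mul, map_mul, map_mul, h5, mul_assoc (ρ b), ← map_mul ρ a, mul_inv_cancel, map_one,
          mul_one, ← map_mul, mul_inv_cancel, map_one]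
      have h6 : ψ (a * b * a⁻¹ * b⁻¹) = ψ 1 := by
        rw [← hρ, Representation.character, Representation.character, h9]
      have h7 : a * b * a⁻¹ * b⁻¹ ∈ C :=
        ⟨N.mul_mem (N.mul_mem (N.mul_mem haN hb) (N.inv_mem haN)) (N.inv_mem hb),
          CharApps.mem_charKer.2 h6⟩
      have h8 := (QuotientGroup.eq_one_iff (N := C) _).2 h7
      rw [← mul_inv_eq_iff_eq_mul, ← mul_inv_eq_one, ← map_mul, ← map_inv, ← map_mul, ← map_inv,
        ← map_mul]
      exact h8
    letI : Fintype T := Fintype.ofFinite _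
    obtain ⟨ψT, hψT, hψTind, -, -⟩ := exists_correspondent A hAT hφ hTdef hψ hφI
    have hsup : ∀ x : G, ∃ m ∈ N, ∃ t ∈ T, x = m * t := by
      intro x
      letI : Fintype (A.subgroupOf N) := Fintype.ofFinite _
      have hg : classInner (fun a : A => ψ a) (conjFn A x⁻¹ φ) ≠ 0 := by
        rw [inner_restrict_conjFn A (Chars.isClassFunction_of_isCharacter hψc)]; exact hφI
      have e : ∀ θ : A → ℂ, classInner (fun z : A.subgroupOf N => (fun m : N => ψ m) z)
          (pullFn A N θ) = classInner (fun a : A => ψ a) θ :=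
        fun θ => inner_pullFn A hAN (fun a : A => ψ a) θ
      obtain ⟨m, hm⟩ := restrict_constituents_conj (A.subgroupOf N) hψN (isIrr_pullFn A hAN hφ)
        (isIrr_pullFn A hAN (isIrr_conjFn A x⁻¹ hφ)) (by rw [e]; exact hφI) (by rw [e]; exact hg)
      have hm' : conjFn A (m : G) φ = conjFn A x⁻¹ φ := by
        funext a
        exact congrFun hm ⟨⟨a, hAN a.2⟩, a.2⟩
      refine ⟨(m : G)⁻¹, N.inv_mem m.2, (m : G) * x, ?_, by group⟩
      show conjFn A ((m : G) * x) φ = φ
      rw [conjFn_mul, hm', ← conjFn_mul, inv_mul_cancel, conjFn_one]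
    have hcardT : Nat.card T ≤ n := by
      have h1 : Nat.card T < Nat.card G := by
        rw [← Subgroup.card_mul_index T]
        refine lt_mul_of_one_lt_right Nat.card_pos ?_
        have h0 : T.index ≠ 0 := Subgroup.index_ne_zero_of_finite
        have h1 : T.index ≠ 1 := fun h => hTtop (Subgroup.index_eq_one.1 h)
        omega
      omega
    letI : Fintype N := Fintype.ofFinite _
    letI : Fintype (T.subgroupOf N) := Fintype.ofFinite _
    have hres := indFun_restrict_supplement T N hsup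
      (Chars.isClassFunction_of_isCharacter (Chars.isCharacter_of_irr hψT))
    rw [hψTind] at hres
    have hαirr := isIrr_of_indFun_irr (T.subgroupOf N)
      (α := fun d : T.subgroupOf N => ψT ⟨((d : N) : G), d.2⟩)
      (Chars.isCharacter_comp ((N.subtype.comp (T.subgroupOf N).subtype).codRestrict T fun d => d.2)
        (Chars.isCharacter_of_irr hψT)) (hres ▸ hψN)
    have hNT : IsIrrCharacter (N.subgroupOf T) (fun x : N.subgroupOf T => ψT x) := by
      let f : N.subgroupOf T →* T.subgroupOf N :=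
        { toFun := fun x => ⟨⟨((x : T) : G), x.2⟩, (x : T).2⟩
          map_one' := rfl
          map_mul' := fun _ _ => rfl }
      exact Chars.isIrrCharacter_comp f (fun d => ⟨⟨⟨((d : N) : G), d.2⟩, (d : N).2⟩, rfl⟩) hαirr
    obtain ⟨U, lam, hlam, hlam1, hU⟩ := ih hcardT (N.subgroupOf T) (by
      intro p _ P hP hPN a ha b hb
      refine Subtype.ext (hab p (P.map T.subtype) (hP.map _) ?_ _ ⟨a, ha, rfl⟩ _ ⟨b, hb, rfl⟩)
      rintro _ ⟨y, hy, rfl⟩
      exact hPN hy) ψT hψT hNT
    let e := U.equivMapOfInjective T.subtype T.subtype_injective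
    refine ⟨U.map T.subtype, fun x => lam (e.symm x),
      Chars.isCharacter_comp e.symm.toMonoidHom hlam, by show lam (e.symm 1) = 1; rw [map_one, hlam1], ?_⟩
    rw [← hψTind, ← hU, indFun_map_subtype]

end CfsgLib.CharsMore
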