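import Cfsg.Agent.Lib.CharsMore.TIAbelianBound
import Cfsg.Agent.Lib.CharsMore.RelativeAGroup
import Cfsg.Agent.Lib.CharsMore.Extend
import Cfsg.Agent.Lib.Chars.Integral
import Cfsg.Agent.S0855
import Mathlib

/-!
# Linear groups of degree small with respect to a prime
-/

set_option linter.style.haveILetI false
set_option linter.unusedSectionVars false

namespace CfsgLib.CharsMore

open Cfsg
open scoped ComplexConjugate

section Coprime

variable {G : Type*} [Group G] [Finite G] {p n : ℕ} [hp : Fact p.Prime]

/-- In degree less than `p - 1`, a `p`-element acting with order `p` on a `p'`-subgroup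
centralises it. -/
theorem centralizes_pPrime_subgroup (ρ : Representation ℂ G (Fin n → ℂ)) (hρ : Function.Injective ρ)
    (hn : n + 1 < p) (x : G) : ∀ (N : ℕ) (K : Subgroup G), Nat.card K ≤ N → ¬ p ∣ Nat.card K →
      (∀ k ∈ K, x * k * x⁻¹ ∈ K) → (∀ k ∈ K, x ^ p * k = k * x ^ p) → ∀ k ∈ K, x * k = k * x := by
  intro N
  induction N with
  | zero => intro K h; exact absurd h (Nat.card_pos (α := K)).not_ge
  | succ N ih =>
    intro K hN hpK hxK hxp
    classical
    set C := K ⊓ Subgroup.centralizer ({x} : Set G)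
    suffices hCK : K ≤ C by
      intro k hk
      exact (Subgroup.mem_centralizer_singleton_iff.1 (hCK hk).2).symm
    by_contra hCK
    have hsub : ∀ K' : Subgroup G, K' ≤ K → K' ≠ K → (∀ k ∈ K', x * k * x⁻¹ ∈ K') → K' ≤ C := by
      intro K' hle hne hinv k hk
      have hlt : Nat.card K' < Nat.card K :=
        lt_of_le_of_ne (Nat.card_le_card_of_injective _ (Subgroup.inclusion_injective hle))
          fun e => hne (Subgroup.eq_of_le_of_card_ge hle e.ge)
      exact ⟨hle hk, Subgroup.mem_centralizer_singleton_iff.2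
        ((ih K' (by omega) (fun h => hpK (h.trans (Subgroup.card_dvd_of_le hle))) hinv
          (fun k hk => hxp k (hle hk)) k hk).symm)⟩
    -- conjugation by `x` as an automorphism of `K`
    let f : K →* K :=
      { toFun := fun k => ⟨x * k * x⁻¹, hxK k k.2⟩
        map_one' := by ext; simp
        map_mul' := fun a b => by ext; simp [mul_assoc] }
    have hfinj : Function.Injective f := fun a b e =>
      Subtype.ext (mul_left_cancel (mul_right_cancel (congrArg Subtype.val e)))
    let σ : MulAut K := MulEquiv.ofBijective f ⟨hfinj, Finite.surjective_of_injective hfinj⟩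
    have hσ : ∀ k : K, ((σ k : K) : G) = x * k * x⁻¹ := fun k => rfl
    have hσi : ∀ (i : ℕ) (k : K), (((σ ^ i) k : K) : G) = x ^ i * k * (x ^ i)⁻¹ := by
      intro i
      induction i with
      | zero => intro k; simp
      | succ i ihi =>
        intro k
        rw [pow_succ', MulAut.mul_apply, hσ, ihi, pow_succ']
        group
    have hσp : σ ^ p = 1 := MulEquiv.ext fun k => Subtype.ext (by
      rw [hσi, hxp k k.2, mul_inv_cancel_right]
      rfl)
    -- some invariant Sylow subgroup is the whole group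
    have hr : ∃ r : ℕ, r.Prime ∧ IsPGroup r K := by
      by_contra hcon
      push Not at hcon
      refine hCK ?_
      have hidx : (C.subgroupOf K).index = 1 := by
        by_contra h1
        obtain ⟨r, hr, hrd⟩ := Nat.exists_prime_and_dvd h1
        haveI := Fact.mk hr
        let π : Equiv.Perm (Sylow r K) := MulAction.toPermHom (MulAut K) (Sylow r K) σ
        have hπ : π ^ p ^ 1 = 1 := by rw [pow_one, ← map_pow, hσp, map_one]
        haveI := Fintype.ofFinite (Sylow r K)
        have hcardS : ¬ p ∣ Fintype.card (Sylow r K) := fun h => hpK (by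
          rw [← Nat.card_eq_fintype_card] at h
          exact h.trans ((Sylow.card_dvd_index (default : Sylow r K)).trans (Subgroup.index_dvd_card _)))
        obtain ⟨R, hR⟩ := Equiv.Perm.exists_fixed_point_of_prime hcardS hπ
        have hR' : σ • R = R := hR
        have hRinv : ∀ k : K, k ∈ (R : Subgroup K) → σ k ∈ (R : Subgroup K) := fun k hk => by
          have h2 : σ k ∈ ((σ • R : Sylow r K) : Subgroup K) :=
            Subgroup.smul_mem_pointwise_smul k σ _ hk
          rwa [hR'] at h2
        set R' := (R : Subgroup K).map K.subtype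
        have hne : R' ≠ K := fun e => hcon r hr ((R.2.map K.subtype).to_le e.ge)
        have hle := hsub R' (Subgroup.map_subtype_le _) hne (by
          rintro _ ⟨k, hk, rfl⟩
          exact ⟨σ k, hRinv k hk, hσ k⟩)
        exact R.not_dvd_index (hrd.trans (Subgroup.index_dvd_of_le fun k hk => hle ⟨k, hk, rfl⟩))
      exact Subgroup.subgroupOf_eq_top.1 (Subgroup.index_eq_one.1 hidx)
    obtain ⟨r, hr, hrK⟩ := hr
    haveI := Fact.mk hr
    have hK1 : K ≠ ⊥ := fun e => hCK (e ▸ bot_le)
    have hder : ⁅K, K⁆ ≤ C := by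
      haveI : Group.IsNilpotent K := hrK.isNilpotent
      refine hsub _ (Subgroup.commutator_le_self K)
        (Base.commutator_self_lt_of_isSolvable hK1 inferInstance).ne fun k hk => ?_
      have hmap : K.map (MulAut.conj x).toMonoidHom ≤ K := by
        rintro _ ⟨a, ha, rfl⟩
        exact hxK a ha
      refine (Subgroup.commutator_mono hmap hmap) ?_
      rw [← Subgroup.map_commutator]
      exact ⟨k, hk, rfl⟩
    -- the commutators with `x` generate `K`
    have hgen : K ≤ Subgroup.closure {g : G | ∃ k ∈ K, g = k⁻¹ * (x * k * x⁻¹)} := by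
      set S := Subgroup.closure {g : G | ∃ k ∈ K, g = k⁻¹ * (x * k * x⁻¹)}
      have hSK : S ≤ K := (Subgroup.closure_le K).2 fun g ⟨k, hk, e⟩ =>
        e ▸ K.mul_mem (K.inv_mem hk) (hxK k hk)
      by_contra hne
      have hinv : ∀ g ∈ S, x * g * x⁻¹ ∈ S := by
        intro g hg
        refine Subgroup.closure_induction (p := fun g _ => x * g * x⁻¹ ∈ S) ?_ ?_ ?_ ?_ hg
        · rintro _ ⟨k, hk, rfl⟩
          exact Subgroup.subset_closure ⟨x * k * x⁻¹, hxK k hk, by group⟩
        · simp [S.one_mem]
        · intro a b _ _ ha hb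
          simpa [mul_assoc] using S.mul_mem ha hb
        · intro a _ ha
          simpa [mul_assoc] using S.inv_mem ha
      have hle := hsub S hSK (fun e => hne e.ge) hinv
      refine hCK fun k hk => ⟨hk, Subgroup.mem_centralizer_singleton_iff.2 ?_⟩
      set c := k⁻¹ * (x * k * x⁻¹) with hc
      have hcx : c * x = x * c := Subgroup.mem_centralizer_singleton_iff.1
        (hle (Subgroup.subset_closure ⟨k, hk, hc⟩)).2
      have hpow : ∀ i : ℕ, x ^ i * k * (x ^ i)⁻¹ = k * c ^ i := by
        intro i
        induction i with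
        | zero => simp
        | succ i ihi =>
          rw [pow_succ', mul_inv_rev,
            show x * x ^ i * k * ((x ^ i)⁻¹ * x⁻¹) = x * (x ^ i * k * (x ^ i)⁻¹) * x⁻¹ by group, ihi,
            show x * (k * c ^ i) * x⁻¹ = x * k * x⁻¹ * (x * c ^ i * x⁻¹) by group,
            ((Commute.pow_left hcx i).symm).eq, mul_inv_cancel_right,
            show x * k * x⁻¹ = k * c by rw [hc]; group, pow_succ']
          group
      have hcp : c ^ p = 1 := by
        have h := hpow p
        rw [hxp k hk, mul_inv_cancel_right] at h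
        exact (mul_eq_left.1 h.symm)
      have hc1 : c = 1 := by
        rw [← orderOf_eq_one_iff]
        refine ((Nat.dvd_prime hp.out).1 (orderOf_dvd_of_pow_eq_one hcp)).resolve_right fun e => hpK ?_
        rw [← e]
        exact Subgroup.orderOf_dvd_natCard K (K.mul_mem (K.inv_mem hk) (hxK k hk))
      rw [hc, inv_mul_eq_one] at hc1
      exact (eq_mul_inv_iff_mul_eq.1 hc1)
    have hCcent : ∀ c ∈ C, ∀ k ∈ K, c * k = k * c := by
      intro c hc k hk
      have hcx : c * x = x * c := Subgroup.mem_centralizer_singleton_iff.1 hc.2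
      have hgens : {g : G | ∃ k ∈ K, g = k⁻¹ * (x * k * x⁻¹)} ⊆
          (Subgroup.centralizer ({c} : Set G) : Set G) := by
        rintro _ ⟨l, hl, rfl⟩
        refine Subgroup.mem_centralizer_singleton_iff.2 ?_
        have hlc : l * c * l⁻¹ ∈ C := by
          have h1 : l * c * l⁻¹ * c⁻¹ ∈ C :=
            hder (Subgroup.commutator_mem_commutator hl hc.1)
          simpa using C.mul_mem h1 hc
        have h2 : (l * c * l⁻¹) * x = x * (l * c * l⁻¹) :=
          Subgroup.mem_centralizer_singleton_iff.1 hlc.2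
        calc l⁻¹ * (x * l * x⁻¹) * c = l⁻¹ * (x * l * (x⁻¹ * (c * x)) * x⁻¹) := by group
          _ = l⁻¹ * (x * (l * c * l⁻¹)) * l * x⁻¹ := by rw [hcx]; group
          _ = l⁻¹ * ((l * c * l⁻¹) * x) * l * x⁻¹ := by rw [h2]
          _ = c * (l⁻¹ * (x * l * x⁻¹)) := by group
      exact (Subgroup.mem_centralizer_singleton_iff.1
        (((Subgroup.closure_le _).2 hgens) (hgen hk))).symm
    -- constituents of the restriction are invariant
    letI : Fintype G := Fintype.ofFinite G
    letI : Fintype K := Fintype.ofFinite K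
    haveI := Chars.irrFintype K
    set χ : K → ℂ := fun k => ρ.character k with hχ
    have hχc : IsCharacter K χ :=
      Chars.isCharacter_restrict K ⟨n, ρ, rfl⟩
    choose m hm using fun θ : IrrCharacter K => Chars.inner_irr_right_nat hχc θ
    have hχσ : ∀ k : K, χ (σ k) = χ k := fun k => by
      show ρ.character (σ k : G) = ρ.character (k : G)
      rw [hσ, Representation.char_conj]
    have hexp := Chars.classFun_eq_sum (Chars.isClassFunction_of_isCharacter hχc)
    have hdeg : ∑ θ : IrrCharacter K, m θ * charDegree (θ : K → ℂ) = n := by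
      have h := congrFun hexp 1
      simp only [Finset.sum_apply, Pi.smul_apply, smul_eq_mul, hm, CharApps.deg_eq] at h
      rw [show χ 1 = (n : ℂ) by simp [hχ]] at h
      exact_mod_cast h.symm
    let Φ : IrrCharacter K → IrrCharacter K := fun θ =>
      ⟨fun k => (θ : K → ℂ) (σ k), Chars.isIrrCharacter_comp σ.toMonoidHom σ.surjective θ.2⟩
    have hΦi : ∀ (i : ℕ) (θ : IrrCharacter K) (k : K),
        ((Φ^[i] θ : IrrCharacter K) : K → ℂ) k = (θ : K → ℂ) ((σ ^ i) k) := by
      intro i
      induction i with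
      | zero => intro θ k; simp
      | succ i ihi =>
        intro θ k
        rw [Function.iterate_succ_apply, ihi, pow_succ']
        rfl
    have hΦm : ∀ θ, m (Φ θ) = m θ := fun θ => by
      have h1 := hm (Φ θ)
      have e : classInner χ (Φ θ : K → ℂ) = classInner χ (θ : K → ℂ) := by
        rw [Chars.inner_def, Chars.inner_def]
        refine congrArg _ (Fintype.sum_equiv σ.toEquiv _ _ fun k => ?_)
        show χ k * _ = χ (σ k) * _
        rw [hχσ k]
        rfl
      rw [e, hm] at h1
      exact_mod_cast h1.symm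
    have hinvθ : ∀ θ : IrrCharacter K, m θ ≠ 0 → Φ θ = θ := by
      intro θ hθ
      by_contra hne
      have hper : Function.IsPeriodicPt Φ p θ := Subtype.ext (funext fun k => by
        rw [hΦi, hσp]; rfl)
      have hmp : Function.minimalPeriod Φ θ = p :=
        ((Nat.dvd_prime hp.out).1 hper.minimalPeriod_dvd).resolve_left fun e =>
          hne (Function.minimalPeriod_eq_one_iff_isFixedPt.1 e)
      have hinj : Set.InjOn (fun i => Φ^[i] θ) (Finset.range p : Set ℕ) := by
        intro i hi j hj e
        refine Function.iterate_injOn_Iio_minimalPeriod ?_ ?_ e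
        · rw [hmp]; exact Finset.mem_range.1 hi
        · rw [hmp]; exact Finset.mem_range.1 hj
      have hmi : ∀ i, m (Φ^[i] θ) = m θ := by
        intro i
        induction i with
        | zero => rfl
        | succ i ihi => rw [Function.iterate_succ_apply', hΦm, ihi]
      have hsum : p ≤ ∑ ξ ∈ (Finset.range p).image (fun i => Φ^[i] θ),
          m ξ * charDegree (ξ : K → ℂ) := by
        rw [Finset.sum_image hinj]
        calc p = ∑ _i ∈ Finset.range p, 1 := by simp
          _ ≤ _ := Finset.sum_le_sum fun i _ => by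
            rw [hmi]
            exact Nat.one_le_iff_ne_zero.2 (mul_ne_zero hθ (CharApps.deg_pos _).ne')
      have := hsum.trans (Finset.sum_le_sum_of_subset (Finset.subset_univ _))
      rw [hdeg] at this
      omega
    have hfix : ∀ θ : IrrCharacter K, m θ ≠ 0 → ∀ k, (θ : K → ℂ) (σ k) = (θ : K → ℂ) k :=
      fun θ hθ k => congrFun (congrArg Subtype.val (hinvθ θ hθ)) k
    -- some constituent is not linear
    obtain ⟨θ, hθm, hθ1⟩ : ∃ θ : IrrCharacter K, m θ ≠ 0 ∧ (θ : K → ℂ) 1 ≠ 1 := by
      by_contra hcon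
      push Not at hcon
      refine hCK fun k hk => ⟨hk, Subgroup.mem_centralizer_singleton_iff.2 ?_⟩
      set c : K := (⟨k, hk⟩ : K)⁻¹ * σ ⟨k, hk⟩
      have hval : χ c = χ 1 := by
        have h1 := congrFun hexp c
        have h2 := congrFun hexp 1
        rw [h1, h2]
        simp only [Finset.sum_apply, Pi.smul_apply, hm, smul_eq_mul]
        refine Finset.sum_congr rfl fun θ _ => ?_
        by_cases h0 : m θ = 0
        · rw [h0, Nat.cast_zero, zero_mul, zero_mul]
        obtain ⟨l, hl⟩ := Chars.exists_hom_of_degree_one (Chars.isCharacter_of_irr θ.2) (hcon θ h0)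
        have h3 := hfix θ h0 ⟨k, hk⟩
        rw [hl] at h3 ⊢
        simp only [c, map_mul, map_inv, map_one, Units.ext h3, inv_mul_cancel]
      have h4 : ρ (c : G) = 1 := (Chars.ker_iff ρ rfl _).1 (by
        rw [hχ] at hval
        simpa using hval)
      have h5 : (c : G) = 1 := hρ (by rw [h4, map_one])
      have h6 : k⁻¹ * (x * k * x⁻¹) = 1 := h5
      rw [inv_mul_eq_one] at h6
      exact eq_mul_inv_iff_mul_eq.1 h6
    haveI := CharApps.charKer_normal θ
    set π := QuotientGroup.mk' (CharApps.charKer θ)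
    set Zt := (Subgroup.center (K ⧸ CharApps.charKer θ)).comap π
    have hZt : ∀ k : K, k ∈ Zt ↔ ∀ l : K, (θ : K → ℂ) (k * l * k⁻¹ * l⁻¹) = (θ : K → ℂ) 1 := by
      intro k
      simp only [Zt, Subgroup.mem_comap, Subgroup.mem_center_iff]
      constructor
      · intro h l
        refine CharApps.mem_charKer.1 ((QuotientGroup.eq_one_iff _).1 ?_)
        show π (k * l * k⁻¹ * l⁻¹) = 1
        rw [map_mul, map_mul, map_mul, map_inv, map_inv, ← h (π l)]
        group
      · intro h q
        obtain ⟨l, rfl⟩ := QuotientGroup.mk'_surjective _ q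
        have h1 : π (k * l * k⁻¹ * l⁻¹) = 1 :=
          (QuotientGroup.eq_one_iff _).2 (CharApps.mem_charKer.2 (h l))
        rw [map_mul, map_mul, map_mul, map_inv, map_inv, mul_inv_eq_one, mul_inv_eq_iff_eq_mul] at h1
        exact h1.symm
    have hZtC : Zt.map K.subtype ≤ C := by
      refine hsub _ (Subgroup.map_subtype_le _) (fun e => hθ1 ?_) ?_
      · refine degree_one_of_commutators θ.2 fun a b => (hZt a).1 ?_ b
        obtain ⟨a', ha', haa⟩ := (e.ge a.2 : (a : G) ∈ Zt.map K.subtype)
        rwa [← Subtype.ext haa]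
      · rintro _ ⟨k, hk, rfl⟩
        refine ⟨σ k, (hZt _).2 fun l => ?_, hσ k⟩
        obtain ⟨l', rfl⟩ := σ.surjective l
        rw [← map_inv, ← map_inv, ← map_mul, ← map_mul, ← map_mul, hfix θ hθm]
        · exact (hZt k).1 hk l'
    have hCZt : ∀ k : K, (k : G) ∈ C → k ∈ Zt := fun k hk => (hZt k).2 fun l => by
      rw [show k * l * k⁻¹ * l⁻¹ = 1 from Subtype.ext (by
        show (k : G) * l * (k : G)⁻¹ * (l : G)⁻¹ = 1
        rw [hCcent _ hk _ l.2]; group)]
    have hvan : ∀ k : K, (k : G) ∉ C → (θ : K → ℂ) k = 0 := by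
      intro k hk
      have h1 : k ∉ Zt := fun h => hk (hZtC ⟨k, h, rfl⟩)
      rw [hZt] at h1
      push Not at h1
      obtain ⟨l, hl⟩ := h1
      set c := k * l * k⁻¹ * l⁻¹ with hc
      have hcZ : c ∈ Subgroup.center K := Subgroup.mem_center_iff.2 fun y => Subtype.ext
        (hCcent _ (hder (Subgroup.commutator_mem_commutator k.2 l.2)) _ y.2).symm
      obtain ⟨hmul, -⟩ := central_value θ.2 hcZ
      have h2 := hmul (l * k * l⁻¹)
      have h3 : c * (l * k * l⁻¹) = k := by
        have : c⁻¹ * k = l * k * l⁻¹ * 1 ∨ True := Or.inr trivial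
        rw [hc]
        have hcc : Commute (k * l * k⁻¹ * l⁻¹) k := (Subgroup.mem_center_iff.1 hcZ k).symm
        calc k * l * k⁻¹ * l⁻¹ * (l * k * l⁻¹) = k * (l * (k⁻¹ * k) * l⁻¹) := by group
          _ = k := by group
      rw [h3, Chars.isClassFunction_irr θ k l] at h2
      have hne : (θ : K → ℂ) c / (θ : K → ℂ) 1 - 1 ≠ 0 := fun h =>
        hl ((div_eq_one_iff_eq (Chars.irr_degree_ne_zero θ.2)).1 (sub_eq_zero.1 h))
      exact (mul_eq_zero.1 (by linear_combination -h2 :
        ((θ : K → ℂ) c / (θ : K → ℂ) 1 - 1) * (θ : K → ℂ) k = 0)).resolve_left hne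
    set d := charDegree (θ : K → ℂ)
    have hd2 : 2 ≤ d := by
      have h0 := CharApps.deg_pos θ
      have h1 : d ≠ 1 := fun h => hθ1 (by rw [CharApps.deg_eq, show charDegree _ = 1 from h, Nat.cast_one])
      have h2 : 0 < d := h0
      omega
    set F := Finset.univ.filter (fun k : K => (k : G) ∈ C)
    have hFd : F.card * (d * d) = Nat.card K := by
      have hnorm := Chars.inner_irr_self θ
      rw [Chars.inner_def, inv_mul_eq_iff_eq_mul₀ (Nat.cast_ne_zero.2 Nat.card_pos.ne'), mul_one,
        ← Finset.sum_subset (Finset.subset_univ F) (fun k _ hk => by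
          rw [hvan k (fun h => hk (Finset.mem_filter.2 ⟨Finset.mem_univ _, h⟩)), zero_mul]),
        Finset.sum_congr rfl (g := fun _ => ((d * d : ℕ) : ℂ)) (fun k hk => by
          have hkZ : k ∈ Subgroup.center K := Subgroup.mem_center_iff.2 fun y => Subtype.ext
            (hCcent _ (Finset.mem_filter.1 hk).2 _ y.2).symm
          rw [Complex.mul_conj', (central_value θ.2 hkZ).2]
          push_cast; ring), Finset.sum_const, nsmul_eq_mul] at hnorm
      exact_mod_cast hnorm
    have hmod : F.card ≡ Nat.card K [MOD p] := by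
      have hσK : (σ.toEquiv : Equiv.Perm K) ^ p ^ 1 = 1 := by
        refine Equiv.ext fun k => ?_
        have h : ∀ (i : ℕ) (k : K), ((σ.toEquiv : Equiv.Perm K) ^ i) k = (σ ^ i) k := by
          intro i
          induction i with
          | zero => intro k; rfl
          | succ i ihi => intro k; rw [pow_succ', pow_succ', Equiv.Perm.mul_apply, ihi]; rfl
        rw [h, pow_one, hσp]; rfl
      have h := Equiv.Perm.card_compl_support_modEq hσK
      rw [← Nat.card_eq_fintype_card] at h
      convert h using 2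
      ext k
      rw [Finset.mem_filter, Finset.mem_compl, Equiv.Perm.mem_support, not_not]
      refine ⟨fun hk => Subtype.ext ?_, fun hk => ⟨Finset.mem_univ _, k.2, ?_⟩⟩
      · show x * (k : G) * x⁻¹ = k
        rw [← Subgroup.mem_centralizer_singleton_iff.1 hk.2.2, mul_inv_cancel_right]
      · have h1 : x * (k : G) * x⁻¹ = k := congrArg Subtype.val hk
        rw [mul_inv_eq_iff_eq_mul] at h1
        exact Subgroup.mem_centralizer_singleton_iff.2 h1.symm
    rw [← hFd] at hmod
    have hpF : ¬ p ∣ F.card := fun h => hpK (hFd ▸ h.mul_right _)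
    have hdd : p ∣ d * d - 1 := by
      have h2 : p ∣ F.card * (d * d) - F.card :=
        (Nat.modEq_iff_dvd' (Nat.le_mul_of_pos_right _ (by positivity))).1 hmod
      rw [← Nat.mul_sub_one] at h2
      exact (hp.out.dvd_mul.1 h2).resolve_left hpF
    have hdn : d ≤ n := by
      rw [← hdeg]
      exact (Nat.le_mul_of_pos_left _ (Nat.pos_of_ne_zero hθm)).trans
        (Finset.single_le_sum (f := fun ξ : IrrCharacter K => m ξ * charDegree (ξ : K → ℂ))
          (fun _ _ => Nat.zero_le _) (Finset.mem_univ θ))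
    rw [show d * d - 1 = (d + 1) * (d - 1) by rw [← Nat.sq_sub_sq]; ring_nf] at hdd
    rcases hp.out.dvd_mul.1 hdd with h | h
    · have := Nat.le_of_dvd (by omega) h
      omega
    · have := Nat.le_of_dvd (by omega) h
      omega

end Coprime

universe u

/-- Feit–Thompson: small degree makes a Sylow subgroup normal. -/
theorem sylow_normal_of_small_degree {n p : ℕ} [hp : Fact p.Prime] : ∀ (N : ℕ) {G : Type u} [Group G]
    [Fintype G], Nat.card G ≤ N → ∀ (ρ : Representation ℂ G (Fin n → ℂ)), Function.Injective ρ →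
    ((n + 1) ^ 2 ≤ p ∨ (n + 1 < p ∧ ∀ K : Subgroup G, ¬ p ^ 2 ∣ Nat.card K →
      ∀ Q : Sylow p K, (Q : Subgroup K).Normal)) →
    ∀ P : Sylow p G, (P : Subgroup G).Normal := by
  intro N
  induction N with
  | zero => intro G _ _ h; exact absurd h (Nat.card_pos (α := G)).not_ge
  | succ N ih =>
    intro G _ _ hN ρ hρ hhyp P
    classical
    by_contra hPn
    have hnp : n + 1 < p := by
      rcases hhyp with h | h
      · have h1 : n + 1 ≤ (n + 1) ^ 2 := Nat.le_self_pow two_ne_zero _
        rcases Nat.eq_zero_or_pos n with rfl | hn0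
        · have := hp.out.two_le
          omega
        · have : n + 1 < (n + 1) ^ 2 := by nlinarith
          omega
      · exact h.1
    -- proper subgroups have normal Sylow subgroups
    have hprop : ∀ M : Subgroup G, M ≠ ⊤ → ∀ Q : Sylow p M, (Q : Subgroup M).Normal := by
      intro M hM
      letI : Fintype M := Fintype.ofFinite M
      have hlt : Nat.card M < Nat.card G := lt_of_le_of_ne (Subgroup.card_le_card_group M)
        fun e => hM (Subgroup.eq_top_of_card_eq M e)
      refine ih (by omega) (ρ.comp M.subtype) (hρ.comp M.subtype_injective) (hhyp.imp id fun h =>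
        ⟨h.1, fun K hK Q => ?_⟩)
      have e := K.equivMapOfInjective M.subtype M.subtype_injective
      have hQ := h.2 (K.map M.subtype) (by rwa [Subgroup.card_map_of_injective M.subtype_injective])
        (Q.mapSurjective (f := e.toMonoidHom) e.surjective)
      have hQ' : ((Q : Subgroup K).map e.toMonoidHom).Normal := hQ
      have := hQ'.comap e.toMonoidHom
      rwa [Subgroup.comap_map_eq_self_of_injective e.injective] at this
    have huniq : ∀ M : Subgroup G, M ≠ ⊤ → ∀ Q R : Subgroup G, Q ≤ M → R ≤ M → IsPGroup p Q →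
        IsPGroup p R → ∃ S : Subgroup G, S ≤ M ∧ IsPGroup p S ∧ Q ≤ S ∧ R ≤ S ∧
          (∀ m ∈ Subgroup.normalizer (M : Set G), ∀ s ∈ S, m * s * m⁻¹ ∈ S) := by
      intro M hM Q R hQ hR hQp hRp
      obtain ⟨S₀⟩ : Nonempty (Sylow p M) := inferInstance
      haveI := hprop M hM S₀
      have hin : ∀ U : Subgroup M, IsPGroup p U → U ≤ (S₀ : Subgroup M) := fun U hU =>
        le_sup_right.trans_eq (S₀.3 (IsPGroup.to_sup_of_normal_left S₀.2 hU) le_sup_left)
      refine ⟨(S₀ : Subgroup M).map M.subtype, Subgroup.map_subtype_le _, S₀.2.map _, ?_, ?_, ?_⟩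
      · rw [← Subgroup.map_subgroupOf_eq_of_le hQ]
        exact Subgroup.map_mono (hin _ (hQp.comap_of_injective _ M.subtype_injective))
      · rw [← Subgroup.map_subgroupOf_eq_of_le hR]
        exact Subgroup.map_mono (hin _ (hRp.comap_of_injective _ M.subtype_injective))
      · rintro m hm _ ⟨s, hs, rfl⟩
        have hsM : m * (s : G) * m⁻¹ ∈ M := (Subgroup.mem_normalizer_iff.1 hm _).1 s.2
        refine ⟨⟨_, hsM⟩, ?_, rfl⟩
        refine hin (Subgroup.zpowers ⟨_, hsM⟩) ?_ (Subgroup.mem_zpowers _)
        refine IsPGroup.iff_card.2 ?_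
        obtain ⟨i, hi⟩ := (IsPGroup.iff_orderOf.1 S₀.2) ⟨s, hs⟩
        refine ⟨i, ?_⟩
        rw [Nat.card_zpowers, Subgroup.orderOf_mk, ← MulAut.conj_apply, MulEquiv.orderOf_eq,
          Subgroup.orderOf_coe]
        exact (Subgroup.orderOf_coe (⟨s, hs⟩ : (S₀ : Subgroup M))).trans hi
    -- no proper normal subgroup contains `P`
    have hnormal : ∀ M : Subgroup G, M.Normal → (P : Subgroup G) ≤ M → M = ⊤ := by
      intro M hM hPM
      by_contra hne
      obtain ⟨S, -, hS, hPS, -, hconj⟩ := huniq M hne P P hPM hPM P.2 P.2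
      have hSP : S = P := P.3 hS hPS
      refine hPn ⟨fun y hy g => ?_⟩
      rw [← hSP] at hy ⊢
      exact hconj g (by rw [Subgroup.normalizer_eq_top_iff.2 hM]; trivial) y hy
    -- the Sylow subgroup is abelian
    letI : Fintype (P : Subgroup G) := Fintype.ofFinite _
    haveI := Chars.irrFintype (P : Subgroup G)
    have hdetect : ∀ {X : Type u} [Group X] [Fintype X] (σ : Representation ℂ X (Fin n → ℂ)),
        Function.Injective σ → ∀ g : X, g ≠ 1 → ∃ ξ : IrrCharacter X,
          charDegree (ξ : X → ℂ) ≤ n ∧ (ξ : X → ℂ) g ≠ (ξ : X → ℂ) 1 := by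
      intro X _ _ σ hσ g hg
      haveI := Chars.irrFintype X
      have hc : IsCharacter X σ.character := ⟨n, σ, rfl⟩
      choose m hm using fun ξ : IrrCharacter X => Chars.inner_irr_right_nat hc ξ
      have hexp := Chars.classFun_eq_sum (Chars.isClassFunction_of_isCharacter hc)
      have hdeg : ∑ ξ : IrrCharacter X, m ξ * charDegree (ξ : X → ℂ) = n := by
        have h := congrFun hexp 1
        simp only [Finset.sum_apply, Pi.smul_apply, smul_eq_mul, hm, CharApps.deg_eq,
          Representation.char_one, Module.finrank_fin_fun] at h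
        exact_mod_cast h.symm
      by_contra hcon
      push Not at hcon
      refine hg (hσ ?_)
      rw [map_one]
      refine (Chars.ker_iff σ rfl g).1 ?_
      have h1 := congrFun hexp g
      have h2 := congrFun hexp 1
      rw [h1, h2]
      simp only [Finset.sum_apply, Pi.smul_apply, hm, smul_eq_mul]
      refine Finset.sum_congr rfl fun ξ _ => ?_
      by_cases h0 : m ξ = 0
      · rw [h0, Nat.cast_zero, zero_mul, zero_mul]
      · rw [hcon ξ]
        rw [← hdeg]
        exact (Nat.le_mul_of_pos_left _ (Nat.pos_of_ne_zero h0)).trans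
          (Finset.single_le_sum (f := fun ξ : IrrCharacter X => m ξ * charDegree (ξ : X → ℂ))
            (fun _ _ => Nat.zero_le _) (Finset.mem_univ ξ))
    have hPab : ∀ a ∈ (P : Subgroup G), ∀ b ∈ (P : Subgroup G), a * b = b * a := by
      intro a ha b hb
      by_contra hne
      set c : (P : Subgroup G) := ⟨a, ha⟩ * ⟨b, hb⟩ * ⟨a, ha⟩⁻¹ * ⟨b, hb⟩⁻¹
      have hc : c ≠ 1 := fun e => hne (by
        have e' : a * b * a⁻¹ * b⁻¹ = 1 := congrArg Subtype.val e
        rwa [mul_inv_eq_one, mul_inv_eq_iff_eq_mul] at e')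
      obtain ⟨ξ, hξn, hξ⟩ := hdetect (ρ.comp (P : Subgroup G).subtype)
        (hρ.comp (P : Subgroup G).subtype_injective) c hc
      obtain ⟨d, -, hd, hdvd⟩ := Chars.irr_degree_dvd_card ξ.2
      obtain ⟨k, hk⟩ := IsPGroup.iff_card.1 P.2
      rw [show Nat.card (P : Subgroup G) = p ^ k from hk] at hdvd
      obtain ⟨i, -, hi⟩ := (Nat.dvd_prime_pow hp.out).1 hdvd
      have hd1 : d = 1 := by
        rcases Nat.eq_zero_or_pos i with h0 | h0
        · rw [hi, h0, pow_zero]
        · exfalso
          have h1 : p ≤ d := hi ▸ Nat.le_self_pow h0.ne' p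
          rw [CharApps.deg_eq, Nat.cast_inj] at hd
          omega
      rw [hd1, Nat.cast_one] at hd
      obtain ⟨l, hl⟩ := Chars.exists_hom_of_degree_one (Chars.isCharacter_of_irr ξ.2) hd
      refine hξ ?_
      rw [hl]
      simp only [c, map_mul, map_inv, map_one, mul_comm (l ⟨a, ha⟩), mul_inv_cancel_right, mul_inv_cancel]
    -- `p` does not divide the order of the centre
    have hPZ : (P : Subgroup G) ⊓ Subgroup.center G = ⊥ := by
      by_contra hne
      obtain ⟨⟨z₀, hz₀⟩, hz₀1⟩ := Subgroup.ne_bot_iff_exists_ne_one.1 hne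
      obtain ⟨i, hi⟩ := (IsPGroup.iff_orderOf.1 P.2) ⟨z₀, hz₀.1⟩
      rw [Subgroup.orderOf_mk] at hi
      have hpz : p ∣ orderOf z₀ := by
        rcases Nat.eq_zero_or_pos i with h0 | h0
        · rw [h0, pow_zero, orderOf_eq_one_iff] at hi
          exact absurd (Subtype.ext hi) hz₀1
        · rw [hi]; exact dvd_pow_self p h0.ne'
      set z := z₀ ^ (orderOf z₀ / p)
      have hzo : orderOf z = p :=
        orderOf_pow_orderOf_div (orderOf_pos z₀).ne' hpz
      have hzc : z ∈ Subgroup.center G := Subgroup.pow_mem _ hz₀.2 _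
      obtain ⟨ξ, hξn, hξz⟩ := hdetect ρ hρ z (fun e => hp.out.one_lt.ne (by rw [← hzo, e, orderOf_one]))
      obtain ⟨d, σ, hσirr, hσ⟩ := ξ.2
      haveI := hσirr
      have hd : d = charDegree (ξ : G → ℂ) := by
        have h1 := CharApps.deg_eq ξ
        rw [← hσ, Representation.char_one, Module.finrank_fin_fun, Nat.cast_inj] at h1
        rwa [hσ] at h1
      obtain ⟨c, hc⟩ := Chars.exists_scalar_of_mem_center σ z hzc
      have hd0 : 0 < d := hd ▸ CharApps.deg_pos ξ
      have hcp : c ^ p = 1 := by
        have h1 : σ (z ^ p) = (c ^ p) • (LinearMap.id : (Fin d → ℂ) →ₗ[ℂ] (Fin d → ℂ)) := by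
          rw [map_pow, hc, smul_pow, ← Module.End.one_eq_id, one_pow]
        rw [← hzo, pow_orderOf_eq_one, map_one, hzo] at h1
        have h2 := LinearMap.congr_fun h1 (fun _ => 1)
        simpa using (congrFun h2 ⟨0, hd0⟩).symm
      have hc1 : c ≠ 1 := by
        intro e
        refine hξz ?_
        rw [← hσ, Chars.ker_iff σ rfl, hc, e, one_smul, Module.End.one_eq_id]
      have hdet : p ∣ orderOf (detHom σ) := by
        rw [← hzo]
        have hord : orderOf (detHom σ z) = p := by
          refine orderOf_eq_prime ?_ ?_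
          · rw [← map_pow, ← hzo, pow_orderOf_eq_one, map_one]
          · intro e
            have h2 := congrArg Units.val e
            rw [coe_detHom, hc, LinearMap.det_smul, LinearMap.det_id, mul_one, Units.val_one,
              Module.finrank_fin_fun] at h2
            have hoc : orderOf c = p := orderOf_eq_prime hcp hc1
            have := Nat.le_of_dvd hd0 (hoc ▸ orderOf_dvd_of_pow_eq_one h2)
            omega
        rw [hzo, ← hord]
        refine orderOf_dvd_of_pow_eq_one ?_
        rw [← MonoidHom.pow_apply, pow_orderOf_eq_one]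
        rfl
      obtain ⟨M, hMn, hMidx⟩ := Cfsg.Agent.S0855.exists_index_prime hp.out
        (hdet.trans (orderOf_dvd_natCard _))
      haveI := hMn
      have hMtop : M ≠ ⊤ := fun e => hp.out.ne_one (by rw [← hMidx, e, Subgroup.index_top])
      obtain ⟨S₀⟩ : Nonempty (Sylow p M) := inferInstance
      set R := (S₀ : Subgroup M).map M.subtype
      obtain ⟨S, hSM, hS, hRS, -, hSconj⟩ := huniq M hMtop R R (Subgroup.map_subtype_le _)
        (Subgroup.map_subtype_le _) (S₀.2.map _) (S₀.2.map _)
      haveI hSn : S.Normal := ⟨fun s hs g => hSconj g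
        (by rw [Subgroup.normalizer_eq_top_iff.2 hMn]; trivial) s hs⟩
      have hSP : S ≤ P := le_sup_left.trans_eq
        (P.3 (IsPGroup.to_sup_of_normal_left hS P.2) le_sup_right)
      have hcentral : Subgroup.centralizer (S : Set G) = ⊤ := hnormal _ inferInstance
        fun y hy => Subgroup.mem_centralizer_iff.2 fun s hs => hPab s (hSP hs) y hy
      have hScen : ∀ s ∈ S, ∀ g : G, s * g = g * s := fun s hs g =>
        Subgroup.mem_centralizer_iff.1 (hcentral.ge (Subgroup.mem_top g)) s hs
      have hburn : Subgroup.normalizer ((S₀ : Subgroup M) : Set M) ≤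
          Subgroup.centralizer ((S₀ : Subgroup M) : Set M) := fun y _ =>
        Subgroup.mem_centralizer_iff.2 fun s hs => Subtype.ext (hScen _ (hRS ⟨s, hs, rfl⟩) y)
      set K₀ := (MonoidHom.transferSylow S₀ hburn).ker
      have hK₀p : ¬ p ∣ Nat.card K₀ := MonoidHom.not_dvd_card_ker_transferSylow S₀ hburn
      have hK₀mem : ∀ y : M, ¬ p ∣ orderOf y → y ∈ K₀ := by
        intro y hy
        rw [MonoidHom.mem_ker, ← orderOf_eq_one_iff]
        obtain ⟨j, hj⟩ := (IsPGroup.iff_orderOf.1 S₀.2) (MonoidHom.transferSylow S₀ hburn y)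
        refine Nat.eq_one_of_dvd_coprimes ((hp.out.coprime_iff_not_dvd.2 hy).pow_left j) ?_
          (orderOf_map_dvd _ y)
        exact dvd_of_eq hj
      set K := K₀.map M.subtype
      have hKp : ¬ p ∣ Nat.card K := by
        rwa [Subgroup.card_map_of_injective M.subtype_injective]
      have hKconj : ∀ g : G, ∀ k ∈ K, g * k * g⁻¹ ∈ K := by
        rintro g _ ⟨k, hk, rfl⟩
        refine ⟨⟨g * k * g⁻¹, hMn.conj_mem _ k.2 g⟩, hK₀mem _ fun h => ?_, rfl⟩
        rw [Subgroup.orderOf_mk, ← MulAut.conj_apply, MulEquiv.orderOf_eq, Subgroup.orderOf_coe] at h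
        exact hK₀p (h.trans (Subgroup.orderOf_dvd_natCard K₀ hk))
      have hPM : ¬ (P : Subgroup G) ≤ M := fun h => hMtop (hnormal M hMn h)
      obtain ⟨x, hxP, hxM⟩ := SetLike.not_le_iff_exists.1 hPM
      have hxp : x ^ p ∈ S := by
        have hxpM : x ^ p ∈ M := by
          have h := pow_card_eq_one' (x := QuotientGroup.mk' M x)
          rw [← map_pow, ← Subgroup.index_eq_card, hMidx] at h
          exact (QuotientGroup.eq_one_iff _).1 h
        obtain ⟨T, hTM, hT, hxT, hST, -⟩ := huniq M hMtop (Subgroup.zpowers (x ^ p)) S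
          (Subgroup.zpowers_le.2 hxpM) hSM (P.2.to_le (Subgroup.zpowers_le.2 (Subgroup.pow_mem _ hxP p))) hS
        have hR : T.subgroupOf M = S₀ := S₀.3 (hT.comap_of_injective _ M.subtype_injective)
          fun s hs => hST (hRS ⟨s, hs, rfl⟩)
        exact hRS ⟨⟨x ^ p, hxpM⟩, hR.le (hxT (Subgroup.mem_zpowers _)), rfl⟩
      have hxK := centralizes_pPrime_subgroup ρ hρ hnp x _ K le_rfl hKp (fun k hk => hKconj x k hk)
        (fun k _ => hScen _ hxp k)
      -- hence the Sylow subgroup is central
      refine hPn ?_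
      have hMgen : M ≤ K ⊔ S := by
        intro y hy
        have htop := (MonoidHom.ker_transferSylow_isComplement' S₀ hburn).sup_eq_top
        have h2 : (⟨y, hy⟩ : M) ∈ K₀ ⊔ (S₀ : Subgroup M) := by rw [htop]; trivial
        have h3 : y ∈ (K₀ ⊔ (S₀ : Subgroup M)).map M.subtype := ⟨_, h2, rfl⟩
        rw [Subgroup.map_sup] at h3
        exact (sup_le_sup_left hRS K) h3
      have hxc : ∀ y : G, y ∈ K ⊔ S → x * y = y * x := by
        intro y hy
        have hle : K ⊔ S ≤ Subgroup.centralizer ({x} : Set G) := sup_le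
          (fun k hk => Subgroup.mem_centralizer_singleton_iff.2 (hxK k hk).symm)
          (fun s hs => Subgroup.mem_centralizer_singleton_iff.2 (hScen s hs x))
        exact (Subgroup.mem_centralizer_singleton_iff.1 (hle hy)).symm
      have hgen : M ⊔ Subgroup.zpowers x = ⊤ := by
        rw [← Subgroup.index_eq_one]
        have h := Subgroup.index_dvd_of_le (le_sup_left : M ≤ M ⊔ Subgroup.zpowers x)
        rw [hMidx] at h
        refine ((Nat.dvd_prime hp.out).1 h).resolve_right fun e => hxM ?_
        have he : M = M ⊔ Subgroup.zpowers x := Subgroup.eq_of_le_of_card_ge le_sup_left (by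
          have h1 := M.card_mul_index
          rw [← (M ⊔ Subgroup.zpowers x).card_mul_index, e, hMidx] at h1
          exact (Nat.eq_of_mul_eq_mul_right hp.out.pos h1).ge)
        rw [he]
        exact (le_sup_right : Subgroup.zpowers x ≤ M ⊔ Subgroup.zpowers x) (Subgroup.mem_zpowers x)
      have hxcen : x ∈ Subgroup.center G := Subgroup.mem_center_iff.2 fun g => by
        have hle : M ⊔ Subgroup.zpowers x ≤ Subgroup.centralizer ({x} : Set G) := sup_le
          (fun y hy => Subgroup.mem_centralizer_singleton_iff.2 (hxc y (hMgen hy)).symm)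
          (Subgroup.zpowers_le.2 (Subgroup.mem_centralizer_singleton_iff.2 rfl))
        exact Subgroup.mem_centralizer_singleton_iff.1 (hle (hgen.ge (Subgroup.mem_top g)))
      have hSx : (P : Subgroup G) ≤ Subgroup.center G := by
        intro y hy
        have h : y ∈ ((M ⊔ Subgroup.zpowers x : Subgroup G) : Set G) := by rw [hgen]; trivial
        rw [Subgroup.normal_mul] at h
        obtain ⟨m, hm, w, hw, rfl⟩ := h
        have hmP : m ∈ (P : Subgroup G) := by
          simpa using (P : Subgroup G).mul_mem hy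
            ((P : Subgroup G).inv_mem (Subgroup.zpowers_le.2 hxP hw))
        refine (Subgroup.center G).mul_mem ?_ (Subgroup.zpowers_le.2 hxcen hw)
        obtain ⟨T, hTM, hT, hmT, hST, -⟩ := huniq M hMtop (Subgroup.zpowers m) S
          (Subgroup.zpowers_le.2 hm) hSM (P.2.to_le (Subgroup.zpowers_le.2 hmP)) hS
        have hR : T.subgroupOf M = S₀ := S₀.3 (hT.comap_of_injective _ M.subtype_injective)
          fun s hs => hST (hRS ⟨s, hs, rfl⟩)
        have hmS : m ∈ S := hRS ⟨⟨m, hm⟩, hR.le (hmT (Subgroup.mem_zpowers _)), rfl⟩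
        exact Subgroup.mem_center_iff.2 fun g => (hScen m hmS g).symm
      exact ⟨fun y hy g => by rw [Subgroup.mem_center_iff.1 (hSx hy) g, mul_inv_cancel_right]; exact hy⟩
    -- isolation in centralisers
    have hcardP : p ∣ Nat.card (P : Subgroup G) := by
      obtain ⟨k, hk⟩ := IsPGroup.iff_card.1 P.2
      refine hk ▸ dvd_pow_self p fun h0 => hPn ?_
      rw [h0, pow_zero] at hk
      rw [Subgroup.eq_bot_of_card_eq _ hk]
      infer_instance
    have hone : ∀ g : G, g ∉ Subgroup.center G → ∀ a b : G,
        Subgroup.centralizer ({g} : Set G) ⊓ (P : Subgroup G).map (MulAut.conj a).toMonoidHom ≠ ⊥ →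
        Subgroup.centralizer ({g} : Set G) ⊓ (P : Subgroup G).map (MulAut.conj b).toMonoidHom ≠ ⊥ →
        (P : Subgroup G).map (MulAut.conj a).toMonoidHom =
          (P : Subgroup G).map (MulAut.conj b).toMonoidHom := by
      have hnoncen : ∀ g : G, g ∉ Subgroup.center G → Subgroup.centralizer ({g} : Set G) ≠ ⊤ :=
        fun g hg e => hg (Subgroup.mem_center_iff.2 fun h =>
          Subgroup.mem_centralizer_singleton_iff.1 (e.ge (Subgroup.mem_top h)))
      have hP_max : ∀ (a : G) (T : Subgroup G), IsPGroup p T →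
          (P : Subgroup G).map (MulAut.conj a).toMonoidHom ≤ T →
          T = (P : Subgroup G).map (MulAut.conj a).toMonoidHom := by
        intro a T hT hle
        refine (Subgroup.eq_of_le_of_card_ge hle ?_).symm
        rw [Subgroup.card_map_of_injective (f := (MulAut.conj a).toMonoidHom)
          (MulAut.conj a).injective]
        obtain ⟨Q, hQ⟩ := hT.exists_le_sylow
        refine le_trans (Nat.card_le_card_of_injective _ (Subgroup.inclusion_injective hQ)) ?_
        rw [P.card_eq_multiplicity, Q.card_eq_multiplicity]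
      have hclash : ∀ (y : G) (a c : G), y ≠ 1 → y ∈ (P : Subgroup G).map (MulAut.conj a).toMonoidHom →
          y ∈ (P : Subgroup G).map (MulAut.conj c).toMonoidHom →
          (P : Subgroup G).map (MulAut.conj a).toMonoidHom =
            (P : Subgroup G).map (MulAut.conj c).toMonoidHom := by
        intro y a c hy hya hyc
        have hyZ : y ∉ Subgroup.center G := by
          intro hz
          obtain ⟨u, hu, rfl⟩ := hya
          refine hy ?_
          have : u ∈ (P : Subgroup G) ⊓ Subgroup.center G := ⟨hu, by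
            have h := (inferInstance : (Subgroup.center G).Normal).conj_mem _ hz a⁻¹
            rwa [show a⁻¹ * (MulAut.conj a).toMonoidHom u * a⁻¹⁻¹ = u by simp [mul_assoc]] at h⟩
          rw [hPZ, Subgroup.mem_bot] at this
          rw [this, map_one]
        have hle : ∀ d : G, y ∈ (P : Subgroup G).map (MulAut.conj d).toMonoidHom →
            (P : Subgroup G).map (MulAut.conj d).toMonoidHom ≤ Subgroup.centralizer ({y} : Set G) := by
          intro d hyd w hw
          obtain ⟨u, hu, rfl⟩ := hyd
          obtain ⟨v, hv, rfl⟩ := hw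
          refine Subgroup.mem_centralizer_singleton_iff.2 ?_
          rw [← map_mul, ← map_mul, hPab v hv u hu]
        obtain ⟨T, -, hT, haT, hcT, -⟩ := huniq _ (hnoncen y hyZ) _ _ (hle a hya) (hle c hyc)
          (P.2.map _) (P.2.map _)
        rw [← hP_max a T hT haT, ← hP_max c T hT hcT]
      intro g hg a b ha hb
      obtain ⟨⟨u, hu⟩, hu1⟩ := Subgroup.ne_bot_iff_exists_ne_one.1 ha
      obtain ⟨⟨v, hv⟩, hv1⟩ := Subgroup.ne_bot_iff_exists_ne_one.1 hb
      obtain ⟨T, -, hT, huT, hvT, -⟩ := huniq _ (hnoncen g hg) (Subgroup.zpowers u) (Subgroup.zpowers v)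
        (Subgroup.zpowers_le.2 hu.1) (Subgroup.zpowers_le.2 hv.1)
        ((P.2.map _).to_le (Subgroup.zpowers_le.2 hu.2)) ((P.2.map _).to_le (Subgroup.zpowers_le.2 hv.2))
      obtain ⟨Q, hQ⟩ := hT.exists_le_sylow
      obtain ⟨c, hc⟩ := MulAction.exists_smul_eq G P Q
      have hcQ : (P : Subgroup G).map (MulAut.conj c).toMonoidHom = Q := by
        rw [← hc]; rfl
      rw [hclash u a c (fun e => hu1 (Subtype.ext e)) hu.2
          (hcQ ▸ hQ (huT (Subgroup.mem_zpowers u))),
        hclash v b c (fun e => hv1 (Subtype.ext e)) hv.2 (hcQ ▸ hQ (hvT (Subgroup.mem_zpowers v)))]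
    -- a nonlinear constituent gives the contradiction
    obtain ⟨ξ, hξn, hξ1⟩ : ∃ ξ : IrrCharacter G, charDegree (ξ : G → ℂ) ≤ n ∧ (ξ : G → ℂ) 1 ≠ 1 := by
      by_contra hcon
      push Not at hcon
      refine hPn ⟨fun y hy g => ?_⟩
      have hc : g * y * g⁻¹ * y⁻¹ = 1 := by
        by_contra hne
        obtain ⟨ξ, hξn, hξ⟩ := hdetect ρ hρ _ hne
        obtain ⟨l, hl⟩ := Chars.exists_hom_of_degree_one (Chars.isCharacter_of_irr ξ.2) (hcon ξ hξn)
        refine hξ ?_
        rw [hl]
        simp only [map_mul, map_inv, map_one, mul_comm (l g), mul_inv_cancel_right, mul_inv_cancel]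
      rw [mul_inv_eq_one] at hc
      rw [hc]; exact hy
    letI : Fintype ((P : Subgroup G) : Subgroup G) := Fintype.ofFinite _
    have hb := isolated_degree_bound hPab hPZ hone ξ.2 hξ1 hnormal
    rw [CharApps.deg_eq, Complex.natCast_re] at hb
    have hbn : Nat.card (P : Subgroup G) < (1 + n) ^ 2 := by
      have h1 : ((1 : ℝ) + charDegree (ξ : G → ℂ)) ^ 2 ≤ (1 + (n : ℝ)) ^ 2 := by
        gcongr
      exact_mod_cast lt_of_lt_of_le hb h1
    rcases hhyp with h | ⟨-, h⟩
    · have := Nat.le_of_dvd Nat.card_pos hcardP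
      rw [add_comm 1 n] at hbn
      omega
    · by_cases hp2 : p ^ 2 ∣ Nat.card (P : Subgroup G)
      · have := Nat.le_of_dvd Nat.card_pos hp2
        have h2 : (1 + n) ^ 2 < p ^ 2 := Nat.pow_lt_pow_left (by omega) two_ne_zero
        omega
      · refine hPn ?_
        have hnd : ¬ p ^ 2 ∣ Nat.card (⊤ : Subgroup G) := fun hd => hp2 (by
          rw [Subgroup.card_top] at hd
          exact P.pow_dvd_card_of_pow_dvd_card hd)
        have hQ : ((P : Subgroup G).map (Subgroup.topEquiv (G := G)).symm.toMonoidHom).Normal :=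
          h ⊤ hnd (P.mapSurjective (f := (Subgroup.topEquiv (G := G)).symm.toMonoidHom)
            (Subgroup.topEquiv (G := G)).symm.surjective)
        have := hQ.comap (Subgroup.topEquiv (G := G)).symm.toMonoidHom
        rwa [Subgroup.comap_map_eq_self_of_injective Subgroup.topEquiv.symm.injective] at this

end CfsgLib.CharsMore
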