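import Cfsg.Agent.Lib.CharsMore.MonomialAbelian
import Cfsg.Agent.Lib.CharsMore.SmallDegreeSylow
import Cfsg.Agent.Lib.CharsMore.KernelDegree
import Cfsg.Agent.Lib.CharApps.Galois
import Cfsg.Agent.Lib.Transfer.CentralTransfer
import Mathlib

/-!
# Blichfeldt: large primes in linear groups

In a finite group with a faithful character of degree `n`, the Sylow subgroups for the primes
exceeding `n + 1` can be chosen to generate an abelian Hall subgroup.
-/

set_option linter.unusedSectionVars false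
set_option linter.style.haveILetI false

namespace CfsgLib.CharsMore.Blichfeldt

open Cfsg
open scoped ComplexConjugate commutatorElement

universe u

variable {G : Type u} [Group G] [Fintype G]

/-- A character of degree less than `p - 1` is not constant on the powers of an element of order
`p`, unless this element lies in its kernel. -/
lemma exists_pow_ne {χ : G → ℂ} (hχ : IsCharacter G χ) {d p : ℕ} [Fact p.Prime] (hd : χ 1 = d)
    (hdp : d + 1 < p) {x : G} (hx : orderOf x = p) (hne : χ x ≠ χ 1) :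
    ∃ j : ℕ, Nat.Coprime j p ∧ χ (x ^ j) ≠ χ x := by
  classical
  by_contra hcon
  push Not at hcon
  set C := Subgroup.zpowers x
  let _ := Fintype.ofFinite C
  have hcard : Nat.card C = p := by rw [Nat.card_zpowers, hx]
  haveI : IsCyclic C := isCyclic_of_prime_card hcard
  have hcomm : ∀ a b : C, a * b = b * a := fun a b => IsMulCommutative.is_comm.comm a b
  have hCne : commutator C ≠ ⊤ := by
    rw [(commutator_eq_bot_iff_center_eq_top C).2 (Subgroup.eq_top_iff' _ |>.2 fun a =>
      Subgroup.mem_center_iff.2 fun b => hcomm b a)]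
    intro h
    have := congrArg (fun K : Subgroup C => Nat.card K) h
    simp only [Subgroup.card_bot, Subgroup.card_top, hcard] at this
    exact (Fact.out : p.Prime).one_lt.ne this
  obtain ⟨lam, hlam⟩ := Chars.exists_nontrivial_hom hCne
  have hres : IsCharacter C (fun c : C => χ c) := Chars.isCharacter_restrict C hχ
  obtain ⟨m, hm⟩ := Chars.inner_char_nat hres Chars.isCharacter_one
  obtain ⟨t, ht⟩ := Chars.inner_char_nat hres
    (Chars.isCharacter_of_irr (Chars.isIrrCharacter_linear lam))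
  have hconst : ∀ c : C, χ c = if c = 1 then χ 1 else χ x := by
    intro c
    split_ifs with h
    · simp [h]
    · obtain ⟨j, hj⟩ : ∃ j : ℕ, x ^ j = (c : G) :=
        mem_powers_iff_mem_zpowers.2 c.2
      rw [← hj]
      refine hcon j (Nat.Coprime.symm ((Fact.out : p.Prime).coprime_iff_not_dvd.2 fun hdvd => h ?_))
      apply Subtype.ext
      rw [← hj, orderOf_dvd_iff_pow_eq_one.1 (hx ▸ hdvd)]
      rfl
  have hval : ∀ f : C → ℂ, (∑ c : C, χ c * f c) = χ x * (∑ c : C, f c) + (χ 1 - χ x) * f 1 := by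
    intro f
    rw [Finset.mul_sum, ← Finset.add_sum_erase _ _ (Finset.mem_univ (1 : C)),
      ← Finset.add_sum_erase Finset.univ (fun c => χ x * f c) (Finset.mem_univ (1 : C)),
      Finset.sum_congr rfl fun c hc => by rw [hconst c, if_neg (Finset.ne_of_mem_erase hc)],
      hconst 1, if_pos rfl]
    ring
  have hsum : ∑ c : C, conj (lam c : ℂ) = 0 := by
    rw [← map_sum]
    have := sum_hom_units_eq_zero ((Units.coeHom ℂ).comp lam) fun h => hlam (MonoidHom.ext fun c =>
      Units.ext (DFunLike.congr_fun h c))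
    exact (congrArg conj this).trans (map_zero _)
  rw [Chars.inner_def, hval, hcard] at hm ht
  simp only [map_one, Finset.sum_const, Finset.card_univ, nsmul_eq_mul, mul_one,
    ← Nat.card_eq_fintype_card, hcard] at hm
  simp only [hsum, map_one, Units.val_one, mul_one, mul_zero, zero_add] at ht
  rw [hd, inv_mul_eq_iff_eq_mul₀ (Nat.cast_ne_zero.2 (Fact.out : p.Prime).ne_zero)] at hm ht
  have hne' : χ x ≠ (d : ℂ) := hd ▸ hne
  have key : (d : ℂ) = (m : ℂ) + ((p : ℂ) - 1) * t := by
    have hp0 : (p : ℂ) ≠ 0 := Nat.cast_ne_zero.2 (Fact.out : p.Prime).ne_zero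
    apply mul_left_cancel₀ hp0
    linear_combination ((p : ℂ) - 1) * ht + hm
  have ht0 : t = 0 := by
    have hp1 : 1 ≤ p := (Fact.out : p.Prime).one_le
    have hnat : d = m + (p - 1) * t := by
      have : (d : ℂ) = ((m + (p - 1) * t : ℕ) : ℂ) := by push_cast [Nat.cast_sub hp1]; exact key
      exact_mod_cast this
    rcases Nat.eq_zero_or_pos t with h | h
    · exact h
    · have := Nat.le_mul_of_pos_right (p - 1) h
      omega
  rw [ht0, Nat.cast_zero, mul_zero, sub_eq_zero] at ht
  exact hne' ht.symm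

/-- A Galois conjugate of an irreducible differing from it only on `p`-singular elements. -/
lemma exists_conjugate (ψ : IrrCharacter G) {d p : ℕ} [hp : Fact p.Prime]
    (hd : (ψ : G → ℂ) 1 = d) (hdp : d + 1 < p) {x : G} (hx : orderOf x = p)
    (hne : (ψ : G → ℂ) x ≠ (ψ : G → ℂ) 1) :
    ∃ ψ' : IrrCharacter G, ψ' ≠ ψ ∧
      ∀ g : G, ¬ p ∣ orderOf g → (ψ' : G → ℂ) g = (ψ : G → ℂ) g := by
  obtain ⟨j, hj, hne'⟩ := exists_pow_ne (Chars.isCharacter_of_irr ψ.2) hd hdp hx hne
  set N := Nat.card G with hN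
  haveI : NeZero N := ⟨Nat.card_pos.ne'⟩
  have hN0 : N ≠ 0 := Nat.card_pos.ne'
  set a := N.factorization p with ha
  set r := N / p ^ a with hr
  have hco : Nat.Coprime (p ^ a) r := Nat.coprime_ordCompl hp.out hN0 |>.pow_left a
  obtain ⟨k, hk1, hk2⟩ := Nat.chineseRemainder hco j 1
  have hmul : p ^ a * r = N := Nat.ordProj_mul_ordCompl_eq_self N p
  have hpa : p ∣ p ^ a := by
    refine dvd_pow_self p fun h0 => ?_
    have : p ∣ N := hx ▸ orderOf_dvd_natCard x
    exact absurd this (fun h => by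
      have := hp.out.factorization_pos_of_dvd hN0 h
      omega)
  have hkp : k ≡ j [MOD p] := hk1.of_dvd hpa
  have hk : Nat.Coprime k N := by
    rw [← hmul]
    refine Nat.Coprime.mul_right (Nat.Coprime.pow_right _ ?_) ?_
    · rw [Nat.coprime_iff_gcd_eq_one, hkp.gcd_eq]
      exact hj
    · rw [Nat.coprime_iff_gcd_eq_one, hk2.gcd_eq, Nat.gcd_one_left]
  obtain ⟨σ, hσ⟩ := CharApps.exists_galois_pow N hk
  have happ : ∀ g : G, (CharApps.galoisIrr σ ψ : G → ℂ) g = (ψ : G → ℂ) (g ^ k) := fun g => by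
    rw [CharApps.galoisIrr_apply, CharApps.galois_apply σ hσ (Chars.isCharacter_of_irr ψ.2) g
      pow_card_eq_one']
  refine ⟨CharApps.galoisIrr σ ψ, fun h => hne' ?_, fun g hg => ?_⟩
  · have h1 := happ x
    rw [h] at h1
    rw [h1]
    exact congrArg _ (pow_eq_pow_iff_modEq.2 (hx ▸ hkp.symm))
  · rw [happ]
    refine congrArg _ ?_
    conv_rhs => rw [← pow_one g]
    refine pow_eq_pow_iff_modEq.2 (hk2.of_dvd ?_)
    have h1 : orderOf g ∣ p ^ a * r := hmul ▸ orderOf_dvd_natCard g
    exact ((hp.out.coprime_iff_not_dvd.2 hg).pow_left a).symm.dvd_of_dvd_mul_left h1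

/-- There are commuting elements of orders `p` and `q`. -/
lemma exists_commute {χ : G → ℂ} (hχ : IsCharacter G χ) (hfaith : ∀ g : G, χ g = χ 1 → g = 1)
    {n p q : ℕ} [Fact p.Prime] [Fact q.Prime] (hn : χ 1 = n) (_hpq : p ≠ q) (hp : n + 1 < p)
    (hq : n + 1 < q) (hpG : p ∣ Nat.card G) (hqG : q ∣ Nat.card G) :
    ∃ x y : G, orderOf x = p ∧ orderOf y = q ∧ x * y = y * x := by
  classical
  obtain ⟨x, hx⟩ := exists_prime_orderOf_dvd_card' p hpG
  obtain ⟨y, hy⟩ := exists_prime_orderOf_dvd_card' q hqG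
  by_cases hcomm : x * y = y * x
  · exact ⟨x, y, hx, hy, hcomm⟩
  let _ := Chars.irrFintype G
  have hexp := char_eq_sum_multNat hχ
  -- some constituent is nontrivial at both
  obtain ⟨ψ, hm, hψx, hψy⟩ : ∃ ψ : IrrCharacter G, multNat χ (ψ : G → ℂ) ≠ 0 ∧
      (ψ : G → ℂ) x ≠ (ψ : G → ℂ) 1 ∧ (ψ : G → ℂ) y ≠ (ψ : G → ℂ) 1 := by
    by_contra hcon
    push Not at hcon
    apply hcomm
    refine (commutatorElement_eq_one_iff_mul_comm.1 (hfaith _ ?_))
    rw [hexp]
    simp only [Finset.sum_apply, Pi.smul_apply, smul_eq_mul]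
    refine Finset.sum_congr rfl fun ψ _ => ?_
    by_cases h0 : multNat χ (ψ : G → ℂ) = 0
    · simp [h0]
    congr 1
    haveI := CharApps.charKer_normal ψ
    have hK : ⁅x, y⁆ ∈ CharApps.charKer ψ := by
      by_cases hxK : (ψ : G → ℂ) x = (ψ : G → ℂ) 1
      · exact Subgroup.commutator_le_left (CharApps.charKer ψ) ⊤
          (Subgroup.commutator_mem_commutator (CharApps.mem_charKer.2 hxK) (Subgroup.mem_top y))
      · exact Subgroup.commutator_le_right ⊤ (CharApps.charKer ψ)
          (Subgroup.commutator_mem_commutator (Subgroup.mem_top x)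
            (CharApps.mem_charKer.2 (hcon ψ h0 hxK)))
    exact hK
  have hdn : charDegree (ψ : G → ℂ) ≤ n := by
    have h := congrFun hexp 1
    simp only [Finset.sum_apply, Pi.smul_apply, smul_eq_mul, hn, CharApps.deg_eq] at h
    have h' : n = ∑ φ : IrrCharacter G, multNat χ (φ : G → ℂ) * charDegree (φ : G → ℂ) := by
      exact_mod_cast h
    rw [h']
    exact le_trans (Nat.le_mul_of_pos_left _ (Nat.pos_of_ne_zero hm))
      (Finset.single_le_sum (f := fun φ : IrrCharacter G =>
        multNat χ (φ : G → ℂ) * charDegree (φ : G → ℂ)) (fun _ _ => Nat.zero_le _)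
        (Finset.mem_univ ψ))
  obtain ⟨α, hα, hαp⟩ := exists_conjugate ψ (CharApps.deg_eq ψ) (by omega) hx hψx
  obtain ⟨β, hβ, hβq⟩ := exists_conjugate ψ (CharApps.deg_eq ψ) (by omega) hy hψy
  by_contra hcon
  push Not at hcon
  have hzero : ∀ g : G, ((α : G → ℂ) - (ψ : G → ℂ)) g * conj (((β : G → ℂ) - (ψ : G → ℂ)) g) = 0 := by
    intro g
    by_cases hgp : p ∣ orderOf g
    · by_cases hgq : q ∣ orderOf g
      · exfalso
        have h1 := orderOf_pow_orderOf_div (orderOf_pos g).ne' hgp
        have h2 := orderOf_pow_orderOf_div (orderOf_pos g).ne' hgq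
        exact hcon _ _ h1 h2 (((Commute.refl g).pow_pow _ _).eq)
      · simp [hβq g hgq]
    · simp [hαp g hgp]
  have h0 : classInner ((α : G → ℂ) - (ψ : G → ℂ)) ((β : G → ℂ) - (ψ : G → ℂ)) = 0 := by
    rw [Chars.inner_def, Finset.sum_eq_zero (fun g _ => hzero g), mul_zero]
  rw [Chars.inner_sub_left, Chars.inner_sub_right, Chars.inner_sub_right, Chars.inner_irr_self,
    Chars.inner_irr_ne hα, Chars.inner_irr_ne (Ne.symm hβ), Chars.inner_irr] at h0
  split_ifs at h0 <;> norm_num at h0

/-- A subgroup of `p`-power order and index prime to `p`. -/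
def IsFull (p : ℕ) (P M : Subgroup G) : Prop :=
  P ≤ M ∧ IsPGroup p P ∧ ¬ p ∣ P.relIndex M

lemma exists_full (p : ℕ) [Fact p.Prime] (M : Subgroup G) : ∃ P : Subgroup G, IsFull p P M := by
  obtain ⟨S⟩ : Nonempty (Sylow p M) := inferInstance
  refine ⟨(S : Subgroup M).map M.subtype, Subgroup.map_subtype_le _, S.2.map _, ?_⟩
  rw [Subgroup.relIndex, Subgroup.subgroupOf,
    Subgroup.comap_map_eq_self_of_injective M.subtype_injective]
  exact S.not_dvd_index

lemma IsFull.not_dvd_index {p : ℕ} [hp : Fact p.Prime] {P M : Subgroup G} (h : IsFull p P M)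
    (hM : ¬ p ∣ M.index) : ¬ p ∣ P.index := by
  rw [← Subgroup.relIndex_mul_index h.1]
  exact hp.out.not_dvd_mul h.2.2 hM

/-- Full subgroups absorb `p`-elements up to conjugacy. -/
lemma exists_conj_mem {p : ℕ} [Fact p.Prime] {P : Subgroup G} (hP : IsPGroup p P)
    (hidx : ¬ p ∣ P.index) {x : G} (hx : IsPGroup p (Subgroup.zpowers x)) :
    ∃ g : G, g⁻¹ * x * g ∈ P := by
  obtain ⟨Q, hQ⟩ := hx.exists_le_sylow
  obtain ⟨g, hg⟩ := MulAction.exists_smul_eq G (hP.toSylow hidx) Q
  refine ⟨g, ?_⟩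
  have hxQ : x ∈ (Q : Subgroup G) := hQ (Subgroup.mem_zpowers x)
  rw [← hg, Sylow.coe_subgroup_smul] at hxQ
  obtain ⟨y, hy, rfl⟩ := Subgroup.mem_pointwise_smul_iff_inv_smul_mem.1 hxQ |> fun h =>
    (⟨_, h, rfl⟩ : ∃ y ∈ (hP.toSylow hidx : Subgroup G), y = (MulAut.conj g)⁻¹ • x)
  simpa [MulAut.smul_def] using hy

lemma isPGroup_zpowers {p a : ℕ} [Fact p.Prime] {x : G} (hx : orderOf x = p ^ a) :
    IsPGroup p (Subgroup.zpowers x) :=
  IsPGroup.of_card (n := a) (by rw [Nat.card_zpowers, hx])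

/-- In degree less than `p`, subgroups of `p`-power order are abelian. -/
lemma abelian_of_small {χ : G → ℂ} (hχ : IsCharacter G χ) (hfaith : ∀ g : G, χ g = χ 1 → g = 1)
    {n p : ℕ} [hp : Fact p.Prime] (hn : χ 1 = n) (hnp : n < p) {P : Subgroup G}
    (hP : IsPGroup p P) : ∀ a ∈ P, ∀ b ∈ P, a * b = b * a := by
  let _ := Fintype.ofFinite P
  haveI := hP.isNilpotent
  obtain ⟨A, hA, hdvd⟩ := exists_abelian_index_dvd_factorial (G := P)
    (Chars.isCharacter_restrict P hχ) (fun g hg => Subtype.ext (hfaith _ hg)) hn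
  obtain ⟨i, hi⟩ := IsPGroup.iff_card.1 hP
  have h1 : A.index ∣ p ^ i := hi ▸ Subgroup.index_dvd_card A
  have h2 : Nat.Coprime (p ^ i) n.factorial :=
    (hp.out.coprime_iff_not_dvd.2 fun h => by
      rw [hp.out.dvd_factorial] at h; omega).pow_left i
  have h3 : A.index = 1 := Nat.eq_one_of_dvd_one (h2 ▸ Nat.dvd_gcd h1 hdvd)
  rw [Subgroup.index_eq_one] at h3
  intro a ha b hb
  exact congrArg Subtype.val (hA ⟨a, ha⟩ (h3 ▸ Subgroup.mem_top _) ⟨b, hb⟩ (h3 ▸ Subgroup.mem_top _))

/-- Elements of `p`-power order normalising a `q`-subgroup centralise it. -/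
lemma commute_of_normalizes {n : ℕ} (ρ : Representation ℂ G (Fin n → ℂ))
    (hρ : Function.Injective ρ) {p : ℕ} [hp : Fact p.Prime] (hnp : n + 1 < p) {Q : Subgroup G}
    (hQ : ¬ p ∣ Nat.card Q) : ∀ (a : ℕ) (x : G), orderOf x ∣ p ^ a →
      x ∈ Subgroup.normalizer (Q : Set G) → ∀ k ∈ Q, x * k = k * x := by
  intro a
  induction a with
  | zero =>
    intro x hx _ k _
    rw [pow_zero, Nat.dvd_one, orderOf_eq_one_iff] at hx
    simp [hx]
  | succ a ih =>
    intro x hx hxN
    refine centralizes_pPrime_subgroup ρ hρ hnp x (Nat.card Q) Q le_rfl hQ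
      (fun k hk => (Subgroup.mem_normalizer_iff.1 hxN k).1 hk) (ih (x ^ p) ?_ (pow_mem hxN p))
    rw [orderOf_dvd_iff_pow_eq_one, ← pow_mul, ← pow_succ']
    exact orderOf_dvd_iff_pow_eq_one.1 hx

/-- The Sylow subgroups for two large primes can be chosen to commute. -/
theorem exists_commuting_sylow {n p q : ℕ} [Fact p.Prime] [Fact q.Prime] (hpq : p ≠ q)
    (hp : n + 1 < p) (hq : n + 1 < q) : ∀ (N : ℕ) (G : Type u) [Group G] [Fintype G],
    Nat.card G ≤ N → ∀ (ρ : Representation ℂ G (Fin n → ℂ)), Function.Injective ρ →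
    ∃ P Q : Subgroup G, IsPGroup p P ∧ ¬ p ∣ P.index ∧ IsPGroup q Q ∧ ¬ q ∣ Q.index ∧
      ∀ a ∈ P, ∀ b ∈ Q, a * b = b * a := by
  intro N
  induction N with
  | zero => intro G _ _ h; exact absurd h (Nat.card_pos (α := G)).not_ge
  | succ N ih =>
    intro G _ _ hN ρ hρ
    classical
    have hfaith : ∀ g : G, ρ.character g = ρ.character 1 → g = 1 := fun g hg => hρ (by
      rw [map_one]; exact (Chars.ker_iff ρ rfl g).1 hg)
    have hχ : IsCharacter G ρ.character := ⟨n, ρ, rfl⟩
    have hχ1 : ρ.character 1 = (n : ℂ) := by simp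
    have down : ∀ M : Subgroup G, M ≠ ⊤ → ∃ P Q : Subgroup G, IsFull p P M ∧ IsFull q Q M ∧
        ∀ a ∈ P, ∀ b ∈ Q, a * b = b * a := by
      intro M hM
      let _ := Fintype.ofFinite M
      have hlt : Nat.card M < Nat.card G := lt_of_le_of_ne (Subgroup.card_le_card_group M)
        fun e => hM (Subgroup.eq_top_of_card_eq M e)
      obtain ⟨P, Q, hP, hPi, hQ, hQi, hc⟩ := ih M (by omega) (ρ.comp M.subtype)
        (hρ.comp M.subtype_injective)
      refine ⟨P.map M.subtype, Q.map M.subtype, ⟨Subgroup.map_subtype_le _, hP.map _, ?_⟩,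
        ⟨Subgroup.map_subtype_le _, hQ.map _, ?_⟩, ?_⟩
      · rwa [Subgroup.relIndex, Subgroup.subgroupOf,
          Subgroup.comap_map_eq_self_of_injective M.subtype_injective]
      · rwa [Subgroup.relIndex, Subgroup.subgroupOf,
          Subgroup.comap_map_eq_self_of_injective M.subtype_injective]
      · rintro _ ⟨a, ha, rfl⟩ _ ⟨b, hb, rfl⟩
        exact congrArg M.subtype (hc a ha b hb)
    -- a central element of order `r` gives a normal subgroup of `r`-power index
    have hcentral : ∀ (r s : ℕ) [Fact r.Prime] [Fact s.Prime], r ≠ s → n + 1 < r →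
        (∀ M : Subgroup G, M ≠ ⊤ → ∃ R S : Subgroup G, IsFull r R M ∧ IsFull s S M ∧
          ∀ a ∈ R, ∀ b ∈ S, a * b = b * a) →
        ∀ z : G, orderOf z = r → z ∈ Subgroup.center G →
        ∃ R S : Subgroup G, IsPGroup r R ∧ ¬ r ∣ R.index ∧ IsPGroup s S ∧ ¬ s ∣ S.index ∧
          ∀ a ∈ R, ∀ b ∈ S, a * b = b * a := by
      intro r s _ _ hrs hnr hdown z hz hzc
      obtain ⟨R₀⟩ : Nonempty (Sylow r G) := inferInstance
      obtain ⟨Z, hZ⟩ := (isPGroup_zpowers (a := 1) (by rw [hz, pow_one])).exists_le_sylow (p := r)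
      have hZc : IsMulCommutative (Z : Subgroup G) := ⟨⟨fun a b => Subtype.ext
        (abelian_of_small hχ hfaith hχ1 (by omega) Z.2 a a.2 b b.2)⟩⟩
      have hzG : z ∉ commutator G := by
        intro hzG
        have := Transfer.inf_commutator_inf_center_eq_bot (Z : Subgroup G) hZc
          Z.card_coprime_index
        have hz1 : z ∈ (⊥ : Subgroup G) :=
          this ▸ (show z ∈ (Z : Subgroup G) ⊓ commutator G ⊓ Subgroup.center G from
            ⟨⟨hZ (Subgroup.mem_zpowers z), hzG⟩, hzc⟩)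
        rw [Subgroup.mem_bot.1 hz1, orderOf_one] at hz
        exact (Fact.out : r.Prime).one_lt.ne hz
      set A := G ⧸ commutator G
      set m := Nat.card A / r ^ (Nat.card A).factorization r with hm
      let f : G →* Abelianization G := (powMonoidHom m).comp Abelianization.of
      have hK : f.ker ≠ ⊤ := by
        intro htop
        have hf : z ∈ f.ker := htop ▸ Subgroup.mem_top z
        apply hzG
        rw [← Abelianization.ker_of, MonoidHom.mem_ker]
        have h1 : (Abelianization.of z) ^ r = 1 := by rw [← map_pow, ← hz, pow_orderOf_eq_one, map_one]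
        have h2 : (Abelianization.of z) ^ m = 1 := hf
        have hco : Nat.Coprime r m := Nat.coprime_ordCompl (Fact.out : r.Prime) Nat.card_pos.ne'
        simpa [hco.gcd_eq_one] using pow_gcd_eq_one.2 ⟨h1, h2⟩
      have hrange : IsPGroup r f.range := by
        rintro ⟨_, g, rfl⟩
        refine ⟨(Nat.card A).factorization r, Subtype.ext ?_⟩
        show (Abelianization.of g ^ m) ^ r ^ _ = 1
        rw [← pow_mul, hm, mul_comm, Nat.ordProj_mul_ordCompl_eq_self]
        exact pow_card_eq_one'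
      obtain ⟨i, hi⟩ := IsPGroup.iff_card.1 hrange
      have hidx : f.ker.index = r ^ i := by rw [Subgroup.index_ker, hi]
      obtain ⟨R, S, hR, hS, hc⟩ := hdown f.ker hK
      have hSi : ¬ s ∣ S.index := hS.not_dvd_index fun h => hrs.symm
        ((Nat.prime_dvd_prime_iff_eq (Fact.out : s.Prime) (Fact.out : r.Prime)).1
          ((Fact.out : s.Prime).dvd_of_dvd_pow (hidx ▸ h)))
      set M := Subgroup.normalizer (S : Set G) with hM
      have htop : M ⊔ f.ker = ⊤ := KernelDegree.frattini_argument hS.1 hS.2.1 hS.2.2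
      have hRM : R ≤ M := fun a ha => Subgroup.mem_normalizer_iff.2 fun b => by
        constructor
        · intro hb
          rwa [hc a ha b hb, mul_inv_cancel_right]
        · intro hb
          have h3 := hc a ha _ hb
          have e : a * b * a⁻¹ = b := by
            have := congrArg (fun t => a⁻¹ * t) h3
            simp [mul_assoc] at this
            simpa [mul_assoc] using this
          rwa [e] at hb
      have hMi : ¬ r ∣ M.index := by
        intro hd
        apply hR.2.2
        have h1 : M.index = M.relIndex f.ker := by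
          have h2 := Subgroup.relIndex_mul_index (inf_le_left : M ⊓ f.ker ≤ M)
          have h3 := Subgroup.relIndex_mul_index (inf_le_right : M ⊓ f.ker ≤ f.ker)
          rw [Subgroup.inf_relIndex_left] at h2
          rw [Subgroup.inf_relIndex_right] at h3
          have h4 : f.ker.index = f.ker.relIndex M := by
            rw [← Subgroup.relIndex_top_right, ← htop, Subgroup.relIndex_sup_right]
          rw [h4, ← h2] at h3
          exact mul_left_cancel₀ (Subgroup.index_ne_zero_of_finite (H := f.ker.subgroupOf M))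
            (by rw [mul_comm _ (M.relIndex f.ker)]; exact h3.symm)
        rw [h1] at hd
        exact hd.trans (Subgroup.relIndex_dvd_of_le_left f.ker hRM)
      obtain ⟨T, hT⟩ := exists_full r M
      refine ⟨T, S, hT.2.1, hT.not_dvd_index hMi, hS.2.1, hSi, fun a ha b hb => ?_⟩
      obtain ⟨j, hj⟩ := IsPGroup.iff_orderOf.1 hT.2.1 ⟨a, ha⟩
      refine commute_of_normalizes ρ hρ hnr ?_ j a ?_ (hT.1 ha) b hb
      · intro hd
        obtain ⟨l, hl⟩ := IsPGroup.iff_card.1 hS.2.1
        exact hrs ((Nat.prime_dvd_prime_iff_eq (Fact.out : r.Prime) (Fact.out : s.Prime)).1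
          ((Fact.out : r.Prime).dvd_of_dvd_pow (hl ▸ hd)))
      · rw [← hj, Subgroup.orderOf_mk]
    obtain ⟨P₀, -, hP₀, hP₀i⟩ := exists_full p (⊤ : Subgroup G)
    obtain ⟨Q₀, -, hQ₀, hQ₀i⟩ := exists_full q (⊤ : Subgroup G)
    rw [Subgroup.relIndex_top_right] at hP₀i hQ₀i
    by_cases hpG : p ∣ Nat.card G
    swap
    · refine ⟨⊥, Q₀, IsPGroup.of_bot, ?_, hQ₀, hQ₀i, fun a ha b _ => ?_⟩
      · rwa [Subgroup.index_bot]
      · rw [Subgroup.mem_bot.1 ha, one_mul, mul_one]
    by_cases hqG : q ∣ Nat.card G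
    swap
    · refine ⟨P₀, ⊥, hP₀, hP₀i, IsPGroup.of_bot, ?_, fun a _ b hb => ?_⟩
      · rwa [Subgroup.index_bot]
      · rw [Subgroup.mem_bot.1 hb, one_mul, mul_one]
    obtain ⟨x, y, hx, hy, hxy⟩ := exists_commute hχ hfaith hχ1 hpq hp hq hpG hqG
    by_cases hxc : x ∈ Subgroup.center G
    · exact hcentral p q hpq hp down x hx hxc
    by_cases hyc : y ∈ Subgroup.center G
    · obtain ⟨S, R, hS, hSi, hR, hRi, hc⟩ := hcentral q p hpq.symm hq (fun M hM => by
        obtain ⟨R, S, h1, h2, h3⟩ := down M hM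
        exact ⟨S, R, h2, h1, fun a ha b hb => (h3 b hb a ha).symm⟩) y hy hyc
      exact ⟨R, S, hR, hRi, hS, hSi, fun a ha b hb => (hc b hb a ha).symm⟩
    have hne : ∀ w : G, w ∉ Subgroup.center G → Subgroup.centralizer ({w} : Set G) ≠ ⊤ :=
      fun w hw h => hw (Subgroup.mem_center_iff.2 fun g =>
        Subgroup.mem_centralizer_singleton_iff.1 (h ▸ Subgroup.mem_top g))
    obtain ⟨P₁, Q₁, hP₁, hQ₁, hc₁⟩ := down _ (hne x hxc)
    -- the centraliser of `x` contains a full `p`-subgroup
    have hCx : ¬ p ∣ (Subgroup.centralizer ({x} : Set G)).index := by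
      obtain ⟨g, hg⟩ := exists_conj_mem hP₀ hP₀i (isPGroup_zpowers (a := 1) (by rw [hx, pow_one]))
      have hab := abelian_of_small hχ hfaith hχ1 (by omega) hP₀
      have hle : P₀.map (MulAut.conj g).toMonoidHom ≤ Subgroup.centralizer ({x} : Set G) := by
        rintro _ ⟨a, ha, rfl⟩
        refine Subgroup.mem_centralizer_singleton_iff.2 ?_
        have := congrArg (fun t => g * t * g⁻¹) (hab a ha _ hg)
        simpa [mul_assoc] using this
      intro hd
      have hd' := hd.trans (Subgroup.index_dvd_of_le hle)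
      rw [Subgroup.index_map_of_bijective (MulAut.conj _).bijective] at hd'
      exact hP₀i hd'
    have hP₁i := hP₁.not_dvd_index hCx
    -- `y` commutes with a full `p`-subgroup
    have hyC : y ∈ Subgroup.centralizer ({x} : Set G) :=
      Subgroup.mem_centralizer_singleton_iff.2 hxy.symm
    obtain ⟨c, hc⟩ := exists_conj_mem (G := Subgroup.centralizer ({x} : Set G))
      (P := Q₁.subgroupOf _) (hQ₁.2.1.of_equiv (Subgroup.subgroupOfEquivOfLe hQ₁.1).symm) hQ₁.2.2
      (x := ⟨y, hyC⟩) (isPGroup_zpowers (a := 1) (by rw [Subgroup.orderOf_mk, hy, pow_one]))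
    have hcy : (c : G)⁻¹ * y * c ∈ Q₁ := hc
    have hCy : ¬ p ∣ (Subgroup.centralizer ({y} : Set G)).index := by
      have hle : P₁.map (MulAut.conj (c : G)).toMonoidHom ≤
          Subgroup.centralizer ({y} : Set G) := by
        rintro _ ⟨a, ha, rfl⟩
        refine Subgroup.mem_centralizer_singleton_iff.2 ?_
        have := congrArg (fun t => (c : G) * t * (c : G)⁻¹) (hc₁ a ha _ hcy)
        simpa [mul_assoc] using this
      intro hd
      have hd' := hd.trans (Subgroup.index_dvd_of_le hle)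
      rw [Subgroup.index_map_of_bijective (MulAut.conj _).bijective] at hd'
      exact hP₁i hd'
    obtain ⟨P₂, Q₂, hP₂, hQ₂, hc₂⟩ := down _ (hne y hyc)
    have hCy' : ¬ q ∣ (Subgroup.centralizer ({y} : Set G)).index := by
      obtain ⟨g, hg⟩ := exists_conj_mem hQ₀ hQ₀i (isPGroup_zpowers (a := 1) (by rw [hy, pow_one]))
      have hab := abelian_of_small hχ hfaith hχ1 (by omega) hQ₀
      have hle : Q₀.map (MulAut.conj g).toMonoidHom ≤ Subgroup.centralizer ({y} : Set G) := by
        rintro _ ⟨a, ha, rfl⟩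
        refine Subgroup.mem_centralizer_singleton_iff.2 ?_
        have := congrArg (fun t => g * t * g⁻¹) (hab a ha _ hg)
        simpa [mul_assoc] using this
      intro hd
      have hd' := hd.trans (Subgroup.index_dvd_of_le hle)
      rw [Subgroup.index_map_of_bijective (MulAut.conj _).bijective] at hd'
      exact hQ₀i hd'
    exact ⟨P₂, Q₂, hP₂.2.1, hP₂.not_dvd_index hCy, hQ₂.2.1, hQ₂.not_dvd_index hCy', hc₂⟩

/-- Blichfeldt's theorem: an abelian Hall subgroup for the primes larger than `n + 1`. -/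
theorem exists_abelian_hall {n : ℕ} : ∀ (N : ℕ) (G : Type u) [Group G] [Fintype G],
    Nat.card G ≤ N → ∀ (ρ : Representation ℂ G (Fin n → ℂ)), Function.Injective ρ →
    ∃ A : Subgroup G, (∀ x ∈ A, ∀ y ∈ A, x * y = y * x) ∧
      (∀ r : ℕ, r.Prime → r ∣ Nat.card A → n + 1 < r) ∧
      ∀ r : ℕ, r.Prime → r ∣ A.index → r ≤ n + 1 := by
  intro N
  induction N with
  | zero => intro G _ _ h; exact absurd h (Nat.card_pos (α := G)).not_ge
  | succ N ih =>
    intro G _ _ hN ρ hρ
    classical
    have hfaith : ∀ g : G, ρ.character g = ρ.character 1 → g = 1 := fun g hg => hρ (by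
      rw [map_one]; exact (Chars.ker_iff ρ rfl g).1 hg)
    have hχ : IsCharacter G ρ.character := ⟨n, ρ, rfl⟩
    have hχ1 : ρ.character 1 = (n : ℂ) := by simp
    by_cases hall : ∀ r : ℕ, ∀ [Fact r.Prime], n + 1 < r → ∀ P : Sylow r G,
        (P : Subgroup G) ≤ Subgroup.center G
    · let A : Subgroup G :=
        { carrier := {z | z ∈ Subgroup.center G ∧ ∀ r : ℕ, r.Prime → r ∣ orderOf z → n + 1 < r}
          one_mem' := ⟨one_mem _, fun r hr h => absurd (orderOf_one (G := G) ▸ h) hr.not_dvd_one⟩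
          mul_mem' := fun {a b} ha hb => ⟨mul_mem ha.1 hb.1, fun r hr h => by
            have hc : Commute a b := (Subgroup.mem_center_iff.1 hb.1 a)
            have h' := (Nat.Prime.dvd_mul hr).1 (h.trans hc.orderOf_mul_dvd_mul_orderOf)
            exact h'.elim (ha.2 r hr) (hb.2 r hr)⟩
          inv_mem' := fun {a} ha => ⟨inv_mem ha.1, by rw [orderOf_inv]; exact ha.2⟩ }
      refine ⟨A, fun x hx y _ => (Subgroup.mem_center_iff.1 hx.1 y).symm, fun r hr hd => ?_,
        fun r hr hd => ?_⟩
      · haveI := Fact.mk hr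
        obtain ⟨z, hz⟩ := exists_prime_orderOf_dvd_card' r hd
        refine z.2.2 r hr ?_
        rw [Subgroup.orderOf_coe, hz]
      · by_contra hlt
        push Not at hlt
        haveI := Fact.mk hr
        obtain ⟨P⟩ : Nonempty (Sylow r G) := inferInstance
        have hPA : (P : Subgroup G) ≤ A := fun z hz => by
          refine ⟨hall r hlt P hz, fun s hs hd' => ?_⟩
          obtain ⟨i, hi⟩ := IsPGroup.iff_orderOf.1 P.2 ⟨z, hz⟩
          rw [Subgroup.orderOf_mk] at hi
          rw [(Nat.prime_dvd_prime_iff_eq hs hr).1 (hs.dvd_of_dvd_pow (hi ▸ hd'))]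
          exact hlt
        exact P.not_dvd_index (hd.trans (Subgroup.index_dvd_of_le hPA))
    push Not at hall
    obtain ⟨p, hpF, hp, P, hPc⟩ := hall
    haveI := hpF
    set C := Subgroup.centralizer ((P : Subgroup G) : Set G) with hC
    have hCne : C ≠ ⊤ := fun h => hPc (fun z hz => Subgroup.mem_center_iff.2 fun g =>
      ((Subgroup.mem_centralizer_iff.1 (h ▸ Subgroup.mem_top g : g ∈ C)) z hz).symm)
    let _ := Fintype.ofFinite C
    have hlt : Nat.card C < Nat.card G := lt_of_le_of_ne (Subgroup.card_le_card_group C)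
      fun e => hCne (Subgroup.eq_top_of_card_eq C e)
    have hCi : ∀ r : ℕ, r.Prime → r ∣ C.index → r ≤ n + 1 := by
      intro r hr hd
      by_contra hlt'
      push Not at hlt'
      haveI := Fact.mk hr
      rcases eq_or_ne r p with rfl | hne
      · refine P.not_dvd_index (hd.trans (Subgroup.index_dvd_of_le ?_))
        exact fun a ha => Subgroup.mem_centralizer_iff.2 fun b hb =>
          abelian_of_small hχ hfaith hχ1 (by omega) P.2 b hb a ha
      · obtain ⟨P', Q, hP', hP'i, -, hQi, hc⟩ := exists_commuting_sylow (n := n) (p := p) (q := r)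
          hne.symm hp hlt' (Nat.card G) G le_rfl ρ hρ
        obtain ⟨g, hg⟩ := MulAction.exists_smul_eq G (hP'.toSylow hP'i) P
        have hle : Q.map (MulAut.conj g).toMonoidHom ≤ C := by
          rintro _ ⟨b, hb, rfl⟩
          refine Subgroup.mem_centralizer_iff.2 fun a ha => ?_
          rw [← hg, Sylow.coe_subgroup_smul] at ha
          obtain ⟨a', ha', rfl⟩ := ha
          have := congrArg (fun t => g * t * g⁻¹) (hc a' ha' b hb)
          simpa [MulAut.smul_def, mul_assoc] using this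
        have hd' := hd.trans (Subgroup.index_dvd_of_le hle)
        rw [Subgroup.index_map_of_bijective (MulAut.conj _).bijective] at hd'
        exact hQi hd'
    obtain ⟨A, hA, hAp, hAi⟩ := ih C (by omega) (ρ.comp C.subtype) (hρ.comp C.subtype_injective)
    refine ⟨A.map C.subtype, ?_, fun r hr hd => hAp r hr ?_, fun r hr hd => ?_⟩
    · rintro _ ⟨x, hx, rfl⟩ _ ⟨y, hy, rfl⟩
      exact congrArg C.subtype (hA x hx y hy)
    · rwa [Subgroup.card_map_of_injective C.subtype_injective] at hd
    · rw [Subgroup.index_map_subtype] at hd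
      exact ((Nat.Prime.dvd_mul hr).1 hd).elim (hAi r hr) (hCi r hr)

end CfsgLib.CharsMore.Blichfeldt
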