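import Mathlib

/-!
# Integer vectors with the Gram matrix of the cyclic TI differences

A grid `v i j` of integer vectors of squared norm `3`, such that two vectors in the same row or
column have inner product `1`, the others `0`, and all have the same nonzero weighted sum,
is given by `a i + y j + z i j` for orthonormal signed unit vectors.
-/

set_option linter.unusedSectionVars false

namespace CfsgLib.CharsMore.Grid

variable {ι : Type*} [Fintype ι] [DecidableEq ι]

/-- The support. -/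
def supp (v : ι → ℤ) : Finset ι := Finset.univ.filter fun x => v x ≠ 0

lemma mem_supp {v : ι → ℤ} {x : ι} : x ∈ supp v ↔ v x ≠ 0 := by simp [supp]

lemma sq_entry {v : ι → ℤ} (hv : ∑ x, v x * v x = 3) (x : ι) :
    v x = 0 ∨ v x = 1 ∨ v x = -1 := by
  have h : v x * v x ≤ 3 := hv ▸
    Finset.single_le_sum (fun i _ => mul_self_nonneg (v i)) (Finset.mem_univ x)
  have h5 : -1 ≤ v x := by nlinarith
  have h6 : v x ≤ 1 := by nlinarith
  omega

lemma mul_self_eq_one {v : ι → ℤ} (hv : ∑ x, v x * v x = 3) {x : ι} (hx : v x ≠ 0) :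
    v x * v x = 1 := by
  rcases sq_entry hv x with h | h | h <;> simp_all

lemma eq_of_mul_nonneg {v w : ι → ℤ} (hv : ∑ x, v x * v x = 3) (hw : ∑ x, w x * w x = 3) {x : ι}
    (h : 0 ≤ v x * w x) (h1 : v x ≠ 0) (h2 : w x ≠ 0) : v x = w x := by
  rcases sq_entry hv x with e | e | e <;> rcases sq_entry hw x with e' | e' | e' <;> simp_all

lemma card_supp {v : ι → ℤ} (hv : ∑ x, v x * v x = 3) : (supp v).card = 3 := by
  have h : ∑ x, v x * v x = ∑ x ∈ supp v, (1 : ℤ) := by
    rw [supp, Finset.sum_filter]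
    refine Finset.sum_congr rfl fun x _ => ?_
    rcases sq_entry hv x with h | h | h <;> simp [h]
  rw [hv, Finset.sum_const] at h
  have : ((supp v).card : ℤ) = 3 := by simpa using h.symm
  exact_mod_cast this

/-- No opposite overlap. -/
lemma mul_nonneg_of_inner_one {d : ι → ℤ} (hd : ∀ x, 0 < d x) {v w : ι → ℤ}
    (hv : ∑ x, v x * v x = 3) (hw : ∑ x, w x * w x = 3) (hvw : ∑ x, v x * w x = 1)
    (hdeg : ∑ x, v x * d x = ∑ x, w x * d x) (x : ι) : 0 ≤ v x * w x := by
  by_contra hlt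
  push Not at hlt
  have h4 : ∑ y, (v y - w y) * (v y - w y) = 4 := by
    have e : ∀ y, (v y - w y) * (v y - w y) = v y * v y + w y * w y - 2 * (v y * w y) := fun y => by
      ring
    simp only [e, Finset.sum_sub_distrib, Finset.sum_add_distrib, ← Finset.mul_sum, hv, hw, hvw]
    norm_num
  have hx : (v x - w x) * (v x - w x) = 4 := by
    rcases sq_entry hv x with h | h | h <;> rcases sq_entry hw x with h' | h' | h' <;>
      simp [h, h'] at hlt ⊢
  have hz : ∀ y, y ≠ x → v y = w y := by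
    intro y hy
    have hle : ∑ z ∈ ({x, y} : Finset ι), (v z - w z) * (v z - w z) ≤ 4 := h4 ▸
      Finset.sum_le_sum_of_subset_of_nonneg (Finset.subset_univ _)
        (fun z _ _ => mul_self_nonneg _)
    rw [Finset.sum_pair hy.symm, hx] at hle
    have : (v y - w y) * (v y - w y) = 0 := le_antisymm (by linarith) (mul_self_nonneg _)
    exact sub_eq_zero.1 (mul_self_eq_zero.1 this)
  have h0 : ∑ y, (v y - w y) * d y = 0 := by
    simp only [sub_mul, Finset.sum_sub_distrib, hdeg, sub_self]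
  rw [Finset.sum_eq_single x (fun y _ hy => by rw [hz y hy, sub_self, zero_mul])
    (fun h => absurd (Finset.mem_univ x) h)] at h0
  rcases mul_eq_zero.1 h0 with h | h
  · rw [h] at hx; norm_num at hx
  · exact (hd x).ne' h

/-- Two vectors with inner product one meet in exactly one point, with the same sign. -/
lemma exists_meet {d : ι → ℤ} (hd : ∀ x, 0 < d x) {v w : ι → ℤ} (hv : ∑ x, v x * v x = 3)
    (hw : ∑ x, w x * w x = 3) (hvw : ∑ x, v x * w x = 1)
    (hdeg : ∑ x, v x * d x = ∑ x, w x * d x) :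
    ∃ x, v x ≠ 0 ∧ w x = v x ∧ ∀ y, v y ≠ 0 → w y ≠ 0 → y = x := by
  have hnn := mul_nonneg_of_inner_one hd hv hw hvw hdeg
  obtain ⟨x, hx⟩ : ∃ x, v x * w x ≠ 0 := by
    by_contra h
    push Not at h
    simp [h] at hvw
  have hone : ∀ y, v y ≠ 0 → w y ≠ 0 → v y * w y = 1 := fun y h h' => by
    have := hnn y
    rcases sq_entry hv y with e | e | e <;> rcases sq_entry hw y with e' | e' | e' <;> simp_all
  have hx1 := hone x (left_ne_zero_of_mul hx) (right_ne_zero_of_mul hx)
  refine ⟨x, left_ne_zero_of_mul hx, ?_, fun y h h' => ?_⟩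
  · rcases sq_entry hv x with e | e | e <;> rcases sq_entry hw x with e' | e' | e' <;> simp_all
  · by_contra hne
    have hle : ∑ z ∈ ({x, y} : Finset ι), v z * w z ≤ 1 := hvw ▸
      Finset.sum_le_sum_of_subset_of_nonneg (Finset.subset_univ _) (fun z _ _ => hnn z)
    rw [Finset.sum_pair (Ne.symm hne), hx1, hone y h h'] at hle
    norm_num at hle

lemma arith_third {A B0 B1 B2 C0 C1 C2 : ℤ} (e0 : A + B0 + C0 = 0) (e1 : A + B1 + C1 = 0)
    (e2 : A + B2 + C2 = 1) (e3 : B0 + B1 + B2 = 0)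
    (hc : |A| + |B0| + |B1| + |B2| + |C0| + |C1| + |C2| ≤ 3) (p0 : 0 ≤ B0) (q0 : C0 ≤ 0)
    (le : B0 - C0 ≤ 1) (p1 : B1 ≤ 0) (q1 : 0 ≤ C1) (eq : B0 - B1 + C1 = 1) : False := by
  have := abs_cases A
  have := abs_cases B2
  have := abs_cases C2
  rw [abs_of_nonneg p0, abs_of_nonpos q0, abs_of_nonpos p1, abs_of_nonneg q1] at hc
  omega

lemma arith_top {A B0 B1 B2 C0 C1 C2 : ℤ} (e0 : A + B0 + C0 = 0) (e1 : A + B1 + C1 = 0)
    (e2 : A + B2 + C2 = 0) (e3 : B0 + B1 + B2 = 1)
    (hc : |A| + |B0| + |B1| + |B2| + |C0| + |C1| + |C2| ≤ 3) :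
    A = 0 ∧ ((B0 = 1 ∧ C0 = -1 ∧ B1 = 0 ∧ C1 = 0 ∧ B2 = 0 ∧ C2 = 0) ∨
      (B0 = 0 ∧ C0 = 0 ∧ B1 = 1 ∧ C1 = -1 ∧ B2 = 0 ∧ C2 = 0) ∨
      (B0 = 0 ∧ C0 = 0 ∧ B1 = 0 ∧ C1 = 0 ∧ B2 = 1 ∧ C2 = -1)) := by
  have hA : A = 0 := by
    have u0 := abs_add_le B0 C0
    have u1 := abs_add_le B1 C1
    have u2 := abs_add_le B2 C2
    rw [show B0 + C0 = -A by linarith, abs_neg] at u0
    rw [show B1 + C1 = -A by linarith, abs_neg] at u1
    rw [show B2 + C2 = -A by linarith, abs_neg] at u2
    have := abs_cases A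
    omega
  subst hA
  rw [show C0 = -B0 by linarith, show C1 = -B1 by linarith, show C2 = -B2 by linarith] at *
  simp only [abs_neg, abs_zero] at hc
  have := abs_cases B0
  have := abs_cases B1
  have := abs_cases B2
  refine ⟨rfl, ?_⟩
  omega

lemma arith_second {A B0 B1 B2 C0 C1 C2 : ℤ} (e0 : A + B0 + C0 = 1) (e1 : A + B1 + C1 = 0)
    (e2 : A + B2 + C2 = 0) (e3 : B0 + B1 + B2 = 0)
    (hc : |A| + |B0| + |B1| + |B2| + |C0| + |C1| + |C2| ≤ 3) (p0 : 0 ≤ B0) (q0 : C0 ≤ 0)
    (le : B0 - C0 ≤ 1)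
    (heq : |A| + |B0| + |B1| + |B2| + |C0| + |C1| + |C2| = 3 → B0 - C0 = 1) :
    (A = 0 ∧ B0 = 1 ∧ C0 = 0 ∧ B1 = -1 ∧ C1 = 1 ∧ B2 = 0 ∧ C2 = 0) ∨
      (A = 0 ∧ B0 = 1 ∧ C0 = 0 ∧ B1 = 0 ∧ C1 = 0 ∧ B2 = -1 ∧ C2 = 1) := by
  rw [abs_of_nonneg p0, abs_of_nonpos q0] at hc heq
  have u1 := abs_add_le B1 C1
  have u2 := abs_add_le B2 C2
  rw [show B1 + C1 = -A by linarith, abs_neg] at u1
  rw [show B2 + C2 = -A by linarith, abs_neg] at u2
  have hA : A = 0 := by
    have := abs_cases A
    omega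
  subst hA
  rw [show C1 = -B1 by linarith, show C2 = -B2 by linarith] at hc ⊢
  simp only [abs_zero, abs_neg] at hc
  have := abs_cases B1
  have := abs_cases B2
  omega

/-- The configuration with a triple point is impossible. -/
lemma no_triple_point (A : Fin 3 → ℤ) (B C : Fin 3 → Fin 3 → ℤ) (A' : ℤ) (B' C' : Fin 3 → ℤ)
    (e : ∀ j k, A j + B j k + C j k = if j = k then 1 else 0)
    (e3 : ∀ j, B j 0 + B j 1 + B j 2 = 0)
    (e' : ∀ k, A' + B' k + C' k = 0) (e3' : B' 0 + B' 1 + B' 2 = 1)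
    (hc : ∀ j, |A j| + |B j 0| + |B j 1| + |B j 2| + |C j 0| + |C j 1| + |C j 2| ≤ 3)
    (hc' : |A'| + |B' 0| + |B' 1| + |B' 2| + |C' 0| + |C' 1| + |C' 2| ≤ 3)
    (hp : ∀ j k, 0 ≤ B' k * B j k ∧ 0 ≤ C' k * C j k)
    (hle : ∀ j, A' * A j + (B' 0 * B j 0 + B' 1 * B j 1 + B' 2 * B j 2) +
      (C' 0 * C j 0 + C' 1 * C j 1 + C' 2 * C j 2) ≤ 1)
    (heq : ∀ j, |A j| + |B j 0| + |B j 1| + |B j 2| + |C j 0| + |C j 1| + |C j 2| = 3 →
      A' * A j + (B' 0 * B j 0 + B' 1 * B j 1 + B' 2 * B j 2) +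
      (C' 0 * C j 0 + C' 1 * C j 1 + C' 2 * C j 2) = 1)
    (hp2 : ∀ j l, j ≠ l → ∀ k, 0 ≤ B j k * B l k ∧ 0 ≤ C j k * C l k)
    (heq2 : ∀ j l, j ≠ l →
      |A j| + |B j 0| + |B j 1| + |B j 2| + |C j 0| + |C j 1| + |C j 2| = 3 →
      A j * A l + (B j 0 * B l 0 + B j 1 * B l 1 + B j 2 * B l 2) +
      (C j 0 * C l 0 + C j 1 * C l 1 + C j 2 * C l 2) = 1) : False := by
  have key : ∀ k o p : Fin 3, k ≠ o → k ≠ p → o ≠ p → A' = 0 → B' k = 1 → C' k = -1 →
      B' o = 0 → C' o = 0 → B' p = 0 → C' p = 0 →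
      (∀ f : Fin 3 → ℤ, f 0 + f 1 + f 2 = f k + f o + f p) → False := by
    intro k o p hko hkp hop hA hBk hCk hBo hCo hBp hCp hsum
    have s1 : ∀ j, |A j| + |B j k| + |B j o| + |B j p| + |C j k| + |C j o| + |C j p| =
        |A j| + |B j 0| + |B j 1| + |B j 2| + |C j 0| + |C j 1| + |C j 2| := fun j => by
      linarith [hsum (fun i => |B j i|), hsum (fun i => |C j i|)]
    have s2 : ∀ j, A' * A j + (B' 0 * B j 0 + B' 1 * B j 1 + B' 2 * B j 2) +
        (C' 0 * C j 0 + C' 1 * C j 1 + C' 2 * C j 2) = B j k - C j k := fun j => by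
      have h1 := hsum fun i => B' i * B j i
      have h2 := hsum fun i => C' i * C j i
      simp only [hA, hBk, hCk, hBo, hCo, hBp, hCp] at h1 h2 ⊢
      linarith
    have p0 : ∀ j, 0 ≤ B j k := fun j => by simpa [hBk] using (hp j k).1
    have q0 : ∀ j, C j k ≤ 0 := fun j => by simpa [hCk] using (hp j k).2
    have third : ∀ o p : Fin 3, k ≠ o → k ≠ p → o ≠ p →
        (∀ f : Fin 3 → ℤ, f 0 + f 1 + f 2 = f k + f o + f p) →
        A k = 0 → B k k = 1 → C k k = 0 → B k o = -1 → C k o = 1 → B k p = 0 → C k p = 0 →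
        False := by
      intro o p hko hkp hop hsum a bk ck bo co bp cp
      have t1 : |A p| + |B p k| + |B p o| + |B p p| + |C p k| + |C p o| + |C p p| ≤ 3 := by
        linarith [hsum (fun i => |B p i|), hsum (fun i => |C p i|), hc p]
      have t2 := heq2 k p hkp (by
        have h1 := hsum fun i => |B k i|
        have h2 := hsum fun i => |C k i|
        simp only [bk, ck, bo, co, bp, cp] at h1 h2
        rw [a]
        norm_num at h1 h2 ⊢
        linarith)
      have h1 := hsum fun i => B k i * B p i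
      have h2 := hsum fun i => C k i * C p i
      simp only [a, bk, ck, bo, co, bp, cp] at h1 h2 t2
      refine arith_third (by simpa [Ne.symm hkp] using e p k) (by simpa [Ne.symm hop] using e p o)
        (by simpa using e p p) (by linarith [hsum (B p), e3 p]) t1 (p0 p) (q0 p)
        (s2 p ▸ hle p) ?_ ?_ (by linarith)
      · simpa [bo] using (hp2 k p hkp o).1
      · simpa [co] using (hp2 k p hkp o).2
    rcases arith_second (by simpa using e k k) (by simpa [hko] using e k o)
      (by simpa [hkp] using e k p) (by linarith [hsum (B k), e3 k])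
      (by linarith [s1 k, hc k]) (p0 k) (q0 k) (s2 k ▸ hle k)
      (fun h => s2 k ▸ heq k ((s1 k).symm.trans h))
      with ⟨a, bk, ck, bo, co, bp, cp⟩ | ⟨a, bk, ck, bo, co, bp, cp⟩
    · exact third o p hko hkp hop hsum a bk ck bo co bp cp
    · exact third p o hkp hko hop.symm (fun f => by linarith [hsum f]) a bk ck bp cp bo co
  obtain ⟨hA, h | h | h⟩ := arith_top (e' 0) (e' 1) (e' 2) e3' hc'
  · obtain ⟨a, b, c, d, x, y⟩ := h
    exact key 0 1 2 (by decide) (by decide) (by decide) hA a b c d x y fun f => rfl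
  · obtain ⟨a, b, c, d, x, y⟩ := h
    exact key 1 0 2 (by decide) (by decide) (by decide) hA c d a b x y fun f => by ring
  · obtain ⟨a, b, c, d, x, y⟩ := h
    exact key 2 0 1 (by decide) (by decide) (by decide) hA x y a b c d fun f => by ring

/-- Four vectors of a row, with a second row available, have a common point. -/
lemma four_common {d : ι → ℤ} (hd : ∀ x, 0 < d x) (v w : Fin 4 → ι → ℤ)
    (hv : ∀ k, ∑ x, v k x * v k x = 3) (hw : ∀ k, ∑ x, w k x * w k x = 3)
    (hvv : ∀ k l, k ≠ l → ∑ x, v k x * v l x = 1) (hww : ∀ k l, k ≠ l → ∑ x, w k x * w l x = 1)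
    (hvw : ∀ k l, ∑ x, v k x * w l x = if k = l then 1 else 0)
    (hdv : ∀ k l, ∑ x, v k x * d x = ∑ x, v l x * d x)
    (hdw : ∀ k l, ∑ x, w k x * d x = ∑ x, w l x * d x) :
    ∃ a, ∀ k, v k a ≠ 0 := by
  classical
  by_contra hno
  push Not at hno
  choose P hP0 hPeq hPu using fun k l (h : k ≠ l) =>
    exists_meet hd (hv k) (hv l) (hvv k l h) (hdv k l)
  have hP1 : ∀ k l (h : k ≠ l), v l (P k l h) ≠ 0 := fun k l h => by rw [hPeq k l h]; exact hP0 k l h
  by_cases htri : ∃ a k l o, k ≠ l ∧ k ≠ o ∧ l ≠ o ∧ v k a ≠ 0 ∧ v l a ≠ 0 ∧ v o a ≠ 0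
  · obtain ⟨a, k, l, o, hkl, hko, hlo, hka, hla, hoa⟩ := htri
    obtain ⟨m, hm⟩ := hno a
    have hmk : m ≠ k := fun h => hka (h ▸ hm)
    have hml : m ≠ l := fun h => hla (h ▸ hm)
    have hmo : m ≠ o := fun h => hoa (h ▸ hm)
    let e : Fin 3 → Fin 4 := ![k, l, o]
    have he : Function.Injective e := by
      intro i i' h
      fin_cases i <;> fin_cases i' <;> simp_all [e, Ne.symm hkl, Ne.symm hko, Ne.symm hlo]
    have hem : ∀ i, e i ≠ m := by intro i; fin_cases i <;> simp [e, hmk.symm, hml.symm, hmo.symm]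
    have hea : ∀ i, v (e i) a ≠ 0 := by intro i; fin_cases i <;> simp [e, hka, hla, hoa]
    let b : Fin 3 → ι := fun i => P (e i) m (hem i)
    have hbe : ∀ i, v (e i) (b i) ≠ 0 := fun i => hP0 _ _ (hem i)
    have hbm : ∀ i, v m (b i) ≠ 0 := fun i => hP1 _ _ (hem i)
    have hab : ∀ i, b i ≠ a := fun i h => hbm i (by rw [h]; exact hm)
    have hpair : ∀ i i', i ≠ i' → ∀ y, v (e i) y ≠ 0 → v (e i') y ≠ 0 → y = a := fun i i' h y h1 h2 =>
      (hPu _ _ (he.ne h) y h1 h2).trans (hPu _ _ (he.ne h) a (hea i) (hea i')).symm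
    have hbinj : Function.Injective b := fun i i' h => by
      by_contra hne
      exact hab i (hpair i i' hne _ (hbe i) (h ▸ hbe i'))
    have hc_ex : ∀ i, ∃ c, supp (v (e i)) = {a, b i, c} ∧ c ≠ a ∧ c ≠ b i := by
      intro i
      have hsub : ({a, b i} : Finset ι) ⊆ supp (v (e i)) := by
        intro x hx
        rcases Finset.mem_insert.1 hx with rfl | hx
        · exact mem_supp.2 (hea i)
        · rw [Finset.mem_singleton.1 hx]; exact mem_supp.2 (hbe i)
      have hcard : (supp (v (e i)) \ {a, b i}).card = 1 := by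
        rw [Finset.card_sdiff_of_subset hsub, card_supp (hv _), Finset.card_pair (hab i).symm]
      obtain ⟨c, hc⟩ := Finset.card_eq_one.1 hcard
      have hcm : c ∈ supp (v (e i)) \ {a, b i} := hc ▸ Finset.mem_singleton_self c
      rw [Finset.mem_sdiff, Finset.mem_insert, Finset.mem_singleton, not_or] at hcm
      refine ⟨c, ?_, hcm.2.1, hcm.2.2⟩
      rw [← Finset.sdiff_union_of_subset hsub, hc]
      ext x; simp; tauto
    choose c hc hca hcb using hc_ex
    have hce : ∀ i, v (e i) (c i) ≠ 0 := fun i => mem_supp.1 (by rw [hc i]; simp)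
    have hcm : ∀ i, v m (c i) = 0 := fun i => by
      by_contra h
      exact hcb i (hPu _ _ (hem i) _ (hce i) h)
    have hbc : ∀ i i', b i ≠ c i' := fun i i' h => hbm i (by rw [h]; exact hcm i')
    have hcinj : Function.Injective c := fun i i' h => by
      by_contra hne
      exact hca i (hpair i i' hne _ (hce i) (h ▸ hce i'))
    have hsm : supp (v m) = Finset.univ.image b := by
      refine (Finset.eq_of_subset_of_card_le ?_ ?_).symm
      · intro x hx
        obtain ⟨i, -, rfl⟩ := Finset.mem_image.1 hx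
        exact mem_supp.2 (hbm i)
      · rw [card_supp (hv m), Finset.card_image_of_injective _ hbinj]; simp
    -- coordinates of a vector of the second row
    let cA : (ι → ℤ) → ℤ := fun u => v (e 0) a * u a
    let cB : (ι → ℤ) → Fin 3 → ℤ := fun u i => v m (b i) * u (b i)
    let cC : (ι → ℤ) → Fin 3 → ℤ := fun u i => v (e i) (c i) * u (c i)
    have hsame : ∀ i, v (e i) a = v (e 0) a := fun i => by
      rcases eq_or_ne i 0 with rfl | h
      · rfl
      · exact eq_of_mul_nonneg (hv _) (hv _)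
          (mul_nonneg_of_inner_one hd (hv _) (hv _) (hvv _ _ (he.ne h)) (hdv _ _) a) (hea i) (hea 0)
    have hline : ∀ i (u : ι → ℤ), ∑ x, v (e i) x * u x = cA u + cB u i + cC u i := by
      intro i u
      rw [← Finset.sum_subset (Finset.subset_univ (supp (v (e i))))
        (fun x _ hx => by rw [mem_supp, not_not] at hx; rw [hx, zero_mul]), hc i,
        Finset.sum_insert (by simp [(hab i).symm, (hca i).symm]),
        Finset.sum_pair (hcb i).symm]
      show v (e i) a * u a + (v (e i) (b i) * u (b i) + v (e i) (c i) * u (c i)) =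
        v (e 0) a * u a + v m (b i) * u (b i) + v (e i) (c i) * u (c i)
      rw [hsame i, show v m (b i) = v (e i) (b i) from hPeq _ _ (hem i)]
      ring
    have htop : ∀ u : ι → ℤ, ∑ x, v m x * u x = cB u 0 + cB u 1 + cB u 2 := by
      intro u
      rw [← Finset.sum_subset (Finset.subset_univ (supp (v m)))
        (fun x _ hx => by rw [mem_supp, not_not] at hx; rw [hx, zero_mul]), hsm,
        Finset.sum_image (fun i _ i' _ h => hbinj h), Fin.sum_univ_three]
    set S : Finset ι := insert a (Finset.univ.image b ∪ Finset.univ.image c) with hS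
    have hSsum : ∀ f : ι → ℤ, ∑ x ∈ S, f x =
        f a + (f (b 0) + f (b 1) + f (b 2)) + (f (c 0) + f (c 1) + f (c 2)) := by
      intro f
      rw [hS, Finset.sum_insert, Finset.sum_union, Finset.sum_image (fun i _ i' _ h => hbinj h),
        Finset.sum_image (fun i _ i' _ h => hcinj h), Fin.sum_univ_three, Fin.sum_univ_three,
        ← add_assoc]
      · rw [Finset.disjoint_left]
        intro x hx hx'
        obtain ⟨i, -, rfl⟩ := Finset.mem_image.1 hx
        obtain ⟨i', -, h⟩ := Finset.mem_image.1 hx'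
        exact hbc i i' h.symm
      · simp only [Finset.mem_union, Finset.mem_image, Finset.mem_univ, true_and, not_or,
          not_exists]
        exact ⟨hab, hca⟩
    have hA1 : v (e 0) a * v (e 0) a = 1 := mul_self_eq_one (hv _) (hea 0)
    have hB1 : ∀ i, v m (b i) * v m (b i) = 1 := fun i => mul_self_eq_one (hv _) (hbm i)
    have hC1 : ∀ i, v (e i) (c i) * v (e i) (c i) = 1 := fun i => mul_self_eq_one (hv _) (hce i)
    have hprod : ∀ u u' : ι → ℤ, (∑ x ∈ S, u x * u' x) = cA u * cA u' +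
        (cB u 0 * cB u' 0 + cB u 1 * cB u' 1 + cB u 2 * cB u' 2) +
        (cC u 0 * cC u' 0 + cC u 1 * cC u' 1 + cC u 2 * cC u' 2) := by
      intro u u'
      rw [hSsum]
      simp only [cA, cB, cC]
      linear_combination (-(u a * u' a)) * hA1 - (u (b 0) * u' (b 0)) * hB1 0 -
        (u (b 1) * u' (b 1)) * hB1 1 - (u (b 2) * u' (b 2)) * hB1 2 -
        (u (c 0) * u' (c 0)) * hC1 0 - (u (c 1) * u' (c 1)) * hC1 1 -
        (u (c 2) * u' (c 2)) * hC1 2
    have habs : ∀ z t : ℤ, (z = 0 ∨ z = 1 ∨ z = -1) → t * t = 1 → |t * z| = z * z := by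
      intro z t hz ht
      have h1 : |t| = 1 := by
        have h := abs_mul_abs_self t
        nlinarith [abs_nonneg t]
      rcases hz with rfl | rfl | rfl <;> simp [abs_mul, h1]
    have hcount : ∀ u : ι → ℤ, ∑ x, u x * u x = 3 →
        (|cA u| + |cB u 0| + |cB u 1| + |cB u 2| + |cC u 0| + |cC u 1| + |cC u 2| =
          ∑ x ∈ S, u x * u x) ∧
        |cA u| + |cB u 0| + |cB u 1| + |cB u 2| + |cC u 0| + |cC u 1| + |cC u 2| ≤ 3 := by
      intro u hu
      have h1 : |cA u| + |cB u 0| + |cB u 1| + |cB u 2| + |cC u 0| + |cC u 1| + |cC u 2| =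
          ∑ x ∈ S, u x * u x := by
        rw [hSsum]
        simp only [cA, cB, cC, habs _ _ (sq_entry hu _) hA1, habs _ _ (sq_entry hu _) (hB1 _),
          habs _ _ (sq_entry hu _) (hC1 _)]
        ring
      exact ⟨h1, h1 ▸ hu ▸ Finset.sum_le_sum_of_subset_of_nonneg (Finset.subset_univ _)
        (fun z _ _ => mul_self_nonneg _)⟩
    have hmeet : ∀ j l, j ≠ l →
        (∀ i, 0 ≤ cB (w j) i * cB (w l) i ∧ 0 ≤ cC (w j) i * cC (w l) i) ∧
        (∑ x ∈ S, w j x * w l x ≤ 1) ∧
        (|cA (w j)| + |cB (w j) 0| + |cB (w j) 1| + |cB (w j) 2| + |cC (w j) 0| + |cC (w j) 1| +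
          |cC (w j) 2| = 3 → ∑ x ∈ S, w j x * w l x = 1) := by
      intro j l hjl
      have hnn := mul_nonneg_of_inner_one hd (hw j) (hw l) (hww j l hjl) (hdw j l)
      refine ⟨fun i => ⟨?_, ?_⟩, (hww j l hjl) ▸ Finset.sum_le_sum_of_subset_of_nonneg
        (Finset.subset_univ _) (fun z _ _ => hnn z), fun h3 => ?_⟩
      · simp only [cB]
        nlinarith [hnn (b i), hB1 i]
      · simp only [cC]
        nlinarith [hnn (c i), hC1 i]
      · rw [(hcount _ (hw j)).1] at h3
        have h0 : ∀ x ∉ S, w j x = 0 := by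
          intro x hx
          by_contra hx0
          have : ∑ z ∈ insert x S, w j z * w j z ≤ 3 := (hw j) ▸
            Finset.sum_le_sum_of_subset_of_nonneg (Finset.subset_univ _)
              (fun z _ _ => mul_self_nonneg _)
          rw [Finset.sum_insert hx, h3, mul_self_eq_one (hw j) hx0] at this
          norm_num at this
        rw [← hww j l hjl]
        exact Finset.sum_subset (Finset.subset_univ _) fun x _ hx => by rw [h0 x hx, zero_mul]
    refine no_triple_point (fun j => cA (w (e j))) (fun j => cB (w (e j))) (fun j => cC (w (e j)))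
      (cA (w m)) (cB (w m)) (cC (w m)) (fun j i => ?_) (fun j => ?_) (fun i => ?_) ?_
      (fun j => (hcount _ (hw _)).2) (hcount _ (hw _)).2
      (fun j => (hmeet m (e j) (hem j).symm).1) (fun j => ?_) (fun j h3 => ?_)
      (fun j l h => (hmeet _ _ (he.ne h)).1) (fun j l h h3 => ?_)
    · rw [← hline, hvw]
      exact if_congr ⟨fun h => (he h).symm, fun h => by rw [h]⟩ rfl rfl
    · rw [← htop, hvw, if_neg (hem j).symm]
    · rw [← hline, hvw, if_neg (hem i)]
    · rw [← htop, hvw, if_pos rfl]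
    · rw [← hprod]; exact (hmeet m (e j) (hem j).symm).2.1
    · rw [← hprod, Finset.sum_congr rfl fun x _ => mul_comm (w m x) (w (e j) x)]
      exact (hmeet (e j) m (hem j)).2.2 h3
    · rw [← hprod]; exact (hmeet _ _ (he.ne h)).2.2 h3
  · -- every point lies on at most two lines: parity
    push Not at htri
    have hmem : ∀ k l (h : k ≠ l), P k l h ∈ supp (v k) := fun k l h => mem_supp.2 (hP0 k l h)
    have heven : ∀ x, (2 : ℤ) ∣ ∑ k, v k x := by
      intro x
      by_cases h : ∃ k, v k x ≠ 0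
      swap
      · push Not at h; simp [h]
      obtain ⟨k, hk⟩ := h
      have himg : supp (v k) =
          (Finset.univ.filter fun l => l ≠ k).attach.image
            (fun l => P k l.1 (Finset.mem_filter.1 l.2).2.symm) := by
        refine (Finset.eq_of_subset_of_card_le ?_ ?_).symm
        · intro y hy
          obtain ⟨l, -, rfl⟩ := Finset.mem_image.1 hy
          exact hmem _ _ _
        · rw [card_supp (hv k), Finset.card_image_of_injective, Finset.card_attach]
          · rw [show (Finset.univ.filter fun l => l ≠ k) = Finset.univ.erase k by ext; simp]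
            simp
          · intro l l' h
            by_contra hne
            have hl := (Finset.mem_filter.1 l.2).2.symm
            have hl' := (Finset.mem_filter.1 l'.2).2.symm
            have h1 : v l'.1 (P k l.1 hl) ≠ 0 := by
              simp only at h; rw [h]; exact hP1 _ _ hl'
            exact h1 (htri _ k l.1 l'.1 hl hl' (fun e => hne (Subtype.ext e)) (hP0 _ _ hl)
              (hP1 _ _ hl))
      have hx : x ∈ supp (v k) := mem_supp.2 hk
      rw [himg] at hx
      obtain ⟨⟨l, hl⟩, -, rfl⟩ := Finset.mem_image.1 hx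
      have hkl := (Finset.mem_filter.1 hl).2.symm
      have hz : ∀ o, o ∉ ({k, l} : Finset (Fin 4)) → v o (P k l hkl) = 0 := fun o ho => by
        simp only [Finset.mem_insert, Finset.mem_singleton, not_or] at ho
        exact htri _ k l o hkl (Ne.symm ho.1) (Ne.symm ho.2) (hP0 _ _ hkl) (hP1 _ _ hkl)
      rw [← Finset.sum_subset (Finset.subset_univ ({k, l} : Finset (Fin 4)))
        (fun o _ ho => hz o ho), Finset.sum_pair hkl, hPeq k l hkl]
      exact ⟨v k (P k l hkl), by ring⟩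
    have h1 : ∑ x, (∑ k, v k x) * w 0 x = 1 := by
      simp only [Finset.sum_mul]
      rw [Finset.sum_comm, Finset.sum_congr rfl fun k _ => hvw k 0]
      simp
    have h2 : (2 : ℤ) ∣ ∑ x, (∑ k, v k x) * w 0 x :=
      Finset.dvd_sum fun x _ => Dvd.dvd.mul_right (heven x) _
    rw [h1] at h2
    norm_num at h2

lemma inj_four {J : Type*} {p q r s : J} (h1 : p ≠ q) (h2 : p ≠ r) (h3 : p ≠ s) (h4 : q ≠ r)
    (h5 : q ≠ s) (h6 : r ≠ s) : Function.Injective ![p, q, r, s] := by
  intro x y h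
  fin_cases x <;> fin_cases y <;> simp_all

/-- A grid is given by orthonormal signed unit vectors. -/
theorem grid_decomp {I J : Type*} [Fintype I] [Fintype J] [DecidableEq I] [DecidableEq J]
    {d : ι → ℤ} (hd : ∀ x, 0 < d x) (v : I → J → ι → ℤ)
    (hnorm : ∀ i j, ∑ x, v i j x * v i j x = 3)
    (hrow : ∀ i j j', j ≠ j' → ∑ x, v i j x * v i j' x = 1)
    (hcol : ∀ i i' j, i ≠ i' → ∑ x, v i j x * v i' j x = 1)
    (hcross : ∀ i i' j j', i ≠ i' → j ≠ j' → ∑ x, v i j x * v i' j' x = 0)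
    (hdeg : ∀ i j i' j', ∑ x, v i j x * d x = ∑ x, v i' j' x * d x)
    (hI : 1 < Fintype.card I) (hI3 : Fintype.card I ≠ 3) (hJ : 4 ≤ Fintype.card J) :
    ∃ (f : I ⊕ J ⊕ (I × J) → ι) (sg : ι → ℤ), Function.Injective f ∧
      (∀ x, sg (f x) = 1 ∨ sg (f x) = -1) ∧
      ∀ i j x, v i j x = if x = f (Sum.inl i) ∨ x = f (Sum.inr (Sum.inl j)) ∨
        x = f (Sum.inr (Sum.inr (i, j))) then sg x else 0 := by
  classical
  have hI0 : ∀ i : I, ∃ i', i' ≠ i := fun i => Fintype.exists_ne_of_one_lt_card hI i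
  have hJ0 : ∀ s : Finset J, s.card < 4 → ∃ j, j ∉ s := fun s hs => by
    by_contra h
    push Not at h
    have : Fintype.card J ≤ s.card := Finset.card_le_card (s := Finset.univ) fun x _ => h x
    omega
  -- meetings
  have hrm : ∀ i j j', j ≠ j' → ∃ x, v i j x ≠ 0 ∧ v i j' x = v i j x ∧
      ∀ y, v i j y ≠ 0 → v i j' y ≠ 0 → y = x := fun i j j' h =>
    exists_meet hd (hnorm i j) (hnorm i j') (hrow i j j' h) (hdeg i j i j')
  have hcm : ∀ i i' j, i ≠ i' → ∃ x, v i j x ≠ 0 ∧ v i' j x = v i j x ∧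
      ∀ y, v i j y ≠ 0 → v i' j y ≠ 0 → y = x := fun i i' j h =>
    exists_meet hd (hnorm i j) (hnorm i' j) (hcol i i' j h) (hdeg i j i' j)
  -- the common point of a row
  have hsun : ∀ i, ∃ a, ∀ j, v i j a ≠ 0 := by
    intro i
    obtain ⟨i', hi'⟩ := hI0 i
    obtain ⟨j0, -⟩ := hJ0 ∅ (by simp)
    obtain ⟨j1, hj1⟩ := hJ0 {j0} (by simp)
    rw [Finset.mem_singleton] at hj1
    obtain ⟨a, ha0, ha1, hau⟩ := hrm i j0 j1 (Ne.symm hj1)
    refine ⟨a, fun k => ?_⟩
    by_cases hk0 : k = j0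
    · subst hk0; exact ha0
    by_cases hk1 : k = j1
    · subst hk1; rw [ha1]; exact ha0
    obtain ⟨l, hl⟩ := hJ0 {j0, j1, k} (lt_of_le_of_lt Finset.card_le_three (by norm_num))
    simp only [Finset.mem_insert, Finset.mem_singleton, not_or] at hl
    let e : Fin 4 → J := ![j0, j1, k, l]
    have he : Function.Injective e :=
      inj_four (Ne.symm hj1) (Ne.symm hk0) (Ne.symm hl.1) (Ne.symm hk1) (Ne.symm hl.2.1)
        (Ne.symm hl.2.2)
    obtain ⟨b, hb⟩ := four_common hd (fun x => v i (e x)) (fun x => v i' (e x))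
      (fun x => hnorm _ _) (fun x => hnorm _ _) (fun x y h => hrow _ _ _ (he.ne h))
      (fun x y h => hrow _ _ _ (he.ne h)) (fun x y => by
        split_ifs with h
        · subst h; exact hcol i i' _ (Ne.symm hi')
        · exact hcross i i' _ _ (Ne.symm hi') (he.ne h))
      (fun x y => hdeg _ _ _ _) (fun x y => hdeg _ _ _ _)
    have hba : b = a := hau b (by simpa [e] using hb 0) (by simpa [e] using hb 1)
    simpa [e, hba] using hb 2
  choose a ha using hsun
  have hrowu : ∀ i j j' y, j ≠ j' → v i j y ≠ 0 → v i j' y ≠ 0 → y = a i := fun i j j' y h h1 h2 => by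
    obtain ⟨x, -, -, hu⟩ := hrm i j j' h
    exact (hu y h1 h2).trans (hu (a i) (ha i j) (ha i j')).symm
  have hasg : ∀ i j j', v i j' (a i) = v i j (a i) := fun i j j' => by
    rcases eq_or_ne j j' with rfl | h
    · rfl
    · exact eq_of_mul_nonneg (hnorm _ _) (hnorm _ _) (mul_nonneg_of_inner_one hd (hnorm _ _)
        (hnorm _ _) (hrow i j' j (Ne.symm h)) (hdeg _ _ _ _) _) (ha i j') (ha i j)
  have hsame : ∀ i i' j y, i ≠ i' → v i j y ≠ 0 → v i' j y ≠ 0 → v i' j y = v i j y :=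
    fun i i' j y h h1 h2 => eq_of_mul_nonneg (hnorm _ _) (hnorm _ _) (mul_nonneg_of_inner_one hd
      (hnorm _ _) (hnorm _ _) (hcol i' i j (Ne.symm h)) (hdeg _ _ _ _) _) h2 h1
  -- an injection into a pair is impossible
  have hpair : ∀ (i i' : I) (j : J) (p : ι), i ≠ i' → v i j p ≠ 0 →
      (∀ j', j' ≠ j → v i' j' p ≠ 0 ∧ v i j p * v i' j' p = 1) →
      (∀ j', j' ≠ j → ∀ y, y ≠ p → v i j y ≠ 0 → v i' j' y ≠ 0 → y ≠ a i') → False := by
    intro i i' j p hii hp h1 h2
    have hex : ∀ j' : {j' // j' ≠ j}, ∃ y, y ≠ p ∧ v i j y ≠ 0 ∧ v i' j'.1 y ≠ 0 := by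
      rintro ⟨j', hj'⟩
      by_contra h
      push Not at h
      have := hcross i i' j j' hii (Ne.symm hj')
      rw [Finset.sum_eq_single p (fun y _ hy => by
        by_cases hy0 : v i j y = 0
        · rw [hy0, zero_mul]
        · rw [h y hy hy0, mul_zero]) (fun h => absurd (Finset.mem_univ p) h),
        (h1 j' hj').2] at this
      exact one_ne_zero this
    choose g hg1 hg2 hg3 using hex
    have hinj : Function.Injective g := fun x y h => by
      by_contra hne
      exact h2 x.1 x.2 _ (hg1 x) (hg2 x) (hg3 x)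
        (hrowu i' x.1 y.1 _ (fun e => hne (Subtype.ext e)) (hg3 x) (h ▸ hg3 y))
    have hle : (Finset.univ.image g).card ≤ ((supp (v i j)).erase p).card :=
      Finset.card_le_card fun y hy => by
        obtain ⟨x, -, rfl⟩ := Finset.mem_image.1 hy
        exact Finset.mem_erase.2 ⟨hg1 x, mem_supp.2 (hg2 x)⟩
    rw [Finset.card_image_of_injective _ hinj, Finset.card_erase_of_mem (mem_supp.2 hp),
      card_supp (hnorm i j), Finset.card_univ, Fintype.card_subtype_compl,
      Fintype.card_subtype_eq] at hle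
    omega
  have hadist : ∀ i i', i ≠ i' → a i ≠ a i' := by
    intro i i' hii he
    obtain ⟨j, -⟩ := hJ0 ∅ (by simp)
    refine hpair i i' j (a i) hii (ha i j) (fun j' _ => ⟨he ▸ ha i' j', ?_⟩)
      (fun j' _ y hy _ _ h => hy (h.trans he.symm))
    have hs := hsame i i' j (a i) hii (ha i j) (he ▸ ha i' j)
    have e1 : v i' j' (a i) = v i j (a i) := by
      rw [← hs, he]; exact hasg i' j j'
    rw [e1]
    exact mul_self_eq_one (hnorm i j) (ha i j)
  have hastep : ∀ i i' j, i ≠ i' → v i' j (a i) = 0 := by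
    intro i i' j hii
    by_contra hne
    refine hpair i' i j (a i) (Ne.symm hii) hne (fun j' _ => ⟨ha i j', ?_⟩)
      (fun j' _ y hy _ _ h => hy h)
    rw [hasg i j j', hsame i i' j (a i) hii (ha i j) hne]
    exact mul_self_eq_one (hnorm i j) (ha i j)
  -- the common point of a column
  have hy : ∀ j, ∃ y, ∀ i, v i j y ≠ 0 := by
    intro j
    obtain ⟨i0⟩ : Nonempty I := Fintype.card_pos_iff.1 (by omega)
    obtain ⟨i1, hi1⟩ := hI0 i0
    obtain ⟨y, hy0, hy1, hyu⟩ := hcm i0 i1 j (Ne.symm hi1)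
    refine ⟨y, ?_⟩
    by_contra h
    push Not at h
    obtain ⟨i2, hi2⟩ := h
    have h20 : i2 ≠ i0 := fun e => hy0 (e ▸ hi2)
    have h21 : i2 ≠ i1 := fun e => hy0 (by rw [← hy1]; exact e ▸ hi2)
    obtain ⟨i3, hi3⟩ : ∃ i3, i3 ∉ ({i0, i1, i2} : Finset I) := by
      by_contra h
      push Not at h
      have h3 : Fintype.card I ≤ ({i0, i1, i2} : Finset I).card :=
        Finset.card_le_card (s := Finset.univ) fun x _ => h x
      have h3' : ({i0, i1, i2} : Finset I).card ≤ Fintype.card I := Finset.card_le_univ _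
      have : ({i0, i1, i2} : Finset I).card = 3 := Finset.card_eq_three.2
        ⟨i0, i1, i2, Ne.symm hi1, Ne.symm h20, Ne.symm h21, rfl⟩
      omega
    simp only [Finset.mem_insert, Finset.mem_singleton, not_or] at hi3
    -- the two points of the third member
    obtain ⟨o0, ho0, ho0', -⟩ := hcm i0 i2 j (Ne.symm h20)
    obtain ⟨o1, ho1, ho1', -⟩ := hcm i1 i2 j (Ne.symm h21)
    have ho0y : o0 ≠ y := fun e => ho0 (by rw [← ho0', e]; exact hi2)
    have ho1y : o1 ≠ y := fun e => ho1 (by rw [← ho1', e]; exact hi2)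
    have hne01 : o0 ≠ o1 := fun e => ho0y (hyu o0 ho0 (e ▸ ho1))
    have hs : ∀ i k, i ≠ k → a k ≠ a i → ∀ q, v i j q ≠ 0 → v k j q ≠ 0 → q ≠ a k :=
      fun i k hik _ q hq _ e => hq (e ▸ hastep k i j (Ne.symm hik))
    have hsupp : ∀ k (p q : ι), p ≠ q → p ≠ a k → q ≠ a k → v k j p ≠ 0 → v k j q ≠ 0 →
        ∀ r, v k j r ≠ 0 → r = a k ∨ r = p ∨ r = q := by
      intro k p q hpq hpa hqa hp hq r hr
      by_contra h
      push Not at h
      have : ({r, a k, p, q} : Finset ι).card ≤ 3 := card_supp (hnorm k j) ▸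
        Finset.card_le_card (by
          intro z hz
          simp only [Finset.mem_insert, Finset.mem_singleton] at hz
          rcases hz with rfl | rfl | rfl | rfl <;> apply mem_supp.2
          exacts [hr, ha k j, hp, hq])
      rw [Finset.card_insert_of_notMem (by simp [h.1, h.2.1, h.2.2]),
        Finset.card_insert_of_notMem (by simp [hpa.symm, hqa.symm]), Finset.card_pair hpq] at this
      omega
    have hanot : ∀ i k q, i ≠ k → v i j q ≠ 0 → q ≠ a k := fun i k q hik hq e =>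
      hq (e ▸ hastep k i j (Ne.symm hik))
    have hp0 : ∀ q, v i0 j q ≠ 0 → q = a i0 ∨ q = y ∨ q = o0 :=
      hsupp i0 y o0 ho0y.symm (hanot i1 i0 y hi1 (by rw [hy1]; exact hy0))
        (hanot i2 i0 o0 h20 (by rw [ho0']; exact ho0)) hy0 ho0
    have hp1 : ∀ q, v i1 j q ≠ 0 → q = a i1 ∨ q = y ∨ q = o1 :=
      hsupp i1 y o1 ho1y.symm (hanot i0 i1 y (Ne.symm hi1) hy0)
        (hanot i2 i1 o1 h21 (by rw [ho1']; exact ho1)) (by rw [hy1]; exact hy0) ho1
    have hp2 : ∀ q, v i2 j q ≠ 0 → q = a i2 ∨ q = o0 ∨ q = o1 :=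
      hsupp i2 o0 o1 hne01 (hanot i0 i2 o0 (Ne.symm h20) ho0) (hanot i1 i2 o1 (Ne.symm h21) ho1)
        (by rw [ho0']; exact ho0) (by rw [ho1']; exact ho1)
    obtain ⟨q0, hq0, hq0', hq0u⟩ := hcm i0 i3 j (Ne.symm hi3.1)
    obtain ⟨q1, hq1, hq1', hq1u⟩ := hcm i1 i3 j (Ne.symm hi3.2.1)
    obtain ⟨q2, hq2, hq2', hq2u⟩ := hcm i2 i3 j (Ne.symm hi3.2.2)
    have hq0'' : v i3 j q0 ≠ 0 := by rw [hq0']; exact hq0
    have hq1'' : v i3 j q1 ≠ 0 := by rw [hq1']; exact hq1
    have hq2'' : v i3 j q2 ≠ 0 := by rw [hq2']; exact hq2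
    rcases hp2 q2 hq2 with e2 | e2 | e2
    · exact hq2'' (e2 ▸ hastep i2 i3 j (Ne.symm hi3.2.2))
    · subst e2
      have e0 : q2 = q0 := hq0u q2 ho0 hq2''
      rcases hp1 q1 hq1 with e1 | e1 | e1
      · exact hq1'' (e1 ▸ hastep i1 i3 j (Ne.symm hi3.2.1))
      · subst e1; exact ho0y (e0.trans (hq0u q1 hy0 hq1'').symm)
      · subst e1; exact hne01 (hq2u q1 (by rw [ho1']; exact ho1) hq1'').symm
    · subst e2
      have e1 : q2 = q1 := hq1u q2 ho1 hq2''
      rcases hp0 q0 hq0 with e0 | e0 | e0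
      · exact hq0'' (e0 ▸ hastep i0 i3 j (Ne.symm hi3.1))
      · subst e0; exact ho1y (e1.trans (hq1u q0 (by rw [hy1]; exact hy0) hq0'').symm)
      · subst e0; exact hne01 (hq2u q0 (by rw [ho0']; exact ho0) hq0'')
  choose y hy using hy
  have hya : ∀ i j, y j ≠ a i := fun i j e => by
    obtain ⟨i', hi'⟩ := hI0 i
    exact hy j i' (e ▸ hastep i i' j (Ne.symm hi'))
  -- the third points
  have hz : ∀ p : I × J, ∃ z, supp (v p.1 p.2) = {a p.1, y p.2, z} ∧ z ≠ a p.1 ∧ z ≠ y p.2 := by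
    rintro ⟨i, j⟩
    have hsub : ({a i, y j} : Finset ι) ⊆ supp (v i j) := by
      intro x hx
      rcases Finset.mem_insert.1 hx with rfl | hx
      · exact mem_supp.2 (ha i j)
      · rw [Finset.mem_singleton.1 hx]; exact mem_supp.2 (hy j i)
    have hcard : (supp (v i j) \ {a i, y j}).card = 1 := by
      rw [Finset.card_sdiff_of_subset hsub, card_supp (hnorm _ _),
        Finset.card_pair (hya i j).symm]
    obtain ⟨c, hc⟩ := Finset.card_eq_one.1 hcard
    have hcm' : c ∈ supp (v i j) \ {a i, y j} := hc ▸ Finset.mem_singleton_self c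
    rw [Finset.mem_sdiff, Finset.mem_insert, Finset.mem_singleton, not_or] at hcm'
    refine ⟨c, ?_, hcm'.2.1, hcm'.2.2⟩
    rw [← Finset.sdiff_union_of_subset hsub, hc]
    ext x; simp; tauto
  choose z hzs hza hzy using hz
  have hzv : ∀ i j, v i j (z (i, j)) ≠ 0 := fun i j => mem_supp.1 (by rw [hzs (i, j)]; simp)
  have hsupp3 : ∀ i j x, v i j x ≠ 0 → x = a i ∨ x = y j ∨ x = z (i, j) := fun i j x hx => by
    have := mem_supp.2 hx
    rw [hzs (i, j)] at this
    simpa using this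
  have hyrow : ∀ i j j', j ≠ j' → v i j' (y j) = 0 := fun i j j' h => by
    by_contra hne
    exact hya i j (hrowu i j j' (y j) h (hy j i) hne)
  let f : I ⊕ J ⊕ (I × J) → ι := Sum.elim a (Sum.elim y z)
  have hzz : ∀ i j i' j', (i, j) ≠ (i', j') → z (i, j) ≠ z (i', j') := by
    intro i j i' j' hne e
    rcases eq_or_ne i i' with rfl | hii
    · exact hza (i, j) (hrowu i j j' _ (fun h => hne (by rw [h])) (hzv i j) (e ▸ hzv i j'))
    rcases eq_or_ne j j' with rfl | hjj
    · obtain ⟨x, -, -, hu⟩ := hcm i i' j hii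
      exact hzy (i, j) ((hu _ (hzv i j) (e ▸ hzv i' j)).trans (hu _ (hy j i) (hy j i')).symm)
    have := hcross i i' j j' hii hjj
    rw [Finset.sum_eq_single (z (i, j)) (fun x _ hx => by
      by_contra h0
      rcases hsupp3 i j x (left_ne_zero_of_mul h0) with rfl | rfl | rfl
      · exact right_ne_zero_of_mul h0 (hastep i i' j' hii)
      · exact right_ne_zero_of_mul h0 (hyrow i' j j' hjj)
      · exact hx rfl) (fun h => absurd (Finset.mem_univ _) h), mul_eq_zero] at this
    rcases this with h | h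
    · exact hzv i j h
    · exact hzv i' j' (e ▸ h)
  have haz : ∀ i i' j, a i ≠ z (i', j) := by
    intro i i' j e
    rcases eq_or_ne i i' with rfl | h
    · exact hza (i, j) e.symm
    · exact hzv i' j (e ▸ hastep i i' j h)
  have hyz : ∀ i j j', y j ≠ z (i, j') := by
    intro i j j' e
    rcases eq_or_ne j j' with rfl | h
    · exact hzy (i, j) e.symm
    · exact hzv i j' (e ▸ hyrow i j j' h)
  have hyy : ∀ j j', y j = y j' → j = j' := fun j j' e => by
    by_contra h
    obtain ⟨i⟩ : Nonempty I := Fintype.card_pos_iff.1 (by omega)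
    exact hy j' i (e ▸ hyrow i j j' h)
  have hinj : Function.Injective f := by
    rintro (i | j | ⟨i, j⟩) (i' | j' | ⟨i', j'⟩) h <;> simp only [f, Sum.elim_inl, Sum.elim_inr] at h
    · rw [not_imp_not.1 (hadist i i') h]
    · exact absurd h.symm (hya i j')
    · exact absurd h (haz i i' j')
    · exact absurd h (hya i' j)
    · rw [hyy j j' h]
    · exact absurd h (hyz i' j j')
    · exact absurd h.symm (haz i' i j)
    · exact absurd h.symm (hyz i j' j)
    · exact congrArg (fun p => Sum.inr (Sum.inr p)) (not_imp_not.1 (hzz i j i' j') h)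
  let sgf : I ⊕ J ⊕ (I × J) → ℤ := Sum.elim
    (fun i => v i (Classical.choose (hJ0 ∅ (by simp))) (a i))
    (Sum.elim (fun j => v (Classical.choice (Fintype.card_pos_iff.1 (show 0 < Fintype.card I by omega))) j (y j))
      (fun p => v p.1 p.2 (z p)))
  refine ⟨f, Function.extend f sgf 0, hinj, fun x => ?_, fun i j x => ?_⟩
  · rw [hinj.extend_apply]
    rcases x with i | j | ⟨i, j⟩ <;> simp only [sgf, Sum.elim_inl, Sum.elim_inr]
    · exact (sq_entry (hnorm _ _) _).resolve_left (ha _ _)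
    · exact (sq_entry (hnorm _ _) _).resolve_left (hy _ _)
    · exact (sq_entry (hnorm _ _) _).resolve_left (hzv _ _)
  · split_ifs with h
    · rcases h with rfl | rfl | rfl <;> rw [hinj.extend_apply] <;>
        simp only [sgf, f, Sum.elim_inl, Sum.elim_inr]
      · exact hasg i _ j
      · generalize Classical.choice _ = i0
        rcases eq_or_ne i i0 with rfl | h
        · rfl
        · exact hsame i0 i j _ (Ne.symm h) (hy j i0) (hy j i)
    · by_contra h0
      exact h (hsupp3 i j x h0)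

end CfsgLib.CharsMore.Grid
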