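import Cfsg.Agent.Lib.CharsMore.QuaternionSylow
import Cfsg.Agent.Lib.CharsMore.CyclicTIGrid
import Cfsg.Agent.Lib.CharsMore.RelativeAGroup
import Cfsg.Agent.Lib.Chars.Integral
import Cfsg.Agent.Lib.Chars.Virtual
import Mathlib

/-!
# The exceptional characters for a quaternion Sylow subgroup of order at least sixteen
-/

set_option linter.style.haveILetI false
set_option linter.unusedSectionVars false

namespace CfsgLib.CharsMore

open Cfsg
open scoped ComplexConjugate
open Grid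

variable {G : Type*} [Group G] [Fintype G]

/-- Two commuting involutions lie in a common Sylow subgroup. -/
lemma exists_sylow_of_commute {p : ℕ} [Fact p.Prime] {x z : G} (hxz : x * z = z * x)
    (hx : orderOf x = p) (hz : orderOf z = p) :
    ∃ R : Sylow p G, x ∈ (R : Subgroup G) ∧ z ∈ (R : Subgroup G) := by
  have hp : ∀ w : G, orderOf w = p → IsPGroup p (Subgroup.zpowers w) := fun w hw =>
    IsPGroup.iff_card.2 ⟨1, by rw [Nat.card_zpowers, hw, pow_one]⟩
  have hle : Subgroup.zpowers x ≤ Subgroup.normalizer (Subgroup.zpowers z : Set G) := by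
    refine Subgroup.zpowers_le.2 (Subgroup.mem_normalizer_iff.2 fun h => ⟨fun hh => ?_, fun hh => ?_⟩)
    · obtain ⟨k, rfl⟩ := Subgroup.mem_zpowers_iff.1 hh
      rw [((show Commute x z from hxz).zpow_right k).eq, mul_inv_cancel_right]
      exact hh
    · obtain ⟨k, hk⟩ := Subgroup.mem_zpowers_iff.1 hh
      have : h = z ^ k := by
        rw [show h = x⁻¹ * (x * h * x⁻¹) * x by group, ← hk,
          (((show Commute x z from hxz).inv_left).zpow_right k).eq, inv_mul_cancel_right]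
      exact Subgroup.mem_zpowers_iff.2 ⟨k, this.symm⟩
  obtain ⟨R, hR⟩ := (IsPGroup.to_sup_of_normal_right' (hp x hx) (hp z hz) hle).exists_le_sylow
  exact ⟨R, hR (le_sup_left (b := Subgroup.zpowers z) (Subgroup.mem_zpowers x)),
    hR (le_sup_right (a := Subgroup.zpowers x) (Subgroup.mem_zpowers z))⟩

/-- A virtual character of norm three, vanishing at the identity, containing the principal
character once. -/
theorem exists_pair_of_norm_three {θ : G → ℂ} (h : IsGeneralizedCharacter G θ)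
    (h3 : classInner θ θ = 3) (h1 : θ 1 = 0) (hone : classInner θ (fun _ => 1) = 1) :
    ∃ χ₁ χ₂ : IrrCharacter G, (χ₁ : G → ℂ) ≠ (fun _ => 1) ∧ (χ₂ : G → ℂ) ≠ (fun _ => 1) ∧
      (χ₁ : G → ℂ) 1 = (χ₂ : G → ℂ) 1 + 1 ∧
      θ = (fun _ => (1 : ℂ)) - (χ₁ : G → ℂ) + (χ₂ : G → ℂ) := by
  classical
  haveI := Chars.irrFintype G
  obtain ⟨hc, hm⟩ := Chars.isGeneralized_iff_inner.mp h
  choose m hm using hm
  have hsum : (∑ χ : IrrCharacter G, m χ * m χ) = 3 := by
    have := Chars.inner_eq_sum hc θ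
    simp only [hm, h3, map_intCast] at this
    exact_mod_cast this.symm
  have hval : θ = ∑ χ : IrrCharacter G, (m χ : ℂ) • (χ : G → ℂ) := by
    conv_lhs => rw [Chars.classFun_eq_sum hc]
    simp only [hm]
  set o := CharApps.oneIrr G
  have ho : m o = 1 := by
    have := hm o
    rw [show ((o : IrrCharacter G) : G → ℂ) = fun _ => (1 : ℂ) from rfl, hone] at this
    exact_mod_cast this.symm
  have hcard := card_supp hsum
  obtain ⟨x, y, hxy, hxys⟩ := Finset.card_eq_two.1
    (show ((supp m).erase o).card = 2 by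
      rw [Finset.card_erase_of_mem (mem_supp.2 (by rw [ho]; exact one_ne_zero)), hcard])
  have hmem : ∀ z, z ∈ (supp m).erase o ↔ z = x ∨ z = y := fun z => by rw [hxys]; simp
  have hx : x ≠ o ∧ m x ≠ 0 := by
    have := (hmem x).2 (Or.inl rfl)
    rw [Finset.mem_erase, mem_supp] at this
    exact this
  have hy : y ≠ o ∧ m y ≠ 0 := by
    have := (hmem y).2 (Or.inr rfl)
    rw [Finset.mem_erase, mem_supp] at this
    exact this
  have hzero : ∀ z, z ≠ o → z ≠ x → z ≠ y → m z = 0 := by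
    intro z h1 h2 h3
    by_contra h0
    rcases (hmem z).1 (Finset.mem_erase.2 ⟨h1, mem_supp.2 h0⟩) with h | h
    · exact h2 h
    · exact h3 h
  have hθ : θ = (fun _ => (1 : ℂ)) + ((m x : ℂ) • (x : G → ℂ) + (m y : ℂ) • (y : G → ℂ)) := by
    rw [hval, ← Finset.sum_subset (Finset.subset_univ {o, x, y}) (fun z _ hz => by
      simp only [Finset.mem_insert, Finset.mem_singleton, not_or] at hz
      rw [hzero z hz.1 hz.2.1 hz.2.2, Int.cast_zero, zero_smul]),
      Finset.sum_insert (by simp [hx.1.symm, hy.1.symm]), Finset.sum_pair hxy, ho, Int.cast_one,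
      one_smul]
    rfl
  have hdeg : (1 : ℤ) + (m x * (charDegree (x : G → ℂ) : ℤ) + m y * (charDegree (y : G → ℂ) : ℤ))
      = 0 := by
    have := congrFun hθ 1
    simp only [h1, Pi.add_apply, Pi.smul_apply, smul_eq_mul, CharApps.deg_eq] at this
    exact_mod_cast this.symm
  have hdx : (0 : ℤ) < charDegree (x : G → ℂ) := by exact_mod_cast CharApps.deg_pos x
  have hdy : (0 : ℤ) < charDegree (y : G → ℂ) := by exact_mod_cast CharApps.deg_pos y
  have key : ∀ u v : IrrCharacter G, u ≠ o → v ≠ o → m u = -1 → m v = 1 →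
      (1 : ℤ) + (m u * (charDegree (u : G → ℂ) : ℤ) + m v * (charDegree (v : G → ℂ) : ℤ)) = 0 →
      θ = (fun _ => (1 : ℂ)) + ((m u : ℂ) • (u : G → ℂ) + (m v : ℂ) • (v : G → ℂ)) →
      ∃ χ₁ χ₂ : IrrCharacter G, (χ₁ : G → ℂ) ≠ (fun _ => 1) ∧ (χ₂ : G → ℂ) ≠ (fun _ => 1) ∧
        (χ₁ : G → ℂ) 1 = (χ₂ : G → ℂ) 1 + 1 ∧
        θ = (fun _ => (1 : ℂ)) - (χ₁ : G → ℂ) + (χ₂ : G → ℂ) := by
    intro u v hu hv hmu hmv hd he
    refine ⟨u, v, fun e => hu (Subtype.ext e), fun e => hv (Subtype.ext e), ?_, ?_⟩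
    · rw [hmu, hmv] at hd
      rw [CharApps.deg_eq, CharApps.deg_eq]
      have : (charDegree (u : G → ℂ) : ℤ) = (charDegree (v : G → ℂ) : ℤ) + 1 := by omega
      exact_mod_cast this
    · rw [he, hmu, hmv]
      funext g
      simp [sub_eq_add_neg, add_assoc]
  rcases sq_entry hsum x with e1 | e1 | e1
  · exact absurd e1 hx.2
  · rcases sq_entry hsum y with e2 | e2 | e2
    · exact absurd e2 hy.2
    · rw [e1, e2] at hdeg; omega
    · exact key y x hy.1 hx.1 e2 e1 (by rw [← hdeg]; ring) (by rw [hθ, add_comm ((m x : ℂ) • _)])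
  · rcases sq_entry hsum y with e2 | e2 | e2
    · exact absurd e2 hy.2
    · exact key x y hx.1 hy.1 e1 e2 hdeg hθ
    · rw [e1, e2] at hdeg; omega

namespace QuatData

variable {S : Sylow 2 G} (q : QuatData S)

/-- A linear character of the centraliser of order four. -/
lemma exists_nu : ∃ ν : q.C →* ℂˣ,
    ((ν ⟨q.a, q.A_le_C (Subgroup.mem_zpowers _)⟩ : ℂˣ) : ℂ) = Complex.I ∧
    (∀ c : q.C, ¬ Nat.card q.D ∣ orderOf (c : G) → ν c = 1) ∧
    ∀ c c' : q.C, (c' : G) = q.b * c * q.b⁻¹ → ν c' = (ν c)⁻¹ := by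
  classical
  obtain ⟨K, hKodd, hKC, hKmem, hKN, hdec, -⟩ := q.exists_complement
  haveI : (K.subgroupOf q.C).Normal := ⟨fun k hk c => by
    refine hKmem _ (c * k * c⁻¹).2 ?_
    show Odd (orderOf ((c * k * c⁻¹ : q.C) : G))
    have h1 : Odd (orderOf (k : G)) := hKodd.of_dvd_nat (Subgroup.orderOf_dvd_natCard K hk)
    rw [Subgroup.orderOf_coe] at h1 ⊢
    rwa [← MulAut.conj_apply, MulEquiv.orderOf_eq]⟩
  set π := QuotientGroup.mk' (K.subgroupOf q.C)
  set ac : q.C := ⟨q.a, q.A_le_C (Subgroup.mem_zpowers _)⟩ with hac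
  have hgen : ∀ u, u ∈ Subgroup.zpowers (π ac) := by
    intro u
    obtain ⟨c, rfl⟩ := QuotientGroup.mk'_surjective _ u
    obtain ⟨k, hk, x, hx, hc⟩ := hdec c c.2
    obtain ⟨i, rfl⟩ := Subgroup.mem_zpowers_iff.1 hx
    refine Subgroup.mem_zpowers_iff.2 ⟨i, ?_⟩
    have : c = ⟨k, hKC hk⟩ * ac ^ i := Subtype.ext (by simp [hc, hac])
    rw [this, map_mul, map_zpow, show π ⟨k, hKC hk⟩ = 1 from (QuotientGroup.eq_one_iff _).2 hk,
      one_mul]
  have hord : orderOf (π ac) = 2 ^ (q.n + 3) := by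
    have h1 : orderOf (π ac) ∣ 2 ^ (q.n + 3) := by
      have := orderOf_map_dvd π ac
      rwa [hac, Subgroup.orderOf_mk, q.orderOf_a] at this
    refine Nat.dvd_antisymm h1 ?_
    rw [← q.orderOf_a]
    refine orderOf_dvd_of_pow_eq_one ?_
    have h2 : π (ac ^ orderOf (π ac)) = 1 := by rw [map_pow, pow_orderOf_eq_one]
    have h3 : ac ^ orderOf (π ac) ∈ K.subgroupOf q.C := (QuotientGroup.eq_one_iff _).1 h2
    have hmem : q.a ^ orderOf (π ac) ∈ K := h3
    rw [← orderOf_eq_one_iff]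
    exact Nat.eq_one_of_dvd_coprimes ((Nat.coprime_two_left.2 hKodd).pow_left (q.n + 3))
      (q.orderOf_a ▸ orderOf_pow_dvd _) (Subgroup.orderOf_dvd_natCard K hmem)
  set u : ℂˣ := Units.mk0 Complex.I Complex.I_ne_zero
  have hu : u ^ 4 = 1 := Units.ext (by simp [u, Complex.I_pow_four])
  have hdvd : orderOf u ∣ orderOf (π ac) := by
    rw [hord]
    exact (orderOf_dvd_of_pow_eq_one hu).trans
      ((show 4 = 2 ^ 2 by norm_num) ▸ pow_dvd_pow 2 (by omega))
  set ν := (monoidHomOfForallMemZpowers hgen hdvd).comp π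
  have hνa : ν ac = u := monoidHomOfForallMemZpowers_apply_gen hgen hdvd
  refine ⟨ν, by rw [hνa]; rfl, fun c hc => ?_, fun c c' hcc => ?_⟩
  · obtain ⟨i, hi⟩ := Subgroup.mem_zpowers_iff.1 (hgen (π c))
    have hνc : ν c = u ^ i := by
      show monoidHomOfForallMemZpowers hgen hdvd (π c) = _
      rw [← hi, map_zpow, monoidHomOfForallMemZpowers_apply_gen]
    have h1 : ((2 ^ (q.n + 3) : ℕ) : ℤ) ∣ i * (orderOf (c : G) : ℤ) := by
      rw [← hord, orderOf_dvd_iff_zpow_eq_one, zpow_mul, hi, zpow_natCast, Subgroup.orderOf_coe,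
        ← map_pow, pow_orderOf_eq_one, map_one]
    rw [hνc]
    by_cases h4 : (4 : ℤ) ∣ i
    · obtain ⟨j, rfl⟩ := h4
      rw [zpow_mul, show (4 : ℤ) = ((4 : ℕ) : ℤ) from rfl, zpow_natCast, hu, one_zpow]
    · exfalso
      refine hc ?_
      rw [q.card_D, ← Int.natCast_dvd_natCast]
      rcases Int.even_or_odd i with ⟨j, rfl⟩ | hodd
      · have hj : Odd j := by
          refine Int.not_even_iff_odd.1 fun ⟨l, hl⟩ => h4 ⟨l, by omega⟩
        have h2 : ((2 ^ (q.n + 2) : ℕ) : ℤ) ∣ j * (orderOf (c : G) : ℤ) := by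
          refine (mul_dvd_mul_iff_left (two_ne_zero (α := ℤ))).1 ?_
          push_cast at h1 ⊢
          rw [← pow_succ', ← mul_assoc, two_mul]
          exact h1
        exact (Int.isCoprime_iff_nat_coprime.2 (by
          simpa using ((Nat.coprime_two_left.2 (Int.natAbs_odd.2 hj)).pow_left (q.n + 2)))).dvd_of_dvd_mul_left h2
      · have h2 : ((2 ^ (q.n + 3) : ℕ) : ℤ) ∣ (orderOf (c : G) : ℤ) :=
          (Int.isCoprime_iff_nat_coprime.2 (by
            simpa using ((Nat.coprime_two_left.2 (Int.natAbs_odd.2 hodd)).pow_left (q.n + 3)))).dvd_of_dvd_mul_left h1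
        refine dvd_trans ?_ h2
        push_cast
        exact pow_dvd_pow 2 (by omega)
  · obtain ⟨k, hk, x, hx, hc⟩ := hdec c c.2
    obtain ⟨i, rfl⟩ := Subgroup.mem_zpowers_iff.1 hx
    have hk' : q.b * k * q.b⁻¹ ∈ K :=
      (Subgroup.mem_normalizer_iff.1 (hKN (q.le_normalizer q.b_mem)) k).1 hk
    have e1 : c = ⟨k, hKC hk⟩ * ac ^ i := Subtype.ext (by simp [hc, hac])
    have e2 : c' = ⟨q.b * k * q.b⁻¹, hKC hk'⟩ * (ac ^ i)⁻¹ := Subtype.ext (by
      rw [hcc, hc]
      show q.b * (k * q.a ^ i) * q.b⁻¹ = q.b * k * q.b⁻¹ * ((ac ^ i : q.C) : G)⁻¹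
      rw [Subgroup.coe_zpow, ← q.zpow_conj i]
      group)
    have hk1 : ∀ (w : G) (hw : w ∈ K), ν ⟨w, hKC hw⟩ = 1 := fun w hw => by
      show monoidHomOfForallMemZpowers hgen hdvd (π ⟨w, hKC hw⟩) = 1
      rw [show π ⟨w, hKC hw⟩ = 1 from (QuotientGroup.eq_one_iff _).2 hw, map_one]
    rw [e1, e2, map_mul, map_mul, map_inv, hk1 k hk, hk1 _ hk', one_mul, one_mul]

/-- The exceptional characters. -/
theorem exists_exceptional : ∃ χ₁ χ₂ : IrrCharacter G,
    (χ₁ : G → ℂ) ≠ (fun _ => 1) ∧ (χ₂ : G → ℂ) ≠ (fun _ => 1) ∧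
    (χ₁ : G → ℂ) 1 = (χ₂ : G → ℂ) 1 + 1 ∧
    (∀ g : G, ¬ 4 ∣ orderOf g → (χ₁ : G → ℂ) g - (χ₂ : G → ℂ) g = 1) ∧
    (χ₁ : G → ℂ) (q.a ^ 2) - (χ₂ : G → ℂ) (q.a ^ 2) = -3 := by
  classical
  obtain ⟨-, -, -, -, -, -, hdec⟩ := q.exists_complement
  obtain ⟨ν, hνa, hν1, hνb⟩ := q.exists_nu
  set N := Subgroup.normalizer (q.D : Set G)
  set C' := q.C.subgroupOf N with hC'
  haveI : C'.Normal := ⟨fun c hc g => q.conj_mem_C g.2 hc⟩
  letI : Fintype N := Fintype.ofFinite _
  letI : Fintype C' := Fintype.ofFinite _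
  set β : C' →* ℂˣ := ν.comp
    { toFun := fun c => ⟨((c : N) : G), c.2⟩, map_one' := rfl, map_mul' := fun _ _ => rfl } with hβdef
  have hβ : ∀ c : C', β c = ν ⟨((c : N) : G), c.2⟩ := fun _ => rfl
  have haN : q.a ∈ N := q.le_normalizer q.a_mem
  have hconjβ : ∀ (y : N) (c : C'), (y ∈ C' → β (conjBy C' y c) = β c) ∧
      (y ∉ C' → β (conjBy C' y c) = (β c)⁻¹) := by
    intro y c
    refine ⟨fun hy => ?_, fun hy => ?_⟩
    · rw [show conjBy C' y c = ⟨y, hy⟩ * c * ⟨y, hy⟩⁻¹ from Subtype.ext rfl, map_mul, map_mul,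
        map_inv, mul_inv_cancel_comm]
    · obtain ⟨d, hd, h | h⟩ := hdec (y : G) y.2
      · exact absurd (show (y : G) ∈ q.C from h ▸ hd) hy
      · have hbc : q.b * ((c : N) : G) * q.b⁻¹ ∈ q.C := q.conj_mem_C (q.le_normalizer q.b_mem) c.2
        rw [hβ, hβ, ← hνb ⟨((c : N) : G), c.2⟩ ⟨_, hbc⟩ rfl]
        have : (⟨((conjBy C' y c : N) : G), (conjBy C' y c).2⟩ : q.C) =
            ⟨d, hd⟩ * ⟨_, hbc⟩ * ⟨d, hd⟩⁻¹ := Subtype.ext (by
          show (y : G) * ((c : N) : G) * (y : G)⁻¹ = d * (q.b * ((c : N) : G) * q.b⁻¹) * d⁻¹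
          rw [h]; group)
        rw [this, map_mul, map_mul, map_inv, mul_inv_cancel_comm]
  set f : C' → ℂ := linFun (1 : C' →* ℂˣ) - linFun β with hf
  set θ := indFun C' f with hθdef
  have hθc : IsClassFunction N θ := Chars.isClassFunction_indFun C' f
  have hθout : ∀ x : N, x ∉ C' → θ x = 0 := by
    intro x hx
    rw [hθdef, Chars.indFun_apply, Finset.sum_eq_zero, mul_zero]
    intro y _
    refine Chars.extendByZero_of_not_mem _ _ fun h => hx ?_
    have := ‹C'.Normal›.conj_mem _ h y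
    simpa [mul_assoc] using this
  have hθin : ∀ c : C', θ c = 2 - (β c : ℂ) - (((β c)⁻¹ : ℂˣ) : ℂ) := by
    intro c
    have e1 : ∀ y : N, y ∈ C' → conjFn C' y f c = 1 - (β c : ℂ) := fun y hy => by
      simp [conjFn, hf, linFun, (hconjβ y c).1 hy]
    have e2 : ∀ y : N, y ∉ C' → conjFn C' y f c = 1 - (((β c)⁻¹ : ℂˣ) : ℂ) := fun y hy => by
      simp [conjFn, hf, linFun, (hconjβ y c).2 hy]
    rw [hθdef, indFun_normal_apply, ← Finset.sum_filter_add_sum_filter_not Finset.univ (· ∈ C'),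
      Finset.sum_congr rfl (fun y hy => e1 y (Finset.mem_filter.1 hy).2),
      Finset.sum_congr rfl (fun y hy => e2 y (Finset.mem_filter.1 hy).2),
      Finset.sum_const, Finset.sum_const, nsmul_eq_mul, nsmul_eq_mul]
    have h1 : (Finset.univ.filter (fun y : N => y ∈ C')).card = Nat.card C' := by
      rw [Nat.card_eq_fintype_card, Fintype.card_subtype]
    have h2 : (Finset.univ.filter (fun y : N => ¬ y ∈ C')).card = Nat.card C' := by
      have h := Finset.card_filter_add_card_filter_not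
        (s := (Finset.univ : Finset N)) (· ∈ C')
      have h' := C'.card_mul_index
      have hi : C'.index = 2 := q.index_C_eq_two
      rw [hi] at h'
      rw [Finset.card_univ, ← Nat.card_eq_fintype_card, ← h', h1] at h
      omega
    rw [h1, h2]
    have h0 : (Nat.card C' : ℂ) ≠ 0 := Nat.cast_ne_zero.2 Nat.card_pos.ne'
    field_simp
    ring
  have hirr1 := isIrrCharacter_linFun (1 : C' →* ℂˣ)
  have hirrb := isIrrCharacter_linFun β
  have hirri := isIrrCharacter_linFun β⁻¹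
  set ac : C' := ⟨⟨q.a, haN⟩, q.A_le_C (Subgroup.mem_zpowers _)⟩
  have hβa : (β ac : ℂ) = Complex.I := hνa
  have hne1 : linFun (1 : C' →* ℂˣ) ≠ linFun β := fun h => by
    have := congrFun h ac
    simp [linFun, hβa, Complex.ext_iff] at this
  have hne2 : linFun (1 : C' →* ℂˣ) ≠ linFun β⁻¹ := fun h => by
    have := congrFun h ac
    simp [linFun, hβa, Complex.ext_iff, Units.val_inv_eq_inv_val] at this
  have hne3 : linFun β ≠ linFun β⁻¹ := fun h => by
    have := congrFun h ac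
    simp [linFun, hβa, Complex.ext_iff, Units.val_inv_eq_inv_val] at this
    norm_num at this
  have hres : (fun c : C' => θ c) =
      (2 : ℂ) • linFun (1 : C' →* ℂˣ) - linFun β - linFun β⁻¹ := funext fun c => by
    rw [hθin]; simp [linFun]
  have hnorm : classInner θ θ = 3 := by
    rw [hθdef, Chars.inner_indFun C' f hθc, hres, hf]
    simp only [sub_eq_add_neg, Chars.inner_add_left, Chars.inner_neg_left, Chars.inner_add_right,
      Chars.inner_neg_right, Chars.inner_smul_right]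
    rw [(Chars.isIrrCharacter_iff_inner_self.1 hirr1).2, (Chars.isIrrCharacter_iff_inner_self.1 hirrb).2,
      Chars.inner_irr_of_isIrr hirr1 hirrb, Chars.inner_irr_of_isIrr hirrb hirr1,
      Chars.inner_irr_of_isIrr hirr1 hirri, Chars.inner_irr_of_isIrr hirrb hirri,
      if_neg hne1, if_neg hne1.symm, if_neg hne2, if_neg hne3]
    simp [Complex.ext_iff]
    norm_num
  have hθone : classInner θ (fun _ => 1) = 1 := by
    rw [hθdef, Chars.inner_indFun C' f (fun _ _ => rfl), hf,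
      show (fun _ : C' => (1 : ℂ)) = linFun (1 : C' →* ℂˣ) from linFun_one.symm,
      sub_eq_add_neg, Chars.inner_add_left, Chars.inner_neg_left,
      (Chars.isIrrCharacter_iff_inner_self.1 hirr1).2, Chars.inner_irr_of_isIrr hirrb hirr1,
      if_neg hne1.symm, neg_zero, add_zero]
  set T : Set G := {x | x ∈ q.C ∧ Nat.card q.D ∣ orderOf x} with hT
  have hTI : ∀ g : G, g ∉ N → ∀ t ∈ T, g * t * g⁻¹ ∈ T → t = 1 := fun g hg t ht hgt =>
    absurd (q.mem_normalizer_of_conj ht.1 ht.2 hgt.1) hg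
  have hθT : ∀ x : N, (x : G) ∉ T → θ x = 0 := by
    intro x hx
    by_cases hxC : x ∈ C'
    · have h1 : β ⟨x, hxC⟩ = 1 := hν1 ⟨(x : G), hxC⟩ fun h => hx ⟨hxC, h⟩
      have h2 := hθin ⟨x, hxC⟩
      rw [h1] at h2
      rw [show θ x = θ ((⟨x, hxC⟩ : C') : N) from rfl, h2, inv_one, Units.val_one]
      norm_num
    · exact hθout x hxC
  have hθ1 : θ 1 = 0 := by
    have := hθin 1
    rw [map_one, inv_one, Units.val_one, OneMemClass.coe_one] at this
    rw [this]; norm_num
  set Θ := indFun N θ with hΘ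
  have hθgen : IsGeneralizedCharacter N θ :=
    Chars.isGeneralized_indFun C' ⟨_, _, Chars.isCharacter_of_irr hirr1,
      Chars.isCharacter_of_irr hirrb, hf⟩
  have hΘgen : IsGeneralizedCharacter G Θ := Chars.isGeneralized_indFun N hθgen
  have hΘ3 : classInner Θ Θ = 3 := by
    rw [hΘ, Chars.inner_indFun_TI T N hTI hθc hθT hθT hθ1, hnorm]
  have hΘ1 : Θ 1 = 0 := by rw [hΘ, Chars.indFun_one_apply, hθ1, mul_zero]
  have hΘone : classInner Θ (fun _ => 1) = 1 := by
    rw [hΘ, Chars.inner_indFun N θ (fun _ _ => rfl), hθone]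
  obtain ⟨χ₁, χ₂, h1, h2, hd, he⟩ := exists_pair_of_norm_three hΘgen hΘ3 hΘ1 hΘone
  refine ⟨χ₁, χ₂, h1, h2, hd, fun g hg => ?_, ?_⟩
  · have h0 : Θ g = 0 := by
      rw [hΘ, Chars.indFun_apply, Finset.sum_eq_zero, mul_zero]
      intro x _
      by_cases hm : x⁻¹ * g * x ∈ N
      · rw [Chars.extendByZero_of_mem N θ hm]
        refine hθT _ fun hmem => hg ?_
        have h4 : Nat.card q.D ∣ orderOf (x⁻¹ * g * x) := hmem.2
        have hc : orderOf (x⁻¹ * g * x) = orderOf g := by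
          have := MulEquiv.orderOf_eq (MulAut.conj x⁻¹) g
          simpa using this
        rw [hc, q.card_D] at h4
        exact ((show 4 = 2 ^ 2 by norm_num) ▸ pow_dvd_pow 2 (by omega) :
          4 ∣ 2 ^ (q.n + 2)).trans h4
      · rw [Chars.extendByZero_of_not_mem N θ hm]
    rw [he] at h0
    simp only [Pi.add_apply, Pi.sub_apply] at h0
    linear_combination -h0
  · have hmemT : q.a ^ 2 ∈ T :=
      ⟨q.C.pow_mem (q.A_le_C (Subgroup.mem_zpowers _)) 2, by rw [q.card_D, q.orderOf_sq]⟩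
    have hne : (⟨q.a ^ 2, N.pow_mem haN 2⟩ : N) ≠ 1 := fun h => by
      have h' := congrArg orderOf (congrArg Subtype.val h :)
      rw [q.orderOf_sq, OneMemClass.coe_one, orderOf_one] at h'
      have := q.four_le
      omega
    have hv : Θ (q.a ^ 2) = 4 := by
      refine (Chars.indFun_TI_apply T N hTI hθc hθT ⟨q.a ^ 2, N.pow_mem haN 2⟩ hmemT hne).trans ?_
      have h4 := hθin (ac ^ 2)
      rw [map_pow, ← inv_pow, Units.val_pow_eq_pow_val, Units.val_pow_eq_pow_val,
        Units.val_inv_eq_inv_val, hβa, Complex.inv_I, neg_sq, Complex.I_sq] at h4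
      refine Eq.trans ?_ (h4.trans (by norm_num))
      congr 1
    rw [he] at hv
    simp only [Pi.add_apply, Pi.sub_apply] at hv
    linear_combination -hv

/-- Every involution is conjugate to the central one of the Sylow subgroup. -/
lemma isConj_involution {x : G} (hx : orderOf x = 2) :
    IsConj (q.a ^ 2 ^ (q.n + 2)) x := by
  obtain ⟨R, hxR, -⟩ := exists_sylow_of_commute (p := 2) (rfl : x * x = x * x) hx hx
  obtain ⟨g, hg⟩ := MulAction.exists_smul_eq G R S
  have hmem : g * x * g⁻¹ ∈ (S : Subgroup G) := by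
    rw [← hg]; exact Subgroup.smul_mem_pointwise_smul x (MulAut.conj g) _ hxR
  rw [← q.eq_of_orderOf_two hmem (by rw [← MulAut.conj_apply, MulEquiv.orderOf_eq, hx])]
  exact (isConj_iff.2 ⟨g, rfl⟩ : IsConj x (g * x * g⁻¹)).symm

lemma orderOf_central : orderOf (q.a ^ 2 ^ (q.n + 2)) = 2 := by
  have hd : 2 ^ (q.n + 2) ∣ orderOf q.a := by
    rw [q.orderOf_a]; exact pow_dvd_pow 2 (Nat.le_succ _)
  rw [orderOf_pow_of_dvd (by positivity) hd, q.orderOf_a, pow_succ,
    Nat.mul_div_cancel_left _ (by positivity)]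

include q in
/-- A product of two involutions has order not divisible by four. -/
lemma not_four_dvd {x y : G} (hx : orderOf x = 2) (hy : orderOf y = 2) :
    ¬ 4 ∣ orderOf (x * y) := by
  intro h4
  set g := x * y with hg
  have hxx : x * x = 1 := by rw [← sq, ← hx, pow_orderOf_eq_one]
  have hyy : y * y = 1 := by rw [← sq, ← hy, pow_orderOf_eq_one]
  have hinvx : x⁻¹ = x := inv_eq_of_mul_eq_one_right hxx
  have hinvy : y⁻¹ = y := inv_eq_of_mul_eq_one_right hyy
  have hinv : x * g * x⁻¹ = g⁻¹ := by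
    rw [hg, mul_inv_rev, hinvx, hinvy, ← mul_assoc, hxx, one_mul]
  set z := g ^ (orderOf g / 2) with hz
  have hzo : orderOf z = 2 :=
    orderOf_pow_orderOf_div (orderOf_pos g).ne' ((show 2 ∣ 4 by norm_num).trans h4)
  have hzz : z⁻¹ = z := inv_eq_of_mul_eq_one_right (by rw [← sq, ← hzo, pow_orderOf_eq_one])
  have hxz : x * z = z * x := by
    have : x * z * x⁻¹ = z := by
      conv_rhs => rw [← hzz, hz, ← inv_pow, ← hinv, conj_pow]
    exact mul_inv_eq_iff_eq_mul.1 this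
  obtain ⟨R, hxR, hzR⟩ := exists_sylow_of_commute hxz hx hzo
  obtain ⟨c, hc⟩ := MulAction.exists_smul_eq G R S
  have hu : ∀ w ∈ (R : Subgroup G), orderOf w = 2 → c * w * c⁻¹ = q.a ^ 2 ^ (q.n + 2) :=
    fun w hw hwo => q.eq_of_orderOf_two
      (by rw [← hc]; exact Subgroup.smul_mem_pointwise_smul w (MulAut.conj c) _ hw)
      (by rw [← MulAut.conj_apply, MulEquiv.orderOf_eq, hwo])
  have hxeq : x = z :=
    mul_left_cancel (mul_right_cancel ((hu x hxR hx).trans (hu z hzR hzo).symm))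
  have hcomm : x * g = g * x := by rw [hxeq, hz]; exact ((Commute.refl g).pow_left _).eq
  rw [hcomm, mul_inv_cancel_right, eq_inv_iff_mul_eq_one, ← sq] at hinv
  have h2 := Nat.le_of_dvd two_pos (orderOf_dvd_of_pow_eq_one hinv)
  have h5 := Nat.le_of_dvd (orderOf_pos g) h4
  omega

/-- Sum of an irreducible character over products of two conjugates. -/
lemma sum_pairs (χ : IrrCharacter G) (t : G) [DecidablePred fun x => IsConj t x] :
    ∑ x ∈ Finset.univ.filter (fun x => IsConj t x),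
      ∑ y ∈ Finset.univ.filter (fun x => IsConj t x), (χ : G → ℂ) (x * y) =
      (Nat.card {x : G // IsConj t x} : ℂ) ^ 2 * (χ : G → ℂ) t ^ 2 / (χ : G → ℂ) 1 := by
  classical
  obtain ⟨d, ρ, hρ, hρc⟩ := χ.2
  rw [← hρc]
  have h := Chars.classSum_eq_scalar ρ t
  set c := (Nat.card {x : G // IsConj t x} : ℂ) * ρ.character t /
    (Module.finrank ℂ (Fin d → ℂ) : ℂ) with hc
  have h2 : ∑ x ∈ Finset.univ.filter (fun x => IsConj t x), ρ x =
      c • (LinearMap.id : (Fin d → ℂ) →ₗ[ℂ] (Fin d → ℂ)) := by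
    rw [← h, Chars.classSum, Finset.sum_filter]
    exact Finset.sum_congr rfl fun x _ => by split_ifs <;> rfl
  have h3 : ∀ x y : G, ρ.character (x * y) = LinearMap.trace ℂ _ (ρ x * ρ y) := fun x y => by
    rw [← map_mul]; rfl
  simp only [h3, ← map_sum, ← Finset.mul_sum, h2, ← Finset.sum_mul]
  rw [← Module.End.one_eq_id, smul_mul_smul_comm, one_mul, map_smul, LinearMap.trace_one,
    smul_eq_mul, hc, Representation.char_one]
  have hd : (Module.finrank ℂ (Fin d → ℂ) : ℂ) ≠ 0 := by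
    have h1 : (χ : G → ℂ) 1 ≠ 0 := Chars.irr_degree_ne_zero χ.2
    rwa [← hρc, Representation.char_one] at h1
  field_simp

/-- The Brauer–Suzuki kernel. -/
theorem exists_kernel : ∃ M : Subgroup G, M.Normal ∧ q.a ^ 2 ^ (q.n + 2) ∈ M ∧
    (∀ x : G, orderOf x = 2 → x ∈ M) ∧ q.a ^ 2 ∉ M ∧ ¬ commutator G ≤ M := by
  classical
  obtain ⟨χ₁, χ₂, hne1, -, hd, hoff, ha2⟩ := q.exists_exceptional
  set t := q.a ^ 2 ^ (q.n + 2) with ht
  have hto : orderOf t = 2 := q.orderOf_central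
  have hT : ∀ x, IsConj t x → orderOf x = 2 := fun x hx => by
    obtain ⟨g, rfl⟩ := isConj_iff.1 hx
    rw [← MulAut.conj_apply, MulEquiv.orderOf_eq, hto]
  set F := Finset.univ.filter (fun x => IsConj t x) with hF
  have hsum : ∑ x ∈ F, ∑ y ∈ F, ((χ₁ : G → ℂ) (x * y) - (χ₂ : G → ℂ) (x * y) - 1) = 0 :=
    Finset.sum_eq_zero fun x hx => Finset.sum_eq_zero fun y hy => by
      rw [hoff _ (q.not_four_dvd (hT x (Finset.mem_filter.1 hx).2)
        (hT y (Finset.mem_filter.1 hy).2)), sub_self]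
  simp only [Finset.sum_sub_distrib, Finset.sum_const, nsmul_eq_mul, mul_one] at hsum
  rw [sum_pairs χ₁ t, sum_pairs χ₂ t] at hsum
  have hk : (F.card : ℂ) = (Nat.card {x : G // IsConj t x} : ℂ) := by
    rw [hF, Nat.card_eq_fintype_card, Fintype.card_subtype]
  rw [hk] at hsum
  have hk0 : (Nat.card {x : G // IsConj t x} : ℂ) ≠ 0 :=
    Nat.cast_ne_zero.2 (Nat.card_pos_iff.2 ⟨⟨⟨t, IsConj.refl t⟩⟩, inferInstance⟩).ne'
  have hb := hoff t (by rw [hto]; norm_num)
  have hd2 : (χ₂ : G → ℂ) 1 ≠ 0 := Chars.irr_degree_ne_zero χ₂.2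
  have hd1 : (χ₂ : G → ℂ) 1 + 1 ≠ 0 := hd ▸ Chars.irr_degree_ne_zero χ₁.2
  rw [hd, show (χ₁ : G → ℂ) t = (χ₂ : G → ℂ) t + 1 by linear_combination hb] at hsum
  field_simp at hsum
  have hsq : ((χ₂ : G → ℂ) t - (χ₂ : G → ℂ) 1) ^ 2 = 0 := by
    have : (Nat.card {x : G // IsConj t x} : ℂ) ^ 2 *
        ((χ₂ : G → ℂ) t - (χ₂ : G → ℂ) 1) ^ 2 = 0 := by linear_combination -hsum
    exact (mul_eq_zero.1 this).resolve_left (pow_ne_zero 2 hk0)
  have h2 : (χ₂ : G → ℂ) t = (χ₂ : G → ℂ) 1 := sub_eq_zero.1 (pow_eq_zero_iff two_ne_zero |>.1 hsq)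
  have h1 : (χ₁ : G → ℂ) t = (χ₁ : G → ℂ) 1 := by linear_combination hb + h2 - hd
  haveI := CharApps.charKer_normal χ₁
  haveI := CharApps.charKer_normal χ₂
  have hMn : (CharApps.charKer χ₁ ⊓ CharApps.charKer χ₂).Normal := inferInstance
  have htM : t ∈ CharApps.charKer χ₁ ⊓ CharApps.charKer χ₂ :=
    ⟨CharApps.mem_charKer.2 h1, CharApps.mem_charKer.2 h2⟩
  refine ⟨_, hMn, htM, fun x hx => ?_, fun h => ?_, fun h => ?_⟩
  · obtain ⟨g, rfl⟩ := isConj_iff.1 (q.isConj_involution hx)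
    exact hMn.conj_mem t htM g
  · rw [CharApps.mem_charKer.1 h.1, CharApps.mem_charKer.1 h.2, hd] at ha2
    have : (1 : ℂ) = -3 := by linear_combination ha2
    norm_num at this
  · have hlin := degree_one_of_commutators χ₁.2 fun x y => CharApps.mem_charKer.1
      ((h.trans inf_le_left) (Subgroup.commutator_mem_commutator (Subgroup.mem_top x) (Subgroup.mem_top y)))
    rw [hd] at hlin
    exact hd2 (by linear_combination hlin)

/-- Two-subgroups of a normal subgroup avoiding the square of the generator are cyclic. -/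
lemma le_conj_A {M : Subgroup G} (hM : M.Normal) (ha : q.a ^ 2 ∉ M) {P : Subgroup G}
    (hPM : P ≤ M) (hP : IsPGroup 2 P) : ∃ g : G, P.map (MulAut.conj g).toMonoidHom ≤ q.A := by
  obtain ⟨R, hR⟩ := hP.exists_le_sylow
  obtain ⟨g, hg⟩ := MulAction.exists_smul_eq G R S
  refine ⟨g, ?_⟩
  rintro _ ⟨x, hx, rfl⟩
  have hs : g * x * g⁻¹ ∈ (S : Subgroup G) := by
    rw [← hg]; exact Subgroup.smul_mem_pointwise_smul x (MulAut.conj g) _ (hR hx)
  show g * x * g⁻¹ ∈ q.A
  have hsM : g * x * g⁻¹ ∈ M := hM.conj_mem _ (hPM hx) g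
  obtain ⟨i, hi | hi⟩ := q.cover _ hs
  · rw [hi]; exact Subgroup.npow_mem_zpowers _ _
  · exfalso
    refine ha ?_
    rw [hi] at hsM
    have h1 : q.a * (q.b * q.a ^ i) * q.a⁻¹ * (q.b * q.a ^ i)⁻¹ ∈ M :=
      M.mul_mem (hM.conj_mem _ hsM q.a) (M.inv_mem hsM)
    rwa [show q.a * (q.b * q.a ^ i) * q.a⁻¹ * (q.b * q.a ^ i)⁻¹ = q.a ^ 2 by
      rw [mul_inv_rev, show q.a * (q.b * q.a ^ i) * q.a⁻¹ * ((q.a ^ i)⁻¹ * q.b⁻¹) =
        q.a * (q.b * q.a * q.b⁻¹)⁻¹ by group, q.conj_a, inv_inv, sq]] at h1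

include q in
/-- The Sylow subgroups of the group generated by the involutions are cyclic. -/
theorem isCyclic_sylow_closure
    (Q : Sylow 2 ↥(Subgroup.closure {g : G | orderOf g = 2})) : IsCyclic Q := by
  obtain ⟨M, hM, -, hinv, ha, -⟩ := q.exists_kernel
  revert Q
  generalize hW : Subgroup.closure {g : G | orderOf g = 2} = W
  intro Q
  have hWM : W ≤ M := hW ▸ (Subgroup.closure_le M).2 hinv
  obtain ⟨g, hg⟩ := q.le_conj_A hM ha (((Subgroup.map_subtype_le _).trans hWM)) (Q.2.map W.subtype)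
  have hc : IsCyclic ↥(((Q : Subgroup W).map W.subtype).map (MulAut.conj g).toMonoidHom) :=
    isCyclic_of_injective (Subgroup.inclusion hg) (Subgroup.inclusion_injective hg)
  haveI := hc
  let e := (((Q : Subgroup W).equivMapOfInjective W.subtype W.subtype_injective).trans
    (((Q : Subgroup W).map W.subtype).equivMapOfInjective (MulAut.conj g).toMonoidHom
      (MulAut.conj g).injective))
  show IsCyclic (Q : Subgroup W)
  exact isCyclic_of_surjective e.symm e.symm.surjective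

include q in
/-- The Brauer–Suzuki theorem for order at least sixteen. -/
theorem card_center (hO : ∀ N : Subgroup G, N.Normal → Odd (Nat.card N) → N = ⊥) :
    Nat.card (Subgroup.center G) = 2 := by
  classical
  obtain ⟨M, hM, htM, -, ha, -⟩ := q.exists_kernel
  set t := q.a ^ 2 ^ (q.n + 2) with ht
  obtain ⟨Q⟩ : Nonempty (Sylow 2 M) := inferInstance
  have hQc : IsCyclic Q := by
    obtain ⟨g, hg⟩ := q.le_conj_A hM ha (Subgroup.map_subtype_le _) (Q.2.map M.subtype)
    haveI : IsCyclic ↥(((Q : Subgroup M).map M.subtype).map (MulAut.conj g).toMonoidHom) :=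
      isCyclic_of_injective (Subgroup.inclusion hg) (Subgroup.inclusion_injective hg)
    let e := (((Q : Subgroup M).equivMapOfInjective M.subtype M.subtype_injective).trans
      (((Q : Subgroup M).map M.subtype).equivMapOfInjective (MulAut.conj g).toMonoidHom
        (MulAut.conj g).injective))
    show IsCyclic (Q : Subgroup M)
    exact isCyclic_of_surjective e.symm e.symm.surjective
  have hmin : (Nat.card M).minFac = 2 := by
    rw [Nat.minFac_eq_two_iff, ← q.orderOf_central]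
    exact Subgroup.orderOf_dvd_natCard M htM
  set K₀ := (MonoidHom.transferSylow Q (hQc.normalizer_le_centralizer hmin)).ker
  have hcompl : K₀.IsComplement' (Q : Subgroup M) :=
    MonoidHom.ker_transferSylow_isComplement' Q (hQc.normalizer_le_centralizer hmin)
  have hK₀ : ¬ 2 ∣ Nat.card K₀ :=
    MonoidHom.not_dvd_card_ker_transferSylow Q (hQc.normalizer_le_centralizer hmin)
  have hKbot : K₀.map M.subtype = ⊥ := by
    refine hO _ ⟨fun k hk g => ?_⟩ ?_
    · obtain ⟨k, hk', rfl⟩ := hk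
      refine ⟨⟨g * k * g⁻¹, hM.conj_mem _ k.2 g⟩, ?_, rfl⟩
      show _ ∈ K₀
      rw [MonoidHom.mem_ker, ← orderOf_eq_one_iff]
      obtain ⟨j, hj⟩ := (IsPGroup.iff_orderOf.1 Q.2)
        (MonoidHom.transferSylow Q (hQc.normalizer_le_centralizer hmin) ⟨g * k * g⁻¹, hM.conj_mem _ k.2 g⟩)
      refine Nat.eq_one_of_dvd_coprimes ((Nat.coprime_two_left.2 ?_).pow_left j) (dvd_of_eq hj)
        (orderOf_map_dvd _ _)
      rw [Subgroup.orderOf_mk, ← MulAut.conj_apply, MulEquiv.orderOf_eq, Subgroup.orderOf_coe]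
      exact (Nat.odd_iff.2 (Nat.two_dvd_ne_zero.1 hK₀)).of_dvd_nat
        (Subgroup.orderOf_dvd_natCard K₀ hk')
    · rw [Subgroup.card_map_of_injective M.subtype_injective]
      exact Nat.odd_iff.2 (Nat.two_dvd_ne_zero.1 hK₀)
  have hMp : IsPGroup 2 M := by
    obtain ⟨k, hk⟩ := IsPGroup.iff_card.1 Q.2
    refine IsPGroup.iff_card.2 ⟨k, ?_⟩
    have h1 := hcompl.card_mul_card
    rw [← Subgroup.card_map_of_injective M.subtype_injective (K := K₀), hKbot, Subgroup.card_bot,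
      one_mul, hk] at h1
    exact h1.symm
  have hMS : M ≤ (S : Subgroup G) :=
    le_sup_left.trans_eq (S.3 (IsPGroup.to_sup_of_normal_left hMp S.2) le_sup_right)
  have htc : t ∈ Subgroup.center G := Subgroup.mem_center_iff.2 fun g => by
    have h := q.eq_of_orderOf_two (hMS (hM.conj_mem t htM g))
      (by rw [← MulAut.conj_apply, MulEquiv.orderOf_eq, q.orderOf_central])
    exact mul_inv_eq_iff_eq_mul.1 h
  have hcen : Subgroup.center G = Subgroup.zpowers t := by
    refine le_antisymm (fun z hz => ?_) (Subgroup.zpowers_le.2 htc)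
    obtain ⟨k, u, hu, hku⟩ := Nat.exists_eq_two_pow_mul_odd (orderOf_pos z).ne'
    have hn : ∀ w ∈ Subgroup.center G, (Subgroup.zpowers w).Normal := fun w hw => ⟨fun v hv g => by
      rw [Subgroup.mem_center_iff.1 ((Subgroup.zpowers_le.2 hw) hv) g, mul_inv_cancel_right]
      exact hv⟩
    have h1 : z ^ 2 ^ k = 1 := by
      have := hO _ (hn _ (Subgroup.pow_mem _ hz _)) (by
        rw [Nat.card_zpowers, orderOf_pow_of_dvd (by positivity) ⟨u, hku⟩, hku,
          Nat.mul_div_cancel_left _ (by positivity)]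
        exact hu)
      exact Subgroup.zpowers_eq_bot.1 this
    haveI := hn z hz
    have hzp : IsPGroup 2 (Subgroup.zpowers z) := by
      obtain ⟨j, -, hj⟩ := (Nat.dvd_prime_pow Nat.prime_two).1 (orderOf_dvd_of_pow_eq_one h1)
      exact IsPGroup.iff_card.2 ⟨j, by rw [Nat.card_zpowers, hj]⟩
    have hzS : z ∈ (S : Subgroup G) :=
      (le_sup_left.trans_eq (S.3 (IsPGroup.to_sup_of_normal_left hzp S.2) le_sup_right) :
        Subgroup.zpowers z ≤ (S : Subgroup G)) (Subgroup.mem_zpowers z)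
    rcases q.eq_of_central hzS (Subgroup.mem_center_iff.1 hz q.a).symm
      (Subgroup.mem_center_iff.1 hz q.b).symm with h | h
    · rw [h]; exact one_mem _
    · rw [h]; exact Subgroup.mem_zpowers t
  rw [hcen, Nat.card_zpowers, q.orderOf_central]

end QuatData

end CfsgLib.CharsMore
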