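import Cfsg.Agent.Lib.CharsMore.CoherenceBasic

/-!
# Coherence for irreducible families: adding one member
-/

set_option linter.unusedSectionVars false
set_option linter.style.haveILetI false

namespace CfsgLib.CharsMore

open Cfsg
open scoped ComplexConjugate

variable {L : Type*} [Group L] [Fintype L] {G : Type*} [Group G] [Fintype G]

lemma irr_inner_self {χ : L → ℂ} (h : IsIrrCharacter L χ) : classInner χ χ = 1 :=
  Chars.inner_irr_self ⟨χ, h⟩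

lemma irr_orth {χ ψ : L → ℂ} (hχ : IsIrrCharacter L χ) (hψ : IsIrrCharacter L ψ) (hne : χ ≠ ψ) :
    classInner χ ψ = 0 := by
  rw [Chars.inner_irr_of_isIrr hχ hψ, if_neg hne]

lemma gen_one_ne_zero_of_norm_one {θ : L → ℂ} (h : θ ∈ genChar L) (hn : classInner θ θ = 1) :
    θ 1 ≠ 0 := by
  rcases Chars.irr_or_neg_irr_of_norm_one h hn with h' | h'
  · exact Chars.irr_degree_ne_zero h'
  · intro e
    exact Chars.irr_degree_ne_zero h' (by simp [e])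

/-- Images of the coherent map in degree proportion. -/
lemma coh_value_prop {S : Set (L → ℂ)} {τ τ₁ : (L → ℂ) → (G → ℂ)}
    (hτ₁ : IsLinearIsometryOn (zspan S) τ₁) (hag : ∀ α ∈ zspanOn S {1}ᶜ, τ₁ α = τ α)
    (hτ1 : ∀ α ∈ zspanOn S {1}ᶜ, τ α 1 = 0) {φ ψ : L → ℂ} (hφ : φ ∈ S) (hψ : ψ ∈ S) {m n : ℕ}
    (hm : φ 1 = m) (hn : ψ 1 = n) : (n : ℂ) * τ₁ φ 1 = (m : ℂ) * τ₁ ψ 1 := by
  set M : Submodule ℤ (L → ℂ) := Submodule.span ℤ S
  have hτM : IsLinearIsometryOn (M : Set (L → ℂ)) τ₁ := hτ₁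
  have hφM : φ ∈ M := Submodule.subset_span hφ
  have hψM : ψ ∈ M := Submodule.subset_span hψ
  have h1 : ((n : ℤ) : ℂ) • φ ∈ M := by rw [← zsmul_eq_cast]; exact M.smul_mem _ hφM
  have h2 : ((m : ℤ) : ℂ) • ψ ∈ M := by rw [← zsmul_eq_cast]; exact M.smul_mem _ hψM
  have hmem : ((n : ℤ) : ℂ) • φ - ((m : ℤ) : ℂ) • ψ ∈ zspanOn S {1}ᶜ :=
    mem_zspanOn_one.2 ⟨M.sub_mem h1 h2, by simp [hm, hn]; ring⟩
  have h := hτ1 _ hmem
  rw [← hag _ hmem, isometry_map_sub hτM h1 h2, isometry_map_smul hτM hφM,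
    isometry_map_smul hτM hψM] at h
  simpa [sub_eq_zero] using h

/-- One more irreducible member. -/
theorem coherent_extend_irr (S₀ : Finset (L → ℂ)) {χ : L → ℂ} [DecidableEq (L → ℂ)]
    (hirr : ∀ ξ ∈ S₀, IsIrrCharacter L ξ) (hχ : IsIrrCharacter L χ) (hχS : χ ∉ S₀)
    (d : (L → ℂ) → ℕ) (hd : ∀ ξ ∈ insert χ S₀, ξ 1 = (d ξ : ℂ)) {τ : (L → ℂ) → (G → ℂ)}
    (hτ : IsLinearIsometryOn (zspanOn (↑(insert χ S₀) : Set (L → ℂ)) {1}ᶜ) τ)
    (hτ1 : ∀ α ∈ zspanOn (↑(insert χ S₀) : Set (L → ℂ)) {1}ᶜ, τ α 1 = 0)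
    (hcoh : IsCoherent (↑S₀ : Set (L → ℂ)) {1}ᶜ τ) {ψ : L → ℂ} (hψ : ψ ∈ S₀) (hdvd : d ψ ∣ d χ)
    (hlt : 2 * d ψ * d χ < ∑ ξ ∈ S₀, d ξ ^ 2) :
    IsCoherent (↑(insert χ S₀) : Set (L → ℂ)) {1}ᶜ τ := by
  obtain ⟨⟨α₀, hα₀, hα₀ne⟩, τ₁, hτ₁, hag⟩ := hcoh
  obtain ⟨a, ha⟩ := hdvd
  have hsub' : (↑S₀ : Set (L → ℂ)) ⊆ ↑(insert χ S₀) := fun φ h => Finset.mem_insert_of_mem h
  have hI : ∀ ξ ∈ insert χ S₀, IsIrrCharacter L ξ := fun ξ h =>
    (Finset.mem_insert.1 h).elim (fun e => e ▸ hχ) (hirr ξ)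
  have hsub : ∀ φ ∈ S₀, φ ∈ zspan (↑S₀ : Set (L → ℂ)) := fun φ h => Submodule.subset_span h
  have hpos : ∀ ξ ∈ insert χ S₀, 0 < d ξ := fun ξ h => by
    obtain ⟨k, hk, e⟩ := Chars.irr_degree_nat (hI ξ h)
    have : k = d ξ := by exact_mod_cast e.symm.trans (hd ξ h)
    omega
  have hd₀ := fun ξ (h : ξ ∈ S₀) => hd ξ (Finset.mem_insert_of_mem h)
  have hψ0 : 0 < d ψ := hpos ψ (Finset.mem_insert_of_mem hψ)
  have hne : ∀ φ ∈ S₀, φ ≠ χ := fun φ h e => hχS (e ▸ h)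
  set N : Submodule ℤ (L → ℂ) := zspanOnSub (↑(insert χ S₀) : Set (L → ℂ)) {1}ᶜ
  have hτN : IsLinearIsometryOn (N : Set (L → ℂ)) τ := hτ
  set M : Submodule ℤ (L → ℂ) := Submodule.span ℤ (↑S₀ : Set (L → ℂ))
  have hτM : IsLinearIsometryOn (M : Set (L → ℂ)) τ₁ := hτ₁
  have hτφ : ∀ φ ∈ S₀, ∀ φ' ∈ S₀, classInner (τ₁ φ) (τ₁ φ') = if φ = φ' then 1 else 0 := by
    intro φ hφ φ' hφ'
    rw [hτ₁.2.2.1 φ (hsub φ hφ) φ' (hsub φ' hφ'),
      Chars.inner_irr_of_isIrr (hirr φ hφ) (hirr φ' hφ')]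
  have ha1 : χ 1 = ((a : ℤ) : ℂ) * ψ 1 := by
    rw [hd χ (Finset.mem_insert_self _ _), hd₀ ψ hψ, ha]; push_cast; ring
  set γ := χ - ((a : ℤ) : ℂ) • ψ with hγdef
  have hγ : γ ∈ N := by
    refine mem_zspanOn_one.2 ⟨?_, by simp [hγdef, ha1]⟩
    rw [hγdef, ← zsmul_eq_cast]
    exact Submodule.sub_mem _ (Submodule.subset_span (Finset.mem_insert_self χ S₀))
      (Submodule.smul_mem _ _ (Submodule.subset_span (Finset.mem_insert_of_mem hψ)))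
  set β := τ γ with hβ
  have hβgen : β ∈ genChar G := hτN.2.2.2 γ hγ
  have hτ₁gen : ∀ φ ∈ S₀, τ₁ φ ∈ genChar G := fun φ h => hτ₁.2.2.2 φ (hsub φ h)
  -- the integer coefficients
  have hcoef : ∀ φ ∈ S₀, ∃ e : ℤ, classInner β (τ₁ φ) = e := fun φ h =>
    inner_gen_int hβgen (hτ₁gen φ h)
  choose! e he using hcoef
  set b : ℤ := e ψ + a with hb
  have hrel : ∀ φ ∈ S₀, (d ψ : ℤ) * e φ = d φ * b - (if φ = ψ then (a : ℤ) * d ψ else 0) := by
    intro φ hφ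
    set θ := ((d ψ : ℤ) : ℂ) • φ - ((d φ : ℤ) : ℂ) • ψ with hθ
    have hm1 : ((d ψ : ℤ) : ℂ) • φ ∈ M := by rw [← zsmul_eq_cast]; exact M.smul_mem _ (hsub φ hφ)
    have hm2 : ((d φ : ℤ) : ℂ) • ψ ∈ M := by rw [← zsmul_eq_cast]; exact M.smul_mem _ (hsub ψ hψ)
    have hθmem : θ ∈ zspanOn (↑S₀ : Set (L → ℂ)) {1}ᶜ :=
      mem_zspanOn_one.2 ⟨M.sub_mem hm1 hm2, by simp [hθ, hd₀ φ hφ, hd₀ ψ hψ]; ring⟩
    have h1 : classInner β (τ₁ θ) = classInner γ θ := by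
      rw [hag θ hθmem, hβ, hτN.2.2.1 _ hγ _ (zspanOn_mono hsub' _ hθmem)]
    rw [hθ, isometry_map_sub hτM hm1 hm2, isometry_map_smul hτM (hsub φ hφ),
      isometry_map_smul hτM (hsub ψ hψ), Chars.inner_sub_right, Chars.inner_smul_right,
      Chars.inner_smul_right, he φ hφ, he ψ hψ, hγdef, Chars.inner_sub_left,
      Chars.inner_smul_left, Chars.inner_sub_right, Chars.inner_sub_right,
      Chars.inner_smul_right, Chars.inner_smul_right, Chars.inner_smul_right,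
      Chars.inner_smul_right, irr_orth hχ (hirr φ hφ) (hne φ hφ).symm,
      irr_orth hχ (hirr ψ hψ) (hne ψ hψ).symm, irr_inner_self (hirr ψ hψ),
      Chars.inner_irr_of_isIrr (hirr ψ hψ) (hirr φ hφ), map_intCast, map_intCast] at h1
    have h2 : ((d ψ : ℤ) * e φ : ℂ) =
        ((d φ * b - (if φ = ψ then (a : ℤ) * d ψ else 0) : ℤ) : ℂ) := by
      rw [hb]
      rcases eq_or_ne φ ψ with rfl | hne'
      · simp only [if_pos] at h1 ⊢; push_cast at h1 ⊢; linear_combination h1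
      · simp only [if_neg hne', if_neg (Ne.symm hne')] at h1 ⊢
        push_cast at h1 ⊢; linear_combination h1
    exact_mod_cast h2
  set W := ∑ φ ∈ S₀, (e φ : ℂ) • τ₁ φ with hW
  set X := β - W with hX
  have hXo : ∀ φ ∈ S₀, classInner X (τ₁ φ) = 0 := fun φ hφ => by
    rw [hX, Chars.inner_sub_left, he φ hφ, hW, Chars.inner_sum_left,
      Finset.sum_eq_single φ (fun ψ' hψ' hne' => by
        rw [Chars.inner_smul_left, hτφ ψ' hψ' φ hφ, if_neg hne', mul_zero])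
        (fun h => absurd hφ h), Chars.inner_smul_left, hτφ φ hφ φ hφ, if_pos rfl, mul_one,
      sub_self]
  have hXgen : X ∈ genChar G := (genChar G).sub_mem hβgen (Submodule.sum_mem _ fun φ hφ => by
    rw [← zsmul_eq_cast]; exact (genChar G).smul_mem _ (hτ₁gen φ hφ))
  have hββ : classInner β β = 1 + (a : ℂ) ^ 2 := by
    rw [hβ, hτN.2.2.1 _ hγ _ hγ, hγdef, Chars.inner_sub_left, Chars.inner_sub_right,
      Chars.inner_sub_right, Chars.inner_smul_left, Chars.inner_smul_left, Chars.inner_smul_right,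
      Chars.inner_smul_right, irr_orth hχ (hirr ψ hψ) (hne ψ hψ).symm,
      irr_orth (hirr ψ hψ) hχ (hne ψ hψ), irr_inner_self hχ, irr_inner_self (hirr ψ hψ),
      map_intCast]
    push_cast
    ring
  have hβW : classInner β W = ((∑ φ ∈ S₀, e φ ^ 2 : ℤ) : ℂ) := by
    rw [hW, Chars.inner_sum_right, Int.cast_sum]
    exact Finset.sum_congr rfl fun φ hφ => by
      rw [Chars.inner_smul_right, he φ hφ, map_intCast]; push_cast; ring
  have hXX : classInner X X = ((1 + (a : ℤ) ^ 2 - ∑ φ ∈ S₀, e φ ^ 2 : ℤ) : ℂ) := by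
    have hXW : classInner X W = 0 := by
      rw [hW, Chars.inner_sum_right]
      exact Finset.sum_eq_zero fun φ hφ => by rw [Chars.inner_smul_right, hXo φ hφ, mul_zero]
    conv_lhs => arg 2; rw [hX]
    rw [Chars.inner_sub_right, hXW, sub_zero, hX, Chars.inner_sub_left, hββ,
      ← Chars.inner_conj β W, hβW, map_intCast]
    push_cast
    ring
  obtain ⟨T, hT⟩ : ∃ T : ℤ, T = ∑ φ ∈ S₀, (d φ : ℤ) ^ 2 := ⟨_, rfl⟩
  have hlt' : 2 * (a : ℤ) * (d ψ : ℤ) ^ 2 < T := by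
    rw [ha] at hlt
    have : ((2 * d ψ * (d ψ * a) : ℕ) : ℤ) < ((∑ ξ ∈ S₀, d ξ ^ 2 : ℕ) : ℤ) := by exact_mod_cast hlt
    push_cast at this
    rw [hT]
    linarith
  have hsq : (d ψ : ℤ) ^ 2 * ∑ φ ∈ S₀, e φ ^ 2 =
      b ^ 2 * T - 2 * a * (d ψ : ℤ) ^ 2 * b + (d ψ : ℤ) ^ 2 * (a : ℤ) ^ 2 := by
    rw [Finset.mul_sum, Finset.sum_congr rfl (fun φ hφ => show (d ψ : ℤ) ^ 2 * e φ ^ 2 =
        b ^ 2 * (d φ : ℤ) ^ 2 + (if φ = ψ then (a : ℤ) ^ 2 * (d ψ : ℤ) ^ 2 -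
          2 * a * d ψ * d ψ * b else 0) by
      rw [← mul_pow, hrel φ hφ]
      split_ifs with h
      · subst h; ring
      · ring), Finset.sum_add_distrib, Finset.sum_ite_eq', if_pos hψ, ← Finset.mul_sum, ← hT]
    ring
  have hXnn : 0 ≤ 1 + (a : ℤ) ^ 2 - ∑ φ ∈ S₀, e φ ^ 2 := by
    have := inner_self_re_nonneg X
    rw [hXX, Complex.intCast_re] at this
    exact_mod_cast this
  have hb0 : b = 0 := by
    by_contra hbne
    have hbb : 0 < b ^ 2 * T - 2 * a * (d ψ : ℤ) ^ 2 * b := by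
      rcases lt_or_gt_of_ne hbne with hn | hp
      · have h1 : 0 < T := lt_of_le_of_lt (by positivity) hlt'
        have h2 : 0 < b ^ 2 * T := mul_pos (by positivity) h1
        have h3 : 0 ≤ 2 * (a : ℤ) * (d ψ : ℤ) ^ 2 * (-b) :=
          mul_nonneg (by positivity) (by omega)
        linarith
      · have h1 : b ^ 2 * (2 * (a : ℤ) * (d ψ : ℤ) ^ 2) < b ^ 2 * T :=
          mul_lt_mul_of_pos_left hlt' (by positivity)
        have h2 : b * (2 * (a : ℤ) * (d ψ : ℤ) ^ 2) ≤ b ^ 2 * (2 * (a : ℤ) * (d ψ : ℤ) ^ 2) :=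
          mul_le_mul_of_nonneg_right (Int.le_self_sq b) (by positivity)
        linarith
    have hz : 1 + (a : ℤ) ^ 2 - ∑ φ ∈ S₀, e φ ^ 2 = 0 := by
      by_contra h
      have h1 : 1 ≤ 1 + (a : ℤ) ^ 2 - ∑ φ ∈ S₀, e φ ^ 2 := by omega
      nlinarith [mul_le_mul_of_nonneg_left h1 (sq_nonneg ((d ψ : ℤ)))]
    have hX0 : X = 0 := by
      rw [← Chars.inner_self_eq_zero_iff, hXX, hz, Int.cast_zero]
    have hβ0 : W 1 = 0 := by
      rw [hX, sub_eq_zero] at hX0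
      rw [← hX0, hβ]
      exact hτ1 γ hγ
    have hψ1 : τ₁ ψ 1 ≠ 0 := gen_one_ne_zero_of_norm_one (hτ₁gen ψ hψ) (by
      rw [hτφ ψ hψ ψ hψ, if_pos rfl])
    have hsum : ((b * T - (a : ℤ) * (d ψ : ℤ) ^ 2 : ℤ) : ℂ) * τ₁ ψ 1 = 0 := by
      have : ((d ψ : ℂ) ^ 2) * W 1 = ((b * T - (a : ℤ) * (d ψ : ℤ) ^ 2 : ℤ) : ℂ) * τ₁ ψ 1 := by
        rw [hW, Finset.sum_apply, Finset.mul_sum,
          show b * T - (a : ℤ) * (d ψ : ℤ) ^ 2 = ∑ φ ∈ S₀, ((d φ : ℤ) *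
            ((d φ : ℤ) * b - (if φ = ψ then (a : ℤ) * d ψ else 0))) by
            rw [Finset.sum_congr rfl (fun φ _ => show (d φ : ℤ) *
                ((d φ : ℤ) * b - (if φ = ψ then (a : ℤ) * d ψ else 0)) = b * (d φ : ℤ) ^ 2 -
                  (if φ = ψ then (a : ℤ) * (d ψ : ℤ) ^ 2 else 0) by
                split_ifs with h
                · subst h; ring
                · ring), Finset.sum_sub_distrib, ← Finset.mul_sum, ← hT, Finset.sum_ite_eq',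
              if_pos hψ],
          Int.cast_sum, Finset.sum_mul]
        refine Finset.sum_congr rfl fun φ hφ => ?_
        rw [← hrel φ hφ, Pi.smul_apply, smul_eq_mul]
        have := coh_value_prop hτ₁ hag (fun α h => hτ1 α (zspanOn_mono hsub' _ h)) hφ hψ
          (hd₀ φ hφ) (hd₀ ψ hψ)
        push_cast
        linear_combination ((d ψ : ℂ) * e φ) * this
      rw [← this, hβ0, mul_zero]
    have hz2 : b * T - (a : ℤ) * (d ψ : ℤ) ^ 2 = 0 := by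
      exact_mod_cast (mul_eq_zero.1 hsum).resolve_right hψ1
    rcases lt_or_gt_of_ne hbne with hn | hp
    · nlinarith
    · nlinarith [mul_le_mul_of_nonneg_right (show 1 ≤ b by omega) (show (0 : ℤ) ≤ T by nlinarith)]
  have hee : ∀ φ ∈ S₀, e φ = if φ = ψ then -(a : ℤ) else 0 := by
    intro φ hφ
    have h := hrel φ hφ
    have hz : (d ψ : ℤ) ≠ 0 := by omega
    rw [hb0, mul_zero] at h
    split_ifs at h ⊢ with h'
    · exact mul_left_cancel₀ hz (by linarith)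
    · exact mul_left_cancel₀ hz (by linarith)
  have hWe : W = -(((a : ℤ) : ℂ) • τ₁ ψ) := by
    rw [hW, Finset.sum_eq_single ψ (fun φ hφ hne' => by
      rw [hee φ hφ, if_neg hne', Int.cast_zero, zero_smul]) (fun h => absurd hψ h), hee ψ hψ,
      if_pos rfl, Int.cast_neg, neg_smul]
  have hXn : classInner X X = classInner χ χ := by
    rw [hXX, irr_inner_self hχ, Finset.sum_eq_single ψ (fun φ hφ hne' => by
      rw [hee φ hφ, if_neg hne', zero_pow two_ne_zero]) (fun h => absurd hψ h), hee ψ hψ,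
      if_pos rfl]
    push_cast
    ring
  obtain ⟨τ₂, hτ₂, hag₂, -, -⟩ := extend_one hχS
    (fun φ hφ φ' hφ' h => irr_orth (hI φ hφ) (hI φ' hφ') h)
    (fun φ hφ => by rw [irr_inner_self (hI φ hφ)]; exact one_ne_zero)
    hτ hτ₁ hag hψ (a : ℤ) ha1 hXgen hXn hXo
    (by rw [← hγdef, ← hβ, hX, hWe]; abel)
  exact ⟨⟨α₀, zspanOn_mono hsub' _ hα₀, hα₀ne⟩, τ₂, hτ₂, hag₂⟩

end CfsgLib.CharsMore
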