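import Cfsg.Agent.Lib.CharsMore.FrobKernelChars
import Cfsg.Agent.Lib.CharsMore.CoherenceIrr

/-!
# Coherence by increasing degree; central subgroups of `p`-kernels (Peterfalvi 6.6)
-/

set_option linter.unusedSectionVars false
set_option linter.style.haveILetI false

namespace CfsgLib.CharsMore

open Cfsg

variable {L : Type*} [Group L] [Fintype L] {G : Type*} [Group G] [Fintype G]

/-- Coherence propagates along increasing degrees when the square sums dominate. -/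
theorem coherent_by_degree [DecidableEq (L → ℂ)] (F S₀ : Finset (L → ℂ)) (hsub : S₀ ⊆ F)
    (hirr : ∀ ξ ∈ F, IsIrrCharacter L ξ) {τ : (L → ℂ) → (G → ℂ)}
    (hτ : IsLinearIsometryOn (zspanOn (↑F : Set (L → ℂ)) {1}ᶜ) τ)
    (hτ1 : ∀ α ∈ zspanOn (↑F : Set (L → ℂ)) {1}ᶜ, τ α 1 = 0)
    (hcoh : IsCoherent (↑S₀ : Set (L → ℂ)) {1}ᶜ τ)
    (hstep : ∀ χ ∈ F, χ ∉ S₀ → ∃ ψ ∈ S₀, charDegree ψ ∣ charDegree χ ∧
      2 * charDegree ψ * charDegree χ <
        ∑ ξ ∈ F.filter (fun ξ => ξ ∈ S₀ ∨ charDegree ξ < charDegree χ), charDegree ξ ^ 2) :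
    IsCoherent (↑F : Set (L → ℂ)) {1}ᶜ τ := by
  suffices h : ∀ T : Finset (L → ℂ), T ⊆ F \ S₀ →
      (∀ η ∈ T, ∀ ξ ∈ F \ S₀, charDegree ξ < charDegree η → ξ ∈ T) →
      IsCoherent (↑(S₀ ∪ T) : Set (L → ℂ)) {1}ᶜ τ by
    have := h (F \ S₀) subset_rfl fun _ _ ξ hξ _ => hξ
    rwa [Finset.union_sdiff_of_subset hsub] at this
  intro T
  induction T using Finset.induction_on_max_value (ι := L → ℂ) (f := charDegree) with
  | empty => intro _ _; rwa [Finset.union_empty]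
  | insert a s has hmax ih =>
    intro hT hdown
    rw [Finset.insert_subset_iff] at hT
    have hs : ∀ η ∈ s, ∀ ξ ∈ F \ S₀, charDegree ξ < charDegree η → ξ ∈ s := by
      intro η hη ξ hξ hlt
      rcases Finset.mem_insert.1 (hdown η (Finset.mem_insert_of_mem hη) ξ hξ hlt) with rfl | h
      · exact absurd (hmax η hη) hlt.not_ge
      · exact h
    obtain ⟨haF, haS⟩ := Finset.mem_sdiff.1 hT.1
    have hsF : S₀ ∪ s ⊆ F := Finset.union_subset hsub fun ξ h => (Finset.mem_sdiff.1 (hT.2 h)).1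
    have hins : insert a (S₀ ∪ s) ⊆ F := Finset.insert_subset haF hsF
    obtain ⟨ψ, hψ, hdvd, hlt⟩ := hstep a haF haS
    rw [Finset.union_insert]
    refine coherent_extend_irr (S₀ ∪ s) (fun ξ h => hirr ξ (hsF h)) (hirr a haF)
      (by simp [haS, has]) charDegree
      (fun ξ h => CharApps.deg_eq_of_isChar (Chars.isCharacter_of_irr (hirr ξ (hins h))))
      (isometry_mono (zspanOn_mono (Finset.coe_subset.2 hins) _) hτ)
      (fun α hα => hτ1 α (zspanOn_mono (Finset.coe_subset.2 hins) _ hα))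
      (ih hT.2 hs) (Finset.mem_union_left _ hψ) hdvd (hlt.trans_le ?_)
    refine Finset.sum_le_sum_of_subset fun ξ hξ => ?_
    obtain ⟨hξF, hξ⟩ := Finset.mem_filter.1 hξ
    rcases hξ with hξ | hξ
    · exact Finset.mem_union_left _ hξ
    · by_cases h : ξ ∈ S₀
      · exact Finset.mem_union_left _ h
      · refine Finset.mem_union_right _ ?_
        rcases Finset.mem_insert.1 (hdown a (Finset.mem_insert_self _ _) ξ
          (Finset.mem_sdiff.2 ⟨hξF, h⟩) hξ) with rfl | h'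
        · exact absurd hξ (lt_irrefl _)
        · exact h'

variable {K : Subgroup L} [hK : K.Normal]

/-- The square sum of irreducible induced characters. -/
lemma weight_nat [Fintype K] [Fintype (IrrCharacter K)] [DecidableEq (L → ℂ)]
    (S₁ : Finset (L → ℂ)) (hS₁ : (↑S₁ : Set (L → ℂ)) ⊆ inducedIrrAbove K ⊥)
    (hirr : ∀ φ ∈ S₁, IsIrrCharacter L φ) :
    ∑ φ ∈ S₁, charDegree φ ^ 2 = K.index * ∑ θ ∈ Finset.univ.filter
      (fun θ : IrrCharacter K => indFun K (θ : K → ℂ) ∈ S₁), charDegree (θ : K → ℂ) ^ 2 := by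
  have h := weight_eq K S₁ hS₁ (fun _ => 1) fun φ hφ => by
    rw [Chars.inner_irr_self ⟨φ, hirr φ hφ⟩, Nat.cast_one]
  simp only [Nat.cast_one, div_one] at h
  exact_mod_cast h

/-- The square sum over the inducing characters is divisible by the index. -/
lemma index_dvd_weight [Fintype K] [Fintype (IrrCharacter K)] [DecidableEq (L → ℂ)]
    (S₁ : Finset (L → ℂ)) (hS₁ : (↑S₁ : Set (L → ℂ)) ⊆ inducedIrrAbove K ⊥)
    (hirr : ∀ φ ∈ S₁, IsIrrCharacter L φ) :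
    K.index ∣ ∑ θ ∈ Finset.univ.filter
      (fun θ : IrrCharacter K => indFun K (θ : K → ℂ) ∈ S₁), charDegree (θ : K → ℂ) ^ 2 := by
  have h1 : K.index * K.index ∣ ∑ φ ∈ S₁, charDegree φ ^ 2 := by
    refine Finset.dvd_sum fun φ hφ => ?_
    obtain ⟨θ, hθ, -, -, rfl⟩ := hS₁ hφ
    rw [charDegree_indFun K (Chars.isCharacter_of_irr hθ), mul_pow, sq K.index]
    exact dvd_mul_right _ _
  rw [weight_nat S₁ hS₁ hirr] at h1
  exact (Nat.mul_dvd_mul_iff_left (Nat.pos_of_ne_zero Subgroup.index_ne_zero_of_finite)).1 h1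

section PGroup

variable {Q : Type*} [Group Q] [Fintype Q] {p : ℕ}

lemma degree_pPow (hp : p.Prime) (hQ : IsPGroup p Q) (θ : IrrCharacter Q) :
    ∃ i, charDegree (θ : Q → ℂ) = p ^ i := by
  obtain ⟨d, -, hd, hdvd⟩ := Chars.irr_degree_dvd_card θ.2
  haveI := Fact.mk hp
  obtain ⟨k, hk⟩ := IsPGroup.iff_card.1 hQ
  rw [hk, Nat.dvd_prime_pow hp] at hdvd
  obtain ⟨i, -, rfl⟩ := hdvd
  refine ⟨i, ?_⟩
  rw [charDegree, hd, Complex.natCast_re, Nat.floor_natCast]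

/-- In a `p`-group the squared degree divides the index of a central subgroup. -/
lemma degree_sq_dvd_index (hp : p.Prime) (hQ : IsPGroup p Q) {Z : Subgroup Q}
    (hZ : Z ≤ Subgroup.center Q) (θ : IrrCharacter Q) : charDegree (θ : Q → ℂ) ^ 2 ∣ Z.index := by
  obtain ⟨i, hi⟩ := degree_pPow hp hQ θ
  have hle := degree_sq_le_index θ.2 Z fun z hz => norm_eq_of_commutes_mod_ker θ.2 fun c => by
    rw [← Subgroup.mem_center_iff.1 (hZ hz) c, mul_inv_cancel_right, mul_inv_cancel]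
  haveI := Fact.mk hp
  obtain ⟨k, hk⟩ := IsPGroup.iff_card.1 hQ
  obtain ⟨j, -, hj⟩ := (Nat.dvd_prime_pow hp).1 (hk ▸ Z.index_dvd_card)
  rw [hi, hj, ← pow_mul] at hle
  rw [hi, hj, ← pow_mul]
  exact pow_dvd_pow p ((Nat.pow_le_pow_iff_right hp.one_lt).1 hle)

/-- The square sum of the degrees below `m` of characters nontrivial on a central subgroup. -/
lemma sq_dvd_sum_nonkill [Fintype (IrrCharacter Q)] (hp : p.Prime) (hQ : IsPGroup p Q)
    {Z : Subgroup Q} [Z.Normal] (hZ : Z ≤ Subgroup.center Q) (θ : IrrCharacter Q)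
    [DecidablePred fun ψ : IrrCharacter Q => ¬ Z ≤ CharApps.charKer ψ ∧
      charDegree (ψ : Q → ℂ) < charDegree (θ : Q → ℂ)] :
    charDegree (θ : Q → ℂ) ^ 2 ∣ ∑ ψ ∈ Finset.univ.filter (fun ψ : IrrCharacter Q =>
      ¬ Z ≤ CharApps.charKer ψ ∧ charDegree (ψ : Q → ℂ) < charDegree (θ : Q → ℂ)),
        charDegree (ψ : Q → ℂ) ^ 2 := by
  classical
  have hkill := CharApps.sum_filter_degree_sq Z
  have hall := CharApps.sum_degree_sq_nat (G := Q)
  rw [← Finset.sum_filter_add_sum_filter_not Finset.univ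
    (fun ψ : IrrCharacter Q => Z ≤ CharApps.charKer ψ), hkill] at hall
  have hidx := degree_sq_dvd_index hp hQ hZ θ
  have hnk : charDegree (θ : Q → ℂ) ^ 2 ∣ ∑ ψ ∈ Finset.univ.filter
      (fun ψ : IrrCharacter Q => ¬ Z ≤ CharApps.charKer ψ), charDegree (ψ : Q → ℂ) ^ 2 :=
    (Nat.dvd_add_right hidx).1 (hall ▸ hidx.trans Z.index_dvd_card)
  rw [← Finset.sum_filter_add_sum_filter_not (Finset.univ.filter
    (fun ψ : IrrCharacter Q => ¬ Z ≤ CharApps.charKer ψ))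
    (fun ψ => charDegree (ψ : Q → ℂ) < charDegree (θ : Q → ℂ))] at hnk
  have e : (Finset.univ.filter (fun ψ : IrrCharacter Q => ¬ Z ≤ CharApps.charKer ψ)).filter
      (fun ψ : IrrCharacter Q => charDegree (ψ : Q → ℂ) < charDegree (θ : Q → ℂ)) =
      Finset.univ.filter (fun ψ : IrrCharacter Q => ¬ Z ≤ CharApps.charKer ψ ∧
        charDegree (ψ : Q → ℂ) < charDegree (θ : Q → ℂ)) := by ext ψ; simp
  rw [e] at hnk
  refine (Nat.dvd_add_left (Finset.dvd_sum fun ψ hψ => ?_)).1 hnk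
  obtain ⟨-, hge⟩ := Finset.mem_filter.1 hψ
  obtain ⟨i, hi⟩ := degree_pPow hp hQ θ
  obtain ⟨j, hj⟩ := degree_pPow hp hQ ψ
  rw [hi, hj, not_lt] at hge
  rw [hi, hj]
  exact pow_dvd_pow_of_dvd (pow_dvd_pow p ((Nat.pow_le_pow_iff_right hp.one_lt).1 hge)) 2

end PGroup

variable {τ : (L → ℂ) → (G → ℂ)}

/-- `m² · e` divides the square sum below degree `m` over the characters nontrivial on `Z`. -/
lemma lower_weight_ge [Fintype K] [Fintype (IrrCharacter K)] [DecidableEq (L → ℂ)] {p : ℕ}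
    (hp : p.Prime) (hKp : IsPGroup p K) (hcop : Nat.Coprime p K.index) {Z : Subgroup L} [Z.Normal]
    (hZK : Z ≤ K) (hZc : ∀ z ∈ Z, ∀ k ∈ K, z * k = k * z)
    (hirr : ∀ χ ∈ inducedIrrAbove K ⊥ \ inducedIrrAbove K Z, IsIrrCharacter L χ)
    (S₁ : Finset (L → ℂ)) (θ : IrrCharacter K) (hne : S₁.Nonempty)
    (hS₁ : ∀ φ, φ ∈ S₁ ↔ φ ∈ inducedIrrAbove K ⊥ \ inducedIrrAbove K Z ∧
      charDegree φ < K.index * charDegree (θ : K → ℂ)) :
    K.index ^ 2 * charDegree (θ : K → ℂ) ^ 2 ≤ ∑ φ ∈ S₁, charDegree φ ^ 2 := by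
  classical
  have hsub : (↑S₁ : Set (L → ℂ)) ⊆ inducedIrrAbove K ⊥ := fun φ h => ((hS₁ φ).1 h).1.1
  have hi : ∀ φ ∈ S₁, IsIrrCharacter L φ := fun φ h => hirr φ ((hS₁ φ).1 h).1
  have hd := index_dvd_weight S₁ hsub hi
  have hsq := sq_dvd_sum_nonkill hp hKp (Z := Z.subgroupOf K)
    (fun z hz => Subgroup.mem_center_iff.2 fun k => Subtype.ext (hZc z hz k k.2).symm) θ
  have hpos : 0 < K.index := Nat.pos_of_ne_zero Subgroup.index_ne_zero_of_finite
  have hset : Finset.univ.filter (fun ψ : IrrCharacter K => ¬ Z.subgroupOf K ≤ CharApps.charKer ψ ∧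
      charDegree (ψ : K → ℂ) < charDegree (θ : K → ℂ)) =
      Finset.univ.filter (fun ψ : IrrCharacter K => indFun K (ψ : K → ℂ) ∈ S₁) := by
    ext ψ
    simp only [Finset.mem_filter, Finset.mem_univ, true_and, hS₁,
      charDegree_indFun K (Chars.isCharacter_of_irr ψ.2), Set.mem_sdiff,
      mem_inducedIrrAbove_bot K ψ.2, mem_inducedIrrAbove K hZK ψ.2, Nat.mul_lt_mul_left hpos]
    refine and_congr_left fun _ => ⟨fun h => ⟨fun e => h fun a _ => ?_, fun h' => h h'.2⟩,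
      fun h h' => h.2 ⟨h.1, h'⟩⟩
    show (ψ : K → ℂ) a = (ψ : K → ℂ) 1
    rw [e]
  rw [hset] at hsq
  obtain ⟨i, hi'⟩ := degree_pPow hp hKp θ
  have hdvd := Nat.Coprime.mul_dvd_of_dvd_of_dvd
    (by rw [hi', ← pow_mul]; exact (Nat.Coprime.pow_left _ hcop).symm) hd hsq
  have hTpos : 0 < ∑ φ ∈ S₁, charDegree φ ^ 2 :=
    Finset.sum_pos (fun φ h => pow_pos (CharApps.deg_pos ⟨φ, hi φ h⟩) 2) hne
  rw [weight_nat S₁ hsub hi] at hTpos ⊢
  rw [sq K.index, mul_assoc]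
  exact Nat.mul_le_mul_left _ (Nat.le_of_dvd (Nat.pos_of_mul_pos_left hTpos) hdvd)

/-- Peterfalvi 6.6 for a `p`-group kernel. -/
theorem coherent_central_pGroup {R : (L → ℂ) → Finset (G → ℂ)}
    (hS : IsCoherenceSystem (inducedIrrAbove K ⊥) τ R) {p : ℕ} (hp : p.Prime) (hp2 : p ≠ 2)
    (hKp : IsPGroup p K) (hcop : Nat.Coprime p K.index) {Z : Subgroup L} [Z.Normal] (hZK : Z ≤ K)
    (hZc : ∀ z ∈ Z, ∀ k ∈ K, z * k = k * z)
    (hirr : ∀ χ ∈ inducedIrrAbove K ⊥ \ inducedIrrAbove K Z, IsIrrCharacter L χ)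
    (hne : (inducedIrrAbove K ⊥ \ inducedIrrAbove K Z).Nonempty) :
    IsCoherent (inducedIrrAbove K ⊥ \ inducedIrrAbove K Z) {1}ᶜ τ := by
  classical
  let _ : Fintype K := Fintype.ofFinite _
  haveI := Chars.irrFintype K
  set X := inducedIrrAbove K ⊥ \ inducedIrrAbove K Z
  have hXfin : X.Finite := (inducedIrrAbove_finite K ⊥).subset Set.sdiff_subset
  set F := hXfin.toFinset with hFdef
  have hF : ∀ φ, φ ∈ F ↔ φ ∈ X := fun φ => Set.Finite.mem_toFinset _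
  have hXc : ∀ φ ∈ X, conjFun φ ∈ X := fun φ h => ⟨inducedIrrAbove_conj K h.1,
    fun h' => h.2 (by simpa [conjFun_conjFun] using inducedIrrAbove_conj K h')⟩
  obtain ⟨χ₀, hχ₀, hmin⟩ := F.exists_min_image charDegree
    (hne.imp fun φ h => (hF φ).2 h)
  set S₀ := F.filter (fun φ => charDegree φ = charDegree χ₀)
  have hS₀sub : S₀ ⊆ F := Finset.filter_subset _ _
  have hFsub : (↑F : Set (L → ℂ)) ⊆ inducedIrrAbove K ⊥ := fun φ h => ((hF φ).1 h).1
  have hS₀S : (↑S₀ : Set (L → ℂ)) ⊆ inducedIrrAbove K ⊥ := fun φ h => hFsub (hS₀sub h)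
  have hdeg : ∀ φ ∈ inducedIrrAbove K ⊥, φ 1 = (charDegree φ : ℂ) := fun φ h =>
    CharApps.deg_eq_of_isChar (hS.isCharacter φ h)
  have hχ₀S₀ : χ₀ ∈ S₀ := Finset.mem_filter.2 ⟨hχ₀, rfl⟩
  have hcoh₀ : IsCoherent (↑S₀ : Set (L → ℂ)) {1}ᶜ τ := by
    refine coherent_of_equal_degree (coh_system_mono hS hS₀S ⟨χ₀, hχ₀S₀⟩ fun φ h => ?_)
      fun φ h ψ h' => ?_
    · obtain ⟨hφF, hφd⟩ := Finset.mem_filter.1 h
      refine Finset.mem_filter.2 ⟨(hF _).2 (hXc φ ((hF φ).1 hφF)), ?_⟩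
      rw [← hφd]
      simp [charDegree, conjFun]
    · rw [hdeg φ (hS₀S h), hdeg ψ (hS₀S h'), (Finset.mem_filter.1 h).2, (Finset.mem_filter.1 h').2]
  have := coherent_by_degree F S₀ hS₀sub (fun φ h => hirr φ ((hF φ).1 h))
    (isometry_mono (zspanOn_mono hFsub _) hS.isometry)
    (fun α h => hS.map_one α (zspanOn_mono hFsub _ h)) hcoh₀ ?_
  · rwa [hFdef, Set.Finite.coe_toFinset] at this
  intro χ hχ hχ₀'
  have hlt : charDegree χ₀ < charDegree χ := lt_of_le_of_ne (hmin χ hχ)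
    fun e => hχ₀' (Finset.mem_filter.2 ⟨hχ, e.symm⟩)
  obtain ⟨θ, hθ, -, -, rfl⟩ := ((hF χ).1 hχ).1
  obtain ⟨θ₀, hθ₀, -, -, rfl⟩ := ((hF χ₀).1 hχ₀).1
  rw [charDegree_indFun K (Chars.isCharacter_of_irr hθ)] at hlt ⊢
  rw [charDegree_indFun K (Chars.isCharacter_of_irr hθ₀)] at hlt
  have hpos : 0 < K.index := Nat.pos_of_ne_zero Subgroup.index_ne_zero_of_finite
  obtain ⟨i, hi⟩ := degree_pPow hp hKp ⟨θ, hθ⟩
  obtain ⟨n, hn⟩ := degree_pPow hp hKp ⟨θ₀, hθ₀⟩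
  change charDegree θ = p ^ i at hi
  change charDegree θ₀ = p ^ n at hn
  have hni : n < i := (Nat.pow_lt_pow_iff_right hp.one_lt).1
    (hi ▸ hn ▸ Nat.lt_of_mul_lt_mul_left hlt)
  refine ⟨_, hχ₀S₀, ?_, ?_⟩
  · rw [charDegree_indFun K (Chars.isCharacter_of_irr hθ₀), hi, hn]
    exact Nat.mul_dvd_mul_left _ (pow_dvd_pow p hni.le)
  rw [charDegree_indFun K (Chars.isCharacter_of_irr hθ₀)]
  have hlow : K.index ^ 2 * charDegree θ ^ 2 ≤ ∑ ξ ∈ F.filter (fun ξ =>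
      ξ ∈ S₀ ∨ charDegree ξ < K.index * charDegree θ), charDegree ξ ^ 2 := by
    refine lower_weight_ge hp hKp hcop hZK hZc hirr _ ⟨θ, hθ⟩ ⟨indFun K θ₀, ?_⟩ fun φ => ?_
    · exact Finset.mem_filter.2 ⟨hχ₀, Or.inl hχ₀S₀⟩
    · rw [Finset.mem_filter, hF]
      refine ⟨fun ⟨h1, h2⟩ => ⟨h1, ?_⟩, fun ⟨h1, h2⟩ => ⟨h1, Or.inr h2⟩⟩
      rcases h2 with h2 | h2
      · rw [(Finset.mem_filter.1 h2).2, charDegree_indFun K (Chars.isCharacter_of_irr hθ₀)]
        exact hlt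
      · exact h2
  refine lt_of_lt_of_le ?_ hlow
  rw [hi, hn]
  have h3 : 3 * p ^ n ≤ p ^ i := by
    calc 3 * p ^ n ≤ p * p ^ n := Nat.mul_le_mul_right _ (by
          have := hp.two_le; omega)
      _ = p ^ (n + 1) := by ring
      _ ≤ p ^ i := Nat.pow_le_pow_right hp.pos hni
  have hi0 : 0 < p ^ i := pow_pos hp.pos _
  have h2 : 2 * p ^ n < p ^ i := by
    have : 0 < p ^ n := pow_pos hp.pos _
    omega
  calc 2 * (K.index * p ^ n) * (K.index * p ^ i) = K.index ^ 2 * p ^ i * (2 * p ^ n) := by ring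
    _ < K.index ^ 2 * p ^ i * p ^ i := by
      refine Nat.mul_lt_mul_of_pos_left h2 ?_
      positivity
    _ = K.index ^ 2 * (p ^ i) ^ 2 := by ring

end CfsgLib.CharsMore

namespace CfsgLib.CharsMore

open Cfsg

variable {L : Type*} [Group L] [Fintype L] {K : Subgroup L} [hK : K.Normal]
  {G : Type*} [Group G] [Fintype G] {τ : (L → ℂ) → (G → ℂ)}

lemma sdiff_inducedIrrAbove_nonempty {Z : Subgroup L} [Z.Normal] (hZK : Z ≤ K) (hZ1 : Z ≠ ⊥) :
    (inducedIrrAbove K ⊥ \ inducedIrrAbove K Z).Nonempty := by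
  classical
  obtain ⟨z, hz, hz1⟩ := (Subgroup.bot_or_exists_ne_one Z).resolve_left hZ1
  by_contra hcon
  refine hz1 (congrArg Subtype.val (CharApps.eq_one_of_forall_ker (g := (⟨z, hZK hz⟩ : K))
    fun θ => ?_))
  by_contra hne
  refine hcon ⟨indFun K (θ : K → ℂ), (mem_inducedIrrAbove_bot K θ.2).2 fun e => hne (by rw [e]),
    fun h => hne (((mem_inducedIrrAbove K hZK θ.2).1 h).2 ⟨z, hZK hz⟩ hz)⟩

/-- In a `p`-kernel with fixed point free quotient action the index is prime to `p`. -/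
lemma coprime_index_of_frob {p : ℕ} (hp : p.Prime) (hKp : IsPGroup p K) {H₁ : Subgroup L}
    [H₁.Normal] (hH₁K : H₁ < K) (hcomm : ⁅K, K⁆ ≤ H₁)
    (hfrob : ∀ k ∈ K, k ∉ H₁ → ∀ x : L, x * k * x⁻¹ * k⁻¹ ∈ H₁ → x ∈ K) :
    Nat.Coprime p K.index := by
  haveI := Fact.mk hp
  have hd := index_dvd_of_frob hH₁K.le le_rfl hcomm hfrob
  obtain ⟨a, ha⟩ := IsPGroup.iff_card.1 (hKp.to_quotient (H₁.subgroupOf K))
  have hr : H₁.relIndex K = p ^ a := by rw [← ha]; exact Subgroup.index_eq_card _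
  have ha0 : a ≠ 0 := fun h => hH₁K.not_ge (Subgroup.relIndex_eq_one.1 (by rw [hr, h, pow_zero]))
  refine hp.coprime_iff_not_dvd.2 fun h => ?_
  have h1 : p ∣ p ^ a - 1 := hr ▸ h.trans hd
  exact hp.one_lt.ne' (Nat.dvd_one.1
    ((Nat.dvd_sub_iff_right (Nat.one_le_pow _ _ hp.pos) (dvd_pow_self p ha0)).1 h1))

/-- Peterfalvi 6.6. -/
theorem coherent_central {R : (L → ℂ) → Finset (G → ℂ)} (hsolv : Group.IsSolvable K)
    (hS : IsCoherenceSystem (inducedIrrAbove K ⊥) τ R) (hodd : Odd (Nat.card L))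
    (hnil : Group.IsNilpotent K) (hH₁K : ⁅K, K⁆ < K)
    (hfrob : ∀ k ∈ K, k ∉ ⁅K, K⁆ → ∀ x : L, x * k * x⁻¹ * k⁻¹ ∈ ⁅K, K⁆ → x ∈ K) {Z : Subgroup L}
    [Z.Normal] (hZ1 : Z ≠ ⊥) (hZK : Z ≤ K) (hZc : ∀ z ∈ Z, ∀ k ∈ K, z * k = k * z)
    (hirr : ∀ χ ∈ inducedIrrAbove K ⊥ \ inducedIrrAbove K Z, IsIrrCharacter L χ) :
    IsCoherent (inducedIrrAbove K ⊥ \ inducedIrrAbove K Z) {1}ᶜ τ := by
  classical
  have hne := sdiff_inducedIrrAbove_nonempty hZK hZ1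
  by_cases hpp : ∃ p m : ℕ, p.Prime ∧ Nat.card K = p ^ m
  · obtain ⟨p, m, hp, hm⟩ := hpp
    haveI := Fact.mk hp
    have hKp : IsPGroup p K := IsPGroup.iff_card.2 ⟨m, hm⟩
    refine coherent_central_pGroup hS hp (fun h2 => ?_) hKp
      (coprime_index_of_frob hp hKp hH₁K le_rfl hfrob) hZK hZc hirr hne
    subst h2
    have hm0 : m ≠ 0 := fun h => hH₁K.ne_bot (K.eq_bot_of_card_eq (by rw [hm, h, pow_zero]))
    have h1 : Odd (Nat.card K) := hodd.of_dvd_nat (Subgroup.card_subgroup_dvd_card K)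
    rw [hm, Nat.odd_pow_iff hm0] at h1
    exact absurd h1 (by decide)
  · haveI : ((⊥ : Subgroup L).subgroupOf K).Normal := by
      rw [Subgroup.bot_subgroupOf]; infer_instance
    haveI := hnil
    have hcohS := coherent_kernel (M := ⊥) hsolv hS hodd bot_le inferInstance (sup_bot_eq _).symm
      hH₁K hfrob (Or.inr (Or.inr (Or.inl fun ⟨p, m, hp, hm⟩ => hpp ⟨p, m, hp, by
        rwa [Subgroup.relIndex_bot_left] at hm⟩)))
    exact isCoherent_mono hS hcohS Set.sdiff_subset Set.sdiff_subset hne fun φ h =>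
      ⟨inducedIrrAbove_conj K h.1,
        fun h' => h.2 (by simpa [conjFun_conjFun] using inducedIrrAbove_conj K h')⟩

end CfsgLib.CharsMore
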