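import Cfsg.Agent.Lib.CharsMore.CdTwo
import Cfsg.Agent.Lib.CharsMore.CoherenceDescent
import Cfsg.Agent.Lib.CharsMore.CoherenceCentral
import Mathlib

/-!
# Groups whose irreducible degrees are 1 and a prime
-/

set_option linter.unusedSectionVars false
set_option linter.style.haveILetI false

namespace CfsgLib.CharsMore.CdTwo

open Cfsg
open scoped commutatorElement

universe u

/-- Linear characters separate an element from a subgroup of an abelian group. -/
lemma exists_hom_separating {A : Type u} [Group A] [Finite A] (hA : ∀ a b : A, a * b = b * a)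
    (U : Subgroup A) {x : A} (hx : x ∉ U) :
    ∃ μ : A →* ℂˣ, (∀ u ∈ U, μ u = 1) ∧ μ x ≠ 1 := by
  haveI : U.Normal := ⟨fun u hu g => by rwa [hA g u, mul_inv_cancel_right]⟩
  obtain ⟨θ, hθ⟩ : ∃ θ : IrrCharacter (A ⧸ U), (θ : A ⧸ U → ℂ) (x : A ⧸ U) ≠ (θ : A ⧸ U → ℂ) 1 := by
    by_contra hcon
    push Not at hcon
    exact hx ((QuotientGroup.eq_one_iff x).1 (Chars.eq_one_of_forall_irr hcon))
  have hq : ∀ a b : A ⧸ U, a * b = b * a := fun a b => by
    obtain ⟨a, rfl⟩ := QuotientGroup.mk_surjective a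
    obtain ⟨b, rfl⟩ := QuotientGroup.mk_surjective b
    rw [← QuotientGroup.mk_mul, hA, QuotientGroup.mk_mul]
  obtain ⟨lam, hlam⟩ := Chars.exists_hom_of_degree_one (Chars.isCharacter_of_irr θ.2)
    (Chars.irr_abelian_degree hq θ.2)
  refine ⟨lam.comp (QuotientGroup.mk' U), fun u hu => ?_, fun h => hθ ?_⟩
  · rw [MonoidHom.comp_apply, QuotientGroup.mk'_apply, (QuotientGroup.eq_one_iff u).2 hu, map_one]
  · rw [hlam]
    show (lam (x : A ⧸ U) : ℂ) = (lam 1 : ℂ)
    rw [map_one, show lam (x : A ⧸ U) = 1 from h]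

variable {G : Type u} [Group G] [Fintype G]

/-- The structure of a maximal abelian normal subgroup when there is no abelian subgroup of
index `p`. -/
theorem center_index_of_maximal [Group.IsNilpotent G] {p : ℕ} [hp : Fact p.Prime]
    (hcd : CdTwoLE G p) (hno : ∀ B : Subgroup G, B.Normal → (∀ a ∈ B, ∀ b ∈ B, a * b = b * a) →
      B.index ≠ p) (hG : ¬ IsMulCommutative G)
    {A : Subgroup G} [hAn : A.Normal] (hA : ∀ a ∈ A, ∀ b ∈ A, a * b = b * a)
    (hC : Subgroup.centralizer (A : Set G) = A) :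
    Subgroup.center G ≤ A ∧ (Subgroup.center G).relIndex A = p ∧
      (∀ g : G, g ^ p ∈ A) ∧ (∀ g h : G, ⁅g, h⁆ ∈ A) ∧
      ∀ μ : A →* ℂˣ, (∀ g, ∀ x : A, μ (conjBy A g x) = μ x) ∨
        ∃ T : Subgroup G, A ≤ T ∧ T.index = p ∧
          (∀ g : G, g ∈ T ↔ ∀ x : A, μ (conjBy A g x) = μ x) ∧
          ∀ g ∈ T, ∀ h ∈ T, ∀ hc : ⁅g, h⁆ ∈ A, μ ⟨⁅g, h⁆, hc⟩ = 1 := by
  classical
  let _ := Fintype.ofFinite A
  have hZA : Subgroup.center G ≤ A := fun z hz => hC ▸ Subgroup.mem_centralizer_iff.2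
    fun a _ => Subgroup.mem_center_iff.1 hz a
  let I : (A →* ℂˣ) → Subgroup G := fun μ => inertia A (linFun μ)
  have hI : ∀ μ g, g ∈ I μ ↔ ∀ x : A, μ (conjBy A g x) = μ x := fun μ g => by
    rw [mem_inertia]
    exact forall_congr' fun x => Units.val_inj
  have hIA : ∀ μ, A ≤ I μ := fun μ =>
    le_inertia A (Chars.isClassFunction_of_isCharacter (isCharacter_linFun μ).1)
  -- each stabiliser has index `1` or `p`, and its characters above `μ` are linear
  have hT : ∀ μ, I μ = ⊤ ∨ ((I μ).index = p ∧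
      ∀ g ∈ I μ, ∀ h ∈ I μ, ∀ hc : ⁅g, h⁆ ∈ A, μ ⟨⁅g, h⁆, hc⟩ = 1) := by
    intro μ
    rcases eq_or_ne (I μ) ⊤ with h | hne
    · exact Or.inl h
    right
    let _ := Fintype.ofFinite (I μ)
    obtain ⟨χ, hχ⟩ := exists_over A (isIrrCharacter_linFun μ)
    obtain ⟨ψ, hψ, hind, hmul, hres⟩ :=
      exists_correspondent A (hIA μ) (isIrrCharacter_linFun μ) rfl χ.2 hχ
    obtain ⟨d, hd0, hd⟩ := Chars.irr_degree_nat hψ
    have h1 : charDegree (χ : G → ℂ) = (I μ).index * d := by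
      have := congrFun hind 1
      rw [Chars.indFun_one_apply, hd, CharApps.deg_eq] at this
      exact_mod_cast this.symm
    have hidx : (I μ).index ≠ 1 := fun h => hne (Subgroup.index_eq_one.1 h)
    have hd' : 0 < d := Nat.pos_of_ne_zero fun h => Chars.irr_degree_ne_zero hψ (by rw [hd, h]; simp)
    have h2 : charDegree (χ : G → ℂ) = p := by
      rcases hcd χ with h | h
      · exact absurd (Nat.eq_one_of_mul_eq_one_right (h1.symm.trans h)) hidx
      · exact h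
    rw [h2] at h1
    have hIp : (I μ).index = p := ((Nat.dvd_prime hp.out).1 (Dvd.intro _ h1.symm)).resolve_left hidx
    refine ⟨hIp, fun g hg h hh hc => ?_⟩
    have hd1 : d = 1 := by
      rw [hIp] at h1
      exact (Nat.mul_left_cancel hp.out.pos (h1.symm.trans (mul_one p).symm))
    obtain ⟨lam, hlam⟩ := Chars.exists_hom_of_degree_one (Chars.isCharacter_of_irr hψ)
      (by rw [hd, hd1, Nat.cast_one])
    have hc' : (⟨⁅g, h⁆, hIA μ hc⟩ : I μ) = ⁅(⟨g, hg⟩ : I μ), (⟨h, hh⟩ : I μ)⁆ := Subtype.ext rfl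
    have h3 : ψ ⟨⁅g, h⁆, hIA μ hc⟩ = ψ 1 := by
      rw [hlam, hc']
      show (lam _ : ℂ) = (lam 1 : ℂ)
      rw [map_commutatorElement, commutatorElement_eq_one_iff_mul_comm.2 (mul_comm _ _), map_one]
    have h4 := hres ⟨⁅g, h⁆, hc⟩
    have h5 := hres 1
    rw [h3] at h4
    have h6 : linFun μ ⟨⁅g, h⁆, hc⟩ = linFun μ 1 := mul_left_cancel₀ hχ
      (h4.symm.trans ((show ψ 1 = ψ ⟨((1 : A) : G), hIA μ (1 : A).2⟩ from rfl).trans h5))
    exact Units.ext (h6.trans (congrArg Units.val (map_one μ)))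
  have hTn : ∀ μ, (I μ).Normal := by
    intro μ
    rcases hT μ with h | ⟨h, -⟩
    · rw [h]; infer_instance
    · refine Subgroup.NormalizerCondition.normal_of_coatom _ Group.normalizerCondition_of_isNilpotent
        ⟨fun e => hp.out.one_lt.ne' (h ▸ (e ▸ Subgroup.index_top)), fun K hK => ?_⟩
      have h1 := Subgroup.relIndex_mul_index hK.le
      rw [h] at h1
      have h2 : (I μ).relIndex K ≠ 1 := fun e => hK.not_ge (Subgroup.relIndex_eq_one.1 e)
      have h3 := ((Nat.dvd_prime hp.out).1 (Dvd.intro _ h1)).resolve_left h2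
      rw [h3] at h1
      exact Subgroup.index_eq_one.1 (Nat.mul_left_cancel hp.out.pos (h1.trans (mul_one p).symm))
  have hfaith : ∀ x : A, (∀ μ : A →* ℂˣ, μ x = 1) → x = 1 := by
    intro x hx
    by_contra hne
    obtain ⟨μ, -, hμ⟩ := exists_hom_separating (fun a b : A => Subtype.ext (hA a a.2 b b.2)) ⊥
      (fun h => hne (Subgroup.mem_bot.1 h))
    exact hμ (hx μ)
  have hcen : ∀ g : G, (∀ μ, g ∈ I μ) → g ∈ A := by
    intro g hg
    rw [← hC]
    refine Subgroup.mem_centralizer_iff.2 fun a ha => ?_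
    have h := hfaith (conjBy A g ⟨a, ha⟩ * ⟨a, ha⟩⁻¹) fun μ => by
      rw [map_mul, map_inv, (hI μ g).1 (hg μ) ⟨a, ha⟩, mul_inv_cancel]
    rw [mul_inv_eq_one] at h
    have h' := congrArg Subtype.val h
    simp only [coe_conjBy] at h'
    exact (mul_inv_eq_iff_eq_mul.1 h').symm
  have hpow : ∀ g : G, g ^ p ∈ A := fun g => hcen _ fun μ => by
    rcases hT μ with h | ⟨h, -⟩
    · rw [h]; exact Subgroup.mem_top _
    · haveI := hTn μ
      exact h ▸ Subgroup.pow_index_mem (I μ) g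
  have hder : ∀ g h : G, ⁅g, h⁆ ∈ A := fun g h => hcen _ fun μ => by
    rcases hT μ with h' | ⟨h', -⟩
    · rw [h']; exact Subgroup.mem_top _
    · haveI := hTn μ
      haveI : IsCyclic (G ⧸ I μ) := isCyclic_of_prime_card (p := p) h'
      rw [← QuotientGroup.eq_one_iff]
      show (QuotientGroup.mk' (I μ)) ⁅g, h⁆ = 1
      rw [map_commutatorElement]
      exact commutatorElement_eq_one_iff_mul_comm.2 (IsMulCommutative.is_comm.comm _ _)
  refine ⟨hZA, ?_, hpow, hder, fun μ => ?_⟩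
  swap
  · rcases hT μ with h | ⟨h, h'⟩
    · exact Or.inl fun g x => (hI μ g).1 (h ▸ Subgroup.mem_top g) x
    · exact Or.inr ⟨I μ, hIA μ, h, hI μ, h'⟩
  -- the translates `μ^g / μ`
  let δ : G → (A →* ℂˣ) → (A →* ℂˣ) := fun g μ => μ.comp (conjBy A g) * μ⁻¹
  have hδ : ∀ g μ x, δ g μ x = μ (conjBy A g x) * (μ x)⁻¹ := fun _ _ _ => rfl
  -- some stabiliser is proper, and not all proper ones are equal
  have hA1 : ∃ μ, I μ ≠ ⊤ := by
    by_contra hcon
    push Not at hcon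
    apply hG
    refine ⟨⟨fun a b => ?_⟩⟩
    have h : ∀ g, g ∈ A := fun g => hcen g fun μ => hcon μ ▸ Subgroup.mem_top g
    exact hA a (h a) b (h b)
  have hA2 : ∀ μ, I μ ≠ ⊤ → ∃ ν, I ν ≠ ⊤ ∧ I ν ≠ I μ := by
    intro μ hμ
    by_contra hcon
    push Not at hcon
    refine hno A hAn hA ?_
    have hle : I μ ≤ A := fun g hg => hcen g fun ν => by
      rcases eq_or_ne (I ν) ⊤ with h | h
      · rw [h]; exact Subgroup.mem_top g
      · rw [hcon ν h]; exact hg
    rw [le_antisymm (hIA μ) hle]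
    exact ((hT μ).resolve_left hμ).1
  -- the key relation between two different stabilisers
  have hkey : ∀ μ ν : A →* ℂˣ, I μ ≠ ⊤ → I ν ≠ ⊤ → I μ ≠ I ν →
      ∀ s ∈ I ν, s ∉ I μ → ∀ t ∈ I μ, t ∉ I ν →
        (∀ g x, δ t ν (conjBy A g x) = δ t ν x) ∧ δ t ν ^ p = 1 ∧ δ t ν ≠ 1 ∧
        ∀ g, ∃ k : ℤ, δ g μ = δ t ν ^ k := by
    intro μ ν hμ hν hne s hs hs' t ht ht'
    obtain ⟨hμp, -⟩ := (hT μ).resolve_left hμ
    obtain ⟨hνp, -⟩ := (hT ν).resolve_left hν
    haveI := hTn μ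
    haveI := hTn ν
    -- the product is moved
    have hprod : I (μ * ν) ≠ ⊤ := by
      intro h
      apply ht'
      refine (hI ν t).2 fun x => ?_
      have h1 := (hI (μ * ν) t).1 (h ▸ Subgroup.mem_top t) x
      rw [MonoidHom.mul_apply, MonoidHom.mul_apply, (hI μ t).1 ht x] at h1
      exact mul_left_cancel h1
    obtain ⟨hT3p, -⟩ := (hT (μ * ν)).resolve_left hprod
    haveI := hTn (μ * ν)
    haveI : IsCyclic (G ⧸ I (μ * ν)) := isCyclic_of_prime_card (p := p) hT3p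
    have hsT : s ∉ I (μ * ν) := fun h => hs' ((hI μ s).2 fun x => by
      have h1 := (hI (μ * ν) s).1 h x
      rw [MonoidHom.mul_apply, MonoidHom.mul_apply, (hI ν s).1 hs x] at h1
      exact mul_right_cancel h1)
    obtain ⟨i, hi⟩ : ∃ i : ℕ, s ^ i * t ∈ I (μ * ν) := by
      have hne1 : (s : G ⧸ I (μ * ν)) ≠ 1 := fun h => hsT ((QuotientGroup.eq_one_iff s).1 h)
      obtain ⟨i, hi⟩ := Submonoid.mem_powers_iff _ _ |>.1 (mem_powers_of_prime_card (p := p)
        (g := (s : G ⧸ I (μ * ν))) (g' := ((t : G ⧸ I (μ * ν)))⁻¹) hT3p hne1)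
      refine ⟨i, (QuotientGroup.eq_one_iff _).1 ?_⟩
      rw [QuotientGroup.mk_mul, QuotientGroup.mk_pow, hi, inv_mul_cancel]
    have hsi : s ^ i ∈ I ν := pow_mem hs i
    have e0 : ∀ x : A, μ (conjBy A (s ^ i) x) * ν (conjBy A t x) = μ x * ν x := by
      intro x
      have h1 := (hI (μ * ν) _).1 hi x
      have e : conjBy A (s ^ i * t) x = conjBy A (s ^ i) (conjBy A t x) :=
        Subtype.ext (by simp [coe_conjBy, mul_assoc])
      rw [e, MonoidHom.mul_apply, MonoidHom.mul_apply, (hI ν _).1 hsi] at h1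
      have ht2 : (s ^ i) * t * (s ^ i)⁻¹ ∈ I μ := (hTn μ).conj_mem t ht _
      have h2 := (hI μ _).1 ht2 (conjBy A (s ^ i) x)
      have e2 : conjBy A (s ^ i * t * (s ^ i)⁻¹) (conjBy A (s ^ i) x) =
          conjBy A (s ^ i) (conjBy A t x) := Subtype.ext (by simp [coe_conjBy, mul_assoc])
      rw [e2] at h2
      rwa [h2] at h1
    set c := δ t ν with hc
    have hcμ : δ (s ^ i) μ = c⁻¹ := MonoidHom.ext fun x => by
      rw [hδ, MonoidHom.inv_apply, hc, hδ, mul_inv_rev, inv_inv, eq_comm, eq_mul_inv_iff_mul_eq]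
      rw [mul_comm (ν x), mul_assoc, inv_mul_eq_iff_eq_mul, mul_comm (ν x) (μ x), ← e0 x,
        mul_comm]
    -- invariance under both stabilisers
    have hinvν : ∀ g ∈ I ν, ∀ x, c (conjBy A g x) = c x := by
      intro g hg x
      rw [hc, hδ, hδ, (hI ν g).1 hg x]
      congr 1
      have hg2 : t * g * t⁻¹ ∈ I ν := (hTn ν).conj_mem g hg t
      have h2 := (hI ν _).1 hg2 (conjBy A t x)
      have e2 : conjBy A (t * g * t⁻¹) (conjBy A t x) = conjBy A t (conjBy A g x) :=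
        Subtype.ext (by simp [coe_conjBy, mul_assoc])
      rwa [e2] at h2
    have hinvμ : ∀ g ∈ I μ, ∀ x, c (conjBy A g x) = c x := by
      intro g hg x
      have hceq : ∀ y, c y = (δ (s ^ i) μ y)⁻¹ := fun y => by simp [hcμ]
      rw [hceq, hceq,
        hδ, hδ, (hI μ g).1 hg x, inv_inj]
      congr 1
      have hg2 : s ^ i * g * (s ^ i)⁻¹ ∈ I μ := (hTn μ).conj_mem g hg _
      have h2 := (hI μ _).1 hg2 (conjBy A (s ^ i) x)
      have e2 : conjBy A (s ^ i * g * (s ^ i)⁻¹) (conjBy A (s ^ i) x) =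
          conjBy A (s ^ i) (conjBy A g x) := Subtype.ext (by simp [coe_conjBy, mul_assoc])
      rwa [e2] at h2
    have hinv : ∀ g x, c (conjBy A g x) = c x := by
      intro g x
      have hsup : I μ ⊔ I ν = ⊤ := by
        have hlt : I μ < I μ ⊔ I ν := lt_of_le_of_ne le_sup_left fun h => by
          have hle : I ν ≤ I μ := h ▸ le_sup_right
          exact hs' (hle hs)
        have h1 := Subgroup.relIndex_mul_index hlt.le
        rw [hμp] at h1
        have h2 : (I μ).relIndex (I μ ⊔ I ν) ≠ 1 := fun h =>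
          hlt.not_ge (Subgroup.relIndex_eq_one.1 h)
        have h3 := ((Nat.dvd_prime hp.out).1 (Dvd.intro _ h1)).resolve_left h2
        rw [h3] at h1
        exact Subgroup.index_eq_one.1 (Nat.mul_left_cancel hp.out.pos (h1.trans (mul_one p).symm))
      obtain ⟨a, ha, b, hb, rfl⟩ := Subgroup.mem_sup_of_normal_left.1 (hsup ▸ Subgroup.mem_top g)
      have e : conjBy A (a * b) x = conjBy A a (conjBy A b x) :=
        Subtype.ext (by simp [coe_conjBy, mul_assoc])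
      rw [e, hinvμ a ha, hinvν b hb]
    have hc1 : c ≠ 1 := fun h => ht' ((hI ν t).2 fun x => by
      have h1 : c x = 1 := DFunLike.congr_fun h x
      rw [hc, hδ, mul_inv_eq_one] at h1
      exact h1)
    -- translates by powers
    have hpowc : ∀ j : ℕ, ∀ x, μ (conjBy A ((s ^ i) ^ j) x) = μ x * ((c x)⁻¹) ^ j := by
      intro j
      induction j with
      | zero =>
        intro x
        rw [pow_zero, pow_zero, mul_one]
        congr 1
        exact Subtype.ext (by simp [coe_conjBy])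
      | succ j ih =>
        intro x
        have e : conjBy A ((s ^ i) ^ (j + 1)) x = conjBy A ((s ^ i) ^ j) (conjBy A (s ^ i) x) :=
          Subtype.ext (by simp [coe_conjBy, pow_succ, mul_assoc])
        have h1 := DFunLike.congr_fun hcμ x
        rw [hδ, MonoidHom.inv_apply, mul_inv_eq_iff_eq_mul] at h1
        rw [e, ih, hinv, h1, pow_succ']
        rw [mul_comm (c x)⁻¹ (μ x), mul_assoc]
    have hcp : c ^ p = 1 := MonoidHom.ext fun x => by
      have h1 := (hI μ _).1 (hIA μ (hpow (s ^ i))) x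
      rw [hpowc p x] at h1
      rw [MonoidHom.pow_apply, MonoidHom.one_apply]
      simpa using mul_eq_left.1 h1
    refine ⟨hinv, hcp, hc1, fun g => ?_⟩
    have hsiμ : s ^ i ∉ I μ := by
      intro h
      apply hc1
      refine MonoidHom.ext fun x => ?_
      have h1 := DFunLike.congr_fun hcμ x
      rw [hδ, (hI μ _).1 h x, mul_inv_cancel, MonoidHom.inv_apply, eq_comm, inv_eq_one] at h1
      exact h1
    haveI : IsCyclic (G ⧸ I μ) := isCyclic_of_prime_card (p := p) hμp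
    obtain ⟨j, hj⟩ := Submonoid.mem_powers_iff _ _ |>.1 (mem_powers_of_prime_card (p := p)
      (g := ((s ^ i : G) : G ⧸ I μ)) (g' := (g : G ⧸ I μ)) hμp
      fun h => hsiμ ((QuotientGroup.eq_one_iff _).1 h))
    rw [← QuotientGroup.mk_pow] at hj
    have hm : ((s ^ i) ^ j)⁻¹ * g ∈ I μ := QuotientGroup.eq.1 hj
    refine ⟨-(j : ℤ), MonoidHom.ext fun x => ?_⟩
    have e : conjBy A g x = conjBy A ((s ^ i) ^ j) (conjBy A (((s ^ i) ^ j)⁻¹ * g) x) :=
      Subtype.ext (by simp [coe_conjBy, mul_assoc])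
    rw [hδ, e, hpowc, (hI μ _).1 hm x, hinv, MonoidHom.zpow_apply, zpow_neg, zpow_natCast,
      inv_pow, mul_comm, inv_mul_cancel_left]
  -- a common invariant character of order `p`
  obtain ⟨μ₀, hμ₀⟩ := hA1
  obtain ⟨ν₀, hν₀, hne₀⟩ := hA2 μ₀ hμ₀
  have hpick : ∀ μ ν, I μ ≠ ⊤ → I ν ≠ ⊤ → I μ ≠ I ν →
      ∃ t ∈ I μ, t ∉ I ν := by
    intro μ ν hμ hν hne
    by_contra hcon
    push Not at hcon
    have h1 := Subgroup.relIndex_mul_index (H := I μ) (K := I ν) hcon
    rw [((hT μ).resolve_left hμ).1, ((hT ν).resolve_left hν).1] at h1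
    exact hne (le_antisymm hcon (Subgroup.relIndex_eq_one.1
      (Nat.eq_of_mul_eq_mul_right hp.out.pos (h1.trans (one_mul p).symm))))
  obtain ⟨t₀, ht₀, ht₀'⟩ := hpick μ₀ ν₀ hμ₀ hν₀ hne₀.symm
  obtain ⟨s₀, hs₀, hs₀'⟩ := hpick ν₀ μ₀ hν₀ hμ₀ hne₀
  obtain ⟨hcinv, hcp, hc1, hμc⟩ := hkey μ₀ ν₀ hμ₀ hν₀ hne₀.symm s₀ hs₀ hs₀' t₀ ht₀ ht₀'
  set c := δ t₀ ν₀ with hcdef
  obtain ⟨-, -, hc1', hνc⟩ := hkey ν₀ μ₀ hν₀ hμ₀ hne₀ t₀ ht₀ ht₀' s₀ hs₀ hs₀'
  set c' := δ s₀ μ₀ with hc'def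
  have hcc' : ∀ μ : A →* ℂˣ, ∀ g, ∀ x : A, c x = 1 → μ (conjBy A g x) = μ x := by
    intro μ g x hx
    rcases eq_or_ne (I μ) ⊤ with h | hμ
    · exact (hI μ g).1 (h ▸ Subgroup.mem_top g) x
    suffices h : δ g μ x = 1 by rwa [hδ, mul_inv_eq_one] at h
    have hx' : c' x = 1 := by
      obtain ⟨k, hk⟩ := hμc s₀
      rw [show c' = c ^ k from hk, MonoidHom.zpow_apply, hx, one_zpow]
    rcases eq_or_ne (I μ) (I ν₀) with heq | hneq
    · -- compare with `μ₀`
      have hne' : I μ ≠ I μ₀ := fun h => hne₀ (heq ▸ h)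
      obtain ⟨-, -, -, hμk⟩ := hkey μ μ₀ hμ hμ₀ hne' t₀ ht₀ (heq ▸ ht₀') s₀ (heq ▸ hs₀) hs₀'
      obtain ⟨k, hk⟩ := hμk g
      rw [hk, MonoidHom.zpow_apply, hx', one_zpow]
    · obtain ⟨s, hs, hs'⟩ := hpick ν₀ μ hν₀ hμ hneq.symm
      obtain ⟨t, ht, ht'⟩ := hpick μ ν₀ hμ hν₀ hneq
      obtain ⟨-, -, -, hμk⟩ := hkey μ ν₀ hμ hν₀ hneq s hs hs' t ht ht'
      obtain ⟨k, hk⟩ := hμk g
      obtain ⟨l, hl⟩ := hνc t
      rw [hk, MonoidHom.zpow_apply, hl, MonoidHom.zpow_apply, hx', one_zpow, one_zpow]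
  have hK : ∀ x : A, c x = 1 → (x : G) ∈ Subgroup.center G := by
    intro x hx
    refine Subgroup.mem_center_iff.2 fun g => ?_
    have h := hfaith (conjBy A g x * x⁻¹) fun μ => by
      rw [map_mul, map_inv, hcc' μ g x hx, mul_inv_cancel]
    rw [mul_inv_eq_one] at h
    have h' := congrArg Subtype.val h
    simp only [coe_conjBy] at h'
    exact mul_inv_eq_iff_eq_mul.1 h'
  -- the kernel of `c` has index `p`
  have hker : c.ker.index = p := by
    rw [Subgroup.index_ker]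
    have hle : ∀ u ∈ c.range, u ∈ rootsOfUnity p ℂ := by
      rintro _ ⟨x, rfl⟩
      exact DFunLike.congr_fun hcp x
    have h1 : Nat.card c.range ∣ p := by
      refine (Subgroup.card_dvd_of_le hle).trans (dvd_of_eq ?_)
      haveI : NeZero p := ⟨hp.out.ne_zero⟩
      exact (Complex.isPrimitiveRoot_exp p hp.out.ne_zero).card_rootsOfUnity
    refine ((Nat.dvd_prime hp.out).1 h1).resolve_left fun h => hc1 (MonoidHom.ext fun x => ?_)
    exact Subgroup.mem_bot.1 ((Subgroup.card_eq_one.1 h) ▸ MonoidHom.mem_range.2 ⟨x, rfl⟩)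
  have hle : c.ker ≤ (Subgroup.center G).subgroupOf A := fun x hx => hK x (MonoidHom.mem_ker.1 hx)
  have hdvd := Subgroup.index_dvd_of_le hle
  rw [hker] at hdvd
  refine ((Nat.dvd_prime hp.out).1 hdvd).resolve_left fun h => hμ₀ ?_
  rw [Subgroup.index_eq_one, Subgroup.subgroupOf_eq_top] at h
  refine Subgroup.eq_top_iff' _ |>.2 fun g => (hI μ₀ g).2 fun x => congrArg μ₀ (Subtype.ext ?_)
  rw [coe_conjBy, Subgroup.mem_center_iff.1 (h x.2) g, mul_inv_cancel_right]

/-- Without an abelian subgroup of index `p`, the centre has index `p ^ 3`. -/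
theorem center_index_eq_cube {p : ℕ} [hp : Fact p.Prime] (hcd : CdTwoLE G p)
    (hG : ¬ IsMulCommutative G)
    (hno : ∀ B : Subgroup G, B.Normal → (∀ a ∈ B, ∀ b ∈ B, a * b = b * a) → B.index ≠ p) :
    (Subgroup.center G).index = p ^ 3 := by
  classical
  haveI : Group.IsNilpotent G := by
    by_contra hn
    obtain ⟨B, hB, hBc, hBi⟩ := abelian_index_of_not_nilpotent hp.out.ne_zero hcd hn
    exact hno B hB hBc hBi
  -- maximal abelian normal subgroups
  have hmax : ∀ B : Subgroup G, B.Normal → (∀ a ∈ B, ∀ b ∈ B, a * b = b * a) →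
      ∃ A : Subgroup G, ∃ _ : A.Normal, B ≤ A ∧ (∀ a ∈ A, ∀ b ∈ A, a * b = b * a) ∧
        Subgroup.centralizer (A : Set G) = A := by
    intro B hB hBc
    obtain ⟨A, hBA, ⟨hAn, hAc⟩, hAmax⟩ := Finite.exists_le_maximal
      (p := fun A : Subgroup G => A.Normal ∧ IsMulCommutative A) (a := B)
      ⟨hB, ⟨⟨fun x y => Subtype.ext (hBc x x.2 y y.2)⟩⟩⟩
    haveI := hAn
    haveI := hAc
    exact ⟨A, hAn, hBA, fun a ha b hb => congrArg Subtype.val (hAc.is_comm.comm ⟨a, ha⟩ ⟨b, hb⟩),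
      Base.centralizer_eq_self_of_maximal fun M hMn hMc hle =>
        le_antisymm (hAmax ⟨hMn, hMc⟩ hle) hle⟩
  obtain ⟨A, hAn, -, hA, hC⟩ := hmax (Subgroup.center G) inferInstance
    fun a _ b hb => Subgroup.mem_center_iff.1 hb a
  obtain ⟨hZA, hZi, hpow, hder, hchar⟩ := center_index_of_maximal hcd hno hG hA hC
  set Z := Subgroup.center G with hZ
  obtain ⟨a, haA, haZ⟩ : ∃ a ∈ A, a ∉ Z := by
    by_contra hcon
    push Not at hcon
    rw [Subgroup.relIndex_eq_one.2 hcon] at hZi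
    exact hp.out.one_lt.ne hZi
  -- elements of `A` are central multiples of powers of `a`
  have hgen : ∀ b ∈ A, ∃ z ∈ Z, ∃ i : ℕ, b = a ^ i * z := by
    intro b hb
    haveI : IsCyclic (↥A ⧸ Z.subgroupOf A) := isCyclic_of_prime_card (p := p) hZi
    have hne : ((⟨a, haA⟩ : A) : ↥A ⧸ Z.subgroupOf A) ≠ 1 := fun h =>
      haZ ((QuotientGroup.eq_one_iff (N := Z.subgroupOf A) ⟨a, haA⟩).1 h)
    obtain ⟨i, hi⟩ := Submonoid.mem_powers_iff _ _ |>.1 (mem_powers_of_prime_card (p := p)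
      (g' := ((⟨b, hb⟩ : A) : ↥A ⧸ Z.subgroupOf A)) hZi hne)
    rw [← QuotientGroup.mk_pow] at hi
    have h1 : ((a ^ i)⁻¹ * b) ∈ Z := (QuotientGroup.eq (s := Z.subgroupOf A)).1 hi
    exact ⟨_, h1, i, (mul_inv_cancel_left _ _).symm⟩
  -- commutators with `a` are central
  have hcen : ∀ g : G, ⁅g, a⁆ ∈ Z := by
    set Ab := A.map (QuotientGroup.mk' Z) with hAb
    haveI : Ab.Normal := hAn.map _ (QuotientGroup.mk'_surjective Z)
    haveI : Group.IsNilpotent (G ⧸ Z) :=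
      Group.nilpotent_of_surjective (QuotientGroup.mk' Z) (QuotientGroup.mk'_surjective Z)
    have hcard : Nat.card Ab = p := by
      rw [hAb, ← Subgroup.relIndex_ker, QuotientGroup.ker_mk']
      exact hZi
    have hne : Ab ≠ ⊥ := fun h => by
      rw [h, Subgroup.card_bot] at hcard
      exact hp.out.one_lt.ne hcard
    have hle : Ab ≤ Subgroup.center (G ⧸ Z) := by
      have h1 := Base.inf_center_ne_bot_of_isNilpotent hne
      have h2 := Subgroup.card_dvd_of_le (inf_le_left : Ab ⊓ Subgroup.center (G ⧸ Z) ≤ Ab)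
      rw [hcard] at h2
      rcases (Nat.dvd_prime hp.out).1 h2 with h | h
      · exact absurd (Subgroup.card_eq_one.1 h) h1
      · exact inf_eq_left.1 (Subgroup.eq_of_le_of_card_ge inf_le_left (by rw [h, hcard]))
    intro g
    rw [← QuotientGroup.eq_one_iff]
    show (QuotientGroup.mk' Z) ⁅g, a⁆ = 1
    rw [map_commutatorElement]
    exact commutatorElement_eq_one_iff_mul_comm.2
      (Subgroup.mem_center_iff.1 (hle ⟨a, haA, rfl⟩) _)
  have hcomm : ∀ z ∈ Z, ∀ g : G, g * z = z * g := fun z hz g => Subgroup.mem_center_iff.1 hz g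
  let φ : G →* G :=
    { toFun := fun g => ⁅g, a⁆
      map_one' := by simp
      map_mul' := fun g h => by
        calc ⁅g * h, a⁆ = g * ⁅h, a⁆ * g⁻¹ * ⁅g, a⁆ := by
              simp [commutatorElement_def, mul_assoc]
          _ = ⁅g, a⁆ * ⁅h, a⁆ := by
              rw [hcomm _ (hcen h) g, mul_inv_cancel_right, hcomm _ (hcen g) _] }
  have hφ : ∀ g, φ g = ⁅g, a⁆ := fun _ => rfl
  have hker : φ.ker = A := by
    ext g
    rw [MonoidHom.mem_ker, hφ, commutatorElement_eq_one_iff_mul_comm]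
    refine ⟨fun h => hC ▸ Subgroup.mem_centralizer_iff.2 fun b hb => ?_, fun hg => hA g hg a haA⟩
    obtain ⟨z, hz, i, rfl⟩ := hgen b hb
    exact ((Commute.pow_right (h : Commute g a) i).mul_right (hcomm z hz g)).symm.eq
  haveI hφc : ∀ g, φ g ∈ Z := hcen
  have hconj : ∀ (g : G) (b : G), b ∈ A → ∃ i : ℕ, g * b * g⁻¹ = φ g ^ i * b := by
    intro g b hb
    obtain ⟨z, hz, i, rfl⟩ := hgen b hb
    refine ⟨i, ?_⟩
    have h1 : g * a * g⁻¹ = φ g * a := by simp [hφ, commutatorElement_def]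
    calc g * (a ^ i * z) * g⁻¹ = (g * a * g⁻¹) ^ i * z := by
          rw [conj_pow, mul_assoc, mul_assoc, ← hcomm z hz g⁻¹, ← mul_assoc, ← mul_assoc]
      _ = φ g ^ i * (a ^ i * z) := by
          rw [h1, (Commute.symm (hcomm _ (hφc g) a : Commute a (φ g))).mul_pow, mul_assoc]
  -- the index of `A`
  haveI : IsPGroup p (G ⧸ A) := fun q => by
    obtain ⟨g, rfl⟩ := QuotientGroup.mk_surjective q
    exact ⟨1, by rw [pow_one, ← QuotientGroup.mk_pow, QuotientGroup.eq_one_iff]; exact hpow g⟩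
  obtain ⟨r, hr⟩ := IsPGroup.iff_card.1 (‹IsPGroup p (G ⧸ A)›)
  have hAi : A.index = p ^ r := hr
  have hZidx : Z.index = p ^ (r + 1) := by
    rw [← Subgroup.relIndex_mul_index hZA, hZi, hAi, pow_succ']
  rcases Nat.lt_or_ge r 3 with hr3 | hr3
  · interval_cases r
    · exact absurd (⟨⟨fun x y => hA x (Subgroup.index_eq_one.1 (by simpa using hAi) ▸
        Subgroup.mem_top x) y (Subgroup.index_eq_one.1 (by simpa using hAi) ▸
        Subgroup.mem_top y)⟩⟩ : IsMulCommutative G) hG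
    · exact absurd (by simpa using hAi) (hno A hAn hA)
    · exact hZidx
  exfalso
  have hφp : ∀ g, φ g ^ p = 1 := fun g => by
    rw [← map_pow, ← MonoidHom.mem_ker, hker]; exact hpow g
  have hrange : p ^ 3 ≤ Nat.card φ.range := by
    rw [← Subgroup.index_ker, hker, hAi]
    exact Nat.pow_le_pow_right hp.out.pos hr3
  have hZn : ∀ W : Subgroup G, W ≤ Z → W.Normal := fun W hW =>
    ⟨fun w hw g => by rwa [hcomm w (hW hw) g, mul_inv_cancel_right]⟩
  -- every commutator of `g` and `h` lies in the span of `φ g` and `φ h`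
  have hspan : ∀ g h : G, ∃ i j : ℤ, ⁅g, h⁆ = φ g ^ i * φ h ^ j := by
    intro g h
    set U := Subgroup.zpowers (φ g) ⊔ Subgroup.zpowers (φ h) with hU
    haveI := hZn _ (Subgroup.zpowers_le.2 (hφc g))
    suffices hmem : ⁅g, h⁆ ∈ U by
      obtain ⟨u, ⟨i, rfl⟩, v, ⟨j, rfl⟩, he⟩ := Subgroup.mem_sup_of_normal_left.1 hmem
      exact ⟨i, j, he.symm⟩
    by_contra hx
    have hUZ : U ≤ Z := sup_le (Subgroup.zpowers_le.2 (hφc g)) (Subgroup.zpowers_le.2 (hφc h))
    -- some value of `φ` lies outside `U`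
    obtain ⟨k, hk⟩ : ∃ k, φ k ∉ U := by
      by_contra hcon
      push Not at hcon
      have h1 : φ.range ≤ U := by rintro _ ⟨k, rfl⟩; exact hcon k
      have h2 : Nat.card U ≤ p * p := by
        have hsurj : Function.Surjective (fun w : Subgroup.zpowers (φ g) × Subgroup.zpowers (φ h) =>
            (⟨(w.1 : G) * w.2, Subgroup.mul_mem_sup w.1.2 w.2.2⟩ : U)) := by
          rintro ⟨w, hw⟩
          obtain ⟨u, hu, v, hv, rfl⟩ := Subgroup.mem_sup_of_normal_left.1 hw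
          exact ⟨(⟨u, hu⟩, ⟨v, hv⟩), rfl⟩
        refine (Nat.card_le_card_of_surjective _ hsurj).trans ?_
        rw [Nat.card_prod, Nat.card_zpowers, Nat.card_zpowers]
        exact Nat.mul_le_mul (orderOf_le_of_pow_eq_one hp.out.pos (hφp g))
          (orderOf_le_of_pow_eq_one hp.out.pos (hφp h))
      have h3 := (Subgroup.card_le_of_le h1).trans h2
      have h4 : p * p < p ^ 3 := by
        calc p * p = p * p * 1 := (mul_one _).symm
          _ < p * p * p := Nat.mul_lt_mul_of_pos_left hp.out.one_lt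
              (Nat.mul_pos hp.out.pos hp.out.pos)
          _ = p ^ 3 := by ring
      omega
    have hAcomm : ∀ x y : A, x * y = y * x := fun x y => Subtype.ext (hA x x.2 y y.2)
    obtain ⟨μ₁, hμ₁U, hμ₁⟩ := exists_hom_separating hAcomm (U.subgroupOf A)
      (x := ⟨⁅g, h⁆, hder g h⟩) (fun hh => hx hh)
    obtain ⟨μ₂, hμ₂U, hμ₂⟩ := exists_hom_separating hAcomm (U.subgroupOf A)
      (x := ⟨φ k, hZA (hφc k)⟩) (fun hh => hk hh)
    obtain ⟨μ, hμU, hμx, hμk⟩ : ∃ μ : A →* ℂˣ, (∀ u ∈ U.subgroupOf A, μ u = 1) ∧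
        μ ⟨⁅g, h⁆, hder g h⟩ ≠ 1 ∧ μ ⟨φ k, hZA (hφc k)⟩ ≠ 1 := by
      by_cases h1 : μ₁ ⟨φ k, hZA (hφc k)⟩ = 1
      swap
      · exact ⟨μ₁, hμ₁U, hμ₁, h1⟩
      by_cases h2 : μ₂ ⟨⁅g, h⁆, hder g h⟩ = 1
      swap
      · exact ⟨μ₂, hμ₂U, h2, hμ₂⟩
      refine ⟨μ₁ * μ₂, fun u hu => ?_, ?_, ?_⟩
      · rw [MonoidHom.mul_apply, hμ₁U u hu, hμ₂U u hu, mul_one]
      · rw [MonoidHom.mul_apply, h2, mul_one]; exact hμ₁
      · rw [MonoidHom.mul_apply, h1, one_mul]; exact hμ₂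
    rcases hchar μ with hinv | ⟨T, -, -, hT, hTc⟩
    · apply hμk
      have h1 := hinv k ⟨a, haA⟩
      have e : conjBy A k ⟨a, haA⟩ = (⟨φ k, hZA (hφc k)⟩ : A) * ⟨a, haA⟩ :=
        Subtype.ext (by simp [coe_conjBy, hφ, commutatorElement_def])
      rw [e, map_mul] at h1
      exact mul_eq_right.1 h1
    · have hmem : ∀ u : G, φ u ∈ U → u ∈ T := fun u hu => (hT u).2 fun b => by
        obtain ⟨i, hi⟩ := hconj u b b.2
        have e : conjBy A u b = (⟨φ u, hZA (hφc u)⟩ : A) ^ i * b :=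
          Subtype.ext (by rw [coe_conjBy, hi]; simp)
        rw [e, map_mul, map_pow, hμU ⟨φ u, hZA (hφc u)⟩ hu, one_pow, one_mul]
      exact hμx (hTc g (hmem g (Subgroup.mem_sup_left (Subgroup.mem_zpowers _))) h
        (hmem h (Subgroup.mem_sup_right (Subgroup.mem_zpowers _))) (hder g h))
  have hclass : ∀ g h : G, ⁅g, h⁆ ∈ Z := fun g h => by
    obtain ⟨i, j, hij⟩ := hspan g h
    rw [hij]
    exact Z.mul_mem (Z.zpow_mem (hφc g) i) (Z.zpow_mem (hφc h) j)
  have hmk : ∀ x y z : G, ⁅x * y, z⁆ = ⁅x, z⁆ * ⁅y, z⁆ := fun x y z => by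
    calc ⁅x * y, z⁆ = x * ⁅y, z⁆ * x⁻¹ * ⁅x, z⁆ := by simp [commutatorElement_def, mul_assoc]
      _ = ⁅x, z⁆ * ⁅y, z⁆ := by
          rw [hcomm _ (hclass y z) x, mul_inv_cancel_right, hcomm _ (hclass x z) _]
  let brk : G → G →* G := fun z => MonoidHom.mk' (fun x => ⁅x, z⁆) fun x y => hmk x y z
  have hbrk : ∀ x y, brk y x = ⁅x, y⁆ := fun _ _ => rfl
  -- two independent commuting elements
  have hne : A ≠ ⊤ := fun h => by
    rw [h, Subgroup.index_top] at hAi
    exact (Nat.one_lt_pow (by omega) hp.out.one_lt).ne hAi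
  obtain ⟨g, hg⟩ : ∃ g, g ∉ A := by
    by_contra hcon
    push Not at hcon
    exact hne ((Subgroup.eq_top_iff' A).2 hcon)
  obtain ⟨h, hh⟩ : ∃ h, h ∉ A ⊔ Subgroup.zpowers g := by
    by_contra hcon
    push Not at hcon
    have htop : A ⊔ Subgroup.zpowers g = ⊤ := (Subgroup.eq_top_iff' _).2 hcon
    have h1 : A.index ∣ Nat.card (Subgroup.zpowers (g : G ⧸ A)) := by
      have : (Subgroup.zpowers (g : G ⧸ A)) = ⊤ := by
        rw [← top_le_iff, ← Subgroup.map_top_of_surjective _ (QuotientGroup.mk'_surjective A),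
          ← htop, Subgroup.map_sup, QuotientGroup.map_mk'_self, bot_sup_eq, MonoidHom.map_zpowers]
        rfl
      rw [this, Subgroup.card_top]; rfl
    rw [Nat.card_zpowers] at h1
    have h2 : orderOf (g : G ⧸ A) ∣ p := orderOf_dvd_of_pow_eq_one (by
      rw [← QuotientGroup.mk_pow, QuotientGroup.eq_one_iff]; exact hpow g)
    have h3 := Nat.le_of_dvd hp.out.pos (h1.trans h2)
    have h4 : p ^ 3 ≤ p ^ r := Nat.pow_le_pow_right hp.out.pos hr3
    have h5 : p < p ^ 3 := by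
      calc p = p ^ 1 := (pow_one p).symm
        _ < p ^ 3 := Nat.pow_lt_pow_right hp.out.one_lt (by norm_num)
    omega
  obtain ⟨i, j, hij⟩ := hspan g h
  set g' := g * a ^ j with hg'
  set h' := h * a ^ (-i) with hh'
  have hcz : ∀ w : G, ∀ n : ℤ, ⁅a ^ n, w⁆ = φ w ^ (-n) := fun w n => by
    rw [← hbrk, map_zpow, hbrk, zpow_neg, ← inv_zpow, hφ, commutatorElement_inv]
  have hgh : g' * h' = h' * g' := by
    refine commutatorElement_eq_one_iff_mul_comm.1 ?_
    have e1 : ⁅g, a ^ (-i)⁆ = φ g ^ (-i) := by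
      rw [← commutatorElement_inv, hcz, ← zpow_neg, neg_neg]
    have e2 : ∀ x : G, ⁅x, h * a ^ (-i)⁆ = ⁅x, h⁆ * ⁅x, a ^ (-i)⁆ := fun x => by
      rw [← commutatorElement_inv, hmk, mul_inv_rev, commutatorElement_inv, commutatorElement_inv,
        hcomm _ (hclass x h) _]
    have e3 : ⁅a ^ j, a ^ (-i)⁆ = 1 := commutatorElement_eq_one_iff_mul_comm.2
      ((Commute.zpow_zpow (Commute.refl a) j (-i)).eq)
    rw [hg', hh', hmk, e2, e2, e3, e1, hij, hcz, mul_one,
      mul_assoc (φ g ^ i), hcomm _ (Z.zpow_mem (hφc g) (-i)) (φ h ^ j), ← mul_assoc, ← zpow_add,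
      add_neg_cancel, zpow_zero, one_mul, ← zpow_add, add_neg_cancel, zpow_zero]
  set B := Z ⊔ Subgroup.closure {g', h'} with hB
  haveI hBn : B.Normal := ⟨fun b hb x => by
    have e : x * b * x⁻¹ = ⁅x, b⁆ * b := by simp [commutatorElement_def]
    rw [e]
    exact B.mul_mem (Subgroup.mem_sup_left (hclass x b)) hb⟩
  have hBc : ∀ x ∈ B, ∀ y ∈ B, x * y = y * x := by
    have hcl : ∀ x ∈ Subgroup.closure ({g', h'} : Set G),
        ∀ y ∈ Subgroup.closure ({g', h'} : Set G), x * y = y * x := by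
      intro x hx y hy
      haveI := Subgroup.isMulCommutative_closure (k := ({g', h'} : Set G)) (by
        rintro x (rfl | rfl) y (rfl | rfl)
        exacts [rfl, hgh, hgh.symm, rfl])
      exact congrArg Subtype.val (mul_comm' (⟨x, hx⟩ : Subgroup.closure _) ⟨y, hy⟩)
    intro x hx y hy
    obtain ⟨z, hz, u, hu, rfl⟩ := Subgroup.mem_sup_of_normal_left.1 hx
    obtain ⟨w, hw, v, hv, rfl⟩ := Subgroup.mem_sup_of_normal_left.1 hy
    have c1 : Commute z w := hcomm w hw z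
    have c2 : Commute u w := hcomm w hw u
    have c3 : Commute z v := (hcomm z hz v).symm
    have c4 : Commute u v := hcl u hu v hv
    exact ((c1.mul_left c2).mul_right (c3.mul_left c4)).eq
  obtain ⟨A', hA'n, hBA', hA', hC'⟩ := hmax B hBn hBc
  obtain ⟨hZA', hZi', -, -, -⟩ := center_index_of_maximal hcd hno hG hA' hC'
  haveI : IsCyclic (↥A' ⧸ Z.subgroupOf A') := isCyclic_of_prime_card (p := p) hZi'
  have hg'A : g' ∈ A' := hBA' (Subgroup.mem_sup_right (Subgroup.subset_closure (Or.inl rfl)))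
  have hh'A : h' ∈ A' := hBA' (Subgroup.mem_sup_right (Subgroup.subset_closure (Or.inr rfl)))
  have hne' : ((⟨g', hg'A⟩ : A') : ↥A' ⧸ Z.subgroupOf A') ≠ 1 := fun hh => by
    have h1 : g' ∈ Z := (QuotientGroup.eq_one_iff (N := Z.subgroupOf A') ⟨g', hg'A⟩).1 hh
    exact hg (by simpa [hg'] using A.mul_mem (hZA h1) (A.inv_mem (A.zpow_mem haA j)))
  obtain ⟨n, hn⟩ := Submonoid.mem_powers_iff _ _ |>.1 (mem_powers_of_prime_card (p := p)
    (g' := ((⟨h', hh'A⟩ : A') : ↥A' ⧸ Z.subgroupOf A')) hZi' hne')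
  rw [← QuotientGroup.mk_pow] at hn
  have h1 : (g' ^ n)⁻¹ * h' ∈ Z := (QuotientGroup.eq (s := Z.subgroupOf A')).1 hn
  apply hh
  have hga : g' ∈ A ⊔ Subgroup.zpowers g := (A ⊔ Subgroup.zpowers g).mul_mem
    (Subgroup.mem_sup_right (Subgroup.mem_zpowers g)) (Subgroup.mem_sup_left (A.zpow_mem haA j))
  have h2 : h' ∈ A ⊔ Subgroup.zpowers g := by
    have := (A ⊔ Subgroup.zpowers g).mul_mem (Subgroup.pow_mem _ hga n)
      (Subgroup.mem_sup_left (hZA h1))
    rwa [mul_inv_cancel_left] at this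
  have h3 := (A ⊔ Subgroup.zpowers g).mul_mem h2
    (Subgroup.mem_sup_left (A.zpow_mem haA i) : a ^ i ∈ A ⊔ Subgroup.zpowers g)
  rwa [hh', mul_assoc, ← zpow_add, neg_add_cancel, zpow_zero, mul_one] at h3

end CfsgLib.CharsMore.CdTwo
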