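import Cfsg.Agent.Lib.Chars.Char
import Cfsg.Prelude.Def_OddOrderChar

/-!
# Linear isometries between character lattices
-/

set_option linter.unusedSectionVars false
set_option linter.style.haveILetI false

namespace CfsgLib.CharsMore

open Cfsg
open scoped ComplexConjugate

variable {L : Type*} [Group L] {G : Type*} [Group G]

lemma zsmul_eq_cast {X : Type*} (n : ℤ) (f : X → ℂ) : n • f = (n : ℂ) • f :=
  (Int.cast_smul_eq_zsmul ℂ n f).symm

lemma isCharacter_smul_nat {χ : L → ℂ} (h : IsCharacter L χ) (n : ℕ) :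
    IsCharacter L ((n : ℂ) • χ) := Chars.isCharacter_nsmul n h

/-- The lattice of generalized characters. -/
noncomputable def genChar (L : Type*) [Group L] : Submodule ℤ (L → ℂ) where
  carrier := {θ | IsGeneralizedCharacter L θ}
  zero_mem' := ⟨0, 0, Chars.isCharacter_zero, Chars.isCharacter_zero, (sub_zero _).symm⟩
  add_mem' := by
    rintro _ _ ⟨a, b, ha, hb, rfl⟩ ⟨c, d, hc, hd, rfl⟩
    exact ⟨a + c, b + d, Chars.isCharacter_add ha hc, Chars.isCharacter_add hb hd, by abel⟩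
  smul_mem' := by
    rintro n _ ⟨a, b, ha, hb, rfl⟩
    rcases Int.eq_nat_or_neg n with ⟨k, rfl | rfl⟩
    · refine ⟨(k : ℂ) • a, (k : ℂ) • b, isCharacter_smul_nat ha k, isCharacter_smul_nat hb k, ?_⟩
      rw [zsmul_eq_cast, smul_sub]; push_cast; rfl
    · refine ⟨(k : ℂ) • b, (k : ℂ) • a, isCharacter_smul_nat hb k, isCharacter_smul_nat ha k, ?_⟩
      rw [zsmul_eq_cast, smul_sub]; push_cast; module

lemma mem_genChar {θ : L → ℂ} : θ ∈ genChar L ↔ IsGeneralizedCharacter L θ := Iff.rfl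

lemma genChar_of_isCharacter {θ : L → ℂ} (h : IsCharacter L θ) : θ ∈ genChar L :=
  ⟨θ, 0, h, Chars.isCharacter_zero, (sub_zero _).symm⟩

lemma genChar_of_irr {θ : L → ℂ} (h : IsIrrCharacter L θ) : θ ∈ genChar L :=
  genChar_of_isCharacter (Chars.isCharacter_of_irr h)

lemma genChar_one_int {θ : L → ℂ} (h : θ ∈ genChar L) : ∃ z : ℤ, θ 1 = z := by
  obtain ⟨a, b, ha, hb, rfl⟩ := h
  obtain ⟨m, hm⟩ := Chars.character_degree_nat ha
  obtain ⟨n, hn⟩ := Chars.character_degree_nat hb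
  exact ⟨(m : ℤ) - n, by simp [hm, hn]⟩

/-- Inner products of generalized characters are integers. -/
lemma inner_gen_int [Fintype L] {φ ψ : L → ℂ} (hφ : φ ∈ genChar L) (hψ : ψ ∈ genChar L) :
    ∃ z : ℤ, classInner φ ψ = z := by
  obtain ⟨a, b, ha, hb, rfl⟩ := hφ
  obtain ⟨c, d, hc, hd, rfl⟩ := hψ
  obtain ⟨m₁, e₁⟩ := Chars.inner_char_nat ha hc
  obtain ⟨m₂, e₂⟩ := Chars.inner_char_nat ha hd
  obtain ⟨m₃, e₃⟩ := Chars.inner_char_nat hb hc
  obtain ⟨m₄, e₄⟩ := Chars.inner_char_nat hb hd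
  refine ⟨(m₁ : ℤ) - m₂ - ((m₃ : ℤ) - m₄), ?_⟩
  rw [Chars.inner_sub_left, Chars.inner_sub_right, Chars.inner_sub_right, e₁, e₂, e₃, e₄]
  push_cast
  ring

lemma inner_self_re_nonneg [Fintype L] (φ : L → ℂ) : 0 ≤ (classInner φ φ).re := by
  rw [Chars.inner_self_eq, Complex.ofReal_re]
  positivity

/-- The members of `zspan S` vanishing off `A`, as a submodule. -/
noncomputable def zspanOnSub {X : Type*} (S : Set (X → ℂ)) (A : Set X) : Submodule ℤ (X → ℂ) where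
  carrier := zspanOn S A
  zero_mem' := ⟨(Submodule.span ℤ S).zero_mem, fun _ _ => rfl⟩
  add_mem' := fun ha hb => ⟨Submodule.add_mem _ ha.1 hb.1, fun x hx => by
    rw [Pi.add_apply, ha.2 x hx, hb.2 x hx, add_zero]⟩
  smul_mem' := fun n a ha => ⟨Submodule.smul_mem _ n ha.1, fun x hx => by
    rw [Pi.smul_apply, ha.2 x hx, smul_zero]⟩

lemma mem_zspanOn_one {S : Set (L → ℂ)} {α : L → ℂ} :
    α ∈ zspanOn S {1}ᶜ ↔ α ∈ zspan S ∧ α 1 = 0 :=
  ⟨fun h => ⟨h.1, h.2 1 (by simp)⟩, fun h => ⟨h.1, fun x hx => by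
    obtain rfl : x = 1 := by simpa using hx
    exact h.2⟩⟩

lemma zspan_mono {X : Type*} {S T : Set (X → ℂ)} (h : S ⊆ T) : zspan S ⊆ zspan T :=
  Submodule.span_mono h

lemma zspanOn_mono {X : Type*} {S T : Set (X → ℂ)} (h : S ⊆ T) (A : Set X) :
    zspanOn S A ⊆ zspanOn T A :=
  fun _ hα => ⟨zspan_mono h hα.1, hα.2⟩

section Isometry

variable [Fintype L] [Fintype G]

lemma isometry_mono {E F : Set (L → ℂ)} (h : E ⊆ F) {τ : (L → ℂ) → (G → ℂ)}
    (hτ : IsLinearIsometryOn F τ) : IsLinearIsometryOn E τ :=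
  ⟨fun a ha b hb => hτ.1 a (h ha) b (h hb), fun a ha => hτ.2.1 a (h ha),
    fun a ha b hb => hτ.2.2.1 a (h ha) b (h hb), fun a ha => hτ.2.2.2 a (h ha)⟩

variable {M : Submodule ℤ (L → ℂ)} {τ : (L → ℂ) → (G → ℂ)}

lemma isometry_map_zero (hτ : IsLinearIsometryOn (M : Set (L → ℂ)) τ) : τ 0 = 0 := by
  simpa using hτ.2.1 0 M.zero_mem 0

lemma isometry_map_sub (hτ : IsLinearIsometryOn (M : Set (L → ℂ)) τ) {α β : L → ℂ} (hα : α ∈ M)
    (hβ : β ∈ M) : τ (α - β) = τ α - τ β := by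
  have h := hτ.1 (α - β) (M.sub_mem hα hβ) β hβ
  rw [sub_add_cancel] at h
  exact eq_sub_of_add_eq h.symm

lemma isometry_map_smul (hτ : IsLinearIsometryOn (M : Set (L → ℂ)) τ) {α : L → ℂ} (hα : α ∈ M)
    (n : ℤ) : τ ((n : ℂ) • α) = (n : ℂ) • τ α := by
  rw [← zsmul_eq_cast, ← zsmul_eq_cast]
  exact hτ.2.1 α hα n

/-- The map with prescribed values on an orthogonal family. -/
noncomputable def extMap (S : Finset (L → ℂ)) {X : Type*} (f : (L → ℂ) → (X → ℂ)) (α : L → ℂ) :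
    X → ℂ :=
  ∑ φ ∈ S, (classInner α φ / classInner φ φ) • f φ

variable {S : Finset (L → ℂ)}

lemma extMap_add {X : Type*} (f : (L → ℂ) → (X → ℂ)) (α β : L → ℂ) :
    extMap S f (α + β) = extMap S f α + extMap S f β := by
  simp only [extMap, Chars.inner_add_left, add_div, add_smul, Finset.sum_add_distrib]

lemma extMap_smul {X : Type*} (f : (L → ℂ) → (X → ℂ)) (c : ℂ) (α : L → ℂ) :
    extMap S f (c • α) = c • extMap S f α := by
  simp only [extMap, Chars.inner_smul_left, Finset.smul_sum, smul_smul, mul_div_assoc]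

lemma extMap_of_mem {X : Type*} (f : (L → ℂ) → (X → ℂ))
    (horth : ∀ φ ∈ S, ∀ ψ ∈ S, φ ≠ ψ → classInner φ ψ = 0)
    (hn : ∀ φ ∈ S, classInner φ φ ≠ 0) {φ : L → ℂ} (hφ : φ ∈ S) : extMap S f φ = f φ := by
  rw [extMap, Finset.sum_eq_single φ]
  · rw [div_self (hn φ hφ), one_smul]
  · intro ψ hψ hne
    rw [horth φ hφ ψ hψ hne.symm, zero_div, zero_smul]
  · exact fun h => absurd hφ h

lemma extMap_id (horth : ∀ φ ∈ S, ∀ ψ ∈ S, φ ≠ ψ → classInner φ ψ = 0)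
    (hn : ∀ φ ∈ S, classInner φ φ ≠ 0) {α : L → ℂ} (hα : α ∈ zspan (↑S : Set (L → ℂ))) :
    extMap S id α = α := by
  change α ∈ Submodule.span ℤ (↑S : Set (L → ℂ)) at hα
  induction hα using Submodule.span_induction with
  | mem φ hφ => exact extMap_of_mem id horth hn hφ
  | zero => simp [extMap, Chars.inner_zero_left]
  | add a b _ _ ha hb => rw [extMap_add, ha, hb]
  | smul n a _ ha => rw [zsmul_eq_cast, extMap_smul, ha]

/-- An orthogonal family may be sent to any family of virtual characters with the same norms. -/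
theorem isometry_of_values (f : (L → ℂ) → (G → ℂ))
    (horth : ∀ φ ∈ S, ∀ ψ ∈ S, φ ≠ ψ → classInner φ ψ = 0)
    (hn : ∀ φ ∈ S, classInner φ φ ≠ 0) (hgen : ∀ φ ∈ S, f φ ∈ genChar G)
    (hgram : ∀ φ ∈ S, ∀ ψ ∈ S, classInner (f φ) (f ψ) = classInner φ ψ) :
    IsLinearIsometryOn (zspan (↑S : Set (L → ℂ))) (extMap S f) := by
  refine ⟨fun α _ β _ => extMap_add f α β, fun α _ n => by
    rw [zsmul_eq_cast, zsmul_eq_cast, extMap_smul], fun α hα β hβ => ?_, fun α hα => ?_⟩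
  · conv_rhs => rw [← extMap_id horth hn hα, ← extMap_id horth hn hβ]
    simp only [extMap, id, Chars.inner_sum_left, Chars.inner_smul_left, Chars.inner_sum_right,
      Chars.inner_smul_right]
    exact Finset.sum_congr rfl fun φ hφ => by
      congr 1
      exact Finset.sum_congr rfl fun ψ hψ => by rw [hgram _ (by assumption) _ (by assumption)]
  · rw [← mem_genChar]
    change α ∈ Submodule.span ℤ (↑S : Set (L → ℂ)) at hα
    induction hα using Submodule.span_induction with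
    | mem φ hφ => rw [extMap_of_mem f horth hn hφ]; exact hgen φ hφ
    | zero => simp [extMap, Chars.inner_zero_left]
    | add a b _ _ ha hb => rw [extMap_add]; exact (genChar G).add_mem ha hb
    | smul n a _ ha =>
      rw [zsmul_eq_cast, extMap_smul, ← zsmul_eq_cast]; exact (genChar G).smul_mem n ha

/-- Agreement with `τ` on the degree-zero part, from agreement on the pivot differences. -/
theorem agree_of_pivot {τ τ₁ : (L → ℂ) → (G → ℂ)} {T : Set (L → ℂ)}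
    (hτ : IsLinearIsometryOn (zspanOn T {1}ᶜ) τ) (hτ₁ : IsLinearIsometryOn (zspan T) τ₁)
    {χ₁ : L → ℂ} (hχ₁ : χ₁ ∈ T) (h1 : χ₁ 1 ≠ 0)
    (hdiv : ∀ φ ∈ T, ∃ k : ℤ, φ 1 = (k : ℂ) * χ₁ 1 ∧
      τ₁ φ - (k : ℂ) • τ₁ χ₁ = τ (φ - (k : ℂ) • χ₁)) :
    ∀ α ∈ zspanOn T {1}ᶜ, τ₁ α = τ α := by
  set M : Submodule ℤ (L → ℂ) := Submodule.span ℤ T with hM
  set N : Submodule ℤ (L → ℂ) := zspanOnSub T {1}ᶜ
  have hτN : IsLinearIsometryOn (N : Set (L → ℂ)) τ := hτ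
  have hτM : IsLinearIsometryOn (M : Set (L → ℂ)) τ₁ := hτ₁
  have hχM : χ₁ ∈ M := Submodule.subset_span hχ₁
  have key : ∀ α ∈ M, ∃ k : ℤ, α 1 = (k : ℂ) * χ₁ 1 ∧ α - (k : ℂ) • χ₁ ∈ N ∧
      τ₁ α - (k : ℂ) • τ₁ χ₁ = τ (α - (k : ℂ) • χ₁) := by
    intro α hα
    induction hα using Submodule.span_induction with
    | mem φ hφ =>
      obtain ⟨k, hk1, hk2⟩ := hdiv φ hφ
      refine ⟨k, hk1, mem_zspanOn_one.2 ⟨?_, by simp [hk1]⟩, hk2⟩
      rw [← zsmul_eq_cast]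
      exact M.sub_mem (Submodule.subset_span hφ) (M.smul_mem k hχM)
    | zero =>
      refine ⟨0, by simp, ?_, ?_⟩
      · simp [N.zero_mem]
      · simp [isometry_map_zero hτN, isometry_map_zero hτM]
    | add a b ha hb iha ihb =>
      obtain ⟨j, j1, j2, j3⟩ := iha
      obtain ⟨k, k1, k2, k3⟩ := ihb
      have e : a + b - ((j + k : ℤ) : ℂ) • χ₁ = (a - (j : ℂ) • χ₁) + (b - (k : ℂ) • χ₁) := by
        push_cast; module
      refine ⟨j + k, ?_, e ▸ N.add_mem j2 k2, ?_⟩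
      · rw [Pi.add_apply, j1, k1]; push_cast; ring
      · rw [e, hτN.1 _ j2 _ k2, ← j3, ← k3, hτM.1 a ha b hb]; push_cast; module
    | smul n a ha iha =>
      obtain ⟨j, j1, j2, j3⟩ := iha
      have e : n • a - ((n * j : ℤ) : ℂ) • χ₁ = n • (a - (j : ℂ) • χ₁) := by
        rw [zsmul_eq_cast, zsmul_eq_cast]; push_cast; module
      refine ⟨n * j, ?_, e ▸ N.smul_mem n j2, ?_⟩
      · rw [zsmul_eq_cast, Pi.smul_apply, smul_eq_mul, j1]; push_cast; ring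
      · rw [e, hτN.2.1 _ j2 n, ← j3, hτM.2.1 a ha n, zsmul_eq_cast, zsmul_eq_cast]
        push_cast; module
  intro α hα
  obtain ⟨k, k1, -, k3⟩ := key α hα.1
  rw [(mem_zspanOn_one.1 hα).2, eq_comm, mul_eq_zero] at k1
  have hk : (k : ℂ) = 0 := k1.resolve_right h1
  simpa [hk] using k3

/-- One more member. -/
theorem extend_one {τ τ₁ : (L → ℂ) → (G → ℂ)} {S₀ : Finset (L → ℂ)} {χ : L → ℂ}
    [DecidableEq (L → ℂ)] (hχ : χ ∉ S₀)
    (horth : ∀ φ ∈ insert χ S₀, ∀ ψ ∈ insert χ S₀, φ ≠ ψ → classInner φ ψ = 0)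
    (hn : ∀ φ ∈ insert χ S₀, classInner φ φ ≠ 0)
    (hτ : IsLinearIsometryOn (zspanOn (↑(insert χ S₀) : Set (L → ℂ)) {1}ᶜ) τ)
    (hτ₁ : IsLinearIsometryOn (zspan (↑S₀ : Set (L → ℂ))) τ₁)
    (hagree : ∀ α ∈ zspanOn (↑S₀ : Set (L → ℂ)) {1}ᶜ, τ₁ α = τ α) {ψ : L → ℂ} (hψ : ψ ∈ S₀)
    (a : ℤ) (ha : χ 1 = (a : ℂ) * ψ 1) {x : G → ℂ} (hx : x ∈ genChar G)
    (hxn : classInner x x = classInner χ χ) (hxo : ∀ φ ∈ S₀, classInner x (τ₁ φ) = 0)
    (hxτ : τ (χ - (a : ℂ) • ψ) = x - (a : ℂ) • τ₁ ψ) :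
    ∃ τ₂ : (L → ℂ) → (G → ℂ), IsLinearIsometryOn (zspan (↑(insert χ S₀) : Set (L → ℂ))) τ₂ ∧
      (∀ α ∈ zspanOn (↑(insert χ S₀) : Set (L → ℂ)) {1}ᶜ, τ₂ α = τ α) ∧ τ₂ χ = x ∧
      ∀ φ ∈ S₀, τ₂ φ = τ₁ φ := by
  classical
  set f : (L → ℂ) → (G → ℂ) := fun φ => if φ = χ then x else τ₁ φ
  have hfS : ∀ φ ∈ S₀, f φ = τ₁ φ := fun φ hφ => if_neg fun h : φ = χ => hχ (h ▸ hφ)
  have hfχ : f χ = x := if_pos rfl
  have hsub : ∀ φ ∈ S₀, φ ∈ zspan (↑S₀ : Set (L → ℂ)) := fun φ hφ => Submodule.subset_span hφ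
  have hiso : IsLinearIsometryOn (zspan (↑(insert χ S₀) : Set (L → ℂ))) (extMap (insert χ S₀) f) := by
    refine isometry_of_values f horth hn (fun φ hφ => ?_) (fun φ hφ φ' hφ' => ?_)
    · rcases Finset.mem_insert.1 hφ with rfl | h
      · rw [hfχ]; exact hx
      · rw [hfS φ h]; exact hτ₁.2.2.2 φ (hsub φ h)
    · rcases Finset.mem_insert.1 hφ with rfl | h <;> rcases Finset.mem_insert.1 hφ' with rfl | h'
      · rw [hfχ, hxn]
      · rw [hfχ, hfS φ' h', hxo φ' h',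
          horth φ (Finset.mem_insert_self _ _) φ' hφ' fun e => hχ (e ▸ h')]
      · rw [hfS φ h, hfχ, ← Chars.inner_conj, hxo φ h, map_zero,
          horth φ hφ φ' (Finset.mem_insert_self _ _) fun e => hχ (e ▸ h)]
      · rw [hfS φ h, hfS φ' h', hτ₁.2.2.1 φ (hsub φ h) φ' (hsub φ' h')]
  have hvχ : extMap (insert χ S₀) f χ = x :=
    (extMap_of_mem f horth hn (Finset.mem_insert_self _ _)).trans hfχ
  have hvS : ∀ φ ∈ S₀, extMap (insert χ S₀) f φ = τ₁ φ := fun φ hφ =>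
    (extMap_of_mem f horth hn (Finset.mem_insert_of_mem hφ)).trans (hfS φ hφ)
  refine ⟨_, hiso, fun α hα => ?_, hvχ, hvS⟩
  set M : Submodule ℤ (L → ℂ) := Submodule.span ℤ (↑(insert χ S₀) : Set (L → ℂ)) with hM
  set N : Submodule ℤ (L → ℂ) := zspanOnSub (↑(insert χ S₀) : Set (L → ℂ)) {1}ᶜ
  have hadd := fun u v => extMap_add (S := insert χ S₀) f u v
  have hsmul := fun c u => extMap_smul (S := insert χ S₀) f c u
  set τ₂ := extMap (insert χ S₀) f
  have hτN : IsLinearIsometryOn (N : Set (L → ℂ)) τ := hτ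
  have hτM : IsLinearIsometryOn (M : Set (L → ℂ)) τ₂ := hiso
  obtain ⟨hαM, hα1⟩ := mem_zspanOn_one.1 hα
  have hins : α ∈ Submodule.span ℤ (insert χ (↑S₀ : Set (L → ℂ))) := by
    rwa [← Finset.coe_insert]
  obtain ⟨c, β, hβ, rfl⟩ := Submodule.mem_span_insert.1 hins
  set β' : L → ℂ := β + (c * a) • ψ with hβ'
  have hβ'S : β' ∈ zspanOn (↑S₀ : Set (L → ℂ)) {1}ᶜ := by
    refine mem_zspanOn_one.2 ⟨Submodule.add_mem _ hβ (Submodule.smul_mem _ _ (hsub ψ hψ)), ?_⟩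
    rw [Pi.add_apply, zsmul_eq_cast, Pi.smul_apply, smul_eq_mul] at hα1
    rw [hβ', Pi.add_apply, zsmul_eq_cast, Pi.smul_apply, smul_eq_mul]
    push_cast
    rw [ha] at hα1
    linear_combination hα1
  have hd : χ - (a : ℂ) • ψ ∈ N := by
    refine mem_zspanOn_one.2 ⟨?_, by simp [ha]⟩
    rw [← zsmul_eq_cast]
    exact M.sub_mem (Submodule.subset_span (Finset.mem_insert_self _ _))
      (M.smul_mem a (Submodule.subset_span (Finset.mem_insert_of_mem hψ)))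
  have hsub' : (↑S₀ : Set (L → ℂ)) ⊆ ↑(insert χ S₀) := by
    intro φ hφ; exact Finset.mem_insert_of_mem hφ
  have hβ'N : β' ∈ N := zspanOn_mono hsub' _ hβ'S
  have hdec : c • χ + β = c • (χ - (a : ℂ) • ψ) + β' := by
    rw [hβ', zsmul_eq_cast, zsmul_eq_cast, zsmul_eq_cast]; push_cast; module
  have hτ₂β : τ₂ β' = τ₁ β' := by
    have : ∀ γ ∈ Submodule.span ℤ (↑S₀ : Set (L → ℂ)), τ₂ γ = τ₁ γ := by
      intro γ hγ
      induction hγ using Submodule.span_induction with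
      | mem φ hφ => exact hvS φ hφ
      | zero =>
        rw [isometry_map_zero hτM, isometry_map_zero (M := Submodule.span ℤ _) hτ₁]
      | add u v hu hv ihu ihv => rw [hadd, ihu, ihv, hτ₁.1 u hu v hv]
      | smul n u hu ihu => rw [zsmul_eq_cast, hsmul, ihu, ← zsmul_eq_cast, ← zsmul_eq_cast,
          hτ₁.2.1 u hu n]
    exact this β' hβ'S.1
  rw [hdec, hτN.1 _ (N.smul_mem c hd) _ hβ'N, hτN.2.1 _ hd c, hadd, hτ₂β, hagree β' hβ'S,
    zsmul_eq_cast, zsmul_eq_cast, hsmul, hxτ]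
  congr 2
  rw [sub_eq_add_neg, ← neg_smul, hadd, hsmul, hvχ, hvS ψ hψ]
  module

end Isometry

end CfsgLib.CharsMore
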