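import Cfsg.Agent.Lib.CharsMore.CoherenceSystem

/-!
# Coherence of systems of constant degree
-/

set_option linter.unusedSectionVars false
set_option linter.style.haveILetI false

namespace CfsgLib.CharsMore

open Cfsg
open scoped ComplexConjugate

variable {L : Type*} [Group L] [Fintype L] {G : Type*} [Group G] [Fintype G]

lemma orth_set_finite {S : Set (L → ℂ)}
    (horth : ∀ φ ∈ S, ∀ ψ ∈ S, φ ≠ ψ → classInner φ ψ = 0)
    (hn : ∀ φ ∈ S, classInner φ φ ≠ 0) : S.Finite := by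
  classical
  have hli : LinearIndependent ℂ (fun φ : S => (φ : L → ℂ)) := by
    rw [linearIndependent_iff']
    intro s g hg i hi
    have h := congrArg (fun f => classInner f (i : L → ℂ)) hg
    simp only [Chars.inner_sum_left, Chars.inner_smul_left, Chars.inner_zero_left] at h
    rw [Finset.sum_eq_single i (fun j _ hj => by
      rw [horth j j.2 i i.2 fun e => hj (Subtype.ext e), mul_zero]) (fun h' => absurd hi h')] at h
    exact (mul_eq_zero.1 h).resolve_right (hn i i.2)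
  exact hli.setFinite

/-- A coherence system of constant degree has a common component. -/
lemma coh_common_component {S : Set (L → ℂ)} {τ : (L → ℂ) → (G → ℂ)}
    {R : (L → ℂ) → Finset (G → ℂ)} (hS : IsCoherenceSystem S τ R)
    (hdeg : ∀ φ ∈ S, ∀ ψ ∈ S, φ 1 = ψ 1) {χ₁ : L → ℂ} (h₁ : χ₁ ∈ S) :
    ∃ X ∈ genChar G, classInner X X = classInner χ₁ χ₁ ∧
      ∀ φ ∈ S, classInner X (τ (χ₁ - φ)) = classInner χ₁ χ₁ - classInner χ₁ φ := by
  classical
  obtain ⟨n, hn0, hn⟩ := coh_norm_nat hS h₁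
  set N : Submodule ℤ (L → ℂ) := zspanOnSub S {1}ᶜ
  have hτN : IsLinearIsometryOn (N : Set (L → ℂ)) τ := hS.isometry
  have hmem : ∀ φ ∈ S, ∀ ψ ∈ S, φ - ψ ∈ N := fun φ hφ ψ hψ =>
    mem_zspanOn_one.2 ⟨Submodule.sub_mem _ (Submodule.subset_span hφ) (Submodule.subset_span hψ),
      by rw [Pi.sub_apply, hdeg φ hφ ψ hψ, sub_self]⟩
  have hc := hS.conj_mem χ₁ h₁
  have hcne := hS.conj_ne χ₁ h₁
  have h1c : classInner χ₁ (conjFun χ₁) = 0 := hS.orthogonal χ₁ h₁ _ hc hcne.symm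
  have hvgen : ∀ φ ∈ S, τ (χ₁ - φ) ∈ genChar G := fun φ hφ => hτN.2.2.2 _ (hmem χ₁ h₁ φ hφ)
  have hv1 : classInner (∑ α ∈ R χ₁, α) (∑ α ∈ R χ₁, α) = 2 * (n : ℂ) := by
    rw [(coh_sumR_inner hS h₁).1, hn]
  have hR1 := hS.orthonormal χ₁ h₁
  have hcard : (R χ₁).card = 2 * n := by
    have := (coh_sumR_inner hS h₁).2
    rw [hn] at this
    exact_mod_cast this
  by_cases hex : ∃ φ ∈ S, φ ≠ χ₁ ∧ φ ≠ conjFun χ₁
  · -- the projections do not depend on the member
    have hproj : ∀ φ ∈ S, φ ≠ χ₁ → φ ≠ conjFun χ₁ →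
        classInner (projOn (R χ₁) (τ (χ₁ - φ))) (projOn (R χ₁) (τ (χ₁ - φ))) = (n : ℂ) ∧
        τ (χ₁ - φ) = projOn (R χ₁) (τ (χ₁ - φ)) + projOn (R φ) (τ (χ₁ - φ)) ∧
        classInner (τ (χ₁ - φ)) (∑ α ∈ R χ₁, α) = (n : ℂ) := by
      intro φ hφ hne hnec
      obtain ⟨m, hm0, hm⟩ := coh_norm_nat hS hφ
      set β := τ (χ₁ - φ)
      have hb : β ∈ genChar G := hvgen φ hφ
      have hφc : φ - conjFun φ ∈ N := coh_sub_conj_mem hS hφ
      have hne' : χ₁ ≠ conjFun φ := fun e => hnec (by rw [e, conjFun_conjFun])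
      have hs1 : classInner β (∑ α ∈ R χ₁, α) = classInner χ₁ χ₁ := by
        rw [← hS.sum_eq χ₁ h₁, hτN.2.2.1 _ (hmem χ₁ h₁ φ hφ) _ (coh_sub_conj_mem hS h₁),
          Chars.inner_sub_left, Chars.inner_sub_right, Chars.inner_sub_right, h1c,
          hS.orthogonal φ hφ χ₁ h₁ hne, hS.orthogonal φ hφ _ hc hnec]
        ring
      have hs2 : classInner (-β) (∑ α ∈ R φ, α) = classInner φ φ := by
        rw [Chars.inner_neg_left, ← hS.sum_eq φ hφ, hτN.2.2.1 _ (hmem χ₁ h₁ φ hφ) _ hφc,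
          Chars.inner_sub_left, Chars.inner_sub_right, Chars.inner_sub_right,
          hS.orthogonal χ₁ h₁ φ hφ hne.symm, hS.orthogonal χ₁ h₁ _ (hS.conj_mem φ hφ) hne',
          hS.orthogonal φ hφ _ (hS.conj_mem φ hφ) (hS.conj_ne φ hφ).symm]
        ring
      have g1 := coh_proj_ge hS h₁ hb hs1
      have g2 := coh_proj_ge hS hφ ((genChar G).neg_mem hb) hs2
      have hneg : projOn (R φ) (-β) = -projOn (R φ) β := by
        simp [projOn, Chars.inner_neg_left, Finset.sum_neg_distrib]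
      rw [hneg, Chars.inner_neg_left, Chars.inner_neg_right, neg_neg] at g2
      set P := projOn (R χ₁) β with hP
      set Q := projOn (R φ) β with hQ
      have hPQ : classInner P Q = 0 := by
        rw [hP, hQ]
        refine inner_projOn_eq_zero fun α hα => ?_
        rw [projOn, Chars.inner_sum_left]
        exact Finset.sum_eq_zero fun α' hα' => by
          rw [Chars.inner_smul_left, coh_orth hS h₁ hφ hne.symm hne' α' hα' α hα, mul_zero]
      have hββ : classInner β β = (n : ℂ) + (m : ℂ) := by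
        rw [hτN.2.2.1 _ (hmem χ₁ h₁ φ hφ) _ (hmem χ₁ h₁ φ hφ),
          Chars.inner_sub_left, Chars.inner_sub_right, Chars.inner_sub_right,
          hS.orthogonal χ₁ h₁ φ hφ hne.symm, hS.orthogonal φ hφ χ₁ h₁ hne, hn, hm]
        ring
      have hβP : classInner β P = classInner P P := (projOn_inner_self hR1 β).symm
      have hβQ : classInner β Q = classInner Q Q :=
        (projOn_inner_self (hS.orthonormal φ hφ) β).symm
      have hPβ : classInner P β = classInner P P := by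
        rw [← Chars.inner_conj, hβP, Chars.inner_conj]
      have hQβ : classInner Q β = classInner Q Q := by
        rw [← Chars.inner_conj, hβQ, Chars.inner_conj]
      have hQP : classInner Q P = 0 := by rw [← Chars.inner_conj, hPQ, map_zero]
      have hrest : classInner (β - (P + Q)) (β - (P + Q)) =
          classInner β β - classInner P P - classInner Q Q := by
        simp only [Chars.inner_sub_left, Chars.inner_sub_right, Chars.inner_add_left,
          Chars.inner_add_right, hβP, hβQ, hPβ, hQβ, hPQ, hQP]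
        ring
      have hnn := inner_self_re_nonneg (β - (P + Q))
      rw [hrest, hββ] at hnn
      rw [hn, Complex.natCast_re] at g1
      rw [hm, Complex.natCast_re] at g2
      simp only [Complex.sub_re, Complex.add_re, Complex.natCast_re] at hnn
      refine ⟨?_, ?_, by rw [hs1, hn]⟩
      · have hre : (classInner P P).re = n := by linarith
        rw [Chars.inner_self_eq] at hre ⊢
        rw [Complex.ofReal_re] at hre
        rw [hre, Complex.ofReal_natCast]
      · rw [← sub_eq_zero, ← Chars.inner_self_eq_zero_iff]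
        have hre : (classInner (β - (P + Q)) (β - (P + Q))).re = 0 := by
          rw [hrest, hββ]
          simp only [Complex.sub_re, Complex.add_re, Complex.natCast_re]
          linarith
        rw [Chars.inner_self_eq] at hre ⊢
        rw [Complex.ofReal_re] at hre
        rw [hre, Complex.ofReal_zero]
    obtain ⟨φ₀, hφ₀, hne₀, hnec₀⟩ := hex
    obtain ⟨hX, hX2, hX3⟩ := hproj φ₀ hφ₀ hne₀ hnec₀
    set X := projOn (R χ₁) (τ (χ₁ - φ₀)) with hXdef
    have hXR : ∀ φ ∈ S, φ ≠ χ₁ → φ ≠ conjFun χ₁ → ∀ α ∈ R φ, classInner X α = 0 := by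
      intro φ hφ hne hnec α hα
      rw [hXdef, projOn, Chars.inner_sum_left]
      exact Finset.sum_eq_zero fun α' hα' => by
        rw [Chars.inner_smul_left, coh_orth hS h₁ hφ hne.symm
          (fun e => hnec (by rw [e, conjFun_conjFun])) α' hα' α hα, mul_zero]
    refine ⟨X, projOn_gen (fun α hα => hS.virtual χ₁ h₁ α hα) (hvgen φ₀ hφ₀), hX.trans hn.symm,
      fun φ hφ => ?_⟩
    rcases eq_or_ne φ χ₁ with rfl | hne
    · rw [sub_self, isometry_map_zero hτN, Chars.inner_zero_right, sub_self]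
    rcases eq_or_ne φ (conjFun χ₁) with rfl | hnec
    · rw [hS.sum_eq χ₁ h₁, h1c, sub_zero, hn, ← hX3, hXdef, Chars.inner_sum_right,
        Chars.inner_sum_right]
      exact Finset.sum_congr rfl fun α hα => projOn_inner hR1 _ hα
    rw [hS.orthogonal χ₁ h₁ φ hφ hne.symm, sub_zero, hn]
    rcases eq_or_ne φ₀ φ with rfl | h0
    · rw [hX2, Chars.inner_add_right, inner_projOn_eq_zero (hXR φ₀ hφ hne hnec), add_zero, hX]
    rcases eq_or_ne φ₀ (conjFun φ) with h0c | h0c
    · -- the conjugate of the chosen member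
      have hφeq : φ = conjFun φ₀ := by rw [h0c, conjFun_conjFun]
      have hd : χ₁ - φ = (χ₁ - φ₀) + (φ₀ - conjFun φ₀) := by rw [hφeq]; abel
      rw [hd, hτN.1 _ (hmem χ₁ h₁ φ₀ hφ₀) _ (coh_sub_conj_mem hS hφ₀), hS.sum_eq φ₀ hφ₀,
        Chars.inner_add_right, hX2, Chars.inner_add_right,
        inner_projOn_eq_zero (hXR φ₀ hφ₀ hne₀ hnec₀), Chars.inner_sum_right,
        Finset.sum_eq_zero (hXR φ₀ hφ₀ hne₀ hnec₀), add_zero, add_zero, hX]
    obtain ⟨hP, hP2, -⟩ := hproj φ hφ hne hnec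
    set P := projOn (R χ₁) (τ (χ₁ - φ)) with hPdef
    set Q := projOn (R φ) (τ (χ₁ - φ)) with hQdef
    have hPR : ∀ α ∈ R φ₀, classInner P α = 0 := by
      intro α hα
      rw [hPdef, projOn, Chars.inner_sum_left]
      exact Finset.sum_eq_zero fun α' hα' => by
        rw [Chars.inner_smul_left, coh_orth hS h₁ hφ₀ hne₀.symm
          (fun e => hnec₀ (by rw [e, conjFun_conjFun])) α' hα' α hα, mul_zero]
    have hQR : ∀ α ∈ R φ₀, classInner Q α = 0 := by
      intro α hα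
      rw [hQdef, projOn, Chars.inner_sum_left]
      exact Finset.sum_eq_zero fun α' hα' => by
        rw [Chars.inner_smul_left, coh_orth hS hφ hφ₀ h0.symm
          (fun e => h0c (by rw [e, conjFun_conjFun])) α' hα' α hα, mul_zero]
    have hXQ : classInner X Q = 0 := inner_projOn_eq_zero (hXR φ hφ hne hnec)
    have key : classInner (τ (χ₁ - φ)) (τ (χ₁ - φ₀)) = (n : ℂ) := by
      rw [hτN.2.2.1 _ (hmem χ₁ h₁ φ hφ) _ (hmem χ₁ h₁ φ₀ hφ₀), Chars.inner_sub_left,
        Chars.inner_sub_right, Chars.inner_sub_right,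
        hS.orthogonal χ₁ h₁ φ₀ hφ₀ hne₀.symm, hS.orthogonal φ hφ χ₁ h₁ hne,
        hS.orthogonal φ hφ φ₀ hφ₀ h0.symm, hn]
      ring
    rw [hX2, hP2, Chars.inner_add_left, Chars.inner_add_right, Chars.inner_add_right,
      inner_projOn_eq_zero hPR, inner_projOn_eq_zero hQR, ← Chars.inner_conj X Q, hXQ, map_zero,
      add_zero, add_zero, add_zero] at key
    rw [hP2, Chars.inner_add_right, hXQ, add_zero, ← Chars.inner_conj, key, map_natCast]
  · push Not at hex
    obtain ⟨T, hT, hTc⟩ := Finset.exists_subset_card_eq (s := R χ₁) (n := n) (by omega)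
    have hTi : ∀ α ∈ R χ₁, classInner (∑ β ∈ T, β) α = if α ∈ T then 1 else 0 := by
      intro α hα
      rw [Chars.inner_sum_left, Finset.sum_congr rfl fun β hβ => hR1 β (hT hβ) α hα,
        Finset.sum_ite_eq']
    refine ⟨∑ β ∈ T, β, Submodule.sum_mem _ fun β hβ => hS.virtual χ₁ h₁ β (hT hβ), ?_,
      fun φ hφ => ?_⟩
    · rw [Chars.inner_sum_right, Finset.sum_congr rfl fun α hα => by
        rw [hTi α (hT hα), if_pos hα], Finset.sum_const, hTc, hn]
      simp
    · rcases eq_or_ne φ χ₁ with rfl | hne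
      · rw [sub_self, isometry_map_zero hτN, Chars.inner_zero_right, sub_self]
      · obtain rfl := hex φ hφ hne
        rw [hS.sum_eq χ₁ h₁, h1c, sub_zero, Chars.inner_sum_right,
          Finset.sum_congr rfl fun α hα => hTi α hα, Finset.sum_boole, hn]
        norm_cast
        rw [← hTc]
        congr 1
        ext α
        simpa using @hT α

/-- Peterfalvi 5.2: constant degree. -/
theorem coherent_of_equal_degree {S : Set (L → ℂ)} {τ : (L → ℂ) → (G → ℂ)}
    {R : (L → ℂ) → Finset (G → ℂ)} (hS : IsCoherenceSystem S τ R)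
    (hdeg : ∀ φ ∈ S, ∀ ψ ∈ S, φ 1 = ψ 1) : IsCoherent S {1}ᶜ τ := by
  classical
  have hn : ∀ φ ∈ S, classInner φ φ ≠ 0 := fun φ hφ => by
    obtain ⟨m, hm0, hm⟩ := coh_norm_nat hS hφ
    rw [hm]; exact Nat.cast_ne_zero.2 hm0.ne'
  obtain ⟨χ₁, h₁⟩ := hS.nonempty
  set F := (orth_set_finite hS.orthogonal hn).toFinset with hF
  have hFS : ∀ φ, φ ∈ F ↔ φ ∈ S := fun φ => Set.Finite.mem_toFinset _
  have hcoe : (↑F : Set (L → ℂ)) = S := Set.Finite.coe_toFinset _
  set N : Submodule ℤ (L → ℂ) := zspanOnSub S {1}ᶜ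
  have hτN : IsLinearIsometryOn (N : Set (L → ℂ)) τ := hS.isometry
  have hmem : ∀ φ ∈ S, ∀ ψ ∈ S, φ - ψ ∈ N := fun φ hφ ψ hψ =>
    mem_zspanOn_one.2 ⟨Submodule.sub_mem _ (Submodule.subset_span hφ) (Submodule.subset_span hψ),
      by rw [Pi.sub_apply, hdeg φ hφ ψ hψ, sub_self]⟩
  obtain ⟨X, hXgen, hXX, hXv⟩ := coh_common_component hS hdeg h₁
  set f : (L → ℂ) → (G → ℂ) := fun φ => X - τ (χ₁ - φ) with hf
  have horth : ∀ φ ∈ F, ∀ ψ ∈ F, φ ≠ ψ → classInner φ ψ = 0 := fun φ hφ ψ hψ =>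
    hS.orthogonal φ ((hFS φ).1 hφ) ψ ((hFS ψ).1 hψ)
  have hn' : ∀ φ ∈ F, classInner φ φ ≠ 0 := fun φ hφ => hn φ ((hFS φ).1 hφ)
  have hiso : IsLinearIsometryOn (zspan S) (extMap F f) := by
    rw [← hcoe]
    refine isometry_of_values f horth hn'
      (fun φ hφ => (genChar G).sub_mem hXgen (hτN.2.2.2 _ (hmem χ₁ h₁ φ ((hFS φ).1 hφ))))
      (fun φ hφ ψ hψ => ?_)
    have hφ' := (hFS φ).1 hφ
    have hψ' := (hFS ψ).1 hψ
    obtain ⟨m, -, hm⟩ := coh_norm_nat hS h₁
    rw [hf, Chars.inner_sub_left, Chars.inner_sub_right, Chars.inner_sub_right, hXX, hXv ψ hψ',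
      hτN.2.2.1 _ (hmem χ₁ h₁ φ hφ') _ (hmem χ₁ h₁ ψ hψ'), ← Chars.inner_conj X, hXv φ hφ',
      map_sub, Chars.inner_conj, Chars.inner_conj, Chars.inner_sub_left, Chars.inner_sub_right,
      Chars.inner_sub_right]
    ring
  refine ⟨⟨χ₁ - conjFun χ₁, coh_sub_conj_mem hS h₁,
    sub_ne_zero.2 (hS.conj_ne χ₁ h₁).symm⟩, extMap F f, hiso, ?_⟩
  obtain ⟨d, hd0, hd⟩ := coh_degree_pos hS h₁
  refine agree_of_pivot hS.isometry hiso h₁ (by rw [hd]; exact Nat.cast_ne_zero.2 hd0.ne')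
    fun φ hφ => ⟨1, by rw [Int.cast_one, one_mul, hdeg φ hφ χ₁ h₁], ?_⟩
  rw [Int.cast_one, one_smul, one_smul, extMap_of_mem f horth hn' ((hFS φ).2 hφ),
    extMap_of_mem f horth hn' ((hFS χ₁).2 h₁), hf]
  simp only [sub_self, isometry_map_zero hτN, sub_zero]
  rw [← neg_sub χ₁ φ, show -(χ₁ - φ) = (-1 : ℤ) • (χ₁ - φ) by simp,
    hτN.2.1 _ (hmem χ₁ h₁ φ hφ) (-1)]
  simp

end CfsgLib.CharsMore
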