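import Cfsg.Agent.Lib.CharsMore.CoherenceSystem

/-!
# Extending coherence by one step; equal degrees
-/

set_option linter.unusedSectionVars false
set_option linter.style.haveILetI false

namespace CfsgLib.CharsMore

open Cfsg
open scoped ComplexConjugate

variable {L : Type*} [Group L] [Fintype L] {G : Type*} [Group G] [Fintype G]

/-- The quadratic inequality forcing the coefficient to vanish. -/
lemma coef_zero {b : ℤ} {T A : ℝ} (hA : 0 ≤ A) (hT : 2 * A < T)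
    (h : (b : ℝ) ^ 2 * T - 2 * A * b ≤ 0) : b = 0 := by
  by_contra hb
  have h1 : (b : ℝ) ≤ (b : ℝ) ^ 2 := by exact_mod_cast Int.le_self_sq b
  have h2 : (0 : ℝ) < (b : ℝ) ^ 2 := by
    have : (b : ℝ) ≠ 0 := Int.cast_ne_zero.2 hb
    positivity
  nlinarith

/-- Peterfalvi 5.6. -/
theorem coherent_extend {S : Set (L → ℂ)} {τ : (L → ℂ) → (G → ℂ)}
    {R : (L → ℂ) → Finset (G → ℂ)} (hS : IsCoherenceSystem S τ R) (S₁ : Finset (L → ℂ))
    (hS₁ : ↑S₁ ⊆ S) (hS₁c : ∀ φ ∈ S₁, conjFun φ ∈ S₁)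
    (hcoh : IsCoherent (↑S₁ : Set (L → ℂ)) {1}ᶜ τ) (χ : L → ℂ) (hχ : χ ∈ S) (hχ₁ : χ ∉ S₁)
    (hχ₂ : conjFun χ ∉ S₁) (χ₁ : L → ℂ) (hχ₁S : χ₁ ∈ S₁) (d n : (L → ℂ) → ℕ)
    (hd : ∀ φ ∈ S, φ 1 = (d φ : ℂ)) (hn : ∀ φ ∈ S, classInner φ φ = (n φ : ℂ))
    (hdvd : d χ₁ ∣ d χ)
    (hineq : (2 * d χ * d χ₁ : ℝ) < ∑ φ ∈ S₁, ((d φ : ℝ) ^ 2 / (n φ : ℝ))) :
    IsCoherent (↑S₁ ∪ {χ, conjFun χ} : Set (L → ℂ)) {1}ᶜ τ := by
  classical
  obtain ⟨⟨α₀, hα₀, hα₀ne⟩, τ₁, hτ₁, hag⟩ := hcoh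
  obtain ⟨a, ha⟩ := hdvd
  have hχ₁' := hS₁ hχ₁S
  have hd0 : ∀ φ ∈ S, 0 < d φ := fun φ hφ => by
    obtain ⟨k, hk, e⟩ := coh_degree_pos hS hφ
    have : k = d φ := by exact_mod_cast e.symm.trans (hd φ hφ)
    omega
  have hn0 : ∀ φ ∈ S, 0 < n φ := fun φ hφ => by
    obtain ⟨k, hk, e⟩ := coh_norm_nat hS hφ
    have : k = n φ := by exact_mod_cast e.symm.trans (hn φ hφ)
    omega
  have hsub : ∀ φ ∈ S₁, φ ∈ zspan (↑S₁ : Set (L → ℂ)) := fun φ h => Submodule.subset_span h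
  set N : Submodule ℤ (L → ℂ) := zspanOnSub S {1}ᶜ
  have hτN : IsLinearIsometryOn (N : Set (L → ℂ)) τ := hS.isometry
  have ha1 : χ 1 = ((a : ℤ) : ℂ) * χ₁ 1 := by
    rw [hd χ hχ, hd χ₁ hχ₁', ha]; push_cast; ring
  have hγ : χ - ((a : ℤ) : ℂ) • χ₁ ∈ N := by
    refine mem_zspanOn_one.2 ⟨?_, by simp [ha1]⟩
    rw [← zsmul_eq_cast]
    exact Submodule.sub_mem _ (Submodule.subset_span hχ)
      (Submodule.smul_mem _ _ (Submodule.subset_span hχ₁'))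
  set γ := χ - ((a : ℤ) : ℂ) • χ₁ with hγdef
  set β := τ γ with hβ
  have hβgen : β ∈ genChar G := hτN.2.2.2 γ hγ
  have hne : ∀ φ ∈ S₁, φ ≠ χ := fun φ h e => hχ₁ (e ▸ h)
  have hnec : ∀ φ ∈ S₁, φ ≠ conjFun χ := fun φ h e => hχ₂ (e ▸ h)
  have hRorth : ∀ φ ∈ S₁, ∀ α ∈ R χ, classInner α (τ₁ φ) = 0 := fun φ hφ α hα =>
    coh_image_orth hS hS₁ hτ₁ hag (show φ ∈ (↑S₁ : Set (L → ℂ)) from hφ) (hS₁c φ hφ)
      fun α' hα' => by
        rw [← Chars.inner_conj, coh_orth hS (hS₁ hφ) hχ (hne φ hφ) (hnec φ hφ) α' hα' α hα, map_zero]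
  -- `β` against `R χ`
  have hχχ₁ : classInner χ χ₁ = 0 := hS.orthogonal χ hχ χ₁ hχ₁' (hne χ₁ hχ₁S).symm
  have hχ₁χ : classInner χ₁ χ = 0 := hS.orthogonal χ₁ hχ₁' χ hχ (hne χ₁ hχ₁S)
  have hsum : classInner β (∑ α ∈ R χ, α) = classInner χ χ := by
    rw [hβ, ← hS.sum_eq χ hχ, hτN.2.2.1 _ hγ _ (coh_sub_conj_mem hS hχ), hγdef,
      Chars.inner_sub_left, Chars.inner_sub_right, Chars.inner_sub_right, Chars.inner_smul_left,
      Chars.inner_smul_left, hS.orthogonal χ hχ _ (hS.conj_mem χ hχ) (hS.conj_ne χ hχ).symm,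
      hχ₁χ, hS.orthogonal χ₁ hχ₁' _ (hS.conj_mem χ hχ) (hnec χ₁ hχ₁S)]
    ring
  have hge := coh_proj_ge hS hχ hβgen hsum
  set X := projOn (R χ) β with hX
  have hXgen : X ∈ genChar G := projOn_gen (fun α hα => hS.virtual χ hχ α hα) hβgen
  have hXφ : ∀ φ ∈ S₁, classInner X (τ₁ φ) = 0 := fun φ hφ => by
    rw [hX, projOn, Chars.inner_sum_left]
    exact Finset.sum_eq_zero fun α hα => by rw [Chars.inner_smul_left, hRorth φ hφ α hα, mul_zero]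
  set Y := β - X with hY
  have hββ : classInner β β = (n χ : ℂ) + ((a : ℤ) : ℂ) ^ 2 * n χ₁ := by
    rw [hβ, hτN.2.2.1 _ hγ _ hγ, hγdef, Chars.inner_sub_left, Chars.inner_sub_right,
      Chars.inner_sub_right, Chars.inner_smul_left, Chars.inner_smul_left, Chars.inner_smul_right,
      Chars.inner_smul_right, hχχ₁, hχ₁χ, hn χ hχ, hn χ₁ hχ₁', map_intCast]
    ring
  obtain ⟨e₁, he₁⟩ := inner_gen_int hβgen (hτ₁.2.2.2 χ₁ (hsub χ₁ hχ₁S))
  set b : ℤ := e₁ + a * n χ₁ with hb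
  -- the coefficients of `β` on the images
  have hcoef : ∀ φ ∈ S₁, classInner Y (τ₁ φ) =
      ((((d φ : ℝ) * b - (if φ = χ₁ then (a : ℝ) * n χ₁ * d χ₁ else 0)) / d χ₁ : ℝ) : ℂ) := by
    intro φ hφ
    have hd1 : ((d χ₁ : ℕ) : ℂ) ≠ 0 := Nat.cast_ne_zero.2 (hd0 χ₁ hχ₁').ne'
    set θ := ((d χ₁ : ℤ) : ℂ) • φ - ((d φ : ℤ) : ℂ) • χ₁ with hθ
    have hθmem : θ ∈ zspanOn (↑S₁ : Set (L → ℂ)) {1}ᶜ := by
      refine mem_zspanOn_one.2 ⟨?_, ?_⟩
      · rw [hθ, ← zsmul_eq_cast, ← zsmul_eq_cast]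
        exact Submodule.sub_mem _ (Submodule.smul_mem _ _ (hsub φ hφ))
          (Submodule.smul_mem _ _ (hsub χ₁ hχ₁S))
      · simp [hθ, hd φ (hS₁ hφ), hd χ₁ hχ₁']; ring
    have h1 : classInner β (τ₁ θ) = classInner γ θ := by
      rw [hag θ hθmem, hβ, hτN.2.2.1 _ hγ _ (zspanOn_mono hS₁ _ hθmem)]
    set M : Submodule ℤ (L → ℂ) := Submodule.span ℤ (↑S₁ : Set (L → ℂ))
    have hτM : IsLinearIsometryOn (M : Set (L → ℂ)) τ₁ := hτ₁
    rw [hθ, isometry_map_sub hτM (by rw [← zsmul_eq_cast]; exact M.smul_mem _ (hsub φ hφ))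
      (by rw [← zsmul_eq_cast]; exact M.smul_mem _ (hsub χ₁ hχ₁S)),
      isometry_map_smul hτM (hsub φ hφ), isometry_map_smul hτM (hsub χ₁ hχ₁S),
      Chars.inner_sub_right, Chars.inner_smul_right, Chars.inner_smul_right, he₁, hγdef,
      Chars.inner_sub_left, Chars.inner_smul_left, Chars.inner_sub_right, Chars.inner_sub_right,
      Chars.inner_smul_right, Chars.inner_smul_right, Chars.inner_smul_right,
      Chars.inner_smul_right, hχχ₁, hS.orthogonal χ hχ φ (hS₁ hφ) (hne φ hφ).symm,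
      hn χ₁ hχ₁', map_intCast, map_intCast] at h1
    have h2 : classInner χ₁ φ = if φ = χ₁ then (n χ₁ : ℂ) else 0 := by
      split_ifs with h
      · rw [h, hn χ₁ hχ₁']
      · exact hS.orthogonal χ₁ hχ₁' φ (hS₁ hφ) (Ne.symm h)
    rw [h2] at h1
    have hYφ : classInner Y (τ₁ φ) = classInner β (τ₁ φ) := by
      rw [hY, Chars.inner_sub_left, hXφ φ hφ, sub_zero]
    rw [hYφ]
    push_cast at h1 ⊢
    rw [eq_div_iff hd1, hb]
    push_cast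
    split_ifs with h
    · rw [if_pos h] at h1; push_cast; linear_combination h1
    · rw [if_neg h] at h1; push_cast; linear_combination h1
  -- Bessel
  set c : (L → ℂ) → ℝ := fun φ =>
    ((d φ : ℝ) * b - (if φ = χ₁ then (a : ℝ) * n χ₁ * d χ₁ else 0)) / d χ₁ with hc
  set Z := Y - ∑ φ ∈ S₁, ((c φ / n φ : ℝ) : ℂ) • τ₁ φ with hZ
  have hτφ : ∀ φ ∈ S₁, ∀ ψ ∈ S₁, classInner (τ₁ φ) (τ₁ ψ) = if φ = ψ then (n φ : ℂ) else 0 := by
    intro φ hφ ψ hψ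
    rw [hτ₁.2.2.1 φ (hsub φ hφ) ψ (hsub ψ hψ)]
    split_ifs with h
    · rw [h, hn ψ (hS₁ hψ)]
    · exact hS.orthogonal φ (hS₁ hφ) ψ (hS₁ hψ) h
  have hZφ : ∀ φ ∈ S₁, classInner Z (τ₁ φ) = 0 := fun φ hφ => by
    rw [hZ, Chars.inner_sub_left, hcoef φ hφ, Chars.inner_sum_left,
      Finset.sum_eq_single φ (fun ψ hψ hne => by
        rw [Chars.inner_smul_left, hτφ ψ hψ φ hφ, if_neg hne, mul_zero])
        (fun h => absurd hφ h), Chars.inner_smul_left, hτφ φ hφ φ hφ, if_pos rfl]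
    have : (n φ : ℂ) ≠ 0 := Nat.cast_ne_zero.2 (hn0 φ (hS₁ hφ)).ne'
    push_cast
    rw [div_mul_cancel₀ _ this, sub_eq_zero]
    simp only [hc]
    push_cast
    rfl
  have hYY : (classInner Y Y).re = (classInner Z Z).re + ∑ φ ∈ S₁, c φ ^ 2 / n φ := by
    have hYd : Y = Z + ∑ φ ∈ S₁, ((c φ / n φ : ℝ) : ℂ) • τ₁ φ := by rw [hZ, sub_add_cancel]
    set W := ∑ φ ∈ S₁, ((c φ / n φ : ℝ) : ℂ) • τ₁ φ with hW
    have hZW : classInner Z W = 0 := by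
      rw [hW, Chars.inner_sum_right]
      exact Finset.sum_eq_zero fun φ hφ => by rw [Chars.inner_smul_right, hZφ φ hφ, mul_zero]
    have hWW : classInner W W = ((∑ φ ∈ S₁, c φ ^ 2 / n φ : ℝ) : ℂ) := by
      rw [hW, Chars.inner_sum_left, Complex.ofReal_sum]
      refine Finset.sum_congr rfl fun φ hφ => ?_
      rw [Chars.inner_smul_left, Chars.inner_sum_right, Finset.sum_eq_single φ (fun ψ hψ hne => by
        rw [Chars.inner_smul_right, hτφ φ hφ ψ hψ, if_neg hne.symm, mul_zero])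
        (fun h => absurd hφ h), Chars.inner_smul_right, hτφ φ hφ φ hφ, if_pos rfl,
        Complex.conj_ofReal]
      have : (n φ : ℂ) ≠ 0 := Nat.cast_ne_zero.2 (hn0 φ (hS₁ hφ)).ne'
      push_cast
      field_simp
    rw [hYd, Chars.inner_add_left, Chars.inner_add_right, Chars.inner_add_right, hZW,
      ← Chars.inner_conj Z W, hZW, hWW, map_zero, add_zero, zero_add, Complex.add_re,
      Complex.ofReal_re]
  set T := ∑ φ ∈ S₁, ((d φ : ℝ) ^ 2 / (n φ : ℝ)) with hT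
  have hd1R : (d χ₁ : ℝ) ≠ 0 := Nat.cast_ne_zero.2 (hd0 χ₁ hχ₁').ne'
  have hsq : ∑ φ ∈ S₁, c φ ^ 2 / n φ =
      ((b : ℝ) ^ 2 * T - 2 * ((a : ℝ) * (d χ₁ : ℝ) ^ 2) * b) / (d χ₁ : ℝ) ^ 2 +
        (a : ℝ) ^ 2 * n χ₁ := by
    have hterm : ∀ φ ∈ S₁, c φ ^ 2 / n φ = (b : ℝ) ^ 2 / (d χ₁ : ℝ) ^ 2 * ((d φ : ℝ) ^ 2 / n φ) +
        (if φ = χ₁ then (a : ℝ) ^ 2 * n χ₁ - 2 * a * b else 0) := by
      intro φ hφ
      have : (n φ : ℝ) ≠ 0 := Nat.cast_ne_zero.2 (hn0 φ (hS₁ hφ)).ne'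
      simp only [hc]
      split_ifs with h
      · subst h; field_simp; ring
      · field_simp; ring
    rw [Finset.sum_congr rfl hterm, Finset.sum_add_distrib, Finset.sum_ite_eq', if_pos hχ₁S,
      ← Finset.mul_sum, ← hT]
    field_simp
    ring
  have hYle : (classInner Y Y).re ≤ (a : ℝ) ^ 2 * n χ₁ := by
    rw [hY, hX, inner_sub_proj_self hS hχ, hββ]
    rw [hn χ hχ, Complex.natCast_re] at hge
    rw [hX] at hge
    have : ((n χ : ℂ) + ((a : ℤ) : ℂ) ^ 2 * n χ₁).re = (n χ : ℝ) + (a : ℝ) ^ 2 * n χ₁ := by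
      have e : ((n χ : ℂ) + ((a : ℤ) : ℂ) ^ 2 * n χ₁) =
          (((n χ : ℝ) + (a : ℝ) ^ 2 * n χ₁ : ℝ) : ℂ) := by push_cast; ring
      rw [e, Complex.ofReal_re]
    rw [this]
    linarith
  have hZ0 := inner_self_re_nonneg Z
  have hb0 : b = 0 := by
    refine coef_zero (b := b) (T := T) (A := (a : ℝ) * (d χ₁ : ℝ) ^ 2) (by positivity) ?_ ?_
    · have : (d χ : ℝ) = d χ₁ * a := by exact_mod_cast ha
      rw [this] at hineq
      linarith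
    · have hle : ((b : ℝ) ^ 2 * T - 2 * ((a : ℝ) * (d χ₁ : ℝ) ^ 2) * b) / (d χ₁ : ℝ) ^ 2 ≤ 0 := by
        linarith
      rw [div_le_iff₀ (by positivity), zero_mul] at hle
      exact hle
  rw [hb0, Int.cast_zero] at hsq
  simp only [zero_pow two_ne_zero, zero_mul, mul_zero, sub_self, zero_div, zero_add] at hsq
  have hZz : Z = 0 := by
    rw [← Chars.inner_self_eq_zero_iff]
    have : (classInner Z Z).re = 0 := by linarith
    rw [Chars.inner_self_eq] at this ⊢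
    rw [Complex.ofReal_re] at this
    rw [this, Complex.ofReal_zero]
  have hXn : classInner X X = classInner χ χ := by
    have h : (classInner X X).re = (n χ : ℝ) := by
      have e : (classInner Y Y).re = (a : ℝ) ^ 2 * n χ₁ := by linarith
      rw [hY, hX, inner_sub_proj_self hS hχ, hββ] at e
      have e2 : ((n χ : ℂ) + ((a : ℤ) : ℂ) ^ 2 * n χ₁) =
          (((n χ : ℝ) + (a : ℝ) ^ 2 * n χ₁ : ℝ) : ℂ) := by push_cast; ring
      rw [e2, Complex.ofReal_re] at e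
      rw [hX]; linarith
    rw [Chars.inner_self_eq] at h ⊢
    rw [Complex.ofReal_re] at h
    rw [h, hn χ hχ, Complex.ofReal_natCast]
  have hYeq : Y = -((a : ℤ) : ℂ) • τ₁ χ₁ := by
    rw [hZ, sub_eq_zero] at hZz
    rw [hZz, Finset.sum_eq_single χ₁]
    · congr 1
      have : (n χ₁ : ℝ) ≠ 0 := Nat.cast_ne_zero.2 (hn0 χ₁ hχ₁').ne'
      simp only [hc, if_pos, hb0, Int.cast_zero, mul_zero, zero_sub]
      have h1 : (d χ₁ : ℂ) ≠ 0 := Nat.cast_ne_zero.2 (hd0 χ₁ hχ₁').ne'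
      have h2 : (n χ₁ : ℂ) ≠ 0 := Nat.cast_ne_zero.2 (hn0 χ₁ hχ₁').ne'
      push_cast
      field_simp
    · intro φ _ hne
      simp [hc, hb0, hne]
    · exact fun h => absurd hχ₁S h
  -- insert `χ`, then its conjugate
  have hins1 : (↑(insert χ S₁) : Set (L → ℂ)) ⊆ S := by
    intro φ hφ; rcases Finset.mem_insert.1 hφ with rfl | h; exacts [hχ, hS₁ h]
  have hnz : ∀ φ ∈ S, classInner φ φ ≠ 0 := fun φ hφ => by
    rw [hn φ hφ]; exact Nat.cast_ne_zero.2 (hn0 φ hφ).ne'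
  obtain ⟨τ₂, hτ₂, hag₂, hv, hvS⟩ := extend_one hχ₁
    (fun φ hφ ψ hψ => hS.orthogonal φ (hins1 hφ) ψ (hins1 hψ))
    (fun φ hφ => hnz φ (hins1 hφ))
    (isometry_mono (zspanOn_mono hins1 _) hS.isometry) hτ₁ hag hχ₁S (a : ℤ) ha1 hXgen hXn hXφ
    (by rw [← hγdef, ← hβ, sub_eq_add_neg, ← neg_smul, ← hYeq, hY, add_sub_cancel])
  have hcne : conjFun χ ∉ insert χ S₁ := fun h =>
    (Finset.mem_insert.1 h).elim (hS.conj_ne χ hχ) hχ₂
  have hins2 : (↑(insert (conjFun χ) (insert χ S₁)) : Set (L → ℂ)) ⊆ S := by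
    intro φ hφ; rcases Finset.mem_insert.1 hφ with rfl | h; exacts [hS.conj_mem χ hχ, hins1 h]
  have hsgen : (∑ α ∈ R χ, α) ∈ genChar G :=
    Submodule.sum_mem _ fun α hα => hS.virtual χ hχ α hα
  have hXsum : classInner X (∑ α ∈ R χ, α) = classInner χ χ := by
    rw [Chars.inner_sum_right, Finset.sum_congr rfl (fun α hα => by
      rw [hX, projOn_inner (hS.orthonormal χ hχ) β hα]), ← Chars.inner_sum_right, hsum]
  obtain ⟨τ₃, hτ₃, hag₃, -, -⟩ := extend_one hcne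
    (fun φ hφ ψ hψ => hS.orthogonal φ (hins2 hφ) ψ (hins2 hψ))
    (fun φ hφ => hnz φ (hins2 hφ))
    (isometry_mono (zspanOn_mono hins2 _) hS.isometry) hτ₂ hag₂ (Finset.mem_insert_self χ S₁) 1
    (by simp [conjFun, hd χ hχ]) (x := X - ∑ α ∈ R χ, α) ((genChar G).sub_mem hXgen hsgen)
    (by
      rw [inner_conjFun, Chars.inner_sub_left, Chars.inner_sub_right, Chars.inner_sub_right,
        ← Chars.inner_conj X (∑ α ∈ R χ, α), hXsum, hXn, (coh_sumR_inner hS hχ).1, hn χ hχ,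
        map_natCast]
      ring)
    (fun φ hφ => by
      rcases Finset.mem_insert.1 hφ with rfl | h
      · rw [hv, Chars.inner_sub_left, ← Chars.inner_conj X (∑ α ∈ R φ, α), hXsum, hXn, hn φ hχ,
          map_natCast, sub_self]
      · rw [hvS φ h, Chars.inner_sub_left, hXφ φ h, Chars.inner_sum_left,
          Finset.sum_eq_zero fun α hα => hRorth φ h α hα, sub_zero])
    (by
      rw [hv, Int.cast_one, one_smul, one_smul, ← neg_sub χ (conjFun χ),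
        show -(χ - conjFun χ) = (-1 : ℤ) • (χ - conjFun χ) by simp,
        hτN.2.1 _ (coh_sub_conj_mem hS hχ) (-1), hS.sum_eq χ hχ]
      simp)
  have hset : (↑(insert (conjFun χ) (insert χ S₁)) : Set (L → ℂ)) = ↑S₁ ∪ {χ, conjFun χ} := by
    ext φ; simp; tauto
  rw [← hset]
  exact ⟨⟨α₀, zspanOn_mono (fun φ h => Finset.mem_insert_of_mem (Finset.mem_insert_of_mem h)) _
    hα₀, hα₀ne⟩, τ₃, hτ₃, hag₃⟩

end CfsgLib.CharsMore
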