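import Cfsg.Agent.Lib.CharsMore.FrobKernelChars
import Cfsg.Agent.Lib.Chars.Permutation
import Cfsg.Agent.S1514

/-!
# The coherence system of a kernel of Frobenius type in odd order
-/

set_option linter.unusedSectionVars false
set_option linter.style.haveILetI false

namespace CfsgLib.CharsMore

open Cfsg

/-- A linear isometry on the characters induced from a Frobenius kernel extends to a coherence
system when the group has odd order. -/
lemma exists_coh_system_kernel {L : Type*} [Group L] [Fintype L] {K : Subgroup L} [K.Normal]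
    {G : Type*} [Group G] [Fintype G]
    (hC : ∀ k ∈ K, k ≠ 1 → Subgroup.centralizer ({k} : Set L) ≤ K) (hodd : Odd (Nat.card L))
    (hne : (inducedIrrAbove K ⊥).Nonempty) {τ : (L → ℂ) → (G → ℂ)}
    (hτ : IsLinearIsometryOn (zspanOn (inducedIrrAbove K ⊥) {1}ᶜ) τ)
    (hτ1 : ∀ α ∈ zspanOn (inducedIrrAbove K ⊥) {1}ᶜ, τ α 1 = 0) :
    ∃ R, IsCoherenceSystem (inducedIrrAbove K ⊥) τ R := by
  have hirr := inducedIrrAbove_isIrr hC
  refine Cfsg.Agent.S1514.result _ hne hirr
    (fun χ hχ => ⟨inducedIrrAbove_conj _ hχ, fun e => ?_⟩) _ hτ hτ1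
  have hp := Chars.eq_principal_of_real_of_odd hodd ⟨χ, hirr χ hχ⟩
    fun g => Complex.conj_eq_iff_im.1 (congrFun e g)
  rw [inducedIrrAbove_eq_nontrivial hC] at hχ
  obtain ⟨-, k, -, hk⟩ := hχ
  apply hk
  have := congrArg (fun ψ : IrrCharacter L => (ψ : L → ℂ)) hp
  simp only at this
  rw [this]
  rfl

end CfsgLib.CharsMore
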