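import Cfsg.Agent.Lib.CharsMore.CoherenceDescent
import Cfsg.Agent.Lib.CharsMore.CoherenceEqualDeg

/-!
# Coherence of kernel characters (Peterfalvi 6.5)
-/

set_option linter.unusedSectionVars false
set_option linter.style.haveILetI false

namespace CfsgLib.CharsMore

open Cfsg
open scoped commutatorElement

section Groups

/-- Supplements of the commutator subgroup in a nilpotent group are the whole group. -/
lemma eq_top_of_sup_commutator {Q : Type*} [Group Q] [Finite Q] (hQ : Group.IsNilpotent Q)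
    {S : Subgroup Q} (h : S ⊔ commutator Q = ⊤) : S = ⊤ := by
  by_contra hS
  obtain ⟨X, hX, hle⟩ := (eq_top_or_exists_le_coatom S).resolve_left hS
  haveI := hQ
  haveI : X.Normal := Subgroup.NormalizerCondition.normal_of_coatom X Group.normalizerCondition_of_isNilpotent hX
  haveI : Group.IsSolvable (Q ⧸ X) := inferInstance
  obtain ⟨x, -, hx⟩ := SetLike.exists_of_lt (lt_top_iff_ne_top.2 hX.1)
  have hcomm : commutator Q ≤ X := by
    by_contra hc
    have hsup : X ⊔ commutator Q = ⊤ :=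
      hX.2 _ (lt_of_le_of_ne le_sup_left fun e => hc (e ▸ le_sup_right))
    haveI : Nontrivial (Q ⧸ X) := ⟨x, 1, fun e => hx ((QuotientGroup.eq_one_iff x).1 e)⟩
    refine (Group.IsSolvable.commutator_lt_top_of_nontrivial (Q ⧸ X)).ne ?_
    have := congrArg (Subgroup.map (QuotientGroup.mk' X)) hsup
    rw [Subgroup.map_sup, QuotientGroup.map_mk'_self, bot_sup_eq, commutator_def,
      Subgroup.map_commutator, Subgroup.map_top_of_surjective _ (QuotientGroup.mk'_surjective X)]
      at this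
    rwa [commutator_def]
  exact hX.1 (top_le_iff.1 (h ▸ sup_le hle hcomm))

/-- A normal subset all of whose classes have the same size. -/
lemma dvd_card_of_class_size {Q : Type*} [Group Q] [Finite Q] (X : Finset Q)
    (hX : ∀ x ∈ X, ∀ g, g * x * g⁻¹ ∈ X) (e : ℕ)
    (he : ∀ x ∈ X, (Subgroup.centralizer ({x} : Set Q)).index = e) : e ∣ X.card := by
  classical
  let _ := Fintype.ofFinite Q
  rw [Finset.card_eq_sum_card_image ConjClasses.mk X]
  refine Finset.dvd_sum fun c hc => ?_
  obtain ⟨x, hx, rfl⟩ := Finset.mem_image.1 hc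
  rw [← he x hx, Chars.index_centralizer_eq, Nat.card_eq_fintype_card, Fintype.card_subtype]
  refine dvd_of_eq (congrArg Finset.card ?_)
  ext y
  simp only [Finset.mem_filter, Finset.mem_univ, true_and, ConjClasses.mk_eq_mk_iff_isConj]
  refine ⟨fun h => ⟨?_, h.symm⟩, fun h => h.2.symm⟩
  obtain ⟨g, rfl⟩ := isConj_iff.1 h
  exact hX x hx g

variable {L : Type*} [Group L] [Finite L] {K : Subgroup L} [hK : K.Normal]

/-- Congruence from a fixed point free quotient. -/
lemma index_dvd_of_frob {H₁ : Subgroup L} [H₁.Normal] {N : Subgroup L} [N.Normal] (hH₁N : H₁ ≤ N)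
    (hNK : N ≤ K) (hcomm : ⁅K, K⁆ ≤ H₁)
    (hfrob : ∀ k ∈ K, k ∉ H₁ → ∀ x : L, x * k * x⁻¹ * k⁻¹ ∈ H₁ → x ∈ K) :
    K.index ∣ H₁.relIndex N - 1 := by
  classical
  let _ := Fintype.ofFinite (L ⧸ H₁)
  set π := QuotientGroup.mk' H₁
  set X : Finset (L ⧸ H₁) := Finset.univ.filter (fun q => q ∈ N.map π ∧ q ≠ 1)
  have hcard : X.card = H₁.relIndex N - 1 := by
    have h1 : X = (Finset.univ.filter (fun q => q ∈ N.map π)).erase 1 := by
      ext q; simp [X, and_comm]
    rw [h1, Finset.card_erase_of_mem (Finset.mem_filter.2 ⟨Finset.mem_univ _, one_mem _⟩), ← Fintype.card_subtype,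
      ← Nat.card_eq_fintype_card]
    congr 1
    show Nat.card (N.map π) = H₁.relIndex N
    rw [Subgroup.relIndex, Subgroup.index_eq_card]
    refine (Nat.card_congr ?_).symm
    refine ((QuotientGroup.quotientMulEquivOfEq (?_ : H₁.subgroupOf N =
      (π.subgroupMap N).ker)).trans (QuotientGroup.quotientKerEquivOfSurjective _
        (π.subgroupMap_surjective N))).toEquiv
    rw [Subgroup.ker_subgroupMap, QuotientGroup.ker_mk']
  rw [← hcard]
  refine dvd_card_of_class_size X (fun x hx g => ?_) _ fun x hx => ?_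
  · simp only [X, Finset.mem_filter, Finset.mem_univ, true_and] at hx ⊢
    refine ⟨(Subgroup.Normal.map inferInstance π (QuotientGroup.mk'_surjective H₁)).conj_mem x hx.1 g,
      fun e => hx.2 ?_⟩
    simpa using conj_eq_one_iff.1 e
  · simp only [X, Finset.mem_filter, Finset.mem_univ, true_and] at hx
    obtain ⟨⟨n, hn, rfl⟩, hne⟩ := hx
    have hc : Subgroup.centralizer ({π n} : Set (L ⧸ H₁)) = K.map π := by
      apply le_antisymm
      · intro y hy
        obtain ⟨y, rfl⟩ := QuotientGroup.mk'_surjective H₁ y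
        refine Subgroup.mem_map_of_mem _ (hfrob n (hNK hn) (fun h =>
          hne ((QuotientGroup.eq_one_iff n).2 h)) y ?_)
        rw [Subgroup.mem_centralizer_singleton_iff, ← map_mul, ← map_mul] at hy
        rw [← QuotientGroup.eq_one_iff]
        show π (y * n * y⁻¹ * n⁻¹) = 1
        rw [map_mul, map_mul, hy, ← map_mul, ← map_mul]
        group
        simp
      · rintro _ ⟨k, hk, rfl⟩
        rw [Subgroup.mem_centralizer_singleton_iff, ← map_mul, ← map_mul]
        refine (mul_inv_eq_one.1 ?_)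
        rw [← map_inv, ← map_mul]
        refine (QuotientGroup.eq_one_iff _).2 (hcomm ?_)
        have := Subgroup.commutator_mem_commutator hk (hNK hn)
        rwa [commutatorElement_def, mul_assoc _ k⁻¹, ← mul_inv_rev] at this
    rw [hc, Subgroup.index_map_eq _ (QuotientGroup.mk'_surjective H₁)
      (by rw [QuotientGroup.ker_mk']; exact hH₁N.trans hNK)]

/-- A fixed point free quotient stays fixed point free modulo a larger subgroup. -/
lemma frob_of_le {H₁ : Subgroup L} [H₁.Normal] {N : Subgroup L} [N.Normal] (hH₁N : H₁ ≤ N)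
    (hNK : N ≤ K) (hcomm : ⁅K, K⁆ ≤ H₁)
    (hfrob : ∀ k ∈ K, k ∉ H₁ → ∀ x : L, x * k * x⁻¹ * k⁻¹ ∈ H₁ → x ∈ K) :
    ∀ k ∈ K, k ∉ N → ∀ x : L, x * k * x⁻¹ * k⁻¹ ∈ N → x ∈ K := by
  intro k hk hkN x hx
  by_contra hxK
  set π := QuotientGroup.mk' H₁
  have hab : ∀ a ∈ K.map π, ∀ b ∈ K.map π, a * b = b * a := by
    rintro _ ⟨a, ha, rfl⟩ _ ⟨b, hb, rfl⟩
    rw [← map_mul, ← map_mul]
    refine mul_inv_eq_one.1 ?_
    rw [← map_inv, ← map_mul]
    refine (QuotientGroup.eq_one_iff _).2 (hcomm ?_)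
    have := Subgroup.commutator_mem_commutator ha hb
    rwa [commutatorElement_def, mul_assoc _ a⁻¹, ← mul_inv_rev] at this
  have hKn : (K.map π).Normal := Subgroup.Normal.map hK π (QuotientGroup.mk'_surjective H₁)
  have hNn : (N.map π).Normal :=
    Subgroup.Normal.map inferInstance π (QuotientGroup.mk'_surjective H₁)
  let f : L ⧸ H₁ → L ⧸ H₁ := fun a => π x * a * (π x)⁻¹ * a⁻¹
  have hfN : ∀ a ∈ N.map π, f a ∈ N.map π := fun a ha =>
    Subgroup.mul_mem _ (hNn.conj_mem a ha _) (Subgroup.inv_mem _ ha)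
  have hinj : ∀ a ∈ K.map π, ∀ b ∈ K.map π, f a = f b → a = b := by
    intro a ha b hb he
    have hd : b⁻¹ * a ∈ K.map π := Subgroup.mul_mem _ (Subgroup.inv_mem _ hb) ha
    obtain ⟨d, hdK, hd'⟩ := hd
    have h1 : π x * π d * (π x)⁻¹ = π d := by
      have hA : π x * a * (π x)⁻¹ = π x * b * (π x)⁻¹ * (b⁻¹ * a) := by
        rw [← mul_assoc]
        exact mul_inv_eq_iff_eq_mul.1 he
      rw [hd']
      calc π x * (b⁻¹ * a) * (π x)⁻¹ = (π x * b * (π x)⁻¹)⁻¹ * (π x * a * (π x)⁻¹) := by group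
        _ = b⁻¹ * a := by rw [hA, inv_mul_cancel_left]
    by_contra hne
    refine hxK (hfrob d hdK (fun hd₁ => hne ?_) x ?_)
    · have : π d = 1 := (QuotientGroup.eq_one_iff d).2 hd₁
      rw [this] at hd'
      exact (inv_mul_eq_one.1 hd'.symm).symm
    · rw [← QuotientGroup.eq_one_iff]
      show π (x * d * x⁻¹ * d⁻¹) = 1
      rw [map_mul, map_mul, map_mul, map_inv, map_inv, h1, mul_inv_cancel]
  have hsurj : Function.Surjective (fun a : N.map π => (⟨f a, hfN a a.2⟩ : N.map π)) :=
    Finite.surjective_of_injective fun a b h => Subtype.ext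
      (hinj a (Subgroup.map_mono hNK a.2) b (Subgroup.map_mono hNK b.2) (congrArg Subtype.val h))
  have hkm : f (π k) ∈ N.map π := ⟨_, hx, by simp [f]⟩
  obtain ⟨a, ha⟩ := hsurj ⟨_, hkm⟩
  have := hinj a (Subgroup.map_mono hNK a.2) (π k) (Subgroup.mem_map_of_mem _ hk)
    (congrArg Subtype.val ha)
  obtain ⟨n, hn, e⟩ := a.2
  rw [this] at e
  refine hkN ?_
  have h2 : n⁻¹ * k ∈ H₁ := by
    rw [← QuotientGroup.eq_one_iff]
    show π (n⁻¹ * k) = 1
    rw [map_mul, map_inv, e, inv_mul_cancel]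
  simpa using N.mul_mem hn (hH₁N h2)

/-- The abelianisation of a nilpotent section detects prime power order; the alternative gives
a normal subgroup of `L` strictly between. -/
lemma exists_between_of_not_primePow {M H₁ : Subgroup L} [M.Normal] [H₁.Normal]
    [(M.subgroupOf K).Normal] (hMK : M ≤ K)
    (hnil : Group.IsNilpotent (↥K ⧸ M.subgroupOf K)) (hH₁ : H₁ = ⁅K, K⁆ ⊔ M) (hH₁K : H₁ < K)
    (hnp : ¬ ∃ p m : ℕ, p.Prime ∧ M.relIndex K = p ^ m) :
    ∃ N : Subgroup L, N.Normal ∧ H₁ < N ∧ N < K := by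
  classical
  set π := QuotientGroup.mk' H₁
  set Kb := K.map π
  haveI hKbn : Kb.Normal := Subgroup.Normal.map hK π (QuotientGroup.mk'_surjective H₁)
  have hr : Nat.card Kb = H₁.relIndex K := by
    rw [Subgroup.relIndex, Subgroup.index_eq_card]
    refine (Nat.card_congr ?_).symm
    refine ((QuotientGroup.quotientMulEquivOfEq (?_ : H₁.subgroupOf K =
      (π.subgroupMap K).ker)).trans (QuotientGroup.quotientKerEquivOfSurjective _
        (π.subgroupMap_surjective K))).toEquiv
    rw [Subgroup.ker_subgroupMap, QuotientGroup.ker_mk']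
  have hr1 : Nat.card Kb ≠ 1 := by
    rw [hr, Ne, Subgroup.relIndex_eq_one]
    exact hH₁K.not_ge
  obtain ⟨q, hq, hqd⟩ := Nat.exists_prime_and_dvd hr1
  haveI := Fact.mk hq
  by_cases hp : ∃ a, Nat.card Kb = q ^ a
  · exfalso
    obtain ⟨a, ha⟩ := hp
    set Q := ↥K ⧸ M.subgroupOf K
    let S : Sylow q Q := default
    have hcq : (commutator Q).index ∣ q ^ a := by
      rw [← ha, hr, hH₁]
      set ρ := QuotientGroup.mk' (M.subgroupOf K)
      have hle : ((⁅K, K⁆ ⊔ M).subgroupOf K).map ρ ≤ commutator Q := by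
        rw [Subgroup.map_le_iff_le_comap]
        have e : (⁅K, K⁆ ⊔ M).subgroupOf K = commutator K ⊔ M.subgroupOf K := by
          rw [Subgroup.subgroupOf_sup (Subgroup.commutator_le_self K) hMK,
            ← Subgroup.map_subtype_commutator, Subgroup.subgroupOf,
            Subgroup.comap_map_eq_self_of_injective K.subtype_injective]
        rw [e, sup_le_iff]
        refine ⟨?_, fun m hm => ?_⟩
        · rw [← Subgroup.map_le_iff_le_comap, commutator_def, Subgroup.map_commutator]
          exact Subgroup.commutator_mono le_top le_top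
        · rw [Subgroup.mem_comap, show ρ m = 1 from (QuotientGroup.eq_one_iff m).2 hm]
          exact Subgroup.one_mem _
      refine (Subgroup.index_dvd_of_le hle).trans (dvd_of_eq ?_)
      rw [Subgroup.index_map_eq _ (QuotientGroup.mk'_surjective _) ?_]
      · rfl
      · rw [QuotientGroup.ker_mk']
        exact fun m hm => (le_sup_right : M ≤ ⁅K, K⁆ ⊔ M) hm
    have htop : (S : Subgroup Q) ⊔ commutator Q = ⊤ := by
      rw [← Subgroup.index_eq_one]
      have h1 : Nat.Coprime (S : Subgroup Q).index (q ^ a) :=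
        (Nat.Coprime.pow_right a ((hq.coprime_iff_not_dvd.2 S.not_dvd_index).symm))
      exact Nat.eq_one_of_dvd_coprimes h1 (Subgroup.index_dvd_of_le le_sup_left)
        ((Subgroup.index_dvd_of_le le_sup_right).trans hcq)
    have hS := eq_top_of_sup_commutator hnil htop
    obtain ⟨m, hm⟩ := IsPGroup.iff_card.1 S.2
    refine hnp ⟨q, m, hq, ?_⟩
    rw [← hm, hS, Subgroup.card_top]
    exact Subgroup.index_eq_card _
  · haveI : IsMulCommutative Kb := by
      refine ⟨⟨fun a b => ?_⟩⟩
      obtain ⟨_, x, hx, rfl⟩ := a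
      obtain ⟨_, y, hy, rfl⟩ := b
      apply Subtype.ext
      show π x * π y = π y * π x
      rw [← map_mul, ← map_mul]
      refine mul_inv_eq_one.1 ?_
      rw [← map_inv, ← map_mul]
      refine (QuotientGroup.eq_one_iff _).2 ?_
      rw [hH₁]
      have := Subgroup.commutator_mem_commutator hx hy
      rw [commutatorElement_def, mul_assoc _ x⁻¹, ← mul_inv_rev] at this
      exact Subgroup.mem_sup_left this
    let P : Sylow q Kb := default
    haveI : (P : Subgroup Kb).Normal := Subgroup.normal_of_isMulCommutative _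
    haveI := Sylow.characteristic_of_normal P inferInstance
    set P' := (P : Subgroup Kb).map Kb.subtype
    haveI hP'n : P'.Normal := inferInstance
    refine ⟨P'.comap π, Subgroup.Normal.comap hP'n π, ?_, ?_⟩
    · have h1 : H₁ ≤ P'.comap π := by
        exact (QuotientGroup.ker_mk' H₁).symm.trans_le (MonoidHom.ker_le_comap _ _)
      refine lt_of_le_of_ne h1 fun e => ?_
      have h2 : P' = ⊥ := by
        rw [← Subgroup.map_comap_eq_self_of_surjective (QuotientGroup.mk'_surjective H₁) P', ← e,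
          QuotientGroup.map_mk'_self]
      rw [Subgroup.map_eq_bot_iff_of_injective _ Kb.subtype_injective] at h2
      exact P.not_dvd_index (by rw [h2, Subgroup.index_bot]; exact hqd)
    · have h1 : P'.comap π ≤ K := by
        intro x hx
        obtain ⟨y, hy, e⟩ := (Subgroup.map_subtype_le _ : P' ≤ Kb) hx
        have h2 : y⁻¹ * x ∈ H₁ := by
          rw [← QuotientGroup.eq_one_iff]
          show π (y⁻¹ * x) = 1
          rw [map_mul, map_inv, e, inv_mul_cancel]
        simpa using K.mul_mem hy (hH₁K.le h2)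
      refine lt_of_le_of_ne h1 fun e => hp ?_
      obtain ⟨m, hm⟩ := IsPGroup.iff_card.1 P.2
      refine ⟨m, ?_⟩
      have hKP : Kb = P' := by
        rw [← Subgroup.map_comap_eq_self_of_surjective (QuotientGroup.mk'_surjective H₁) P', e]
      exact (Nat.card_congr (MulEquiv.subgroupCongr hKP).toEquiv).trans
        ((Subgroup.card_map_of_injective Kb.subtype_injective).trans hm)

end Groups

variable {L : Type*} [Group L] [Fintype L] {K : Subgroup L} [hK : K.Normal]
  {G : Type*} [Group G] [Fintype G] {τ : (L → ℂ) → (G → ℂ)}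

/-- `S(H₁)` is coherent when `K/H₁` is abelian: all its members have degree `[L:K]`. -/
lemma coherent_abelian_quotient (hsolv : Group.IsSolvable K)
    {R : (L → ℂ) → Finset (G → ℂ)} (hS : IsCoherenceSystem (inducedIrrAbove K ⊥) τ R)
    {H₁ : Subgroup L} [H₁.Normal] (hH₁K : H₁ < K) (hcomm : ⁅K, K⁆ ≤ H₁) :
    IsCoherent (inducedIrrAbove K H₁) {1}ᶜ τ := by
  classical
  let _ : Fintype K := Fintype.ofFinite _
  refine coherent_of_equal_degree (coh_system_mono hS (inducedIrrAbove_subset K H₁)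
    (inducedIrrAbove_nonempty K hsolv hH₁K) fun φ h => inducedIrrAbove_conj K h) ?_
  have key : ∀ φ ∈ inducedIrrAbove K H₁, φ 1 = (K.index : ℂ) := by
    rintro φ ⟨θ, hθ, -, hθk, rfl⟩
    have hb := degree_sq_le_central_step (B := H₁) (C := K) (D := K) le_rfl
      (fun x hx y hy => hcomm (by
        have := Subgroup.commutator_mem_commutator hx hy
        rwa [commutatorElement_def] at this)) hθ hθk
    rw [Subgroup.relIndex_self, one_pow, one_mul] at hb
    have hpos := CharApps.deg_pos (⟨θ, hθ⟩ : IrrCharacter K)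
    have h1 : charDegree θ = 1 := le_antisymm (by nlinarith) hpos
    rw [indFun_deg K (Chars.isCharacter_of_irr hθ), h1, mul_one]
  exact fun φ h ψ h' => (key φ h).trans (key ψ h').symm

lemma odd_ne_one_ge {e r : ℕ} (he : Odd e) (hr : Odd r) (hr1 : r ≠ 1) (hd : e ∣ r - 1) :
    2 * e + 1 ≤ r := by
  obtain ⟨c, hc⟩ := hd
  obtain ⟨s, rfl⟩ := hr
  rcases Nat.lt_or_ge c 2 with h | h
  · interval_cases c
    · omega
    · obtain ⟨t, rfl⟩ := he; omega
  · have : e * 2 ≤ e * c := Nat.mul_le_mul_left e h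
    omega

/-- Peterfalvi 6.5. -/
theorem coherent_kernel (hsolv : Group.IsSolvable K) {R : (L → ℂ) → Finset (G → ℂ)}
    (hS : IsCoherenceSystem (inducedIrrAbove K ⊥) τ R) (hodd : Odd (Nat.card L)) {M : Subgroup L}
    [M.Normal] (hMK : M ≤ K) [(M.subgroupOf K).Normal]
    (hnil : Group.IsNilpotent (↥K ⧸ M.subgroupOf K)) {H₁ : Subgroup L} (hH₁ : H₁ = ⁅K, K⁆ ⊔ M)
    (hH₁K : H₁ < K) (hfrob : ∀ k ∈ K, k ∉ H₁ → ∀ x : L, x * k * x⁻¹ * k⁻¹ ∈ H₁ → x ∈ K)
    (hgood : (∃ N : Subgroup L, N.Normal ∧ H₁ < N ∧ N < K) ∨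
      4 * K.index ^ 2 + 1 < H₁.relIndex K ∨ (¬ ∃ p m : ℕ, p.Prime ∧ M.relIndex K = p ^ m) ∨
      ⁅K, K⁆ ≤ M ∨ (∃ p m : ℕ, p.Prime ∧ M.relIndex K = p ^ m ∧ K.index ∣ p - 1)) :
    IsCoherent (inducedIrrAbove K M) {1}ᶜ τ := by
  classical
  haveI hH₁n : H₁.Normal := by rw [hH₁]; infer_instance
  have hcomm : ⁅K, K⁆ ≤ H₁ := hH₁ ▸ le_sup_left
  have hMH₁ : M ≤ H₁ := hH₁ ▸ le_sup_right
  have hcoh₁ := coherent_abelian_quotient hsolv hS hH₁K hcomm
  have hbigcase : 4 * K.index ^ 2 + 1 < H₁.relIndex K →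
      IsCoherent (inducedIrrAbove K M) {1}ᶜ τ := fun h =>
    coherent_nilpotent_section hsolv hS le_rfl hnil h hMH₁ hH₁K.le hcoh₁
  have he : Odd K.index := hodd.of_dvd_nat K.index_dvd_card
  have hoddrel : ∀ A B : Subgroup L, Odd (A.relIndex B) := fun A B =>
    hodd.of_dvd_nat ((Subgroup.index_dvd_card _).trans (Subgroup.card_subgroup_dvd_card B))
  have hbetween : (∃ N : Subgroup L, N.Normal ∧ H₁ < N ∧ N < K) →
      IsCoherent (inducedIrrAbove K M) {1}ᶜ τ := by
    rintro ⟨N, hN, h1, h2⟩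
    haveI := hN
    refine hbigcase ?_
    have ha : 2 * K.index + 1 ≤ H₁.relIndex N := odd_ne_one_ge he (hoddrel _ _)
      (by rw [Ne, Subgroup.relIndex_eq_one]; exact h1.not_ge)
      (index_dvd_of_frob h1.le h2.le hcomm hfrob)
    have hb : 2 * K.index + 1 ≤ N.relIndex K := odd_ne_one_ge he (hoddrel _ _)
      (by rw [Ne, Subgroup.relIndex_eq_one]; exact h2.not_ge)
      (index_dvd_of_frob h2.le le_rfl (hcomm.trans h1.le) (frob_of_le h1.le h2.le hcomm hfrob))
    have hpos : 0 < K.index := Nat.pos_of_ne_zero Subgroup.index_ne_zero_of_finite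
    rw [← Subgroup.relIndex_mul_relIndex H₁ N K h1.le h2.le]
    nlinarith [Nat.mul_le_mul ha hb]
  rcases hgood with h | h | h | h | ⟨p, m, hp, hpm, hdvd⟩
  · exact hbetween h
  · exact hbigcase h
  · exact hbetween (exists_between_of_not_primePow hMK hnil hH₁ hH₁K h)
  · rw [show M = H₁ by rw [hH₁, sup_eq_right.2 h]]
    exact hcoh₁
  · haveI := Fact.mk hp
    have hdr : H₁.relIndex K ∣ p ^ m := hpm ▸ Subgroup.relIndex_dvd_of_le_left K hMH₁
    obtain ⟨a, ham, ha⟩ := (Nat.dvd_prime_pow hp).1 hdr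
    have ha1 : a ≠ 0 := fun h0 => hH₁K.not_ge (Subgroup.relIndex_eq_one.1 (by rw [ha, h0, pow_zero]))
    rcases Nat.lt_or_ge a 2 with h2 | h2
    · -- cyclic abelianisation
      have ha' : a = 1 := by omega
      obtain ⟨k, hk, hk1⟩ := SetLike.exists_of_lt hH₁K
      set ρ := QuotientGroup.mk' (M.subgroupOf K)
      have hgen : Subgroup.zpowers (ρ ⟨k, hk⟩) = ⊤ := by
        refine eq_top_of_sup_commutator hnil (top_le_iff.1 ?_)
        have hprime : (H₁.subgroupOf K).index.Prime := by
          show (H₁.relIndex K).Prime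
          rw [ha, ha', pow_one]; exact hp
        have htop : Subgroup.zpowers (⟨k, hk⟩ : K) ⊔ H₁.subgroupOf K = ⊤ := by
          have hd := Subgroup.index_dvd_of_le
            (le_sup_right : H₁.subgroupOf K ≤ Subgroup.zpowers (⟨k, hk⟩ : K) ⊔ H₁.subgroupOf K)
          rcases hprime.eq_one_or_self_of_dvd _ hd with h1 | h1
          · exact Subgroup.index_eq_one.1 h1
          · exfalso
            have hle := Subgroup.relIndex_mul_index
              (le_sup_right : H₁.subgroupOf K ≤ Subgroup.zpowers (⟨k, hk⟩ : K) ⊔ H₁.subgroupOf K)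
            rw [h1] at hle
            have h3 := (Nat.mul_eq_right Subgroup.index_ne_zero_of_finite).1 hle
            exact hk1 (Subgroup.mem_subgroupOf.1 (Subgroup.relIndex_eq_one.1 h3
              (Subgroup.mem_sup_left (Subgroup.mem_zpowers _))))
        intro z _
        obtain ⟨z, rfl⟩ := QuotientGroup.mk'_surjective (M.subgroupOf K) z
        have hz : ρ z ∈ (Subgroup.zpowers (⟨k, hk⟩ : K) ⊔ H₁.subgroupOf K).map ρ :=
          Subgroup.mem_map_of_mem _ (by rw [htop]; trivial)
        rw [Subgroup.map_sup, MonoidHom.map_zpowers] at hz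
        refine SetLike.le_def.1 (sup_le_sup_left ?_ _) hz
        rw [Subgroup.map_le_iff_le_comap, hH₁,
          Subgroup.subgroupOf_sup (Subgroup.commutator_le_self K) hMK, sup_le_iff]
        refine ⟨?_, fun x hx => ?_⟩
        · rw [← Subgroup.map_subtype_commutator, Subgroup.subgroupOf,
            Subgroup.comap_map_eq_self_of_injective K.subtype_injective,
            ← Subgroup.map_le_iff_le_comap, commutator_def, Subgroup.map_commutator]
          exact Subgroup.commutator_mono le_top le_top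
        · rw [Subgroup.mem_comap, show ρ x = 1 from (QuotientGroup.eq_one_iff x).2 hx]
          exact Subgroup.one_mem _
      rw [show M = H₁ from ?_]
      · exact hcoh₁
      rw [hH₁, eq_comm, sup_eq_right, Subgroup.commutator_le]
      intro x hx y hy
      obtain ⟨i, hi⟩ := Subgroup.mem_zpowers_iff.1 (hgen ▸ Subgroup.mem_top (ρ ⟨x, hx⟩))
      obtain ⟨j, hj⟩ := Subgroup.mem_zpowers_iff.1 (hgen ▸ Subgroup.mem_top (ρ ⟨y, hy⟩))
      have : ρ ⁅(⟨x, hx⟩ : K), ⟨y, hy⟩⁆ = 1 := by
        rw [map_commutatorElement, ← hi, ← hj, commutatorElement_eq_one_iff_mul_comm]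
        exact (Commute.zpow_zpow_self _ i j).eq
      have h3 := (QuotientGroup.eq_one_iff _).1 this
      exact h3
    · refine hbigcase ?_
      have hm0 : m ≠ 0 := by omega
      have hpodd : Odd p := by
        have h1 := hoddrel M K
        rw [hpm] at h1
        exact (Nat.odd_pow_iff hm0).1 h1
      have hge : 2 * K.index + 1 ≤ p := odd_ne_one_ge he hpodd hp.one_lt.ne' hdvd
      have h3 : (2 * K.index + 1) ^ 2 ≤ p ^ a :=
        (Nat.pow_le_pow_left hge 2).trans (Nat.pow_le_pow_right hp.pos h2)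
      rw [ha]
      have hpos : 0 < K.index := Nat.pos_of_ne_zero Subgroup.index_ne_zero_of_finite
      nlinarith

end CfsgLib.CharsMore
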