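import Cfsg.Agent.Lib.CharsMore.CoherenceBasic

/-!
# Projections onto `R χ` in a coherence system (Peterfalvi 5.4–5.7)
-/

set_option linter.unusedSectionVars false
set_option linter.style.haveILetI false

namespace CfsgLib.CharsMore

open Cfsg
open scoped ComplexConjugate

variable {L : Type*} [Group L] [Fintype L] {G : Type*} [Group G] [Fintype G]

lemma inner_conjFun (φ ψ : L → ℂ) :
    classInner (conjFun φ) (conjFun ψ) = conj (classInner φ ψ) := by
  simp only [Chars.inner_def, conjFun, map_mul, map_inv₀, map_natCast, map_sum]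

lemma conjFun_conjFun (φ : L → ℂ) : conjFun (conjFun φ) = φ :=
  funext fun _ => Complex.conj_conj _

/-- The projection on the span of an orthonormal set. -/
noncomputable def projOn (R : Finset (G → ℂ)) (β : G → ℂ) : G → ℂ :=
  ∑ α ∈ R, classInner β α • α

section Proj

variable {R : Finset (G → ℂ)}

lemma projOn_inner [DecidableEq (G → ℂ)]
    (hR : ∀ α ∈ R, ∀ α' ∈ R, classInner α α' = if α = α' then 1 else 0) (β : G → ℂ) {α : G → ℂ}
    (hα : α ∈ R) : classInner (projOn R β) α = classInner β α := by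
  rw [projOn, Chars.inner_sum_left, Finset.sum_eq_single α]
  · rw [Chars.inner_smul_left, hR α hα α hα, if_pos rfl, mul_one]
  · intro α' hα' hne
    rw [Chars.inner_smul_left, hR α' hα' α hα, if_neg hne, mul_zero]
  · exact fun h => absurd hα h

lemma projOn_inner_self [DecidableEq (G → ℂ)]
    (hR : ∀ α ∈ R, ∀ α' ∈ R, classInner α α' = if α = α' then 1 else 0) (β : G → ℂ) :
    classInner (projOn R β) (projOn R β) = classInner β (projOn R β) := by
  conv_lhs => arg 2; rw [projOn]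
  conv_rhs => arg 2; rw [projOn]
  simp only [Chars.inner_sum_right, Chars.inner_smul_right]
  exact Finset.sum_congr rfl fun α hα => by rw [projOn_inner hR β hα]

lemma projOn_norm [DecidableEq (G → ℂ)]
    (hR : ∀ α ∈ R, ∀ α' ∈ R, classInner α α' = if α = α' then 1 else 0) (β : G → ℂ) :
    classInner (projOn R β) (projOn R β) = ((∑ α ∈ R, ‖classInner β α‖ ^ 2 : ℝ) : ℂ) := by
  rw [projOn_inner_self hR, projOn, Chars.inner_sum_right]
  push_cast
  exact Finset.sum_congr rfl fun α _ => by rw [Chars.inner_smul_right, Complex.conj_mul']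

lemma inner_projOn_eq_zero {β γ : G → ℂ} (h : ∀ α ∈ R, classInner γ α = 0) :
    classInner γ (projOn R β) = 0 := by
  rw [projOn, Chars.inner_sum_right]
  exact Finset.sum_eq_zero fun α hα => by rw [Chars.inner_smul_right, h α hα, mul_zero]

lemma projOn_gen (hgen : ∀ α ∈ R, α ∈ genChar G) {β : G → ℂ} (hβ : β ∈ genChar G) :
    projOn R β ∈ genChar G := by
  refine Submodule.sum_mem _ fun α hα => ?_
  obtain ⟨z, hz⟩ := inner_gen_int hβ (hgen α hα)
  rw [hz, ← zsmul_eq_cast]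
  exact (genChar G).smul_mem z (hgen α hα)

end Proj

section System

variable {S : Set (L → ℂ)} {τ : (L → ℂ) → (G → ℂ)} {R : (L → ℂ) → Finset (G → ℂ)}

lemma coh_norm_nat (hS : IsCoherenceSystem S τ R) {φ : L → ℂ} (hφ : φ ∈ S) :
    ∃ n : ℕ, 0 < n ∧ classInner φ φ = (n : ℂ) := by
  obtain ⟨n, hn⟩ := Chars.inner_char_nat (hS.isCharacter φ hφ) (hS.isCharacter φ hφ)
  refine ⟨n, Nat.pos_of_ne_zero fun h => hS.conj_ne φ hφ ?_, hn⟩
  rw [h, Nat.cast_zero, Chars.inner_self_eq_zero_iff] at hn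
  subst hn
  funext x
  simp [conjFun]

lemma coh_degree_pos (hS : IsCoherenceSystem S τ R) {φ : L → ℂ} (hφ : φ ∈ S) :
    ∃ d : ℕ, 0 < d ∧ φ 1 = (d : ℂ) := by
  obtain ⟨d, hd⟩ := Chars.character_degree_nat (hS.isCharacter φ hφ)
  refine ⟨d, Nat.pos_of_ne_zero fun h => hS.conj_ne φ hφ ?_, hd⟩
  have h0 : φ = 0 := funext fun x => by
    have := Chars.char_norm_le (hS.isCharacter φ hφ) x
    rw [hd, h, Nat.cast_zero, Complex.zero_re] at this
    exact norm_le_zero_iff.1 this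
  subst h0
  funext x
  simp [conjFun]

lemma coh_sub_conj_mem (hS : IsCoherenceSystem S τ R) {φ : L → ℂ} (hφ : φ ∈ S) :
    φ - conjFun φ ∈ zspanOn S {1}ᶜ := by
  refine mem_zspanOn_one.2 ⟨Submodule.sub_mem _ (Submodule.subset_span hφ)
    (Submodule.subset_span (hS.conj_mem φ hφ)), ?_⟩
  obtain ⟨d, -, hd⟩ := coh_degree_pos hS hφ
  simp [conjFun, hd]

lemma coh_orth (hS : IsCoherenceSystem S τ R) {φ χ : L → ℂ} (hφ : φ ∈ S) (hχ : χ ∈ S)
    (h1 : φ ≠ χ) (h2 : φ ≠ conjFun χ) : ∀ α ∈ R φ, ∀ β ∈ R χ, classInner α β = 0 :=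
  hS.disjoint χ hχ φ hφ (hS.orthogonal φ hφ χ hχ h1)
    (hS.orthogonal φ hφ _ (hS.conj_mem χ hχ) h2)

lemma coh_sumR_inner (hS : IsCoherenceSystem S τ R) {φ : L → ℂ} (hφ : φ ∈ S) :
    classInner (∑ α ∈ R φ, α) (∑ α ∈ R φ, α) = 2 * classInner φ φ ∧
      ((R φ).card : ℂ) = 2 * classInner φ φ := by
  classical
  obtain ⟨n, -, hn⟩ := coh_norm_nat hS hφ
  have h1 : classInner (∑ α ∈ R φ, α) (∑ α ∈ R φ, α) = 2 * classInner φ φ := by
    rw [← hS.sum_eq φ hφ, hS.isometry.2.2.1 _ (coh_sub_conj_mem hS hφ) _ (coh_sub_conj_mem hS hφ),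
      Chars.inner_sub_left, Chars.inner_sub_right, Chars.inner_sub_right, inner_conjFun, hn,
      hS.orthogonal φ hφ _ (hS.conj_mem φ hφ) (hS.conj_ne φ hφ).symm,
      hS.orthogonal _ (hS.conj_mem φ hφ) φ hφ (hS.conj_ne φ hφ), map_natCast]
    ring
  refine ⟨h1, ?_⟩
  rw [← h1, Chars.inner_sum_left, Finset.sum_congr rfl fun α hα => by
    rw [Chars.inner_sum_right, Finset.sum_congr rfl fun β hβ => hS.orthonormal φ hφ α hα β hβ,
      Finset.sum_ite_eq, if_pos hα]]
  simp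

/-- Peterfalvi 5.4, first part. -/
lemma coh_proj_ge (hS : IsCoherenceSystem S τ R) {φ : L → ℂ} (hφ : φ ∈ S) {β : G → ℂ}
    (hβ : β ∈ genChar G) (hsum : classInner β (∑ α ∈ R φ, α) = classInner φ φ) :
    (classInner φ φ).re ≤ (classInner (projOn (R φ) β) (projOn (R φ) β)).re := by
  classical
  rw [projOn_norm (hS.orthonormal φ hφ), Complex.ofReal_re, ← hsum, Chars.inner_sum_right,
    Complex.re_sum]
  refine Finset.sum_le_sum fun α hα => ?_
  obtain ⟨z, hz⟩ := inner_gen_int hβ (hS.virtual φ hφ α hα)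
  rw [hz, Complex.intCast_re, Complex.norm_intCast, sq_abs]
  exact_mod_cast Int.le_self_sq z

lemma inner_sub_proj_self (hS : IsCoherenceSystem S τ R) {φ : L → ℂ} (hφ : φ ∈ S) (β : G → ℂ) :
    (classInner (β - projOn (R φ) β) (β - projOn (R φ) β)).re =
      (classInner β β).re - (classInner (projOn (R φ) β) (projOn (R φ) β)).re := by
  classical
  have h := projOn_inner_self (hS.orthonormal φ hφ) β
  have h' : classInner (projOn (R φ) β) β = classInner (projOn (R φ) β) (projOn (R φ) β) := by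
    rw [← Chars.inner_conj, ← h, Chars.inner_conj]
  rw [Chars.inner_sub_left, Chars.inner_sub_right, Chars.inner_sub_right, h', ← h]
  simp

/-- Peterfalvi 5.5. -/
lemma coh_image_orth (hS : IsCoherenceSystem S τ R) {τ₁ : (L → ℂ) → (G → ℂ)} {T : Set (L → ℂ)}
    (hT : T ⊆ S) (hτ₁ : IsLinearIsometryOn (zspan T) τ₁)
    (hagree : ∀ α ∈ zspanOn T {1}ᶜ, τ₁ α = τ α) {φ : L → ℂ} (hφ : φ ∈ T) (hφc : conjFun φ ∈ T)
    {γ : G → ℂ} (hγ : ∀ α ∈ R φ, classInner γ α = 0) : classInner γ (τ₁ φ) = 0 := by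
  classical
  have hφS := hT hφ
  set M : Submodule ℤ (L → ℂ) := Submodule.span ℤ T
  have hτM : IsLinearIsometryOn (M : Set (L → ℂ)) τ₁ := hτ₁
  have h1 : φ ∈ M := Submodule.subset_span hφ
  have h2 : conjFun φ ∈ M := Submodule.subset_span hφc
  have hmem : φ - conjFun φ ∈ zspanOn T {1}ᶜ :=
    mem_zspanOn_one.2 ⟨M.sub_mem h1 h2, (mem_zspanOn_one.1 (coh_sub_conj_mem hS hφS)).2⟩
  have hsum : classInner (τ₁ φ) (∑ α ∈ R φ, α) = classInner φ φ := by
    rw [← hS.sum_eq φ hφS, ← hagree _ hmem, hτM.2.2.1 φ h1 _ (M.sub_mem h1 h2),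
      Chars.inner_sub_right, hS.orthogonal φ hφS _ (hS.conj_mem φ hφS) (hS.conj_ne φ hφS).symm,
      sub_zero]
  have hge := coh_proj_ge hS hφS (hτM.2.2.2 φ h1) hsum
  have hle := inner_self_re_nonneg (τ₁ φ - projOn (R φ) (τ₁ φ))
  rw [inner_sub_proj_self hS hφS, hτM.2.2.1 φ h1 φ h1] at hle
  have h0 : classInner (τ₁ φ - projOn (R φ) (τ₁ φ)) (τ₁ φ - projOn (R φ) (τ₁ φ)) = 0 := by
    have hre : (classInner (τ₁ φ - projOn (R φ) (τ₁ φ)) (τ₁ φ - projOn (R φ) (τ₁ φ))).re = 0 := by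
      rw [inner_sub_proj_self hS hφS, hτM.2.2.1 φ h1 φ h1]; linarith
    rw [Chars.inner_self_eq] at hre ⊢
    rw [Complex.ofReal_re] at hre
    rw [hre, Complex.ofReal_zero]
  rw [Chars.inner_self_eq_zero_iff, sub_eq_zero] at h0
  rw [h0]
  exact inner_projOn_eq_zero hγ

end System

end CfsgLib.CharsMore
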