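import Cfsg.Agent.Lib.CharsMore.CoherenceIrr

/-!
# Union of two coherent sets of irreducible characters
-/

set_option linter.unusedSectionVars false
set_option linter.style.haveILetI false

namespace CfsgLib.CharsMore

open Cfsg
open scoped ComplexConjugate

variable {L : Type*} [Group L] [Fintype L] {G : Type*} [Group G] [Fintype G]

lemma isometry_eq_on_span {T : Set (L → ℂ)} {σ₁ σ₂ : (L → ℂ) → (G → ℂ)}
    (h₁ : IsLinearIsometryOn (zspan T) σ₁) (h₂ : IsLinearIsometryOn (zspan T) σ₂)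
    (h : ∀ φ ∈ T, σ₁ φ = σ₂ φ) : ∀ x ∈ zspan T, σ₁ x = σ₂ x := by
  intro x hx
  change x ∈ Submodule.span ℤ T at hx
  induction hx using Submodule.span_induction with
  | mem φ hφ => exact h φ hφ
  | zero =>
    rw [isometry_map_zero (M := Submodule.span ℤ T) h₁,
      isometry_map_zero (M := Submodule.span ℤ T) h₂]
  | add u v hu hv ihu ihv => rw [h₁.1 u hu v hv, h₂.1 u hu v hv, ihu, ihv]
  | smul n u hu ihu => rw [h₁.2.1 u hu n, h₂.2.1 u hu n, ihu]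

lemma zspan_one_int {T : Set (L → ℂ)} (hT : ∀ φ ∈ T, IsIrrCharacter L φ) {x : L → ℂ}
    (hx : x ∈ zspan T) : ∃ z : ℤ, x 1 = z := by
  refine genChar_one_int (θ := x) ?_
  exact Submodule.span_le.2 (fun φ hφ => genChar_of_irr (hT φ hφ)) hx

theorem coherent_union_irr {X Y : Set (L → ℂ)} {α σ τ : (L → ℂ) → (G → ℂ)}
    (hirr : ∀ φ ∈ X ∪ Y, IsIrrCharacter L φ) (hXY : Disjoint X Y)
    (hα : IsLinearIsometryOn (zspanOn (X ∪ Y) {1}ᶜ) α) (hσ : IsLinearIsometryOn (zspan X) σ)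
    (hσα : ∀ θ ∈ zspanOn X {1}ᶜ, σ θ = α θ) (hτ : IsLinearIsometryOn (zspan Y) τ)
    (hτα : ∀ θ ∈ zspanOn Y {1}ᶜ, τ θ = α θ)
    (horth : ∀ χ ∈ X, ∀ η ∈ Y, classInner (σ χ) (τ η) = 0) {χ₀ η₀ : L → ℂ} (hχ₀ : χ₀ ∈ X)
    (hη₀ : η₀ ∈ Y) (h : α (χ₀ 1 • η₀ - η₀ 1 • χ₀) = χ₀ 1 • τ η₀ - η₀ 1 • σ χ₀) :
    IsCoherent (X ∪ Y) {1}ᶜ α := by
  classical
  have : Finite (IrrCharacter L) := inferInstance
  have hfin : (X ∪ Y).Finite :=
    (Set.finite_range fun χ : IrrCharacter L => (χ : L → ℂ)).subset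
      fun φ hφ => ⟨⟨φ, hirr φ hφ⟩, rfl⟩
  set F := hfin.toFinset
  have hcoe : (↑F : Set (L → ℂ)) = X ∪ Y := Set.Finite.coe_toFinset _
  have hFI : ∀ φ ∈ F, IsIrrCharacter L φ := fun φ h => hirr φ ((Set.Finite.mem_toFinset _).1 h)
  have ho : ∀ φ ∈ F, ∀ ψ ∈ F, φ ≠ ψ → classInner φ ψ = 0 := fun φ hφ ψ hψ =>
    irr_orth (hFI φ hφ) (hFI ψ hψ)
  have hn : ∀ φ ∈ F, classInner φ φ ≠ 0 := fun φ hφ => by
    rw [irr_inner_self (hFI φ hφ)]; exact one_ne_zero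
  set f : (L → ℂ) → (G → ℂ) := fun φ => if φ ∈ X then σ φ else τ φ
  have hfX : ∀ φ ∈ X, f φ = σ φ := fun φ h => if_pos h
  have hfY : ∀ φ ∈ Y, f φ = τ φ := fun φ h => if_neg (Set.disjoint_right.1 hXY h)
  have hsX : ∀ φ ∈ X, φ ∈ zspan X := fun φ h => Submodule.subset_span h
  have hsY : ∀ φ ∈ Y, φ ∈ zspan Y := fun φ h => Submodule.subset_span h
  have hiso : IsLinearIsometryOn (zspan (X ∪ Y)) (extMap F f) := by
    rw [← hcoe]
    refine isometry_of_values f ho hn (fun φ hφ => ?_) (fun φ hφ ψ hψ => ?_)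
    · rcases (Set.Finite.mem_toFinset _).1 hφ with h | h
      · rw [hfX φ h]; exact hσ.2.2.2 φ (hsX φ h)
      · rw [hfY φ h]; exact hτ.2.2.2 φ (hsY φ h)
    · rcases (Set.Finite.mem_toFinset _).1 hφ with h | h <;>
        rcases (Set.Finite.mem_toFinset _).1 hψ with h' | h'
      · rw [hfX φ h, hfX ψ h', hσ.2.2.1 φ (hsX φ h) ψ (hsX ψ h')]
      · rw [hfX φ h, hfY ψ h', horth φ h ψ h',
          ho φ hφ ψ hψ fun e => Set.disjoint_left.1 hXY h (e ▸ h')]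
      · rw [hfY φ h, hfX ψ h', ← Chars.inner_conj, horth ψ h' φ h, map_zero,
          ho φ hφ ψ hψ fun e => Set.disjoint_right.1 hXY h (e ▸ h')]
      · rw [hfY φ h, hfY ψ h', hτ.2.2.1 φ (hsY φ h) ψ (hsY ψ h')]
  have hσ₂ : ∀ x ∈ zspan X, extMap F f x = σ x :=
    isometry_eq_on_span (isometry_mono (zspan_mono Set.subset_union_left) hiso) hσ fun φ hφ => by
      rw [extMap_of_mem f ho hn ((Set.Finite.mem_toFinset _).2 (Or.inl hφ)), hfX φ hφ]
  have hτ₂ : ∀ y ∈ zspan Y, extMap F f y = τ y :=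
    isometry_eq_on_span (isometry_mono (zspan_mono Set.subset_union_right) hiso) hτ fun φ hφ => by
      rw [extMap_of_mem f ho hn ((Set.Finite.mem_toFinset _).2 (Or.inr hφ)), hfY φ hφ]
  obtain ⟨c, hc0, hc⟩ := Chars.irr_degree_nat (hirr χ₀ (Or.inl hχ₀))
  obtain ⟨e, he0, he⟩ := Chars.irr_degree_nat (hirr η₀ (Or.inr hη₀))
  set MX : Submodule ℤ (L → ℂ) := Submodule.span ℤ X
  set MY : Submodule ℤ (L → ℂ) := Submodule.span ℤ Y
  set NX : Submodule ℤ (L → ℂ) := zspanOnSub X {1}ᶜ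
  set NY : Submodule ℤ (L → ℂ) := zspanOnSub Y {1}ᶜ
  set N : Submodule ℤ (L → ℂ) := zspanOnSub (X ∪ Y) {1}ᶜ
  have hαN : IsLinearIsometryOn (N : Set (L → ℂ)) α := hα
  have hσM : IsLinearIsometryOn (MX : Set (L → ℂ)) σ := hσ
  have hτM : IsLinearIsometryOn (MY : Set (L → ℂ)) τ := hτ
  have hXN : NX ≤ N := fun x hx => zspanOn_mono Set.subset_union_left _ hx
  have hYN : NY ≤ N := fun x hx => zspanOn_mono Set.subset_union_right _ hx
  set w := (c : ℤ) • η₀ - (e : ℤ) • χ₀ with hw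
  have hwN : w ∈ N := by
    refine mem_zspanOn_one.2 ⟨Submodule.sub_mem _ (Submodule.smul_mem _ _
      (Submodule.subset_span (Or.inr hη₀))) (Submodule.smul_mem _ _
      (Submodule.subset_span (Or.inl hχ₀))), ?_⟩
    simp [hw, hc, he]; ring
  have hαw : α w = (c : ℤ) • τ η₀ - (e : ℤ) • σ χ₀ := by
    have : χ₀ 1 • η₀ - η₀ 1 • χ₀ = w := by
      rw [hw, hc, he, zsmul_eq_cast, zsmul_eq_cast]; push_cast; rfl
    rw [← this, h, hc, he, zsmul_eq_cast, zsmul_eq_cast]; push_cast; rfl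
  refine ⟨⟨w, hwN, fun h0 => ?_⟩, extMap F f, hiso, fun θ hθ => ?_⟩
  · have := congrArg (fun g => classInner g η₀) h0
    simp only [Chars.inner_zero_left] at this
    rw [hw, zsmul_eq_cast, zsmul_eq_cast, Chars.inner_sub_left, Chars.inner_smul_left,
      Chars.inner_smul_left, irr_inner_self (hirr η₀ (Or.inr hη₀)),
      irr_orth (hirr χ₀ (Or.inl hχ₀)) (hirr η₀ (Or.inr hη₀))
        (fun e => Set.disjoint_left.1 hXY hχ₀ (e ▸ hη₀)), mul_zero, sub_zero, mul_one] at this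
    exact hc0.ne' (by exact_mod_cast this)
  obtain ⟨hθs, hθ1⟩ := mem_zspanOn_one.1 hθ
  change θ ∈ Submodule.span ℤ (X ∪ Y) at hθs
  rw [Submodule.span_union] at hθs
  obtain ⟨x, hx, y, hy, rfl⟩ := Submodule.mem_sup.1 hθs
  obtain ⟨z, hz⟩ := zspan_one_int (fun φ h => hirr φ (Or.inl h)) hx
  have hz' : y 1 = -(z : ℂ) := by
    rw [Pi.add_apply, hz] at hθ1; linear_combination hθ1
  set p := (c : ℤ) • x - z • χ₀ with hp
  set q := (e : ℤ) • y + z • η₀ with hq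
  have hpN : p ∈ NX := mem_zspanOn_one.2
    ⟨MX.sub_mem (MX.smul_mem _ hx) (MX.smul_mem _ (Submodule.subset_span hχ₀)),
      by simp [hp, hz, hc]; ring⟩
  have hqN : q ∈ NY := mem_zspanOn_one.2
    ⟨MY.add_mem (MY.smul_mem _ hy) (MY.smul_mem _ (Submodule.subset_span hη₀)),
      by simp [hq, hz', he]; ring⟩
  have hdec : ((c : ℤ) * e) • (x + y) = (e : ℤ) • p + (c : ℤ) • q + (-z) • w := by
    rw [hp, hq, hw]; module
  have hL : extMap F f (x + y) = σ x + τ y := by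
    rw [extMap_add, hσ₂ x hx, hτ₂ y hy]
  have h1 : ((c : ℤ) * e) • α (x + y) = ((c : ℤ) * e) • (σ x + τ y) := by
    rw [← hαN.2.1 _ hθ ((c : ℤ) * e), hdec,
      hαN.1 _ (N.add_mem (N.smul_mem _ (hXN hpN)) (N.smul_mem _ (hYN hqN))) _ (N.smul_mem _ hwN),
      hαN.1 _ (N.smul_mem _ (hXN hpN)) _ (N.smul_mem _ (hYN hqN)), hαN.2.1 _ (hXN hpN),
      hαN.2.1 _ (hYN hqN), hαN.2.1 _ hwN, ← hσα p hpN, ← hτα q hqN, hαw, hp, hq,
      isometry_map_sub hσM (MX.smul_mem _ hx) (MX.smul_mem _ (Submodule.subset_span hχ₀)),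
      hτM.1 _ (MY.smul_mem _ hy) _ (MY.smul_mem _ (Submodule.subset_span hη₀)),
      hσM.2.1 x hx, hσM.2.1 χ₀ (Submodule.subset_span hχ₀), hτM.2.1 y hy,
      hτM.2.1 η₀ (Submodule.subset_span hη₀)]
    module
  rw [hL]
  exact (smul_right_injective _ (mul_ne_zero (by exact_mod_cast hc0.ne')
    (by exact_mod_cast he0.ne')) h1).symm

end CfsgLib.CharsMore
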