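import Cfsg.Agent.Lib.Chars.Integral

/-!
# Character values at `p`-elements modulo `p`
-/

set_option linter.style.haveILetI false

namespace CfsgLib.CharsMore

open Cfsg

variable {G : Type*} [Group G]

/-- A character of degree prime to `p` does not vanish at a `p`-element. -/
lemma char_ne_zero_of_not_dvd [Finite G] {p : ℕ} (hp : p.Prime) {χ : G → ℂ}
    (hχ : IsCharacter G χ) {g : G} {a : ℕ} (hg : g ^ p ^ a = 1) {n : ℕ} (h1 : χ 1 = n)
    (hn : ¬ p ∣ n) : χ g ≠ 0 := by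
  intro h0
  obtain ⟨d, ρ, rfl⟩ := hχ
  obtain ⟨b, μ, hμ, -, -, -, hsum, -⟩ := Chars.exists_eigenbasis_rep ρ g
  have hdn : Module.finrank ℂ (Fin d → ℂ) = n := by
    have : ((Module.finrank ℂ (Fin d → ℂ) : ℕ) : ℂ) = (n : ℂ) := by rw [← h1]; simp
    exact_mod_cast this
  have hμ' : ∀ i, μ i ^ p ^ a = 1 := fun i => by
    obtain ⟨c, hc⟩ := orderOf_dvd_of_pow_eq_one hg
    rw [hc, pow_mul, hμ, one_pow]
  have hint : ∀ i, μ i ∈ integralClosure ℤ ℂ := fun i => by
    have hpos : 0 < p ^ a := pow_pos hp.pos a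
    exact IsIntegral.of_pow hpos (by rw [hμ']; exact isIntegral_one)
  set O := integralClosure ℤ ℂ
  let I : Ideal O := Ideal.span {(p : O)}
  have hI : I ≠ ⊤ := by
    rw [Ne, Ideal.eq_top_iff_one, Ideal.mem_span_singleton]
    rintro ⟨c, hc⟩
    have hc' : (1 : ℂ) = (p : ℂ) * (c : ℂ) := by
      have := congrArg (fun z : O => (z : ℂ)) hc
      simpa using this
    have hval : (c : ℂ) = ((1 / p : ℚ) : ℂ) := by
      push_cast
      rw [eq_div_iff (Nat.cast_ne_zero.2 hp.ne_zero), mul_comm, ← hc']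
    have hci : IsIntegral ℤ (c : ℂ) := c.2
    rw [hval] at hci
    obtain ⟨m, hm⟩ := Chars.exists_int_of_isIntegral_rat _ hci
    rw [one_div] at hm
    have h2 : (p : ℚ) * m = 1 := by rw [← hm, mul_inv_cancel₀ (Nat.cast_ne_zero.2 hp.ne_zero)]
    have h3 : (p : ℤ) * m = 1 := by exact_mod_cast h2
    rcases Int.eq_one_or_neg_one_of_mul_eq_one h3 with h | h <;> [skip; omega]
    exact hp.ne_one (by exact_mod_cast h)
  haveI : Nontrivial (O ⧸ I) := Ideal.Quotient.nontrivial_iff.2 hI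
  haveI : CharP (O ⧸ I) p := (CharP.charP_iff_prime_eq_zero hp).2 (by
    rw [← map_natCast (Ideal.Quotient.mk I)]
    exact Ideal.Quotient.eq_zero_iff_mem.2 (Ideal.mem_span_singleton_self _))
  haveI := Fact.mk hp
  let f : Fin (Module.finrank ℂ (Fin d → ℂ)) → O ⧸ I := fun i => Ideal.Quotient.mk I ⟨μ i, hint i⟩
  have hf : ∑ i, f i = 0 := by
    rw [← map_sum]
    have : (∑ i, (⟨μ i, hint i⟩ : O)) = 0 := by
      apply Subtype.ext
      rw [AddSubmonoidClass.coe_finsetSum]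
      exact hsum.symm.trans h0
    rw [this, map_zero]
  have hf1 : ∀ i, f i ^ p ^ a = 1 := fun i => by
    rw [← map_pow, show (⟨μ i, hint i⟩ : O) ^ p ^ a = 1 from Subtype.ext (hμ' i), map_one]
  have := sum_pow_char_pow p a Finset.univ f
  rw [hf, zero_pow (pow_ne_zero _ hp.ne_zero), Finset.sum_congr rfl (fun i _ => hf1 i),
    Finset.sum_const, Finset.card_univ, Fintype.card_fin, hdn, nsmul_one, eq_comm,
    CharP.cast_eq_zero_iff (O ⧸ I) p] at this
  exact hn this

end CfsgLib.CharsMore
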