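import Cfsg.Agent.Lib.CharsMore.CharAlg
import Cfsg.Agent.Lib.Chars.Integral
import Cfsg.Agent.Lib.Chars.Permutation
import Cfsg.Prelude.Def_OddOrderLocal

/-!
# Characters constant on a central subgroup of a trivial intersection subgroup (Peterfalvi 6.7)
-/

set_option linter.unusedSectionVars false
set_option linter.style.haveILetI false

namespace CfsgLib.CharsMore

open Cfsg
open scoped ComplexConjugate

/-- An invariant sum over a set with a free action is a multiple of the group order. -/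
lemma free_sum_dvd {X P : Type*} [Group P] [Fintype P] [DecidableEq X] (act : P → X → X)
    (h1 : ∀ x, act 1 x = x) (hmul : ∀ a b x, act (a * b) x = act a (act b x)) (T : Finset X)
    (hT : ∀ a, ∀ x ∈ T, act a x ∈ T) (hfree : ∀ x ∈ T, ∀ a, act a x = x → a = 1) (f : X → ℂ)
    (hf : ∀ a x, f (act a x) = f x) (hint : ∀ x, IsIntegral ℤ (f x)) :
    ∃ w : ℂ, IsIntegral ℤ w ∧ ∑ x ∈ T, f x = (Nat.card P : ℂ) * w := by
  classical
  let orb : X → Finset X := fun x => Finset.univ.image fun a => act a x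
  have horb : ∀ a x, orb (act a x) = orb x := by
    intro a x
    ext y
    simp only [orb, Finset.mem_image, Finset.mem_univ, true_and, ← hmul]
    exact ⟨fun ⟨b, hb⟩ => ⟨_, hb⟩, fun ⟨b, hb⟩ => ⟨b * a⁻¹, by rwa [inv_mul_cancel_right]⟩⟩
  have key : ∀ o ∈ T.image orb, ∃ w : ℂ, IsIntegral ℤ w ∧
      ∑ x ∈ T.filter (fun x => orb x = o), f x = (Nat.card P : ℂ) * w := by
    intro o ho
    obtain ⟨x, hx, rfl⟩ := Finset.mem_image.1 ho
    have hfib : T.filter (fun y => orb y = orb x) = orb x := by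
      ext y
      refine ⟨fun h => ?_, fun h => ?_⟩
      · rw [← (Finset.mem_filter.1 h).2]
        exact Finset.mem_image.2 ⟨1, Finset.mem_univ _, h1 y⟩
      · obtain ⟨a, -, rfl⟩ := Finset.mem_image.1 h
        exact Finset.mem_filter.2 ⟨hT a x hx, horb a x⟩
    refine ⟨f x, hint x, ?_⟩
    rw [hfib, Finset.sum_image (fun a _ b _ h => ?_), Finset.sum_congr rfl fun a _ => hf a x,
      Finset.sum_const, Finset.card_univ, nsmul_eq_mul, Nat.card_eq_fintype_card]
    refine (inv_mul_eq_one.1 (hfree x hx (b⁻¹ * a) ?_)).symm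
    rw [hmul, h, ← hmul, inv_mul_cancel, h1]
  choose! w hw hw' using key
  refine ⟨∑ o ∈ T.image orb, w o, IsIntegral.sum _ hw, ?_⟩
  rw [Finset.mul_sum, ← Finset.sum_fiberwise_of_maps_to
    (fun x hx => Finset.mem_image_of_mem orb hx) f]
  exact Finset.sum_congr rfl fun o ho => hw' o ho

variable {G : Type*} [Group G] [Fintype G]

/-- The value at a nonidentity element of a subgroup on which the character is constant. -/
lemma value_int_of_constant {ψ : G → ℂ} (hψ : IsIrrCharacter G ψ) (Z : Subgroup G)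
    (hconst : ∀ z ∈ Z, ∀ z' ∈ Z, z ≠ 1 → z' ≠ 1 → ψ z = ψ z') {z : G} (hz : z ∈ Z) (hz1 : z ≠ 1) :
    ∃ n : ℤ, ψ z = n := by
  classical
  let _ : Fintype Z := Fintype.ofFinite _
  have hψc := Chars.isCharacter_of_irr hψ
  obtain ⟨j, hj⟩ := Chars.inner_char_nat (Chars.isCharacter_restrict Z hψc)
    (Chars.isCharacter_one (G := Z))
  obtain ⟨d, -, hd⟩ := Chars.irr_degree_nat hψ
  rw [Chars.inner_def] at hj
  simp only [map_one, mul_one] at hj
  rw [← Finset.add_sum_erase _ _ (Finset.mem_univ (1 : Z)), Finset.sum_congr rfl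
      (fun (x : Z) hx => show ψ (x : G) = ψ z from
        hconst x x.2 z hz (fun e => (Finset.ne_of_mem_erase hx) (Subtype.ext e)) hz1),
    Finset.sum_const, Finset.card_erase_of_mem (Finset.mem_univ _), Finset.card_univ, nsmul_eq_mul,
    ← Nat.card_eq_fintype_card, OneMemClass.coe_one, hd,
    inv_mul_eq_iff_eq_mul₀ (Chars.card_ne_zero Z)] at hj
  have hm : 1 < Nat.card Z := Z.one_lt_card_iff_ne_bot.2 fun h => hz1 (by
    rw [h, Subgroup.mem_bot] at hz; exact hz)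
  have hm' : ((Nat.card Z - 1 : ℕ) : ℂ) ≠ 0 := by
    exact_mod_cast (Nat.sub_pos_of_lt hm).ne'
  have hq : ψ z = ((((Nat.card Z : ℚ) * j - d) / ((Nat.card Z - 1 : ℕ) : ℚ) : ℚ) : ℂ) := by
    push_cast
    rw [eq_div_iff hm']
    linear_combination hj
  obtain ⟨n, hn⟩ := Chars.exists_int_of_isIntegral_rat _ (hq ▸ Chars.char_isIntegral hψc z)
  exact ⟨n, by rw [hq, hn, Rat.cast_intCast]⟩

/-- Peterfalvi 6.7. -/
theorem irr_congr_TI (P : Subgroup G) (hTI : IsTISubset (P : Set G))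
    (hodd : Odd (Nat.card (Subgroup.normalizer (P : Set G))))
    (hcop : Nat.Coprime (Nat.card P) (P.relIndex (Subgroup.normalizer (P : Set G))))
    {Z : Subgroup G} (hZP : Z ≤ P)
    (hZn : ∀ x ∈ Subgroup.normalizer (P : Set G), ∀ z ∈ Z, x * z * x⁻¹ ∈ Z)
    (hZc : ∀ z ∈ Z, ∀ y ∈ P, z * y = y * z) {ψ : G → ℂ} (hψ : IsIrrCharacter G ψ)
    (hconst : ∀ z ∈ Z, ∀ z' ∈ Z, z ≠ 1 → z' ≠ 1 → ψ z = ψ z') {z : G} (hz : z ∈ Z) (hz1 : z ≠ 1) :
    ∃ n d : ℤ, ψ z = n ∧ ψ 1 = d ∧ (Nat.card P : ℤ) ∣ d - n := by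
  classical
  let _ : Fintype P := Fintype.ofFinite _
  set N := Subgroup.normalizer (P : Set G)
  let _ : Fintype N := Fintype.ofFinite _
  obtain ⟨n, hn⟩ := value_int_of_constant hψ Z hconst hz hz1
  obtain ⟨d, hd0, hd⟩ := Chars.irr_degree_nat hψ
  refine ⟨n, d, hn, by simpa using hd, ?_⟩
  have hPN : P ≤ N := Subgroup.le_normalizer
  haveI : (P.subgroupOf N).Normal := Subgroup.normal_in_normalizer
  have hmemP : ∀ x ∈ N, x ^ Nat.card P = 1 → x ∈ P := by
    intro x hx hpow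
    have h1 : orderOf (QuotientGroup.mk (⟨x, hx⟩ : N) : N ⧸ P.subgroupOf N) ∣ Nat.card P :=
      orderOf_dvd_of_pow_eq_one (by
        rw [← QuotientGroup.mk_pow, show (⟨x, hx⟩ : N) ^ Nat.card P = 1 from Subtype.ext hpow,
          QuotientGroup.mk_one])
    have h2 : orderOf (QuotientGroup.mk (⟨x, hx⟩ : N) : N ⧸ P.subgroupOf N) ∣ P.relIndex N := by
      rw [Subgroup.relIndex, Subgroup.index_eq_card]
      exact orderOf_dvd_natCard _
    have h3 := Nat.eq_one_of_dvd_coprimes hcop h1 h2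
    rw [orderOf_eq_one_iff, QuotientGroup.eq_one_iff] at h3
    exact h3
  -- conjugates of `z` in `P` lie in `Z`
  have hconjN : ∀ g : G, g * z * g⁻¹ ∈ P → g ∈ N := fun g hg => by
    by_contra hgN
    exact hz1 (hTI g hgN z (hZP hz) hg)
  have hnc : ¬ IsConj z z⁻¹ := by
    intro h
    obtain ⟨g, hg⟩ := isConj_iff.1 h
    have hgN : g ∈ N := hconjN g (hg ▸ P.inv_mem (hZP hz))
    have h' : IsConj (⟨z, hPN (hZP hz)⟩ : N) (⟨z, hPN (hZP hz)⟩ : N)⁻¹ :=
      isConj_iff.2 ⟨⟨g, hgN⟩, Subtype.ext hg⟩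
    exact hz1 (congrArg Subtype.val (Chars.eq_one_of_isConj_inv hodd h'))
  set C : Finset G := Finset.univ.filter (IsConj z)
  set C' : Finset G := Finset.univ.filter (IsConj z⁻¹)
  have hinv : z⁻¹ ∈ Z := Z.inv_mem hz
  have hψinv : ψ z⁻¹ = n := (hconst _ hinv z hz (inv_ne_one.2 hz1) hz1).trans hn
  have hCP : ∀ u ∈ C ∪ C', u ∈ P → u ∈ Z := by
    intro u hu huP
    rcases Finset.mem_union.1 hu with hu | hu
    · obtain ⟨g, rfl⟩ := isConj_iff.1 (Finset.mem_filter.1 hu).2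
      exact hZn g (hconjN g huP) z hz
    · obtain ⟨g, rfl⟩ := isConj_iff.1 (Finset.mem_filter.1 hu).2
      exact hZn g (hconjN g (by simpa [mul_assoc] using P.inv_mem huP)) _ hinv
  have hpowC : ∀ u ∈ C ∪ C', u ^ Nat.card P = 1 := by
    have hz' : z ^ Nat.card P = 1 :=
      orderOf_dvd_iff_pow_eq_one.1 (P.orderOf_dvd_natCard (hZP hz))
    intro u hu
    rcases Finset.mem_union.1 hu with hu | hu
    · obtain ⟨g, rfl⟩ := isConj_iff.1 (Finset.mem_filter.1 hu).2
      rw [conj_pow, hz', mul_one, mul_inv_cancel]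
    · obtain ⟨g, rfl⟩ := isConj_iff.1 (Finset.mem_filter.1 hu).2
      rw [conj_pow, inv_pow, hz', inv_one, mul_one, mul_inv_cancel]
  have hfixed : ∀ (a : P), a ≠ 1 → ∀ u ∈ C ∪ C', (a : G) * u * (a : G)⁻¹ = u → u ∈ Z := by
    intro a ha u hu he
    have hau : u * (a : G) * u⁻¹ = a := by
      rw [mul_inv_eq_iff_eq_mul] at he ⊢
      exact he.symm
    have huN : u ∈ N := by
      by_contra huN
      exact ha (Subtype.ext (hTI u huN (a : G) a.2 (by rw [hau]; exact a.2)))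
    exact hCP u hu (hmemP u huN (hpowC u hu))
  let act : P → G × G → G × G := fun a q => ((a : G) * q.1 * (a : G)⁻¹, (a : G) * q.2 * (a : G)⁻¹)
  let f : G × G → ℂ := fun q => ψ (q.1 * q.2)
  have hψc := Chars.isCharacter_of_irr hψ
  have hcl := Chars.isClassFunction_of_isCharacter hψc
  -- evaluation of the sums
  have hsum : ∀ (D : Finset G) (h : G), D = Finset.univ.filter (IsConj h) →
      ∑ q ∈ C ×ˢ D, f q = (C.card : ℂ) * D.card * ψ z * ψ h / ψ 1 := by
    intro D h hD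
    rw [Finset.sum_product, Finset.sum_congr rfl (fun x hx => show ∑ y ∈ D, f (x, y) =
      (D.card : ℂ) * ψ h * ψ z / ψ 1 from ?_), Finset.sum_const, nsmul_eq_mul]
    · ring
    · obtain ⟨g, hg⟩ := isConj_iff.1 (Finset.mem_filter.1 hx).2
      have hxz : ψ x = ψ z := by rw [← hg]; exact hcl z g
      rw [hD, Finset.sum_filter]
      show ∑ y : G, (if IsConj h y then ψ (x * y) else 0) = _
      rw [Chars.sum_translate_class hψ x h, hxz, Nat.card_eq_fintype_card, Fintype.card_subtype]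
  have hsplit : ∀ (D : Finset G), D ⊆ C ∪ C' → (∀ a : P, ∀ u ∈ D, (a : G) * u * (a : G)⁻¹ ∈ D) →
      ∃ w : ℂ, IsIntegral ℤ w ∧ ∑ q ∈ C ×ˢ D, f q =
        ∑ q ∈ (C.filter (· ∈ Z)) ×ˢ (D.filter (· ∈ Z)), f q + (Nat.card P : ℂ) * w := by
    intro D hD hDinv
    have hfix : ∀ (a : P) (u : G), u ∈ Z → (a : G) * u * (a : G)⁻¹ = u := fun a u hu => by
      rw [← hZc u hu a a.2, mul_inv_cancel_right]
    have hset : (C ×ˢ D).filter (fun q => q.1 ∈ Z ∧ q.2 ∈ Z) =
        (C.filter (· ∈ Z)) ×ˢ (D.filter (· ∈ Z)) := Finset.filter_product _ _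
    have hCinv : ∀ a : P, ∀ u ∈ C, (a : G) * u * (a : G)⁻¹ ∈ C := fun a u hu =>
      Finset.mem_filter.2 ⟨Finset.mem_univ _,
        (Finset.mem_filter.1 hu).2.trans (isConj_iff.2 ⟨a, rfl⟩)⟩
    obtain ⟨w, hw, hw'⟩ := free_sum_dvd act (fun q => by simp [act])
      (fun a b q => by simp [act, mul_assoc]) ((C ×ˢ D).filter (fun q => ¬ (q.1 ∈ Z ∧ q.2 ∈ Z)))
      (fun a q hq => by
        simp only [Finset.mem_filter, Finset.mem_product, act] at hq ⊢
        refine ⟨⟨hCinv a _ hq.1.1, hDinv a _ hq.1.2⟩, fun h => hq.2 ⟨?_, ?_⟩⟩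
        · have e := hfix a⁻¹ _ h.1
          simp only [InvMemClass.coe_inv, inv_inv] at e
          rw [show q.1 = (a : G)⁻¹ * ((a : G) * q.1 * (a : G)⁻¹) * (a : G) by group, e]
          exact h.1
        · have e := hfix a⁻¹ _ h.2
          simp only [InvMemClass.coe_inv, inv_inv] at e
          rw [show q.2 = (a : G)⁻¹ * ((a : G) * q.2 * (a : G)⁻¹) * (a : G) by group, e]
          exact h.2)
      (fun q hq a he => by
        by_contra ha
        simp only [Finset.mem_filter, Finset.mem_product] at hq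
        exact hq.2 ⟨hfixed a ha q.1 (Finset.mem_union_left _ hq.1.1) (congrArg Prod.fst he),
          hfixed a ha q.2 (hD hq.1.2) (congrArg Prod.snd he)⟩)
      f (fun a q => by
        show ψ _ = ψ _
        rw [show (a : G) * q.1 * (a : G)⁻¹ * ((a : G) * q.2 * (a : G)⁻¹) =
          (a : G) * (q.1 * q.2) * (a : G)⁻¹ by group]
        exact hcl _ _) (fun q => Chars.char_isIntegral hψc _)
    exact ⟨w, hw, by rw [← hset, ← hw', Finset.sum_filter_add_sum_filter_not]⟩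
  obtain ⟨w₁, hw₁, e₁⟩ := hsplit C Finset.subset_union_left fun a u hu =>
    Finset.mem_filter.2 ⟨Finset.mem_univ _, (Finset.mem_filter.1 hu).2.trans (isConj_iff.2 ⟨a, rfl⟩)⟩
  obtain ⟨w₂, hw₂, e₂⟩ := hsplit C' Finset.subset_union_right fun a u hu =>
    Finset.mem_filter.2 ⟨Finset.mem_univ _, (Finset.mem_filter.1 hu).2.trans (isConj_iff.2 ⟨a, rfl⟩)⟩
  set A := C.filter (· ∈ Z)
  set A' := C'.filter (· ∈ Z)
  have hCC' : C'.card = C.card := by
    refine (Finset.card_bij (fun u _ => u⁻¹) (fun u hu => ?_) (fun u _ v _ h => inv_injective h)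
      fun u hu => ⟨u⁻¹, ?_, inv_inv u⟩).symm
    · obtain ⟨g, rfl⟩ := isConj_iff.1 (Finset.mem_filter.1 hu).2
      exact Finset.mem_filter.2 ⟨Finset.mem_univ _, isConj_iff.2 ⟨g, by group⟩⟩
    · obtain ⟨g, rfl⟩ := isConj_iff.1 (Finset.mem_filter.1 hu).2
      exact Finset.mem_filter.2 ⟨Finset.mem_univ _, isConj_iff.2 ⟨g, by group⟩⟩
  have hAinv : ∀ u, u⁻¹ ∈ A' ↔ u ∈ A := by
    intro u
    simp only [A, A', C, C', Finset.mem_filter, Finset.mem_univ, true_and, inv_mem_iff]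
    refine and_congr_left fun _ => ⟨fun h => ?_, fun h => ?_⟩ <;>
    · obtain ⟨g, hg⟩ := isConj_iff.1 h
      exact isConj_iff.2 ⟨g, inv_injective (by simpa [mul_assoc] using hg)⟩
  have hA1 : ∀ u ∈ A ∪ A', u ≠ 1 := by
    intro u hu e
    subst e
    rcases Finset.mem_union.1 hu with h | h
    · exact hz1 (isConj_one_left.1 (Finset.mem_filter.1 (Finset.mem_filter.1 h).1).2)
    · exact inv_ne_one.2 hz1 (isConj_one_left.1 (Finset.mem_filter.1 (Finset.mem_filter.1 h).1).2)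
  have hval : ∀ v ∈ Z, v ≠ 1 → ψ v = n := fun v hv hv1 => (hconst v hv z hz hv1 hz1).trans hn
  have s₁ : ∑ q ∈ A ×ˢ A, f q = (A.card : ℂ) * A.card * n := by
    rw [Finset.sum_congr rfl (fun q hq => show f q = (n : ℂ) from ?_), Finset.sum_const,
      Finset.card_product, nsmul_eq_mul, Nat.cast_mul]
    obtain ⟨h1, h2⟩ := Finset.mem_product.1 hq
    obtain ⟨h1C, h1Z⟩ := Finset.mem_filter.1 h1
    obtain ⟨h2C, h2Z⟩ := Finset.mem_filter.1 h2
    refine hval _ (Z.mul_mem h1Z h2Z) fun e => hnc ?_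
    rw [mul_eq_one_iff_inv_eq] at e
    obtain ⟨g, hg⟩ := isConj_iff.1 (Finset.mem_filter.1 h1C).2
    refine (Finset.mem_filter.1 h2C).2.trans (IsConj.symm (isConj_iff.2 ⟨g, ?_⟩))
    rw [← e, ← hg]; group
  have s₂ : ∑ q ∈ A ×ˢ A', f q = (A.card : ℂ) * A'.card * n + A.card * ((d : ℂ) - n) := by
    rw [Finset.sum_product, Finset.sum_congr rfl (fun u hu => show ∑ v ∈ A', f (u, v) =
      (A'.card : ℂ) * n + ((d : ℂ) - n) from ?_), Finset.sum_const, nsmul_eq_mul]
    · ring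
    · have hu' : u⁻¹ ∈ A' := (hAinv u).2 hu
      rw [← Finset.add_sum_erase _ _ hu', Finset.sum_congr rfl (fun v hv => show f (u, v) = (n : ℂ) by
        refine hval _ (Z.mul_mem (Finset.mem_filter.1 hu).2
          (Finset.mem_filter.1 (Finset.mem_of_mem_erase hv)).2) fun e => ?_
        exact Finset.ne_of_mem_erase hv (mul_eq_one_iff_inv_eq.1 e).symm), Finset.sum_const,
        Finset.card_erase_of_mem hu', nsmul_eq_mul,
        Nat.cast_sub (Finset.card_pos.2 ⟨_, hu'⟩), Nat.cast_one]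
      show ψ (u * u⁻¹) + _ = _
      rw [mul_inv_cancel, hd]
      ring
  have hAA' : A'.card = A.card :=
    (Finset.card_bij (fun u _ => u⁻¹) (fun u hu => (hAinv u).2 hu) (fun u _ v _ h => inv_injective h)
      fun u hu => ⟨u⁻¹, (hAinv u⁻¹).1 (by rwa [inv_inv]), inv_inv u⟩).symm
  have hE : ∑ q ∈ C ×ˢ C, f q = ∑ q ∈ C ×ˢ C', f q := by
    rw [hsum C z rfl, hsum C' z⁻¹ rfl, hCC', hn, hψinv]
  rw [e₁, e₂, s₁, s₂, hAA'] at hE
  -- `k (d - n) / |P|` is an algebraic integer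
  have hkey : (((A.card : ℚ) * ((d : ℚ) - n) / (Nat.card P : ℚ) : ℚ) : ℂ) = w₁ - w₂ := by
    push_cast
    rw [div_eq_iff (Chars.card_ne_zero P)]
    linear_combination -hE
  obtain ⟨j, hj⟩ := Chars.exists_int_of_isIntegral_rat _ (hkey ▸ hw₁.sub hw₂)
  rw [div_eq_iff (Nat.cast_ne_zero.2 Nat.card_pos.ne')] at hj
  have hdvd : (Nat.card P : ℤ) ∣ (A.card : ℤ) * ((d : ℤ) - n) := ⟨j, by
    have : (((A.card : ℤ) * ((d : ℤ) - n) : ℤ) : ℚ) = (((Nat.card P : ℤ) * j : ℤ) : ℚ) := by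
      push_cast; linarith
    exact_mod_cast this⟩
  have hk : A.card ∣ P.relIndex N := by
    have hA : A = (Finset.univ.filter (IsConj (⟨z, hPN (hZP hz)⟩ : N))).image Subtype.val := by
      ext u
      simp only [A, C, Finset.mem_filter, Finset.mem_univ, true_and, Finset.mem_image]
      constructor
      · rintro ⟨hu, huZ⟩
        obtain ⟨g, rfl⟩ := isConj_iff.1 hu
        exact ⟨⟨g * z * g⁻¹, hPN (hZP huZ)⟩, isConj_iff.2 ⟨⟨g, hconjN g (hZP huZ)⟩, Subtype.ext rfl⟩,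
          rfl⟩
      · rintro ⟨v, hv, rfl⟩
        obtain ⟨g, rfl⟩ := isConj_iff.1 hv
        exact ⟨isConj_iff.2 ⟨g, rfl⟩, hZn g g.2 z hz⟩
    rw [hA, Finset.card_image_of_injective _ Subtype.val_injective, ← Fintype.card_subtype,
      ← Nat.card_eq_fintype_card, ← Chars.index_centralizer_eq, Subgroup.relIndex]
    refine Subgroup.index_dvd_of_le fun a ha => Subgroup.mem_centralizer_singleton_iff.2 ?_
    exact Subtype.ext (hZc z hz a ha).symm
  exact (Int.natCast_dvd.2 ((Nat.Coprime.dvd_mul_left (hcop.coprime_dvd_right hk)).1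
    (by simpa [Int.natAbs_mul] using Int.natCast_dvd.1 hdvd)))

end CfsgLib.CharsMore
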