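import Cfsg.Agent.S1496
import Cfsg.Agent.Lib.Chars.Permutation

/-!
# Classes and irreducible characters fixed by an element of coprime order
-/

set_option linter.unusedSectionVars false
set_option linter.style.haveILetI false

namespace CfsgLib.CharsMore

open Cfsg

variable {L : Type*} [Group L] [Finite L] (K : Subgroup L) [K.Normal]

/-- A class of `K` invariant under an element of order prime to `|K|` contains an element
commuting with it. -/
lemma exists_commute_in_fixed_class (x : L) (hx : Nat.Coprime (orderOf x) (Nat.card K))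
    {C : ConjClasses K}
    (hC : ConjClasses.map ((MulAut.conjNormal x : MulAut K)).toMonoidHom C = C) :
    ∃ k : K, ConjClasses.mk k = C ∧ x * k = k * x := by
  obtain ⟨k, rfl⟩ := ConjClasses.mk_surjective C
  obtain ⟨m, hm⟩ := isConj_iff.1 (ConjClasses.mk_eq_mk_iff_isConj.1 hC)
  have hm' : (m : L) * (x * k * x⁻¹) * (m : L)⁻¹ = k := by simpa using congrArg Subtype.val hm
  set g : L := (m : L) * x with hg
  have hgk : Commute g (k : L) := by
    show g * k = k * g
    calc g * (k : L) = ((m : L) * (x * k * x⁻¹) * (m : L)⁻¹) * g := by rw [hg]; group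
      _ = _ := by rw [hm']
  set n := orderOf x
  obtain ⟨e, he1, he0⟩ := Nat.chineseRemainder hx 1 0
  rw [Nat.modEq_zero_iff_dvd] at he0
  have hquot : ∀ j : ℕ, g ^ j * (x ^ j)⁻¹ ∈ K := by
    intro j
    have h : (QuotientGroup.mk (g ^ j) : L ⧸ K) = QuotientGroup.mk (x ^ j) := by
      rw [QuotientGroup.mk_pow, QuotientGroup.mk_pow, hg, QuotientGroup.mk_mul,
        (QuotientGroup.eq_one_iff (m : L)).2 m.2, one_mul]
    rwa [QuotientGroup.eq_iff_div_mem, div_eq_mul_inv] at h
  have hxe : x ^ e = x := by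
    conv_rhs => rw [← pow_one x]
    exact pow_eq_pow_iff_modEq.2 he1
  have hgn : (g ^ e) ^ n = 1 := by
    have h1 : g ^ n ∈ K := by simpa [pow_orderOf_eq_one, n] using hquot n
    obtain ⟨d, hd⟩ := he0
    rw [← pow_mul, mul_comm, pow_mul, hd, pow_mul,
      orderOf_dvd_iff_pow_eq_one.1 (Subgroup.orderOf_dvd_natCard _ h1), one_pow]
  have hh : g ^ e * x⁻¹ ∈ K := by simpa [hxe] using hquot e
  have hnorm : x ∈ Subgroup.normalizer (K : Set L) := by
    rw [Subgroup.normalizer_eq_top]; trivial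
  obtain ⟨u, hu, c, hc, hcx, hconj⟩ := Cfsg.Agent.S1496.result K x hnorm hx _ hh
  rw [inv_mul_cancel_right] at hconj
  have hc1 : c = 1 := by
    have h2 : (c * x) ^ n = 1 := by rw [← hconj, conj_pow, hgn, mul_one, mul_inv_cancel]
    rw [(show Commute c x from hcx).mul_pow, pow_orderOf_eq_one, mul_one] at h2
    exact orderOf_eq_one_iff.1 (Nat.eq_one_of_dvd_coprimes hx (orderOf_dvd_of_pow_eq_one h2)
      (Subgroup.orderOf_dvd_natCard _ hc))
  rw [hc1, one_mul] at hconj
  refine ⟨⟨u * k * u⁻¹, K.mul_mem (K.mul_mem hu k.2) (K.inv_mem hu)⟩, ?_, ?_⟩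
  · exact ConjClasses.mk_eq_mk_iff_isConj.2 (IsConj.symm (isConj_iff.2 ⟨⟨u, hu⟩, Subtype.ext rfl⟩))
  · show x * (u * k * u⁻¹) = u * k * u⁻¹ * x
    rw [← hconj]
    calc u * g ^ e * u⁻¹ * (u * k * u⁻¹) = u * (g ^ e * k) * u⁻¹ := by group
      _ = u * (k * g ^ e) * u⁻¹ := by rw [(hgk.pow_left e).eq]
      _ = _ := by group

/-- An element fixes a non-principal irreducible of `K` iff it fixes a non-trivial class. -/
lemma exists_fixed_irr_iff_exists_fixed_class (x : L) :
    (∃ θ : IrrCharacter K, θ ≠ Chars.principal K ∧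
        (θ : K → ℂ) ∘ (MulAut.conjNormal x : MulAut K) = (θ : K → ℂ)) ↔
      ∃ C : ConjClasses K, C ≠ ConjClasses.mk 1 ∧
        ConjClasses.map ((MulAut.conjNormal x : MulAut K)).toMonoidHom C = C := by
  have h := Chars.card_fixed_classes_eq_card_fixed_irr (MulAut.conjNormal x : MulAut K)
  have key : ∀ {α : Type _} [Finite α] (p : α → Prop) (a : α), p a →
      (1 < Nat.card {b : α // p b} ↔ ∃ b, b ≠ a ∧ p b) := by
    intro α _ p a ha
    rw [Finite.one_lt_card_iff_nontrivial, nontrivial_iff_exists_ne (⟨a, ha⟩ : {b // p b})]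
    exact ⟨fun ⟨⟨b, hb⟩, hne⟩ => ⟨b, fun e => hne (Subtype.ext e), hb⟩,
      fun ⟨b, hne, hb⟩ => ⟨⟨b, hb⟩, fun e => hne (congrArg Subtype.val e)⟩⟩
  haveI : Finite (ConjClasses K) := Finite.of_surjective _ ConjClasses.mk_surjective
  rw [← key (fun C : ConjClasses K =>
      ConjClasses.map ((MulAut.conjNormal x : MulAut K)).toMonoidHom C = C) (ConjClasses.mk 1)
      (by show ConjClasses.mk _ = _; rw [map_one]),
    h, key (fun θ : IrrCharacter K =>
      (θ : K → ℂ) ∘ (MulAut.conjNormal x : MulAut K) = (θ : K → ℂ)) (Chars.principal K) rfl]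

end CfsgLib.CharsMore
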