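import Cfsg.Agent.Lib.Chars.Induction
import Cfsg.Agent.Lib.Chars.Linear
import Cfsg.Prelude.Def_OddOrderChar
import Cfsg.Prelude.Def_OddOrderLocal

/-!
# Linear characters of `W = W₁ × W₂` and the functions `(1 - φ)(1 - ψ)`
-/

set_option linter.unusedSectionVars false
set_option linter.style.haveILetI false

namespace CfsgLib.CharsMore

open Cfsg
open scoped ComplexConjugate

section Abelian

variable {A : Type*} [CommGroup A] [Finite A]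

/-- A linear character trivial on `K` but not at `y ∉ K`. -/
lemma exists_hom_trivial_ne {K : Subgroup A} {y : A} (hy : y ∉ K) :
    ∃ φ : A →* ℂˣ, (∀ x ∈ K, φ x = 1) ∧ φ y ≠ 1 := by
  haveI : NeZero (Monoid.exponent (A ⧸ K) : ℂ) :=
    ⟨Nat.cast_ne_zero.mpr Monoid.exponent_ne_zero_of_finite⟩
  obtain ⟨φ, hφ⟩ := CommGroup.exists_apply_ne_one_of_hasEnoughRootsOfUnity (A ⧸ K) ℂ
    (a := (QuotientGroup.mk y : A ⧸ K)) (fun h => hy ((QuotientGroup.eq_one_iff y).1 h))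
  refine ⟨φ.comp (QuotientGroup.mk' K), fun x hx => ?_, hφ⟩
  show φ (QuotientGroup.mk x) = 1
  rw [(QuotientGroup.eq_one_iff x).2 hx, map_one]

end Abelian

variable {W : Type*} [Group W]

/-- The linear characters trivial on `K`. -/
def trivOn (K : Subgroup W) : Subgroup (W →* ℂˣ) where
  carrier := {φ | ∀ x ∈ K, φ x = 1}
  one_mem' := fun _ _ => rfl
  mul_mem' {a b} ha hb x hx := by simp [ha x hx, hb x hx]
  inv_mem' {a} ha x hx := by simp [ha x hx]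

lemma mem_trivOn {K : Subgroup W} {φ : W →* ℂˣ} : φ ∈ trivOn K ↔ ∀ x ∈ K, φ x = 1 := Iff.rfl

lemma sum_trivOn [Finite W] (hW : ∀ a b : W, a * b = b * a) (K : Subgroup W)
    [Fintype (trivOn K)] (y : W) [Decidable (y ∈ K)] :
    ∑ φ : trivOn K, (((φ : W →* ℂˣ) y : ℂ)) = if y ∈ K then (Fintype.card (trivOn K) : ℂ) else 0 := by
  split_ifs with hy
  · rw [Finset.sum_congr rfl fun φ _ => by rw [φ.2 y hy]]
    simp
  · letI : CommGroup W := { ‹Group W› with mul_comm := hW }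
    obtain ⟨φ₀, h0, hne⟩ := exists_hom_trivial_ne hy
    have h : ∑ φ : trivOn K, (((φ : W →* ℂˣ) y : ℂ)) =
        (φ₀ y : ℂ) * ∑ φ : trivOn K, (((φ : W →* ℂˣ) y : ℂ)) := by
      rw [Finset.mul_sum]
      refine (Fintype.sum_equiv (Equiv.mulLeft ⟨φ₀, mem_trivOn.2 h0⟩) _ _ fun φ => ?_).symm
      simp
    have h1 : ((φ₀ y : ℂ) - 1) ≠ 0 := sub_ne_zero.2 fun h2 => hne (Units.ext h2)
    exact (mul_eq_zero.1 (show ((φ₀ y : ℂ) - 1) * _ = 0 by rw [sub_mul, one_mul, ← h, sub_self])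
      ).resolve_left h1

/-- The function `(1 - φ)(1 - ψ)`. -/
def alphaFn (φ ψ : W →* ℂˣ) : W → ℂ :=
  fun w => 1 - (φ w : ℂ) - (ψ w : ℂ) + (φ w : ℂ) * (ψ w : ℂ)

lemma alphaFn_eq (φ ψ : W →* ℂˣ) (w : W) : alphaFn φ ψ w = (1 - (φ w : ℂ)) * (1 - (ψ w : ℂ)) := by
  simp only [alphaFn]; ring

lemma alphaFn_vanish {K₁ K₂ : Subgroup W} {φ ψ : W →* ℂˣ} (hφ : ∀ x ∈ K₂, φ x = 1)
    (hψ : ∀ x ∈ K₁, ψ x = 1) {w : W} (hw : w ∈ K₁ ∨ w ∈ K₂) : alphaFn φ ψ w = 0 := by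
  rcases hw with h | h <;> simp [alphaFn_eq, hφ, hψ, h]

lemma conj_unit_hom [Finite W] (φ : W →* ℂˣ) (w : W) : conj (φ w : ℂ) = (φ w⁻¹ : ℂ) :=
  (Chars.char_inv (Chars.isCharacter_of_irr (Chars.isIrrCharacter_linear φ)) w).symm

/-- The functions `(1 - φ)(1 - ψ)` span the point masses outside `K₁ ∪ K₂`. -/
lemma sum_alphaFn [Finite W] (hW : ∀ a b : W, a * b = b * a) (K₁ K₂ : Subgroup W)
    (hdisj : K₁ ⊓ K₂ = ⊥) [Fintype (trivOn K₁)] [Fintype (trivOn K₂)] {w : W} (h1 : w ∉ K₁)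
    (h2 : w ∉ K₂) (x : W) [Decidable (x = w)] :
    ∑ φ : trivOn K₂, ∑ ψ : trivOn K₁,
      ((φ : W →* ℂˣ) w⁻¹ : ℂ) * ((ψ : W →* ℂˣ) w⁻¹ : ℂ) * alphaFn (φ : W →* ℂˣ) ψ x =
      if x = w then (Fintype.card (trivOn K₂) : ℂ) * Fintype.card (trivOn K₁) else 0 := by
  classical
  have hsplit : ∀ (K : Subgroup W) [Fintype (trivOn K)], w ∉ K →
      ∑ φ : trivOn K, ((φ : W →* ℂˣ) w⁻¹ : ℂ) * (1 - ((φ : W →* ℂˣ) x : ℂ)) =
        - if w⁻¹ * x ∈ K then (Fintype.card (trivOn K) : ℂ) else 0 := by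
    intro K _ hK
    simp only [mul_sub, mul_one, Finset.sum_sub_distrib, ← Units.val_mul, ← map_mul]
    rw [sum_trivOn hW K, sum_trivOn hW K, if_neg (by simpa using hK), zero_sub]
  calc _ = (∑ φ : trivOn K₂, ((φ : W →* ℂˣ) w⁻¹ : ℂ) * (1 - ((φ : W →* ℂˣ) x : ℂ))) *
        (∑ ψ : trivOn K₁, ((ψ : W →* ℂˣ) w⁻¹ : ℂ) * (1 - ((ψ : W →* ℂˣ) x : ℂ))) := by
        rw [Finset.sum_mul_sum]
        refine Finset.sum_congr rfl fun φ _ => Finset.sum_congr rfl fun ψ _ => ?_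
        rw [alphaFn_eq]; ring
    _ = _ := by
        rw [hsplit K₂ h2, hsplit K₁ h1, neg_mul_neg]
        have hiff : (w⁻¹ * x ∈ K₂ ∧ w⁻¹ * x ∈ K₁) ↔ x = w := by
          constructor
          · intro h
            have : w⁻¹ * x ∈ K₁ ⊓ K₂ := ⟨h.2, h.1⟩
            rw [hdisj, Subgroup.mem_bot, inv_mul_eq_one] at this
            exact this.symm
          · rintro rfl
            simp
        by_cases hx : x = w
        · rw [if_pos hx, if_pos (hiff.2 hx).1, if_pos (hiff.2 hx).2]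
        · rw [if_neg hx]
          by_cases ha : w⁻¹ * x ∈ K₂
          · rw [if_neg (fun hb => hx (hiff.1 ⟨ha, hb⟩)), mul_zero]
          · rw [if_neg ha, zero_mul]

/-- A function orthogonal to all `(1 - φ)(1 - ψ)` vanishes outside `K₁ ∪ K₂`. -/
lemma eq_zero_of_inner_alphaFn [Fintype W] (hW : ∀ a b : W, a * b = b * a) (K₁ K₂ : Subgroup W)
    (hdisj : K₁ ⊓ K₂ = ⊥) {θ : W → ℂ}
    (h : ∀ φ ψ : W →* ℂˣ, (∀ x ∈ K₂, φ x = 1) → (∀ x ∈ K₁, ψ x = 1) →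
      classInner θ (alphaFn φ ψ) = 0) {w : W} (h1 : w ∉ K₁) (h2 : w ∉ K₂) : θ w = 0 := by
  classical
  let _ : Fintype (trivOn K₁) := Fintype.ofFinite _
  let _ : Fintype (trivOn K₂) := Fintype.ofFinite _
  set f : W → ℂ := fun x => ∑ φ : trivOn K₂, ∑ ψ : trivOn K₁,
      ((φ : W →* ℂˣ) w⁻¹ : ℂ) * ((ψ : W →* ℂˣ) w⁻¹ : ℂ) * alphaFn (φ : W →* ℂˣ) ψ x with hf
  have hz : classInner θ f = 0 := by
    have : f = ∑ φ : trivOn K₂, ∑ ψ : trivOn K₁,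
        (((φ : W →* ℂˣ) w⁻¹ : ℂ) * ((ψ : W →* ℂˣ) w⁻¹ : ℂ)) • alphaFn (φ : W →* ℂˣ) ψ := by
      funext x
      simp [hf, Finset.sum_apply]
    rw [this, Chars.inner_sum_right]
    refine Finset.sum_eq_zero fun φ _ => ?_
    rw [Chars.inner_sum_right]
    exact Finset.sum_eq_zero fun ψ _ => by
      rw [Chars.inner_smul_right, h _ _ φ.2 ψ.2, mul_zero]
  rw [Chars.inner_def] at hz
  simp only [hf, sum_alphaFn hW K₁ K₂ hdisj h1 h2] at hz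
  simp only [apply_ite (conj : ℂ → ℂ), map_zero, mul_ite, mul_zero, Finset.sum_ite_eq',
    Finset.mem_univ, if_true, map_mul, map_natCast] at hz
  have n1 : (Fintype.card (trivOn K₁) : ℂ) ≠ 0 := Nat.cast_ne_zero.2 Fintype.card_ne_zero
  have n2 : (Fintype.card (trivOn K₂) : ℂ) ≠ 0 := Nat.cast_ne_zero.2 Fintype.card_ne_zero
  simpa [Chars.card_ne_zero, n1, n2] using hz

section Sup

variable {G : Type*} [Group G] {W₁ W₂ : Subgroup G}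

lemma hom_ext_sup {M : Type*} [Monoid M] {f g : ↥(W₁ ⊔ W₂) →* M}
    (h1 : ∀ w : ↥(W₁ ⊔ W₂), (w : G) ∈ W₁ → f w = g w)
    (h2 : ∀ w : ↥(W₁ ⊔ W₂), (w : G) ∈ W₂ → f w = g w) : f = g := by
  have htop : f.eqLocus g = ⊤ := by
    rw [eq_top_iff, ← Subgroup.subgroupOf_self (H := W₁ ⊔ W₂),
      Subgroup.subgroupOf_sup le_sup_left le_sup_right, sup_le_iff]
    exact ⟨fun w hw => h1 w hw, fun w hw => h2 w hw⟩
  exact MonoidHom.ext fun w => (htop ▸ Subgroup.mem_top w : w ∈ f.eqLocus g)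

/-- The elements of `W₁ ⊔ W₂` outside `W₁ ∪ W₂`. -/
def regularPart (W₁ W₂ : Subgroup G) : Set G :=
  (↑(W₁ ⊔ W₂) : Set G) \ (↑W₁ ∪ ↑W₂)

lemma comm_of_selfNorm (hW : IsSelfNormalizingCyclic W₁ W₂) (a b : ↥(W₁ ⊔ W₂)) : a * b = b * a := by
  haveI := hW.2.2.2.2.1
  exact mul_comm' a b

lemma disjoint_subgroupOf (hdisj : W₁ ⊓ W₂ = ⊥) :
    W₁.subgroupOf (W₁ ⊔ W₂) ⊓ W₂.subgroupOf (W₁ ⊔ W₂) = ⊥ := by
  refine (Subgroup.eq_bot_iff_forall _).2 fun x hx => Subtype.ext ?_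
  have : (x : G) ∈ W₁ ⊓ W₂ := ⟨hx.1, hx.2⟩
  rw [hdisj, Subgroup.mem_bot] at this
  exact this

lemma regularPart_TI [Finite G] (hW : IsSelfNormalizingCyclic W₁ W₂) (g : G) (hg : g ∉ W₁ ⊔ W₂)
    (t : G) (ht : t ∈ regularPart W₁ W₂) (hgt : g * t * g⁻¹ ∈ regularPart W₁ W₂) : False := by
  have hcyc := hW.2.2.2.2.1
  have hn := hW.2.2.2.2.2
  have hmem : ∀ x : G, x ∈ W₁ ⊔ W₂ → g * x * g⁻¹ ∈ W₁ ⊔ W₂ := by
    intro x hx
    have h1 : x ∈ Subgroup.normalizer ({t} : Set G) := by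
      rw [hn _ (Set.singleton_subset_iff.2 ht) (Set.singleton_nonempty _)]; exact hx
    have h2 : g * x * g⁻¹ ∈ Subgroup.normalizer ({g * t * g⁻¹} : Set G) := by
      rw [Subgroup.normalizer_singleton, Subgroup.mem_centralizer_singleton_iff] at h1 ⊢
      calc g * x * g⁻¹ * (g * t * g⁻¹) = g * (x * t) * g⁻¹ := by group
        _ = g * (t * x) * g⁻¹ := by rw [h1]
        _ = _ := by group
    rwa [hn _ (Set.singleton_subset_iff.2 hgt) (Set.singleton_nonempty _)] at h2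
  let σ : ↥(W₁ ⊔ W₂) →* ↥(W₁ ⊔ W₂) :=
    { toFun := fun x => ⟨g * x * g⁻¹, hmem x x.2⟩
      map_one' := by ext; simp
      map_mul' := fun a b => by ext; simp [mul_assoc] }
  haveI := hcyc
  obtain ⟨m, hm⟩ := MonoidHom.map_cyclic σ
  have hle : ∀ (V : Subgroup G), V ≤ W₁ ⊔ W₂ → ∀ x ∈ V, g * x * g⁻¹ ∈ V := by
    intro V hV x hx
    have := congrArg Subtype.val (hm ⟨x, hV hx⟩)
    simp only [σ, MonoidHom.coe_mk, OneHom.coe_mk, SubgroupClass.coe_zpow] at this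
    rw [this]
    exact V.zpow_mem hx m
  have heq : ∀ (V : Subgroup G), V ≤ W₁ ⊔ W₂ → ∀ x, g * x * g⁻¹ ∈ V ↔ x ∈ V := by
    intro V hV x
    refine ⟨fun hx => ?_, hle V hV x⟩
    have hbij : Function.Bijective (fun y : V => (⟨g * y * g⁻¹, hle V hV y y.2⟩ : V)) :=
      Finite.injective_iff_bijective.1 fun a b h => Subtype.ext (by simpa using congrArg Subtype.val h)
    obtain ⟨y, hy⟩ := hbij.2 ⟨_, hx⟩
    have : g * (y : G) * g⁻¹ = g * x * g⁻¹ := congrArg Subtype.val hy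
    simp only [mul_left_inj, mul_right_inj] at this
    exact this ▸ y.2
  apply hg
  rw [← hn (regularPart W₁ W₂) Set.Subset.rfl ⟨t, ht⟩, Subgroup.mem_set_normalizer_iff]
  intro x
  simp only [regularPart, Set.mem_sdiff, Set.mem_union, SetLike.mem_coe,
    heq _ le_rfl x, heq _ le_sup_left x, heq _ le_sup_right x]

lemma alphaFn_support {φ ψ : ↥(W₁ ⊔ W₂) →* ℂˣ}
    (hφ : ∀ w : ↥(W₁ ⊔ W₂), (w : G) ∈ W₂ → φ w = 1)
    (hψ : ∀ w : ↥(W₁ ⊔ W₂), (w : G) ∈ W₁ → ψ w = 1) (w : ↥(W₁ ⊔ W₂))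
    (hw : (w : G) ∉ regularPart W₁ W₂) : alphaFn φ ψ w = 0 := by
  refine alphaFn_vanish (K₁ := W₁.subgroupOf _) (K₂ := W₂.subgroupOf _) hφ hψ ?_
  simp only [regularPart, Set.mem_sdiff, Set.mem_union, SetLike.mem_coe, w.2, true_and,
    not_not] at hw
  exact hw

/-- Products `φ * ψ` determine their factors. -/
lemma mul_eq_mul_factors {φ φ' ψ ψ' : ↥(W₁ ⊔ W₂) →* ℂˣ}
    (hφ : ∀ w : ↥(W₁ ⊔ W₂), (w : G) ∈ W₂ → φ w = 1)
    (hφ' : ∀ w : ↥(W₁ ⊔ W₂), (w : G) ∈ W₂ → φ' w = 1)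
    (hψ : ∀ w : ↥(W₁ ⊔ W₂), (w : G) ∈ W₁ → ψ w = 1)
    (hψ' : ∀ w : ↥(W₁ ⊔ W₂), (w : G) ∈ W₁ → ψ' w = 1) (h : φ * ψ = φ' * ψ') :
    φ = φ' ∧ ψ = ψ' := by
  have h1 : φ = φ' := hom_ext_sup (fun w hw => by
      have := DFunLike.congr_fun h w
      simpa [hψ w hw, hψ' w hw] using this)
    (fun w hw => by rw [hφ w hw, hφ' w hw])
  subst h1
  exact ⟨rfl, mul_left_cancel h⟩

end Sup

end CfsgLib.CharsMore
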