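import Cfsg.Agent.Lib.CharsMore.CyclicTI
import Cfsg.Agent.Lib.CharsMore.CyclicTIGrid
import Cfsg.Agent.Lib.CharsMore.CoherenceBasic
import Cfsg.Agent.Lib.Chars.Virtual
import Cfsg.Agent.S1505

/-!
# Existence of the cyclic TI family
-/

set_option linter.unusedSectionVars false
set_option linter.style.haveILetI false

namespace CfsgLib.CharsMore

open Cfsg
open scoped ComplexConjugate

variable {G : Type*} [Group G] {W₁ W₂ : Subgroup G}

lemma exists_proj_sup (hdisj : W₁ ⊓ W₂ = ⊥) (hcomm : ∀ a ∈ W₁, ∀ b ∈ W₂, a * b = b * a) :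
    ∃ p₁ p₂ : ↥(W₁ ⊔ W₂) →* ↥(W₁ ⊔ W₂),
      (∀ w, (p₁ w : G) ∈ W₁) ∧ (∀ w, (p₂ w : G) ∈ W₂) ∧ (∀ w, p₁ w * p₂ w = w) ∧
      (∀ w : ↥(W₁ ⊔ W₂), (w : G) ∈ W₁ → p₁ w = w ∧ p₂ w = 1) ∧
      (∀ w : ↥(W₁ ⊔ W₂), (w : G) ∈ W₂ → p₁ w = 1 ∧ p₂ w = w) := by
  have hnorm : W₂ ≤ Subgroup.normalizer (W₁ : Set G) := fun b hb => by
    rw [Subgroup.mem_normalizer_iff]
    intro a
    constructor
    · intro ha; rwa [← hcomm a ha b hb, mul_inv_cancel_right]
    · intro ha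
      have h := hcomm _ ha b⁻¹ (W₂.inv_mem hb)
      have e : a = b⁻¹ * (b * a * b⁻¹) * b := by group
      rw [e, ← h, inv_mul_cancel_right]; exact ha
  have hdec : ∀ w : ↥(W₁ ⊔ W₂), ∃ a ∈ W₁, ∃ b ∈ W₂, a * b = (w : G) := fun w => by
    have h := w.2
    rw [← SetLike.mem_coe, Subgroup.coe_mul_of_right_le_normalizer_left _ _ hnorm, Set.mem_mul] at h
    exact h
  choose a ha b hb hab using hdec
  have huniq : ∀ (w : ↥(W₁ ⊔ W₂)) (a' b' : G), a' ∈ W₁ → b' ∈ W₂ → a' * b' = w →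
      a w = a' ∧ b w = b' := by
    intro w a' b' ha' hb' e
    have e2 : a'⁻¹ * a w = b' * (b w)⁻¹ := by
      rw [inv_mul_eq_iff_eq_mul, ← mul_assoc, e, ← hab w, mul_inv_cancel_right]
    have hmem : a'⁻¹ * a w ∈ W₁ ⊓ W₂ :=
      ⟨W₁.mul_mem (W₁.inv_mem ha') (ha w), e2 ▸ W₂.mul_mem hb' (W₂.inv_mem (hb w))⟩
    rw [hdisj, Subgroup.mem_bot, inv_mul_eq_one] at hmem
    subst hmem
    exact ⟨rfl, mul_left_cancel ((hab w).trans e.symm)⟩
  have hmul : ∀ w w', a (w * w') = a w * a w' ∧ b (w * w') = b w * b w' := fun w w' => by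
    refine huniq _ _ _ (W₁.mul_mem (ha w) (ha w')) (W₂.mul_mem (hb w) (hb w')) ?_
    rw [Subgroup.coe_mul, ← hab w, ← hab w', mul_assoc, ← mul_assoc (a w'),
      hcomm _ (ha w') _ (hb w), mul_assoc (b w), ← mul_assoc]
  refine ⟨MonoidHom.mk' (fun w => ⟨a w, le_sup_left (a := W₁) (ha w)⟩)
      fun w w' => Subtype.ext (hmul w w').1,
    MonoidHom.mk' (fun w => ⟨b w, le_sup_right (b := W₂) (hb w)⟩)
      fun w w' => Subtype.ext (hmul w w').2,
    ha, hb, fun w => Subtype.ext (hab w), fun w hw => ?_, fun w hw => ?_⟩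
  · obtain ⟨h1, h2⟩ := huniq w w 1 hw W₂.one_mem (mul_one _)
    exact ⟨Subtype.ext h1, Subtype.ext h2⟩
  · obtain ⟨h1, h2⟩ := huniq w 1 w W₁.one_mem hw (one_mul _)
    exact ⟨Subtype.ext h1, Subtype.ext h2⟩

lemma card_trivOn_sup [Finite G] (hW : IsSelfNormalizingCyclic W₁ W₂) :
    Nat.card (trivOn (W₂.subgroupOf (W₁ ⊔ W₂))) = Nat.card W₁ ∧
      Nat.card (trivOn (W₁.subgroupOf (W₁ ⊔ W₂))) = Nat.card W₂ := by
  obtain ⟨p₁, p₂, h1, h2, hp, hf1, hf2⟩ := exists_proj_sup hW.2.2.1 hW.2.2.2.1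
  have key : ∀ (U V : Subgroup G) (hU : U ≤ W₁ ⊔ W₂) (p : ↥(W₁ ⊔ W₂) →* ↥(W₁ ⊔ W₂))
      (hpm : ∀ w, (p w : G) ∈ U) (hpU : ∀ w : ↥(W₁ ⊔ W₂), (w : G) ∈ U → p w = w)
      (hpV : ∀ w : ↥(W₁ ⊔ W₂), (w : G) ∈ V → p w = 1)
      (hext : ∀ f g : ↥(W₁ ⊔ W₂) →* ℂˣ, (∀ w : ↥(W₁ ⊔ W₂), (w : G) ∈ U → f w = g w) →
        (∀ w : ↥(W₁ ⊔ W₂), (w : G) ∈ V → f w = g w) → f = g),
      Nat.card (trivOn (V.subgroupOf (W₁ ⊔ W₂))) = Nat.card U := by
    intro U V hU p hpm hpU hpV hext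
    let e : trivOn (V.subgroupOf (W₁ ⊔ W₂)) ≃ (U.subgroupOf (W₁ ⊔ W₂) →* ℂˣ) :=
      { toFun := fun φ => φ.1.comp (U.subgroupOf (W₁ ⊔ W₂)).subtype
        invFun := fun f => ⟨f.comp (p.codRestrict (U.subgroupOf (W₁ ⊔ W₂)) hpm), fun x hx => by
          show f ⟨p x, _⟩ = 1
          rw [← map_one f]
          exact congrArg f (Subtype.ext (hpV x hx))⟩
        left_inv := fun φ => Subtype.ext (hext _ _ (fun w hw => by
            show φ.1 (p w) = φ.1 w
            rw [hpU w hw]) (fun w hw => by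
            show φ.1 (p w) = φ.1 w
            rw [hpV w hw, map_one, φ.2 w hw]))
        right_inv := fun f => MonoidHom.ext fun x => by
          show f ⟨p x, _⟩ = f x
          exact congrArg f (Subtype.ext (hpU x x.2)) }
    rw [Nat.card_congr e]
    haveI := hW.2.2.2.2.1
    letI : CommGroup ↥(U.subgroupOf (W₁ ⊔ W₂)) :=
      { (inferInstance : Group ↥(U.subgroupOf (W₁ ⊔ W₂))) with
        mul_comm := fun a b => Subtype.ext (mul_comm' (a : ↥(W₁ ⊔ W₂)) b) }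
    haveI : NeZero (Monoid.exponent ↥(U.subgroupOf (W₁ ⊔ W₂)) : ℂ) :=
      ⟨Nat.cast_ne_zero.mpr Monoid.exponent_ne_zero_of_finite⟩
    rw [CommGroup.card_monoidHom_of_hasEnoughRootsOfUnity]
    exact Nat.card_congr (Subgroup.subgroupOfEquivOfLe hU).toEquiv
  exact ⟨key W₁ W₂ le_sup_left p₁ h1 (fun w h => (hf1 w h).1) (fun w h => (hf2 w h).1)
      fun f g a b => hom_ext_sup a b,
    key W₂ W₁ le_sup_right p₂ h2 (fun w h => (hf2 w h).2) (fun w h => (hf1 w h).2)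
      fun f g a b => hom_ext_sup b a⟩

lemma card_ne_of_selfNorm [Finite G] (hW : IsSelfNormalizingCyclic W₁ W₂) :
    Nat.card W₁ ≠ Nat.card W₂ := by
  classical
  intro he
  haveI := Fintype.ofFinite ↥(W₁ ⊔ W₂)
  haveI := hW.2.2.2.2.1
  set n := Nat.card W₁
  have key : ∀ U : Subgroup G, U ≤ W₁ ⊔ W₂ → Nat.card U = n →
      Finset.univ.filter (fun x : ↥(W₁ ⊔ W₂) => (x : G) ∈ U) =
        Finset.univ.filter (fun x : ↥(W₁ ⊔ W₂) => x ^ n = 1) := by
    intro U hU hn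
    refine Finset.eq_of_subset_of_card_le (fun x hx => ?_) ?_
    · rw [Finset.mem_filter] at hx ⊢
      refine ⟨Finset.mem_univ _, Subtype.ext ?_⟩
      rw [Subgroup.coe_pow, Subgroup.coe_one, ← hn]
      exact orderOf_dvd_iff_pow_eq_one.1 (Subgroup.orderOf_dvd_natCard _ hx.2)
    · refine le_trans (IsCyclic.card_pow_eq_one_le (show 0 < n from Nat.card_pos)) (le_of_eq ?_)
      rw [← hn, ← Fintype.card_subtype, ← Nat.card_eq_fintype_card]
      exact (Nat.card_congr (Equiv.subtypeSubtypeEquivSubtype fun h => hU h)).symm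
  have h := (key W₁ le_sup_left rfl).trans (key W₂ le_sup_right he.symm).symm
  apply hW.1
  rw [Subgroup.eq_bot_iff_forall]
  intro x hx
  have hx2 : (⟨x, le_sup_left (a := W₁) hx⟩ : ↥(W₁ ⊔ W₂)) ∈
      Finset.univ.filter (fun x : ↥(W₁ ⊔ W₂) => (x : G) ∈ W₂) := by
    rw [← h]; simpa using hx
  have : x ∈ W₁ ⊓ W₂ := ⟨hx, (Finset.mem_filter.1 hx2).2⟩
  rwa [hW.2.2.1, Subgroup.mem_bot] at this

lemma swap_code_injective {I J : Type*} :
    Function.Injective (Sum.elim (Sum.inr ∘ Sum.inl) (Sum.elim Sum.inl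
      (Sum.inr ∘ Sum.inr ∘ Prod.swap)) : I ⊕ J ⊕ (I × J) → J ⊕ I ⊕ (J × I)) := by
  rintro (i | j | ⟨i, j⟩) (i' | j' | ⟨i', j'⟩) h <;> simp_all

section Family

variable [Fintype G]

/-- The nontrivial linear characters trivial on `K`. -/
abbrev ntTriv {W : Type*} [Group W] (K : Subgroup W) : Type _ := {φ : trivOn K // φ ≠ 1}

theorem exists_cyclicTIFamily (hW : IsSelfNormalizingCyclic W₁ W₂)
    (hodd : Odd (Nat.card ↥(W₁ ⊔ W₂))) :
    ∃ χ : (↥(W₁ ⊔ W₂) →* ℂˣ) → (G → ℂ), IsCyclicTIFamily W₁ W₂ χ := by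
  classical
  let _ : Fintype ↥(W₁ ⊔ W₂) := Fintype.ofFinite _
  let _ := Chars.irrFintype G
  set K₁ := W₁.subgroupOf (W₁ ⊔ W₂)
  set K₂ := W₂.subgroupOf (W₁ ⊔ W₂)
  let _ : Fintype (ntTriv K₁) := Fintype.ofFinite _
  let _ : Fintype (ntTriv K₂) := Fintype.ofFinite _
  obtain ⟨hc1, hc2⟩ := card_trivOn_sup hW
  have hcard : ∀ (K : Subgroup ↥(W₁ ⊔ W₂)) [Fintype (ntTriv K)],
      Fintype.card (ntTriv K) + 1 = Nat.card (trivOn K) := by
    intro K _
    let _ : Fintype (trivOn K) := Fintype.ofFinite _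
    rw [Nat.card_eq_fintype_card, ← Nat.card_eq_fintype_card (α := ntTriv K),
      Nat.card_eq_fintype_card, Fintype.card_subtype_compl, Fintype.card_subtype_eq]
    have := Fintype.card_pos (α := trivOn K)
    omega
  have hm : 2 < Nat.card W₁ ∧ Odd (Nat.card W₁) := by
    have ho : Odd (Nat.card W₁) := hodd.of_dvd_nat (Subgroup.card_dvd_of_le le_sup_left)
    have h1 : 1 < Nat.card W₁ := W₁.one_lt_card_iff_ne_bot.2 hW.1
    obtain ⟨k, hk⟩ := ho
    exact ⟨by omega, k, hk⟩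
  have hn : 2 < Nat.card W₂ ∧ Odd (Nat.card W₂) := by
    have ho : Odd (Nat.card W₂) := hodd.of_dvd_nat (Subgroup.card_dvd_of_le le_sup_right)
    have h1 : 1 < Nat.card W₂ := W₂.one_lt_card_iff_ne_bot.2 hW.2.1
    obtain ⟨k, hk⟩ := ho
    exact ⟨by omega, k, hk⟩
  have hφn : ∀ i : ntTriv K₂, (i.1.1 : ↥(W₁ ⊔ W₂) →* ℂˣ) ≠ 1 := fun i h => i.2 (Subtype.ext h)
  have hψn : ∀ j : ntTriv K₁, (j.1.1 : ↥(W₁ ⊔ W₂) →* ℂˣ) ≠ 1 := fun j h => j.2 (Subtype.ext h)
  -- the differences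
  let g : ntTriv K₂ → ntTriv K₁ → (G → ℂ) := fun i j =>
    indFun (W₁ ⊔ W₂) (alphaFn i.1.1 j.1.1) - fun _ => 1
  have hggen : ∀ i j, g i j ∈ genChar G := by
    intro i j
    refine (genChar G).sub_mem (Chars.isGeneralized_indFun _ ?_)
      (genChar_of_isCharacter Chars.isCharacter_one)
    have e : alphaFn i.1.1 j.1.1 = ((fun _ => (1 : ℂ)) - fun w => (i.1.1 w : ℂ)) -
        ((fun w => (j.1.1 w : ℂ)) - fun w => ((i.1.1 * j.1.1) w : ℂ)) := by
      funext w; simp [alphaFn]; ring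
    rw [e, ← mem_genChar]
    exact (genChar _).sub_mem ((genChar _).sub_mem (genChar_of_isCharacter Chars.isCharacter_one)
      (genChar_of_irr (Chars.isIrrCharacter_linear _)))
      ((genChar _).sub_mem (genChar_of_irr (Chars.isIrrCharacter_linear _))
        (genChar_of_irr (Chars.isIrrCharacter_linear _)))
  have hinner : ∀ i i' j j', classInner (g i j) (g i' j') =
      (if i = i' then 1 else 0) + (if j = j' then 1 else 0) +
        (if i = i' then 1 else 0) * (if j = j' then 1 else 0) := by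
    intro i i' j j'
    obtain ⟨h1, h2⟩ := Cfsg.Agent.S1505.result W₁ W₂ hW i.1.1 i'.1.1 j.1.1 j'.1.1 (hφn i) (hφn i')
      (hψn j) (hψn j') (fun w h => ⟨i.1.2 w h, i'.1.2 w h⟩) fun w h => ⟨j.1.2 w h, j'.1.2 w h⟩
    obtain ⟨h1', -⟩ := Cfsg.Agent.S1505.result W₁ W₂ hW i'.1.1 i'.1.1 j'.1.1 j'.1.1 (hφn i')
      (hφn i') (hψn j') (hψn j') (fun w h => ⟨i'.1.2 w h, i'.1.2 w h⟩)
      fun w h => ⟨j'.1.2 w h, j'.1.2 w h⟩
    have h1'' : classInner (fun _ : G => (1 : ℂ)) (indFun (W₁ ⊔ W₂) (alphaFn i'.1.1 j'.1.1)) = 1 := by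
      rw [← Chars.inner_conj, show alphaFn i'.1.1 j'.1.1 = fun w => 1 - (i'.1.1 w : ℂ) -
        (j'.1.1 w : ℂ) + (i'.1.1 w : ℂ) * (j'.1.1 w : ℂ) from rfl, h1', map_one]
    have ei : (i.1.1 = i'.1.1) ↔ i = i' := ⟨fun h => Subtype.ext (Subtype.ext h), fun h => by rw [h]⟩
    have ej : (j.1.1 = j'.1.1) ↔ j = j' := ⟨fun h => Subtype.ext (Subtype.ext h), fun h => by rw [h]⟩
    simp only [g, Chars.inner_sub_left, Chars.inner_sub_right, h1'', Chars.inner_one_one]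
    unfold alphaFn
    rw [h2, h1]
    simp only [ei, ej]
    ring
  have hg1 : ∀ i j, classInner (g i j) (Chars.principal G : G → ℂ) = 0 := by
    intro i j
    rw [show ((Chars.principal G : IrrCharacter G) : G → ℂ) = fun _ => (1 : ℂ) from
      funext Chars.principal_apply]
    obtain ⟨h1, -⟩ := Cfsg.Agent.S1505.result W₁ W₂ hW i.1.1 i.1.1 j.1.1 j.1.1 (hφn i) (hφn i)
      (hψn j) (hψn j) (fun w h => ⟨i.1.2 w h, i.1.2 w h⟩) fun w h => ⟨j.1.2 w h, j.1.2 w h⟩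
    simp only [g, Chars.inner_sub_left, Chars.inner_one_one]
    unfold alphaFn
    rw [h1, sub_self]
  have hgone : ∀ i j, g i j 1 = -1 := by
    intro i j
    simp [g, Chars.indFun_one_apply, alphaFn]
  have hv : ∀ i j (ξ : IrrCharacter G), ∃ z : ℤ, classInner (g i j) ξ = z := fun i j ξ =>
    inner_gen_int (hggen i j) (genChar_of_irr ξ.2)
  choose v hv using hv
  choose d hd hd' using fun ξ : IrrCharacter G => Chars.irr_degree_nat ξ.2
  have hgexp : ∀ i j, g i j = ∑ ξ : IrrCharacter G, (v i j ξ : ℂ) • (ξ : G → ℂ) := fun i j => by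
    conv_lhs => rw [Chars.classFun_eq_sum (Chars.isClassFunction_of_isGeneralized (hggen i j))]
    simp only [hv]
  have hvv : ∀ i i' j j', ((∑ ξ, v i j ξ * v i' j' ξ : ℤ) : ℂ) = classInner (g i j) (g i' j') := by
    intro i i' j j'
    rw [Chars.inner_eq_sum (Chars.isClassFunction_of_isGeneralized (hggen i j))]
    push_cast
    simp only [hv, map_intCast]
  have hnorm : ∀ i j, ∑ ξ, v i j ξ * v i j ξ = 3 := fun i j => by
    have h := hvv i i j j
    rw [hinner, if_pos rfl, if_pos rfl] at h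
    have : ((∑ ξ, v i j ξ * v i j ξ : ℤ) : ℂ) = ((3 : ℤ) : ℂ) := by rw [h]; norm_num
    exact_mod_cast this
  have hrow : ∀ i j j', j ≠ j' → ∑ ξ, v i j ξ * v i j' ξ = 1 := fun i j j' hne => by
    have h := hvv i i j j'
    rw [hinner, if_pos rfl, if_neg hne] at h
    have : ((∑ ξ, v i j ξ * v i j' ξ : ℤ) : ℂ) = ((1 : ℤ) : ℂ) := by rw [h]; norm_num
    exact_mod_cast this
  have hcol : ∀ i i' j, i ≠ i' → ∑ ξ, v i j ξ * v i' j ξ = 1 := fun i i' j hne => by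
    have h := hvv i i' j j
    rw [hinner, if_pos rfl, if_neg hne] at h
    have : ((∑ ξ, v i j ξ * v i' j ξ : ℤ) : ℂ) = ((1 : ℤ) : ℂ) := by rw [h]; norm_num
    exact_mod_cast this
  have hcross : ∀ i i' j j', i ≠ i' → j ≠ j' → ∑ ξ, v i j ξ * v i' j' ξ = 0 :=
    fun i i' j j' hne hne' => by
      have h := hvv i i' j j'
      rw [hinner, if_neg hne, if_neg hne'] at h
      have : ((∑ ξ, v i j ξ * v i' j' ξ : ℤ) : ℂ) = ((0 : ℤ) : ℂ) := by rw [h]; norm_num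
      exact_mod_cast this
  have hdeg : ∀ i j, ∑ ξ, v i j ξ * (d ξ : ℤ) = -1 := fun i j => by
    have h := congrFun (hgexp i j) 1
    rw [hgone, Finset.sum_apply] at h
    simp only [Pi.smul_apply, smul_eq_mul, hd'] at h
    exact_mod_cast h.symm
  have hne := card_ne_of_selfNorm hW
  have hcI : Fintype.card (ntTriv K₂) + 1 = Nat.card W₁ := (hcard K₂).trans hc1
  have hcJ : Fintype.card (ntTriv K₁) + 1 = Nat.card W₂ := (hcard K₁).trans hc2
  obtain ⟨f, sg, hfi, hsg, hv3⟩ : ∃ (f : ntTriv K₂ ⊕ ntTriv K₁ ⊕ (ntTriv K₂ × ntTriv K₁) →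
      IrrCharacter G) (sg : IrrCharacter G → ℤ), Function.Injective f ∧
      (∀ x, sg (f x) = 1 ∨ sg (f x) = -1) ∧
      ∀ i j x, v i j x = if x = f (Sum.inl i) ∨ x = f (Sum.inr (Sum.inl j)) ∨
        x = f (Sum.inr (Sum.inr (i, j))) then sg x else 0 := by
    obtain ⟨k, hk⟩ := hm.2
    obtain ⟨l, hl⟩ := hn.2
    rcases lt_or_gt_of_ne hne with h | h
    · exact Grid.grid_decomp (d := fun ξ => (d ξ : ℤ)) (fun ξ => by exact_mod_cast hd ξ) v hnorm
        hrow hcol hcross (fun i j i' j' => (hdeg i j).trans (hdeg i' j').symm) (by omega) (by omega)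
        (by omega)
    · obtain ⟨f, sg, hfi, hsg, hv3⟩ := Grid.grid_decomp (d := fun ξ => (d ξ : ℤ))
        (fun ξ => by exact_mod_cast hd ξ) (fun j i => v i j) (fun j i => hnorm i j)
        (fun j i i' hne => hcol i i' j hne) (fun j j' i hne => hrow i j j' hne)
        (fun j j' i i' hne hne' => hcross i i' j j' hne' hne)
        (fun j i j' i' => (hdeg i j).trans (hdeg i' j').symm) (by omega) (by omega) (by omega)
      refine ⟨f ∘ Sum.elim (Sum.inr ∘ Sum.inl) (Sum.elim Sum.inl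
        (Sum.inr ∘ Sum.inr ∘ Prod.swap)), sg, hfi.comp ?_, fun x => hsg _, fun i j x => ?_⟩
      · exact swap_code_injective
      · rw [hv3 j i x]
        exact if_congr (by simp; tauto) rfl rfl
  have hf1 : ∀ x, f x ≠ Chars.principal G := by
    intro x hx
    have key : ∀ i j, (x = Sum.inl i ∨ x = Sum.inr (Sum.inl j) ∨ x = Sum.inr (Sum.inr (i, j))) →
        False := fun i j h => by
      have h0 := hv i j (Chars.principal G)
      rw [hg1, eq_comm, Int.cast_eq_zero, hv3, if_pos (by rcases h with h | h | h <;> simp [← h, hx]),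
        ← hx] at h0
      rcases hsg x with e | e <;> rw [e] at h0 <;> norm_num at h0
    obtain ⟨i₀⟩ : Nonempty (ntTriv K₂) := Fintype.card_pos_iff.1 (by omega)
    obtain ⟨j₀⟩ : Nonempty (ntTriv K₁) := Fintype.card_pos_iff.1 (by omega)
    rcases x with i | j | ⟨i, j⟩
    exacts [key i j₀ (Or.inl rfl), key i₀ j (Or.inr (Or.inl rfl)), key i j (Or.inr (Or.inr rfl))]
  -- the family
  obtain ⟨p₁, p₂, hp1, hp2, hp, hpf1, hpf2⟩ := exists_proj_sup hW.2.2.1 hW.2.2.2.1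
  let π₁ : (↥(W₁ ⊔ W₂) →* ℂˣ) → trivOn K₂ := fun ω =>
    ⟨ω.comp p₁, fun x hx => by show ω (p₁ x) = 1; rw [(hpf2 x hx).1, map_one]⟩
  let π₂ : (↥(W₁ ⊔ W₂) →* ℂˣ) → trivOn K₁ := fun ω =>
    ⟨ω.comp p₂, fun x hx => by show ω (p₂ x) = 1; rw [(hpf1 x hx).2, map_one]⟩
  have hπ : ∀ ω, (π₁ ω).1 * (π₂ ω).1 = ω := fun ω => MonoidHom.ext fun w => by
    show ω (p₁ w) * ω (p₂ w) = ω w
    rw [← map_mul, hp]
  have hπu : ∀ (φ : trivOn K₂) (ψ : trivOn K₁), π₁ (φ.1 * ψ.1) = φ ∧ π₂ (φ.1 * ψ.1) = ψ := by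
    intro φ ψ
    obtain ⟨h1, h2⟩ := mul_eq_mul_factors (π₁ (φ.1 * ψ.1)).2 φ.2 (π₂ (φ.1 * ψ.1)).2 ψ.2 (hπ _)
    exact ⟨Subtype.ext h1, Subtype.ext h2⟩
  let code : (↥(W₁ ⊔ W₂) →* ℂˣ) → Option (ntTriv K₂ ⊕ ntTriv K₁ ⊕ (ntTriv K₂ × ntTriv K₁)) :=
    fun ω => if h1 : π₁ ω = 1 then (if h2 : π₂ ω = 1 then none else some (Sum.inr (Sum.inl ⟨_, h2⟩)))
      else (if h2 : π₂ ω = 1 then some (Sum.inl ⟨_, h1⟩)
        else some (Sum.inr (Sum.inr (⟨_, h1⟩, ⟨_, h2⟩))))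
  let cf : (ntTriv K₂ ⊕ ntTriv K₁ ⊕ (ntTriv K₂ × ntTriv K₁)) → ℂ := fun x =>
    Sum.elim (fun _ => -(sg (f x) : ℂ)) (Sum.elim (fun _ => -(sg (f x) : ℂ)) fun _ => (sg (f x) : ℂ)) x
  have hcf : ∀ x, cf x = 1 ∨ cf x = -1 := by
    intro x
    rcases hsg x with h | h <;> rcases x with i | j | p <;> simp [cf, h]
  let χ : (↥(W₁ ⊔ W₂) →* ℂˣ) → (G → ℂ) := fun ω =>
    (code ω).elim (fun _ => (1 : ℂ)) fun x => cf x • (f x : G → ℂ)
  let dec : Option (ntTriv K₂ ⊕ ntTriv K₁ ⊕ (ntTriv K₂ × ntTriv K₁)) → (↥(W₁ ⊔ W₂) →* ℂˣ) := fun o =>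
    o.elim 1 (Sum.elim (fun i => i.1.1) (Sum.elim (fun j => j.1.1) fun p => p.1.1.1 * p.2.1.1))
  have hcode : Function.Injective code := by
    refine Function.LeftInverse.injective (g := dec) fun ω => ?_
    conv_rhs => rw [← hπ ω]
    by_cases a : π₁ ω = 1 <;> by_cases b : π₂ ω = 1 <;>
      simp only [code, dec, dif_pos, dif_neg, a, b, not_false_eq_true, Option.elim_none,
        Option.elim_some, Sum.elim_inl, Sum.elim_inr, OneMemClass.coe_one, one_mul, mul_one]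
  have hcodeφ : ∀ (i : ntTriv K₂) (j : ntTriv K₁),
      code i.1.1 = some (Sum.inl i) ∧ code j.1.1 = some (Sum.inr (Sum.inl j)) ∧
      code (i.1.1 * j.1.1) = some (Sum.inr (Sum.inr (i, j))) := by
    intro i j
    obtain ⟨a1, a2⟩ : π₁ i.1.1 = i.1 ∧ π₂ i.1.1 = 1 := by
      simpa using hπu i.1 1
    obtain ⟨b1, b2⟩ : π₁ j.1.1 = 1 ∧ π₂ j.1.1 = j.1 := by
      simpa using hπu 1 j.1
    obtain ⟨c1, c2⟩ := hπu i.1 j.1
    refine ⟨?_, ?_, ?_⟩ <;> simp [code, a1, a2, b1, b2, c1, c2, i.2, j.2]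
  have hcode1 : code 1 = none := by
    obtain ⟨a1, a2⟩ : π₁ 1 = 1 ∧ π₂ 1 = 1 := by simpa using hπu 1 1
    simp [code, a1, a2]
  have horth : ∀ ω ω', classInner (χ ω) (χ ω') = if ω = ω' then 1 else 0 := by
    intro ω ω'
    have hp1 : ((Chars.principal G : IrrCharacter G) : G → ℂ) = fun _ => (1 : ℂ) :=
      funext Chars.principal_apply
    rcases eq_or_ne ω ω' with rfl | hne
    · rw [if_pos rfl]
      simp only [χ]
      rcases code ω with _ | x
      · exact Chars.inner_one_one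
      · simp only [Option.elim_some, Chars.inner_smul_left, Chars.inner_smul_right,
          Chars.inner_irr_self]
        rcases hcf x with h | h <;> simp [h]
    · rw [if_neg hne]
      have hc : code ω ≠ code ω' := hcode.ne hne
      simp only [χ]
      generalize code ω = o, code ω' = o' at hc
      rcases o with _ | x <;> rcases o' with _ | x'
      · exact absurd rfl hc
      · simp only [Option.elim_none, Option.elim_some, Chars.inner_smul_right, ← hp1,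
          Chars.inner_irr, if_neg (Ne.symm (hf1 x')), mul_zero]
      · simp only [Option.elim_none, Option.elim_some, Chars.inner_smul_left, ← hp1,
          Chars.inner_irr, if_neg (hf1 x), mul_zero]
      · simp only [Option.elim_some, Chars.inner_smul_left, Chars.inner_smul_right, Chars.inner_irr,
          if_neg (hfi.ne fun e => hc (congrArg some e)), mul_zero]
  have hind : ∀ φ ψ : ↥(W₁ ⊔ W₂) →* ℂˣ, φ ≠ 1 → ψ ≠ 1 →
      (∀ w : ↥(W₁ ⊔ W₂), (w : G) ∈ W₂ → φ w = 1) → (∀ w : ↥(W₁ ⊔ W₂), (w : G) ∈ W₁ → ψ w = 1) →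
      indFun (W₁ ⊔ W₂) (alphaFn φ ψ) = fun g => 1 - χ φ g - χ ψ g + χ (φ * ψ) g := by
    intro φ ψ hφ hψ hφ2 hψ1
    let i : ntTriv K₂ := ⟨⟨φ, hφ2⟩, fun h => hφ (congrArg Subtype.val h)⟩
    let j : ntTriv K₁ := ⟨⟨ψ, hψ1⟩, fun h => hψ (congrArg Subtype.val h)⟩
    obtain ⟨c1, c2, c3⟩ := hcodeφ i j
    have hg : g i j = (sg (f (Sum.inl i)) : ℂ) • (f (Sum.inl i) : G → ℂ) +
        ((sg (f (Sum.inr (Sum.inl j))) : ℂ) • (f (Sum.inr (Sum.inl j)) : G → ℂ) +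
        (sg (f (Sum.inr (Sum.inr (i, j)))) : ℂ) • (f (Sum.inr (Sum.inr (i, j))) : G → ℂ)) := by
      rw [hgexp, ← Finset.sum_subset (Finset.subset_univ
        ({f (Sum.inl i), f (Sum.inr (Sum.inl j)), f (Sum.inr (Sum.inr (i, j)))} : Finset _))
        (fun x _ hx => by
          rw [hv3, if_neg (by simpa using hx), Int.cast_zero, zero_smul]),
        Finset.sum_insert (by simp [hfi.eq_iff]), Finset.sum_pair (hfi.ne (by simp)),
        hv3, hv3, hv3]
      simp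
    have he : indFun (W₁ ⊔ W₂) (alphaFn φ ψ) = g i j + fun _ => 1 :=
      (sub_add_cancel _ _).symm
    have e1 : χ φ = cf (Sum.inl i) • (f (Sum.inl i) : G → ℂ) := by
      show (code i.1.1).elim _ _ = _; rw [c1]; rfl
    have e2 : χ ψ = cf (Sum.inr (Sum.inl j)) • (f (Sum.inr (Sum.inl j)) : G → ℂ) := by
      show (code j.1.1).elim _ _ = _; rw [c2]; rfl
    have e3 : χ (φ * ψ) =
        cf (Sum.inr (Sum.inr (i, j))) • (f (Sum.inr (Sum.inr (i, j))) : G → ℂ) := by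
      show (code (i.1.1 * j.1.1)).elim _ _ = _; rw [c3]; rfl
    rw [he, hg, e1, e2, e3]
    funext x
    simp [cf]
    ring
  refine ⟨χ, ⟨fun ω => ?_, fun a b => by convert horth a b, ?_, ?_, hind⟩⟩
  · simp only [χ]
    rcases code ω with _ | x
    · exact Or.inl Chars.isIrrCharacter_one
    · rcases hcf x with h | h
      · exact Or.inl (by simpa [h] using (f x).2)
      · exact Or.inr (by simpa [h] using (f x).2)
  · show (code 1).elim _ _ = _
    rw [hcode1]; rfl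
  · intro ω w hw1 hw2
    have hL : ∀ a b : ↥(W₁ ⊔ W₂) →* ℂˣ,
        classInner (fun w => (a w : ℂ)) (fun w => (b w : ℂ)) = if a = b then 1 else 0 := by
      intro a b
      rw [Chars.inner_irr_of_isIrr (Chars.isIrrCharacter_linear a) (Chars.isIrrCharacter_linear b)]
      exact if_congr ⟨fun h => MonoidHom.ext fun w => Units.ext (congrFun h w), fun h => by rw [h]⟩
        rfl rfl
    have hcl : IsClassFunction G (χ ω) := by
      simp only [χ]
      rcases code ω with _ | x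
      · exact fun _ _ => rfl
      · intro a b
        simp only [Option.elim_some, Pi.smul_apply, Chars.isClassFunction_irr (f x) a b]
    suffices h : (fun x : ↥(W₁ ⊔ W₂) => χ ω x - (ω x : ℂ)) w = 0 from sub_eq_zero.1 h
    refine eq_zero_of_inner_alphaFn (θ := fun x : ↥(W₁ ⊔ W₂) => χ ω x - (ω x : ℂ))
      (comm_of_selfNorm hW) K₁ K₂ (disjoint_subgroupOf hW.2.2.1) ?_ hw1 hw2
    intro φ ψ hφ hψ
    by_cases h1 : φ = 1 ∨ ψ = 1
    · have : alphaFn φ ψ = 0 := by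
        funext x; rcases h1 with rfl | rfl <;> simp [alphaFn]
      rw [this, Chars.inner_zero_right]
    · push Not at h1
      rw [show (fun x : ↥(W₁ ⊔ W₂) => χ ω x - (ω x : ℂ)) =
          (fun x : ↥(W₁ ⊔ W₂) => χ ω x) - fun x => (ω x : ℂ) from rfl, Chars.inner_sub_left,
        ← Chars.inner_indFun_right _ _ hcl, hind φ ψ h1.1 h1.2 hφ hψ,
        show (fun g => 1 - χ φ g - χ ψ g + χ (φ * ψ) g) = χ 1 - χ φ - χ ψ + χ (φ * ψ) from ?_,
        show alphaFn φ ψ = (fun x => ((1 : ↥(W₁ ⊔ W₂) →* ℂˣ) x : ℂ)) - (fun x => (φ x : ℂ)) -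
          (fun x => (ψ x : ℂ)) + (fun x => ((φ * ψ) x : ℂ)) from ?_]
      · simp only [Chars.inner_add_right, Chars.inner_sub_right, horth, hL, sub_self]
      · funext x; simp [alphaFn]
      · have : χ 1 = fun _ => (1 : ℂ) := by show (code 1).elim _ _ = _; rw [hcode1]; rfl
        funext x; simp [this]

end Family

end CfsgLib.CharsMore
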