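import Cfsg.Agent.Lib.CharsMore.CyclicTIExists

/-!
# Few nonzero coefficients on the grid
-/

set_option linter.unusedSectionVars false
set_option linter.style.haveILetI false

namespace CfsgLib.CharsMore

open Cfsg

lemma grid_few {P Q K : Type*} [Fintype P] [Fintype Q] [DecidableEq P] [DecidableEq Q]
    [AddCommGroup K] [DecidableEq K] {m n : ℕ} (hm : Fintype.card P = m) (hn : Fintype.card Q = n)
    (hm3 : 3 ≤ m) (hmn : m + 2 ≤ n) (A : P → Q → K)
    (hA : ∀ p p' q q', A p q + A p' q' = A p q' + A p' q)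
    (hfew : (Finset.univ.filter fun x : P × Q => A x.1 x.2 ≠ 0).card < 2 * m) :
    (∀ p q, A p q = 0) ∨ (∃ q₀ a, ∀ p q, A p q = if q = q₀ then a else 0) ∨
      (∃ p₀ a, ∀ p q, A p q = if p = p₀ then a else 0) := by
  classical
  obtain ⟨p₁⟩ : Nonempty P := Fintype.card_pos_iff.1 (by omega)
  set c : Q → K := fun q => A p₁ q with hc
  have hd : ∀ p q q', A p q - A p q' = c q - c q' := fun p q q' => by
    rw [sub_eq_sub_iff_add_eq_add]
    show A p q + A p₁ q' = A p₁ q + A p q'
    rw [hA p p₁ q q', add_comm]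
  -- a pair of columns with different `c` has at least `m` nonzero entries
  have hpair : ∀ q₁ q₂ q₃ q₄, q₁ ≠ q₂ → q₃ ≠ q₄ → q₁ ≠ q₃ → q₁ ≠ q₄ → q₂ ≠ q₃ → q₂ ≠ q₄ →
      c q₁ ≠ c q₂ → c q₃ = c q₄ := by
    intro q₁ q₂ q₃ q₄ h12 h34 h13 h14 h23 h24 hne
    by_contra h'
    let g : P × Fin 2 → P × Q := fun x => if x.2 = 0 then
      (if A x.1 q₁ ≠ 0 then (x.1, q₁) else (x.1, q₂)) else
      (if A x.1 q₃ ≠ 0 then (x.1, q₃) else (x.1, q₄))
    have hg : Function.Injective g := by
      rintro ⟨p, i⟩ ⟨p', i'⟩ h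
      simp only [g] at h
      fin_cases i <;> fin_cases i' <;> simp only [Fin.zero_eta, Fin.mk_one, if_true, one_ne_zero,
        if_false] at h ⊢ <;> split_ifs at h <;> simp_all [Ne.symm h13, Ne.symm h14, Ne.symm h23,
          Ne.symm h24]
    have hle : (Finset.univ.image g).card ≤
        (Finset.univ.filter fun x : P × Q => A x.1 x.2 ≠ 0).card := by
      refine Finset.card_le_card fun x hx => ?_
      obtain ⟨⟨p, i⟩, -, rfl⟩ := Finset.mem_image.1 hx
      refine Finset.mem_filter.2 ⟨Finset.mem_univ _, ?_⟩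
      simp only [g]
      split_ifs with h1 h2 h3
      · exact h2
      · intro h0
        have := hd p q₁ q₂
        rw [not_not.1 h2, h0, sub_self] at this
        exact hne (sub_eq_zero.1 this.symm)
      · exact h3
      · intro h0
        have := hd p q₃ q₄
        rw [not_not.1 h3, h0, sub_self] at this
        exact h' (sub_eq_zero.1 this.symm)
    rw [Finset.card_image_of_injective _ hg, Finset.card_univ, Fintype.card_prod, hm,
      Fintype.card_fin] at hle
    omega
  -- all but one column agree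
  have hQ : ∀ s : Finset Q, s.card < 5 → ∃ q, q ∉ s := fun s hs => by
    by_contra h
    push Not at h
    have : Fintype.card Q ≤ s.card := Finset.card_le_card (s := Finset.univ) fun x _ => h x
    omega
  obtain ⟨q₀, C, hC⟩ : ∃ q₀ C, ∀ q, q ≠ q₀ → c q = C := by
    obtain ⟨q₅, -⟩ := hQ ∅ (by simp)
    by_cases hall : ∀ q, c q = c q₅
    · exact ⟨q₅, c q₅, fun q _ => hall q⟩
    push Not at hall
    obtain ⟨q₁, hq₁⟩ := hall
    have h15 : q₁ ≠ q₅ := fun h => hq₁ (by rw [h])
    obtain ⟨q₃, hq₃⟩ := hQ {q₁, q₅} (lt_of_le_of_lt Finset.card_le_two (by norm_num))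
    simp only [Finset.mem_insert, Finset.mem_singleton, not_or] at hq₃
    have hoth : ∀ q, q ≠ q₁ → q ≠ q₅ → c q = c q₃ := fun q h1 h5 => by
      rcases eq_or_ne q q₃ with rfl | h3
      · rfl
      · exact hpair q₁ q₅ q q₃ h15 h3 (Ne.symm h1) (Ne.symm hq₃.1) (Ne.symm h5) (Ne.symm hq₃.2) hq₁
    obtain ⟨q₄, hq₄⟩ := hQ {q₁, q₅, q₃} (lt_of_le_of_lt Finset.card_le_three (by norm_num))
    simp only [Finset.mem_insert, Finset.mem_singleton, not_or] at hq₄
    by_cases h : c q₁ = c q₃
    · refine ⟨q₅, c q₃, fun q hq => ?_⟩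
      rcases eq_or_ne q q₁ with rfl | h1
      · exact h
      · exact hoth q h1 hq
    · refine ⟨q₁, c q₃, fun q hq => ?_⟩
      rcases eq_or_ne q q₅ with rfl | h5
      · exact (hpair q₁ q₃ q q₄ (Ne.symm hq₃.1) (Ne.symm hq₄.2.1) h15 (Ne.symm hq₄.1) hq₃.2
          (Ne.symm hq₄.2.2) h).trans (hoth q₄ hq₄.1 hq₄.2.1)
      · exact hoth q hq h5
  obtain ⟨q₆, hq₆⟩ := hQ {q₀} (by simp)
  rw [Finset.mem_singleton] at hq₆
  have hoff : ∀ p q, q ≠ q₀ → A p q = A p q₆ := fun p q hq => by
    rw [← sub_eq_zero, hd, hC q hq, hC q₆ hq₆, sub_self]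
  by_cases hz : ∀ p, A p q₆ = 0
  · right; left
    refine ⟨q₀, c q₀, fun p q => ?_⟩
    split_ifs with h
    · subst h
      have h1 := hd p q q₆
      have h2 : c q₆ = 0 := hz p₁
      rwa [hz p, h2, sub_zero, sub_zero] at h1
    · rw [hoff p q h, hz p]
  push Not at hz
  obtain ⟨p₀, hp₀⟩ := hz
  have hone : ∀ p, p ≠ p₀ → A p q₆ = 0 := by
    intro p hp
    by_contra h
    have hle : (({p₀, p} : Finset P) ×ˢ (Finset.univ.erase q₀)).card ≤
        (Finset.univ.filter fun x : P × Q => A x.1 x.2 ≠ 0).card := by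
      refine Finset.card_le_card fun x hx => ?_
      simp only [Finset.mem_product, Finset.mem_insert, Finset.mem_singleton, Finset.mem_erase,
        Finset.mem_univ, and_true] at hx
      refine Finset.mem_filter.2 ⟨Finset.mem_univ _, ?_⟩
      rw [hoff _ _ hx.2]
      rcases hx.1 with e | e <;> rw [e]
      exacts [hp₀, h]
    rw [Finset.card_product, Finset.card_pair (Ne.symm hp), Finset.card_erase_of_mem
      (Finset.mem_univ _), Finset.card_univ, hn] at hle
    omega
  have hcol : c q₀ = C := by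
    by_contra h
    have hle : ((Finset.univ.erase q₀).image (fun q => (p₀, q)) ∪
        (Finset.univ.erase p₀).image (fun p => (p, q₀))).card ≤
        (Finset.univ.filter fun x : P × Q => A x.1 x.2 ≠ 0).card := by
      refine Finset.card_le_card fun x hx => ?_
      refine Finset.mem_filter.2 ⟨Finset.mem_univ _, ?_⟩
      rcases Finset.mem_union.1 hx with hx | hx <;> obtain ⟨y, hy, rfl⟩ := Finset.mem_image.1 hx
      · rw [hoff _ _ (Finset.ne_of_mem_erase hy)]; exact hp₀
      · intro h0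
        have h1 := hd y q₀ q₆
        rw [h0, hone y (Finset.ne_of_mem_erase hy), sub_self, hC q₆ hq₆] at h1
        exact h (sub_eq_zero.1 h1.symm)
    rw [Finset.card_union_of_disjoint, Finset.card_image_of_injective _ fun a b e => by simpa using e,
      Finset.card_image_of_injective _ fun a b e => by simpa using e, Finset.card_erase_of_mem
      (Finset.mem_univ _), Finset.card_erase_of_mem (Finset.mem_univ _), Finset.card_univ,
      Finset.card_univ, hm, hn] at hle
    · omega
    · rw [Finset.disjoint_left]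
      intro x hx hx'
      obtain ⟨q, hq, rfl⟩ := Finset.mem_image.1 hx
      obtain ⟨p, hp, e⟩ := Finset.mem_image.1 hx'
      exact Finset.ne_of_mem_erase hp (congrArg Prod.fst e)
  have hconst : ∀ p q, A p q = A p q₆ := fun p q => by
    rcases eq_or_ne q q₀ with rfl | h
    · rw [← sub_eq_zero, hd, hcol, hC q₆ hq₆, sub_self]
    · exact hoff p q h
  right; right
  refine ⟨p₀, A p₀ q₆, fun p q => ?_⟩
  split_ifs with h
  · rw [hconst, h]
  · rw [hconst, hone p h]

end CfsgLib.CharsMore
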