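import Cfsg.Agent.Lib.CharsMore.CyclicTIExists
import Cfsg.Agent.Lib.CharApps.Galois

/-!
# Uniqueness of the cyclic TI family and its Galois behaviour
-/

set_option linter.unusedSectionVars false
set_option linter.style.haveILetI false

namespace CfsgLib.CharsMore

open Cfsg
open scoped ComplexConjugate

variable {G : Type*} [Group G] [Fintype G] {W₁ W₂ : Subgroup G}

lemma signed_irr_inner {u v : G → ℂ} (hu : IsIrrCharacter G u ∨ IsIrrCharacter G (-u))
    (hv : IsIrrCharacter G v ∨ IsIrrCharacter G (-v)) :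
    (classInner u v = 1 ∧ u = v) ∨ (classInner u v = -1 ∧ u = -v) ∨ classInner u v = 0 := by
  classical
  rcases hu with hu | hu <;> rcases hv with hv | hv
  · rcases eq_or_ne u v with rfl | h
    · exact Or.inl ⟨Chars.inner_irr_self ⟨u, hu⟩, rfl⟩
    · exact Or.inr (Or.inr (by rw [Chars.inner_irr_of_isIrr hu hv, if_neg h]))
  · rcases eq_or_ne u (-v) with rfl | h
    · refine Or.inr (Or.inl ⟨?_, rfl⟩)
      rw [Chars.inner_neg_left]
      have := Chars.inner_irr_self ⟨-v, hu⟩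
      simp only [Chars.inner_neg_left, Chars.inner_neg_right, neg_neg] at this
      rw [this]
    · refine Or.inr (Or.inr ?_)
      have h' := Chars.inner_irr_of_isIrr hu hv
      rw [if_neg h, Chars.inner_neg_right, neg_eq_zero] at h'
      exact h'
  · rcases eq_or_ne (-u) v with rfl | h
    · refine Or.inr (Or.inl ⟨?_, (neg_neg u).symm⟩)
      rw [Chars.inner_neg_right]
      have := Chars.inner_irr_self ⟨-u, hu⟩
      simp only [Chars.inner_neg_left, Chars.inner_neg_right, neg_neg] at this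
      rw [this]
    · refine Or.inr (Or.inr ?_)
      have h' := Chars.inner_irr_of_isIrr hu hv
      rw [if_neg h, Chars.inner_neg_left, neg_eq_zero] at h'
      exact h'
  · rcases eq_or_ne u v with rfl | h
    · refine Or.inl ⟨?_, rfl⟩
      have := Chars.inner_irr_self ⟨-u, hu⟩
      simpa only [Chars.inner_neg_left, Chars.inner_neg_right, neg_neg] using this
    · refine Or.inr (Or.inr ?_)
      have h' := Chars.inner_irr_of_isIrr hu hv
      rw [if_neg (fun e => h (neg_injective e)), Chars.inner_neg_left, Chars.inner_neg_right,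
        neg_neg] at h'
      exact h'

/-- The abstract step: the common constituent of the differences. -/
lemma common_eq {ι : Type*} {χ χ' : ι → (G → ℂ)} (hχ : ∀ a, IsIrrCharacter G (χ a) ∨ IsIrrCharacter G (-χ a))
    (hχ' : ∀ a, IsIrrCharacter G (χ' a) ∨ IsIrrCharacter G (-χ' a))
    (ho : ∀ a b, a ≠ b → classInner (χ a) (χ b) = 0) (ho' : ∀ a b, a ≠ b → classInner (χ' a) (χ' b) = 0)
    {x y y' z z' : ι} (h1 : x ≠ y) (h2 : x ≠ z) (h3 : x ≠ y') (h4 : x ≠ z') (h5 : y ≠ y')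
    (h6 : y ≠ z') (h7 : z ≠ y') (h8 : z ≠ z')
    (e : -χ' x - χ' y + χ' z = -χ x - χ y + χ z)
    (e' : -χ' x - χ' y' + χ' z' = -χ x - χ y' + χ z') : χ' x = χ x := by
  have key : ∀ u v : ι, x ≠ u → x ≠ v → -χ' x - χ' u + χ' v = -χ x - χ u + χ v →
      -classInner (χ x) (χ' x) - classInner (χ u) (χ' x) + classInner (χ v) (χ' x) = -1 := by
    intro u v hu hv h
    have := congrArg (fun f => classInner f (χ' x)) h
    simp only [Chars.inner_add_left, Chars.inner_sub_left, Chars.inner_neg_left,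
      ho' u x hu.symm, ho' v x hv.symm] at this
    rcases signed_irr_inner (hχ' x) (hχ' x) with ⟨h0, -⟩ | ⟨-, h0⟩ | h0
    · rw [h0, sub_zero, add_zero] at this; exact this.symm
    · rw [eq_comm, neg_eq_self] at h0
      have h' := hχ' x
      rw [h0, neg_zero, or_self] at h'
      exact absurd rfl (Chars.irr_degree_ne_zero h')
    · rw [Chars.inner_self_eq_zero_iff] at h0
      have h' := hχ' x
      rw [h0, neg_zero, or_self] at h'
      exact absurd rfl (Chars.irr_degree_ne_zero h')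
  have hat : ∀ a b, a ≠ b → classInner (χ a) (χ' x) ≠ 0 → classInner (χ b) (χ' x) = 0 := by
    intro a b hab ha
    have hz : ∀ c, classInner (χ c) (χ' x) ≠ 0 → χ' x = χ c ∨ χ' x = -χ c := fun c hc => by
      rcases signed_irr_inner (hχ c) (hχ' x) with ⟨-, h⟩ | ⟨-, h⟩ | h
      · exact Or.inl h.symm
      · exact Or.inr (by rw [h, neg_neg])
      · exact absurd h hc
    rcases hz a ha with h | h <;> rw [h]
    · exact ho b a hab.symm
    · rw [Chars.inner_neg_right, ho b a hab.symm, neg_zero]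
  have k1 := key y z h1 h2 e
  have k2 := key y' z' h3 h4 e'
  have hx : classInner (χ x) (χ' x) ≠ 0 := by
    intro h0
    rw [h0] at k1 k2
    by_cases hy : classInner (χ y) (χ' x) = 0
    · by_cases hz : classInner (χ z) (χ' x) = 0
      · rw [hy, hz] at k1; norm_num at k1
      · rw [hat z y' h7 hz, hat z z' h8 hz] at k2; norm_num at k2
    · rw [hat y y' h5 hy, hat y z' h6 hy] at k2; norm_num at k2
  rw [hat x y h1 hx, hat x z h2 hx, sub_zero, add_zero, neg_inj] at k1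
  rcases signed_irr_inner (hχ x) (hχ' x) with ⟨-, h⟩ | ⟨h, -⟩ | h
  · exact h.symm
  · rw [k1] at h; norm_num at h
  · exact absurd h hx

/-- The cyclic TI family is unique. -/
theorem cyclicTI_unique (hW : IsSelfNormalizingCyclic W₁ W₂) (hodd : Odd (Nat.card ↥(W₁ ⊔ W₂)))
    {χ χ' : (↥(W₁ ⊔ W₂) →* ℂˣ) → (G → ℂ)} (h : IsCyclicTIFamily W₁ W₂ χ)
    (h' : IsCyclicTIFamily W₁ W₂ χ') : χ = χ' := by
  classical
  set K₁ := W₁.subgroupOf (W₁ ⊔ W₂)
  set K₂ := W₂.subgroupOf (W₁ ⊔ W₂)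
  obtain ⟨hc1, hc2⟩ := card_trivOn_sup hW
  have htwo : ∀ (K : Subgroup ↥(W₁ ⊔ W₂)), 2 < Nat.card (trivOn K) → ∀ a : trivOn K,
      ∃ b : trivOn K, b ≠ 1 ∧ b ≠ a := by
    intro K hK a
    let _ : Fintype (trivOn K) := Fintype.ofFinite _
    by_contra hc
    push Not at hc
    have : Fintype.card (trivOn K) ≤ ({1, a} : Finset (trivOn K)).card := by
      refine Finset.card_le_card (s := Finset.univ) fun x _ => ?_
      by_cases hx : x = 1
      · simp [hx]
      · simp [hc x hx]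
    have := Finset.card_le_two (a := (1 : trivOn K)) (b := a)
    rw [Nat.card_eq_fintype_card] at hK
    omega
  have hbig : 2 < Nat.card (trivOn K₂) ∧ 2 < Nat.card (trivOn K₁) := by
    obtain ⟨k, hk⟩ : Odd (Nat.card W₁) := hodd.of_dvd_nat (Subgroup.card_dvd_of_le le_sup_left)
    obtain ⟨l, hl⟩ : Odd (Nat.card W₂) := hodd.of_dvd_nat (Subgroup.card_dvd_of_le le_sup_right)
    have h1 : 1 < Nat.card W₁ := W₁.one_lt_card_iff_ne_bot.2 hW.1
    have h2 : 1 < Nat.card W₂ := W₂.one_lt_card_iff_ne_bot.2 hW.2.1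
    exact ⟨lt_of_lt_of_eq (by omega) hc1.symm, lt_of_lt_of_eq (by omega) hc2.symm⟩
  have heq : ∀ (φ : trivOn K₂) (ψ : trivOn K₁), φ ≠ 1 → ψ ≠ 1 →
      -χ' φ.1 - χ' ψ.1 + χ' (φ.1 * ψ.1) = -χ φ.1 - χ ψ.1 + χ (φ.1 * ψ.1) := by
    intro φ ψ hφ hψ
    have e := h.induced_eq φ.1 ψ.1 (fun e => hφ (Subtype.ext e)) (fun e => hψ (Subtype.ext e)) φ.2 ψ.2
    rw [h'.induced_eq φ.1 ψ.1 (fun e => hφ (Subtype.ext e)) (fun e => hψ (Subtype.ext e)) φ.2 ψ.2] at e
    funext g
    have := congrFun e g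
    simp only [Pi.add_apply, Pi.sub_apply, Pi.neg_apply]
    linear_combination this
  have ho : ∀ a b, a ≠ b → classInner (χ a) (χ b) = 0 := fun a b hne => by
    rw [h.orthonormal, if_neg hne]
  have ho' : ∀ a b, a ≠ b → classInner (χ' a) (χ' b) = 0 := fun a b hne => by
    rw [h'.orthonormal, if_neg hne]
  have hne : ∀ (φ φ' : trivOn K₂) (ψ ψ' : trivOn K₁), (φ, ψ) ≠ (φ', ψ') →
      φ.1 * ψ.1 ≠ φ'.1 * ψ'.1 := fun φ φ' ψ ψ' hne e => by
    obtain ⟨a, b⟩ := mul_eq_mul_factors φ.2 φ'.2 ψ.2 ψ'.2 e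
    exact hne (Prod.ext (Subtype.ext a) (Subtype.ext b))
  have hφ : ∀ φ : trivOn K₂, χ' φ.1 = χ φ.1 := by
    intro φ
    by_cases hφ : φ = 1
    · subst hφ; rw [OneMemClass.coe_one, h.map_one, h'.map_one]
    obtain ⟨ψ, hψ, -⟩ := htwo K₁ hbig.2 1
    obtain ⟨ψ', hψ', hψψ⟩ := htwo K₁ hbig.2 ψ
    have a := hne φ 1 1 ψ
    have b := hne φ φ 1 ψ
    have c := hne φ 1 1 ψ'
    have d := hne φ φ 1 ψ'
    have e := hne 1 1 ψ ψ'
    have f := hne 1 φ ψ ψ'
    have g := hne φ 1 ψ ψ'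
    have i := hne φ φ ψ ψ'
    simp only [OneMemClass.coe_one, one_mul, mul_one, ne_eq, Prod.mk.injEq] at a b c d e f g i
    exact common_eq h.irr_or_neg h'.irr_or_neg ho ho' (a (fun x => hφ x.1)) (b (fun x => hψ x.2.symm))
      (c (fun x => hφ x.1)) (d (fun x => hψ' x.2.symm)) (e (fun x => hψψ x.2.symm))
      (f (fun x => hφ x.1.symm)) (g (fun x => hφ x.1)) (i (fun x => hψψ x.2.symm))
      (heq φ ψ hφ hψ) (heq φ ψ' hφ hψ')
  have hψ : ∀ ψ : trivOn K₁, χ' ψ.1 = χ ψ.1 := by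
    intro ψ
    by_cases hψ : ψ = 1
    · subst hψ; rw [OneMemClass.coe_one, h.map_one, h'.map_one]
    obtain ⟨φ, hφ, -⟩ := htwo K₂ hbig.1 1
    obtain ⟨φ', hφ', hφφ⟩ := htwo K₂ hbig.1 φ
    have a := hne 1 φ ψ 1
    have b := hne 1 φ ψ ψ
    have c := hne 1 φ' ψ 1
    have d := hne 1 φ' ψ ψ
    have e := hne φ φ' 1 1
    have f := hne φ φ' 1 ψ
    have g := hne φ φ' ψ 1
    have i := hne φ φ' ψ ψ
    simp only [OneMemClass.coe_one, one_mul, mul_one, ne_eq, Prod.mk.injEq] at a b c d e f g i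
    have e1 := heq φ ψ hφ hψ
    have e2 := heq φ' ψ hφ' hψ
    refine common_eq h.irr_or_neg h'.irr_or_neg ho ho' (y := φ.1) (y' := φ'.1)
      (z := φ.1 * ψ.1) (z' := φ'.1 * ψ.1) (a (fun x => hψ x.2)) (b (fun x => hφ x.1.symm))
      (c (fun x => hψ x.2)) (d (fun x => hφ' x.1.symm)) (e (fun x => hφφ x.1.symm))
      (f (fun x => hψ x.2.symm)) (g (fun x => hψ x.2)) (i (fun x => hφφ x.1.symm)) ?_ ?_
    · rw [sub_eq_add_neg, add_comm (-χ' ψ.1), ← sub_eq_add_neg,
        sub_eq_add_neg (-χ ψ.1), add_comm (-χ ψ.1), ← sub_eq_add_neg]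
      exact e1
    · rw [sub_eq_add_neg, add_comm (-χ' ψ.1), ← sub_eq_add_neg,
        sub_eq_add_neg (-χ ψ.1), add_comm (-χ ψ.1), ← sub_eq_add_neg]
      exact e2
  obtain ⟨p₁, p₂, hp1, hp2, hp, hpf1, hpf2⟩ := exists_proj_sup hW.2.2.1 hW.2.2.2.1
  funext ω
  let φ : trivOn K₂ := ⟨ω.comp p₁, fun x hx => by show ω (p₁ x) = 1; rw [(hpf2 x hx).1, map_one]⟩
  let ψ : trivOn K₁ := ⟨ω.comp p₂, fun x hx => by show ω (p₂ x) = 1; rw [(hpf1 x hx).2, map_one]⟩
  have hω : φ.1 * ψ.1 = ω := MonoidHom.ext fun w => by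
    show ω (p₁ w) * ω (p₂ w) = ω w
    rw [← map_mul, hp]
  rw [← hω]
  by_cases a : φ = 1
  · rw [a, OneMemClass.coe_one,
      show (1 : ↥(W₁ ⊔ W₂) →* ℂˣ) * ψ.1 = ψ.1 from MonoidHom.ext fun w => one_mul _, hψ ψ]
  by_cases b : ψ = 1
  · rw [b, OneMemClass.coe_one,
      show φ.1 * (1 : ↥(W₁ ⊔ W₂) →* ℂˣ) = φ.1 from MonoidHom.ext fun w => mul_one _, hφ φ]
  have e := heq φ ψ a b
  rw [hφ φ, hψ ψ] at e
  exact (add_left_cancel e).symm

/-- A Galois automorphism fixing the values of `ω` fixes `χ ω`. -/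
theorem cyclicTI_galois (hW : IsSelfNormalizingCyclic W₁ W₂) (hodd : Odd (Nat.card ↥(W₁ ⊔ W₂)))
    {χ : (↥(W₁ ⊔ W₂) →* ℂˣ) → (G → ℂ)} (h : IsCyclicTIFamily W₁ W₂ χ) (σ : ℂ ≃+* ℂ)
    {ω : ↥(W₁ ⊔ W₂) →* ℂˣ} (hω : ∀ w, σ (ω w : ℂ) = (ω w : ℂ)) (g : G) :
    σ (χ ω g) = χ ω g := by
  classical
  let s : ℂˣ →* ℂˣ := Units.map σ.symm.toRingHom.toMonoidHom
  have hsv : ∀ u : ℂˣ, σ (s u : ℂ) = (u : ℂ) := fun u => σ.apply_symm_apply _
  have hsi : Function.Injective s := fun u v huv => Units.ext (by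
    have := congrArg (fun z : ℂˣ => σ (z : ℂ)) huv
    simpa [hsv] using this)
  let t : (↥(W₁ ⊔ W₂) →* ℂˣ) → (↥(W₁ ⊔ W₂) →* ℂˣ) := fun a => s.comp a
  have ht : Function.Injective t := fun a b hab =>
    MonoidHom.ext fun w => hsi (DFunLike.congr_fun hab w)
  let χ' : (↥(W₁ ⊔ W₂) →* ℂˣ) → (G → ℂ) := fun a x => σ (χ (t a) x)
  have hirr : ∀ {f : G → ℂ}, IsIrrCharacter G f → IsIrrCharacter G (fun x => σ (f x)) := fun hf =>
    CharApps.isIrr_galois ⟨_, hf⟩ σ
  have hsig : ∀ a, IsIrrCharacter G (χ' a) ∨ IsIrrCharacter G (-χ' a) := fun a => by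
    rcases h.irr_or_neg (t a) with hh | hh
    · exact Or.inl (hirr hh)
    · exact Or.inr (by convert hirr hh using 1; funext x; simp [χ'])
  have h1 : t 1 = 1 := MonoidHom.ext fun w => map_one s
  have htm : ∀ a b, t (a * b) = t a * t b := fun a b => MonoidHom.ext fun w => map_mul s _ _
  have h' : IsCyclicTIFamily W₁ W₂ χ' := by
    refine ⟨hsig, fun a b => ?_, ?_, fun a w hw1 hw2 => ?_, fun φ ψ hφ hψ hφ2 hψ1 => ?_⟩
    · have e : classInner (χ' a) (χ' b) = σ (classInner (χ (t a)) (χ (t b))) := by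
        have hinv : ∀ (f : G → ℂ), (IsIrrCharacter G f ∨ IsIrrCharacter G (-f)) →
            ∀ x, conj (f x) = f x⁻¹ := by
          rintro f (hf | hf) x
          · exact (Chars.char_inv (Chars.isCharacter_of_irr hf) x).symm
          · have := Chars.char_inv (Chars.isCharacter_of_irr hf) x
            simp only [Pi.neg_apply, map_neg, neg_inj] at this
            exact this.symm
        simp only [Chars.inner_def, hinv _ (hsig b), hinv _ (h.irr_or_neg (t b)), map_mul, map_inv₀,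
          map_natCast, map_sum]
        rfl
      rw [e, h.orthonormal]
      rcases eq_or_ne a b with rfl | hne
      · simp
      · rw [if_neg (ht.ne hne), if_neg hne, map_zero]
    · funext x; simp [χ', h1, h.map_one]
    · show σ (χ (t a) w) = _
      rw [h.eq_on (t a) w hw1 hw2]
      exact hsv _
    · have hne : ∀ a, a ≠ 1 → t a ≠ 1 := fun a ha e => ha (ht (e.trans h1.symm))
      have e := h.induced_eq (t φ) (t ψ) (hne φ hφ) (hne ψ hψ)
        (fun w hw => by show s (φ w) = 1; rw [hφ2 w hw, map_one])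
        (fun w hw => by show s (ψ w) = 1; rw [hψ1 w hw, map_one])
      funext x
      have ex := congrArg σ (congrFun e x)
      simp only [map_sub, map_add, map_one] at ex
      simp only [χ', htm]
      rw [← ex]
      simp only [indFun, map_mul, map_inv₀, map_natCast, map_sum]
      congr 1
      refine Finset.sum_congr rfl fun y _ => ?_
      by_cases hy : y⁻¹ * x * y ∈ W₁ ⊔ W₂
      · rw [Chars.extendByZero_of_mem _ _ hy, Chars.extendByZero_of_mem _ _ hy]
        simp only [map_add, map_sub, map_mul, map_one]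
        rw [show σ (t φ ⟨_, hy⟩ : ℂ) = _ from hsv _, show σ (t ψ ⟨_, hy⟩ : ℂ) = _ from hsv _]
      · rw [Chars.extendByZero_of_not_mem _ _ hy, Chars.extendByZero_of_not_mem _ _ hy, map_zero]
  have hu := cyclicTI_unique hW hodd h h'
  have hfix : t ω = ω := MonoidHom.ext fun w => Units.ext (by
    show σ.symm (ω w : ℂ) = _
    rw [RingEquiv.symm_apply_eq, hω])
  conv_rhs => rw [hu]
  show σ (χ ω g) = σ (χ (t ω) g)
  rw [hfix]

/-- Integrality of values. -/
theorem cyclicTI_integral (hW : IsSelfNormalizingCyclic W₁ W₂) (hodd : Odd (Nat.card ↥(W₁ ⊔ W₂)))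
    {χ : (↥(W₁ ⊔ W₂) →* ℂˣ) → (G → ℂ)} (h : IsCyclicTIFamily W₁ W₂ χ)
    (ω : ↥(W₁ ⊔ W₂) →* ℂˣ) (g : G) (hg : Nat.Coprime (orderOf g) (orderOf ω)) :
    ∃ n : ℤ, χ ω g = n := by
  obtain ⟨ε, hε, hirr⟩ : ∃ ε : ℂ, (ε = 1 ∨ ε = -1) ∧ IsIrrCharacter G (ε • χ ω) := by
    rcases h.irr_or_neg ω with hh | hh
    · exact ⟨1, Or.inl rfl, by simpa using hh⟩
    · exact ⟨-1, Or.inr rfl, by simpa using hh⟩
  have hεε : ε * ε = 1 := by rcases hε with rfl | rfl <;> simp
  have hσε : ∀ σ : ℂ ≃+* ℂ, σ ε = ε := fun σ => by rcases hε with rfl | rfl <;> simp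
  set N := orderOf g
  have hN : 0 < N := orderOf_pos g
  haveI : NeZero N := ⟨hN.ne'⟩
  set M := orderOf ω
  have hMfin : IsOfFinOrder ω :=
    isOfFinOrder_iff_pow_eq_one.2 ⟨Nat.card ↥(W₁ ⊔ W₂), Nat.card_pos, MonoidHom.ext fun w => by
      rw [MonoidHom.pow_apply, ← map_pow, pow_card_eq_one', map_one, MonoidHom.one_apply]⟩
  haveI : NeZero (N * M) := ⟨Nat.mul_ne_zero hN.ne' hMfin.orderOf_pos.ne'⟩
  have hc := Chars.isCharacter_of_irr hirr
  have hmem := CharApps.char_mem_cyclo hc g (pow_orderOf_eq_one g)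
  obtain ⟨m, hm⟩ := CharApps.exists_int_of_rat (Chars.char_isIntegral hc g)
    (CharApps.exists_rat_of_fixed hmem fun k σ hk hσ => by
      obtain ⟨j, hj1, hj2⟩ := Nat.chineseRemainder hg k 1
      have hjc : j.Coprime (N * M) := by
        refine Nat.Coprime.mul_right ?_ ?_
        · rw [Nat.Coprime, Nat.ModEq.gcd_eq hj1]; exact hk
        · rw [Nat.Coprime, Nat.ModEq.gcd_eq hj2]; exact Nat.gcd_one_left M
      obtain ⟨σ', hσ'⟩ := CharApps.exists_galois_pow (N * M) hjc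
      have hfix : ∀ w, σ' (ω w : ℂ) = (ω w : ℂ) := fun w => by
        have hM : (ω w : ℂ) ^ M = 1 := by
          have := DFunLike.congr_fun (pow_orderOf_eq_one ω) w
          rw [MonoidHom.pow_apply, MonoidHom.one_apply] at this
          simpa using congrArg Units.val this
        rw [hσ' _ (by rw [mul_comm, pow_mul, hM, one_pow])]
        rw [pow_eq_pow_mod j hM, hj2, ← pow_eq_pow_mod 1 hM, pow_one]
      have e1 : σ ((ε • χ ω) g) = (ε • χ ω) (g ^ k) :=
        CharApps.galois_apply σ hσ hc g (pow_orderOf_eq_one g)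
      have e2 : σ' ((ε • χ ω) g) = (ε • χ ω) (g ^ j) :=
        CharApps.galois_apply σ' hσ' hc g
          (by rw [pow_mul, pow_orderOf_eq_one, one_pow])
      have e3 : g ^ k = g ^ j := pow_eq_pow_iff_modEq.2 hj1.symm
      rw [e1, e3, ← e2, Pi.smul_apply, smul_eq_mul, map_mul, hσε, cyclicTI_galois hW hodd h σ' hfix g])
  rw [Pi.smul_apply, smul_eq_mul] at hm
  rcases hε with rfl | rfl
  · exact ⟨m, by rw [hm, one_mul]⟩
  · exact ⟨-m, by push_cast; rw [hm]; ring⟩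

end CfsgLib.CharsMore
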