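import Mathlib
import Cfsg.Prelude.Def_OddOrderChar

/-!
# Elementary consequences of the Dade set-up
-/

namespace CfsgLib.CharsMore

open Cfsg
open scoped Pointwise

variable {G : Type*} [Group G]

lemma dade_mem_centralizer {A : Set G} {L : Subgroup G} {H : G → Subgroup G}
    (hD : DadeHypothesis A L H) {a : G} (ha : a ∈ A) :
    a ∈ L ⊓ Subgroup.centralizer ({a} : Set G) :=
  ⟨hD.subset ha, Subgroup.mem_centralizer_singleton_iff.2 rfl⟩

/-- An element of `C(a)` of order prime to `|C_L(a)|` lies in `H a`. -/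
lemma dade_mem_H {A : Set G} {L : Subgroup G} {H : G → Subgroup G} (hD : DadeHypothesis A L H)
    [Finite G] {a : G} (ha : a ∈ A) {u : G} (hu : u ∈ Subgroup.centralizer ({a} : Set G)) {n : ℕ}
    (hn : Nat.Coprime n (Nat.card ↥(L ⊓ Subgroup.centralizer ({a} : Set G)))) (hun : u ^ n = 1) :
    u ∈ H a := by
  set C := Subgroup.centralizer ({a} : Set G)
  set K := L ⊓ C
  have hnorm : K ≤ Subgroup.normalizer (H a : Set G) := by
    intro c hc
    rw [Subgroup.mem_normalizer_iff]
    intro v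
    refine ⟨hD.conj_mem_H a ha c hc.2 v, fun hv => ?_⟩
    have := hD.conj_mem_H a ha c⁻¹ (C.inv_mem hc.2) _ hv
    simpa [mul_assoc] using this
  have hu' : u ∈ H a ⊔ K := by rw [hD.sup_eq a ha]; exact hu
  have hmul : u ∈ ((H a : Set G) * (K : Set G)) := by
    rw [← Subgroup.coe_mul_of_right_le_normalizer_left (H a) K hnorm]
    exact hu'
  obtain ⟨h, hh, k, hk, rfl⟩ := Set.mem_mul.1 hmul
  have key : ∀ m : ℕ, ∃ h' ∈ H a, (h * k) ^ m = h' * k ^ m := by
    intro m
    induction m with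
    | zero => exact ⟨1, (H a).one_mem, by simp⟩
    | succ m ih =>
      obtain ⟨h', hh', e⟩ := ih
      refine ⟨h' * (k ^ m * h * (k ^ m)⁻¹),
        (H a).mul_mem hh' (hD.conj_mem_H a ha _ (C.pow_mem hk.2 m) h hh), ?_⟩
      rw [pow_succ, e, pow_succ]
      group
  obtain ⟨h', hh', e⟩ := key n
  rw [hun] at e
  have hkn : k ^ n ∈ H a ⊓ K := by
    refine ⟨?_, K.pow_mem hk n⟩
    have : k ^ n = h'⁻¹ := eq_inv_of_mul_eq_one_right e.symm
    rw [this]
    exact (H a).inv_mem hh'
  rw [hD.inf_eq_bot a ha, Subgroup.mem_bot] at hkn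
  have hk1 : k = 1 := by
    rw [← orderOf_eq_one_iff]
    exact Nat.eq_one_of_dvd_coprimes hn (orderOf_dvd_of_pow_eq_one hkn)
      (Subgroup.orderOf_dvd_natCard _ hk)
  simpa [hk1] using hh

/-- `a` is the part of `a * u` of order prime to `|H a|`, simultaneously for two elements of `A`. -/
lemma dade_exists_pow {A : Set G} {L : Subgroup G} {H : G → Subgroup G} (hD : DadeHypothesis A L H)
    [Finite G] {a b : G} (ha : a ∈ A) (hb : b ∈ A) :
    ∃ k : ℕ, (∀ u ∈ H a, (a * u) ^ k = a) ∧ (∀ v ∈ H b, (b * v) ^ k = b) := by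
  have hoa := Subgroup.orderOf_dvd_natCard _ (dade_mem_centralizer hD ha)
  have hob := Subgroup.orderOf_dvd_natCard _ (dade_mem_centralizer hD hb)
  have hcop : Nat.Coprime (orderOf a * orderOf b) (Nat.card (H a) * Nat.card (H b)) := by
    refine Nat.Coprime.mul_left (Nat.Coprime.mul_right ?_ ?_) (Nat.Coprime.mul_right ?_ ?_)
    · exact ((hD.coprime a ha a ha).symm).coprime_dvd_left hoa
    · exact ((hD.coprime b hb a ha).symm).coprime_dvd_left hoa
    · exact ((hD.coprime a ha b hb).symm).coprime_dvd_left hob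
    · exact ((hD.coprime b hb b hb).symm).coprime_dvd_left hob
  obtain ⟨k, hk1, hk0⟩ := Nat.chineseRemainder hcop 1 0
  rw [Nat.modEq_zero_iff_dvd] at hk0
  have aux : ∀ {c : G}, c ∈ A → orderOf c ∣ orderOf a * orderOf b →
      Nat.card (H c) ∣ Nat.card (H a) * Nat.card (H b) → ∀ u ∈ H c, (c * u) ^ k = c := by
    intro c hc hoc hHc u hu
    have hcomm : Commute c u :=
      (Subgroup.mem_centralizer_singleton_iff.1 (hD.le_centralizer c hc hu)).symm
    have h1 : u ^ k = 1 := orderOf_dvd_iff_pow_eq_one.1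
      (((Subgroup.orderOf_dvd_natCard _ hu).trans hHc).trans hk0)
    have h2 : c ^ k = c := by
      conv_rhs => rw [← pow_one c]
      exact pow_eq_pow_iff_modEq.2 (Nat.ModEq.of_dvd hoc hk1)
    rw [hcomm.mul_pow, h1, h2, mul_one]
  exact ⟨k, aux ha (dvd_mul_right _ _) (dvd_mul_right _ _),
    aux hb (dvd_mul_left _ _) (dvd_mul_left _ _)⟩

end CfsgLib.CharsMore
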