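import Cfsg.Agent.Lib.CharsMore.DadeIsometry
import Cfsg.Agent.Lib.Chars.Induction
import Cfsg.Agent.S1496

/-!
# The Dade map sends generalized characters to generalized characters
-/

set_option linter.unusedSectionVars false
set_option linter.style.haveILetI false

namespace CfsgLib.CharsMore

open Cfsg
open scoped ComplexConjugate

variable {G : Type*} [Group G] {A : Set G} {L : Subgroup G} {H : G → Subgroup G}

/-- The intersection of the `H b`, `b ∈ B`. -/
def dHB (H : G → Subgroup G) (B : Finset G) : Subgroup G := ⨅ b ∈ B, H b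

/-- The stabiliser of `B` in `L`. -/
def dNB (L : Subgroup G) (B : Finset G) : Subgroup G := L ⊓ Subgroup.normalizer (↑B : Set G)

/-- Counting conjugates of `g` in `P y`. -/
noncomputable def dT (P : Subgroup G) (y g : G) : ℕ := Nat.card {x : G // x * g * x⁻¹ * y⁻¹ ∈ P}

lemma mem_dHB {B : Finset G} {u : G} : u ∈ dHB H B ↔ ∀ b ∈ B, u ∈ H b := by
  simp [dHB, Subgroup.mem_iInf]

lemma mem_dNB {B : Finset G} {l : G} :
    l ∈ dNB L B ↔ l ∈ L ∧ ∀ b, b ∈ B ↔ l * b * l⁻¹ ∈ B := by
  simp [dNB, Subgroup.mem_inf, Subgroup.mem_set_normalizer_iff]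

variable [Finite G]

/-- Elements of `L` move the intersections accordingly. -/
lemma dHB_conj (hD : DadeHypothesis A L H) {B B' : Finset G} (hB : (↑B : Set G) ⊆ A) {l : G}
    (hl : l ∈ L) (hBB : ∀ b ∈ B', l⁻¹ * b * l ∈ B) {u : G} (hu : u ∈ dHB H B) :
    l * u * l⁻¹ ∈ dHB H B' := by
  rw [mem_dHB] at hu ⊢
  intro b hb
  have h := dade_card_H_conj hD (hB (hBB b hb)) hl u (hu _ (hBB b hb))
  rwa [show l * (l⁻¹ * b * l) * l⁻¹ = b by group] at h

lemma dHB_norm (hD : DadeHypothesis A L H) {B : Finset G} (hB : (↑B : Set G) ⊆ A) {l : G}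
    (hl : l ∈ dNB L B) {u : G} (hu : u ∈ dHB H B) : l * u * l⁻¹ ∈ dHB H B := by
  obtain ⟨hlL, hlB⟩ := mem_dNB.1 hl
  refine dHB_conj hD hB hlL (fun b hb => (hlB _).2 ?_) hu
  rwa [show l * (l⁻¹ * b * l) * l⁻¹ = b by group]

lemma dHB_le_normalizer (hD : DadeHypothesis A L H) {B : Finset G} (hB : (↑B : Set G) ⊆ A) :
    dNB L B ≤ Subgroup.normalizer (dHB H B : Set G) := by
  intro l hl
  rw [Subgroup.mem_normalizer_iff]
  intro v
  refine ⟨dHB_norm hD hB hl, fun hv => ?_⟩
  have := dHB_norm hD hB (Subgroup.inv_mem _ hl) hv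
  simpa [mul_assoc] using this

lemma dHB_inter (hD : DadeHypothesis A L H) {B : Finset G} (hB : (↑B : Set G) ⊆ A)
    (hne : B.Nonempty) {u : G} (hu : u ∈ dHB H B) (huL : u ∈ L) : u = 1 := by
  obtain ⟨b, hb⟩ := hne
  have h : u ∈ H b ⊓ (L ⊓ Subgroup.centralizer ({b} : Set G)) :=
    ⟨mem_dHB.1 hu b hb, huL, hD.le_centralizer b (hB hb) (mem_dHB.1 hu b hb)⟩
  rwa [hD.inf_eq_bot b (hB hb), Subgroup.mem_bot] at h

/-- Conjugates in `P y` against conjugates in `C y`. -/
lemma dT_transfer (P C : Subgroup G) (y : G) (hy : y ∈ Subgroup.normalizer (P : Set G))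
    (hcop : Nat.Coprime (orderOf y) (Nat.card P))
    (hC : ∀ u, u ∈ C ↔ u ∈ P ∧ u * y = y * u) (g : G) :
    Nat.card P * dT C y g = Nat.card C * dT P y g := by
  classical
  have := Fintype.ofFinite G
  obtain ⟨k, hk1, hk0⟩ := Nat.chineseRemainder hcop 1 0
  rw [Nat.modEq_zero_iff_dvd] at hk0
  have hyk : y ^ k = y := by
    conv_rhs => rw [← pow_one y]
    exact pow_eq_pow_iff_modEq.2 hk1
  have hpart : ∀ c ∈ C, (c * y) ^ k = y := fun c hc => by
    obtain ⟨hcP, hcy⟩ := (hC c).1 hc
    rw [(show Commute c y from hcy).mul_pow, hyk,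
      orderOf_dvd_iff_pow_eq_one.1 ((Subgroup.orderOf_dvd_natCard _ hcP).trans hk0), one_mul]
  have hmove : ∀ p ∈ P, ∀ x : G, (p * x) * g * (p * x)⁻¹ * y⁻¹ ∈ C → x * g * x⁻¹ * y⁻¹ ∈ P := by
    intro p hp x hx
    have h := ((hC _).1 hx).1
    have e : x * g * x⁻¹ * y⁻¹ =
        p⁻¹ * ((p * x) * g * (p * x)⁻¹ * y⁻¹) * (y * p * y⁻¹) := by group
    rw [e]
    exact P.mul_mem (P.mul_mem (P.inv_mem hp) h) ((Subgroup.mem_normalizer_iff.1 hy p).1 hp)
  have h1 : ∀ p : P, (Finset.univ.filter fun x : G =>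
      ((p : G) * x) * g * ((p : G) * x)⁻¹ * y⁻¹ ∈ C).card = dT C y g := fun p => by
    rw [dT, ← Fintype.card_subtype, ← Nat.card_eq_fintype_card]
    exact Nat.card_congr ((Equiv.mulLeft (p : G)).subtypeEquiv fun x => Iff.rfl)
  have h2 : ∀ x : G, (Finset.univ.filter fun p : P =>
      ((p : G) * x) * g * ((p : G) * x)⁻¹ * y⁻¹ ∈ C).card =
      if x * g * x⁻¹ * y⁻¹ ∈ P then Nat.card C else 0 := by
    intro x
    split_ifs with hx
    · obtain ⟨p₀, hp₀, c₀, hc₀, hcomm, e⟩ :=
        Cfsg.Agent.S1496.result P y hy hcop _ hx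
      rw [inv_mul_cancel_right] at e
      have hc₀C : c₀ ∈ C := (hC c₀).2 ⟨hc₀, hcomm⟩
      have hz : x * g * x⁻¹ = p₀⁻¹ * (c₀ * y) * p₀ := by rw [← e]; group
      rw [← Fintype.card_subtype, ← Nat.card_eq_fintype_card]
      refine Nat.card_congr
        { toFun := fun p => ⟨(p.1 : G) * p₀⁻¹, ?_⟩
          invFun := fun c => ⟨⟨(c : G) * p₀, P.mul_mem ((hC _).1 c.2).1 hp₀⟩, ?_⟩
          left_inv := fun p => Subtype.ext (Subtype.ext (inv_mul_cancel_right _ _))
          right_inv := fun c => Subtype.ext (mul_inv_cancel_right _ _) }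
      · have hp := p.2
        set q := (p.1 : G) * p₀⁻¹ with hq
        set c := ((p.1 : G) * x) * g * ((p.1 : G) * x)⁻¹ * y⁻¹ with hc
        have e1 : q * (c₀ * y) * q⁻¹ = c * y := by
          rw [hc, hq, inv_mul_cancel_right,
            show (p.1 : G) * x * g * ((p.1 : G) * x)⁻¹ = (p.1 : G) * (x * g * x⁻¹) * (p.1 : G)⁻¹ by
              group, hz]
          group
        have := congrArg (fun z => z ^ k) e1
        simp only [conj_pow, hpart c₀ hc₀C, hpart c hp] at this
        exact (hC q).2 ⟨P.mul_mem p.1.2 (P.inv_mem hp₀), mul_inv_eq_iff_eq_mul.1 this⟩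
      · show ((c : G) * p₀) * x * g * ((c : G) * p₀ * x)⁻¹ * y⁻¹ ∈ C
        have hcy : y * (c : G)⁻¹ * y⁻¹ = (c : G)⁻¹ := by
          rw [show y * (c : G)⁻¹ * y⁻¹ = (c : G)⁻¹ * ((c : G) * y) * (c : G)⁻¹ * y⁻¹ by group,
            ((hC _).1 c.2).2]
          group
        have e2 : ((c : G) * p₀) * x * g * ((c : G) * p₀ * x)⁻¹ * y⁻¹ =
            (c : G) * c₀ * (y * (c : G)⁻¹ * y⁻¹) := by
          rw [show ((c : G) * p₀) * x * g * ((c : G) * p₀ * x)⁻¹ =
            (c : G) * p₀ * (x * g * x⁻¹) * p₀⁻¹ * (c : G)⁻¹ by group, hz]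
          group
        rw [e2, hcy]
        exact C.mul_mem (C.mul_mem c.2 hc₀C) (C.inv_mem c.2)
    · rw [Finset.card_eq_zero, Finset.filter_eq_empty_iff]
      exact fun p _ hp => hx (hmove p p.2 x hp)
  have key : ∑ p : P, (Finset.univ.filter fun x : G =>
      ((p : G) * x) * g * ((p : G) * x)⁻¹ * y⁻¹ ∈ C).card =
      ∑ x : G, (Finset.univ.filter fun p : P =>
      ((p : G) * x) * g * ((p : G) * x)⁻¹ * y⁻¹ ∈ C).card := by
    simp only [Finset.card_filter]
    exact Finset.sum_comm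
  rw [Finset.sum_congr rfl fun p _ => h1 p, Finset.sum_const, Finset.card_univ, smul_eq_mul,
    ← Nat.card_eq_fintype_card, Finset.sum_congr rfl fun x _ => h2 x, ← Finset.sum_filter,
    Finset.sum_const, smul_eq_mul] at key
  rw [key, mul_comm]
  congr 1
  rw [dT, Nat.card_eq_fintype_card, Fintype.card_subtype]

/-- Toggling `y` does not change the weight. -/
lemma dT_toggle (hD : DadeHypothesis A L H) [DecidableEq G] {B : Finset G}
    (hB : (↑B : Set G) ⊆ A) (hne : B.Nonempty) {y : G} (hy : y ∈ A) (hyB : y ∈ dNB L B) (g : G) :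
    Nat.card (dHB H B) * dT (dHB H (insert y B)) y g =
      Nat.card (dHB H (insert y B)) * dT (dHB H B) y g := by
  obtain ⟨b, hb⟩ := hne
  refine dT_transfer _ _ y (dHB_le_normalizer hD hB hyB) ?_ (fun u => ?_) g
  · refine Nat.Coprime.coprime_dvd_left (Subgroup.orderOf_dvd_natCard _ (dade_mem_centralizer hD hy))
      (((hD.coprime b (hB hb) y hy).symm).coprime_dvd_right ?_)
    exact Subgroup.card_dvd_of_le fun u hu => mem_dHB.1 hu b hb
  · simp only [mem_dHB, Finset.forall_mem_insert]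
    constructor
    · rintro ⟨h1, h2⟩
      exact ⟨h2, Subgroup.mem_centralizer_singleton_iff.1 (hD.le_centralizer y hy h1)⟩
    · rintro ⟨h2, h1⟩
      exact ⟨dade_mem_H hD hy (Subgroup.mem_centralizer_singleton_iff.2 h1)
        (hD.coprime b (hB hb) y hy)
        (orderOf_dvd_iff_pow_eq_one.1 (Subgroup.orderOf_dvd_natCard _ (h2 b hb))), h2⟩

section Main

lemma mem_sup_dade (hD : DadeHypothesis A L H) {B : Finset G} (hB : (↑B : Set G) ⊆ A) {z : G} :
    z ∈ dHB H B ⊔ dNB L B ↔ ∃ y ∈ dNB L B, z * y⁻¹ ∈ dHB H B := by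
  rw [← SetLike.mem_coe,
    Subgroup.coe_mul_of_right_le_normalizer_left _ _ (dHB_le_normalizer hD hB), Set.mem_mul]
  constructor
  · rintro ⟨u, hu, y, hy, rfl⟩
    exact ⟨y, hy, by rw [mul_inv_cancel_right]; exact hu⟩
  · rintro ⟨y, hy, hu⟩
    exact ⟨_, hu, y, hy, inv_mul_cancel_right _ _⟩

lemma dade_unique (hD : DadeHypothesis A L H) {B : Finset G} (hB : (↑B : Set G) ⊆ A)
    (hne : B.Nonempty) {z y y' : G} (hy : y ∈ dNB L B) (hy' : y' ∈ dNB L B)
    (h : z * y⁻¹ ∈ dHB H B) (h' : z * y'⁻¹ ∈ dHB H B) : y = y' := by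
  rw [← mul_inv_eq_one]
  refine dHB_inter hD hB hne ?_ (L.mul_mem (mem_dNB.1 hy).1 (L.inv_mem (mem_dNB.1 hy').1))
  rw [show y * y'⁻¹ = (z * y⁻¹)⁻¹ * (z * y'⁻¹) by group]
  exact Subgroup.mul_mem _ (Subgroup.inv_mem _ h) h'

lemma exists_proj (hD : DadeHypothesis A L H) {B : Finset G} (hB : (↑B : Set G) ⊆ A)
    (hne : B.Nonempty) :
    ∃ f : ↥(dHB H B ⊔ dNB L B) →* L, ∀ z,
      (f z : G) ∈ dNB L B ∧ (z : G) * (f z : G)⁻¹ ∈ dHB H B := by
  have h : ∀ z : ↥(dHB H B ⊔ dNB L B), ∃ y ∈ dNB L B, (z : G) * y⁻¹ ∈ dHB H B := fun z =>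
    (mem_sup_dade hD hB).1 z.2
  choose f hf1 hf2 using h
  refine ⟨MonoidHom.mk' (fun z => ⟨f z, (mem_dNB.1 (hf1 z)).1⟩) fun a b => Subtype.ext ?_,
    fun z => ⟨hf1 z, hf2 z⟩⟩
  refine dade_unique hD hB hne (hf1 _) (Subgroup.mul_mem _ (hf1 a) (hf1 b)) (hf2 (a * b)) ?_
  show (a : G) * b * (f a * f b)⁻¹ ∈ dHB H B
  rw [show (a : G) * b * (f a * f b)⁻¹ =
    ((a : G) * (f a)⁻¹) * (f a * ((b : G) * (f b)⁻¹) * (f a)⁻¹) by group]
  exact Subgroup.mul_mem _ (hf2 a) (dHB_norm hD hB (hf1 a) (hf2 b))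

lemma card_sup_dade (hD : DadeHypothesis A L H) {B : Finset G} (hB : (↑B : Set G) ⊆ A)
    (hne : B.Nonempty) :
    Nat.card ↥(dHB H B ⊔ dNB L B) = Nat.card (dHB H B) * Nat.card (dNB L B) := by
  rw [← Nat.card_prod]
  let f : dHB H B × dNB L B → ↥(dHB H B ⊔ dNB L B) := fun p =>
    ⟨(p.1 : G) * p.2, (mem_sup_dade hD hB).2 ⟨p.2, p.2.2, by rw [mul_inv_cancel_right]; exact p.1.2⟩⟩
  refine (Nat.card_eq_of_bijective f ⟨?_, ?_⟩).symm
  · rintro ⟨u, y⟩ ⟨u', y'⟩ e
    have e' : (u : G) * y = u' * y' := congrArg Subtype.val e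
    have hyy : (y : G) = y' := dade_unique hD hB hne (z := (u : G) * y) y.2 y'.2
      (by rw [mul_inv_cancel_right]; exact u.2)
      (by rw [e', mul_inv_cancel_right]; exact u'.2)
    rw [hyy] at e'
    exact Prod.ext (Subtype.ext (mul_right_cancel e')) (Subtype.ext hyy)
  · intro z
    obtain ⟨y, hy, hu⟩ := (mem_sup_dade hD hB).1 z.2
    exact ⟨(⟨_, hu⟩, ⟨y, hy⟩), Subtype.ext (inv_mul_cancel_right _ _)⟩

variable [Fintype L]

open Classical in
/-- `|N_L(B)|` times the induced function. -/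
noncomputable def dE (L : Subgroup G) [Fintype L] (H : G → Subgroup G) (α : L → ℂ) (B : Finset G)
    (g : G) : ℂ :=
  (Nat.card (dHB H B) : ℂ)⁻¹ *
    ∑ y : L, if (y : G) ∈ dNB L B then α y * (dT (dHB H B) y g : ℂ) else 0

variable [Fintype G]

lemma exists_indFun_eq_dE (hD : DadeHypothesis A L H) {B : Finset G} (hB : (↑B : Set G) ⊆ A)
    (hne : B.Nonempty) {α : L → ℂ} (hα : IsGeneralizedCharacter L α) :
    ∃ θ : ↥(dHB H B ⊔ dNB L B) → ℂ, IsGeneralizedCharacter ↥(dHB H B ⊔ dNB L B) θ ∧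
      ∀ g, dE L H α B g = (Nat.card (dNB L B) : ℂ) * indFun (dHB H B ⊔ dNB L B) θ g := by
  classical
  obtain ⟨f, hf⟩ := exists_proj hD hB hne
  obtain ⟨a, b, ha, hb, rfl⟩ := hα
  refine ⟨fun z => (a - b) (f z), ⟨fun z => a (f z), fun z => b (f z),
    Chars.isCharacter_comp f ha, Chars.isCharacter_comp f hb, rfl⟩, fun g => ?_⟩
  have hext : ∀ z : G, extendByZero (dHB H B ⊔ dNB L B) (fun z => (a - b) (f z)) z =
      ∑ y : L, if (y : G) ∈ dNB L B ∧ z * (y : G)⁻¹ ∈ dHB H B then (a - b) y else 0 := by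
    intro z
    by_cases hz : z ∈ dHB H B ⊔ dNB L B
    · obtain ⟨z, rfl⟩ : ∃ z' : ↥(dHB H B ⊔ dNB L B), (z' : G) = z := ⟨⟨z, hz⟩, rfl⟩
      rw [extendByZero, Subtype.val_injective.extend_apply, Finset.sum_eq_single (f z),
        if_pos (hf z)]
      · intro y _ hy
        exact if_neg fun h => hy (Subtype.ext (dade_unique hD hB hne h.1 (hf z).1 h.2 (hf z).2))
      · simp
    · rw [extendByZero, Function.extend_apply' _ _ _ (fun ⟨w, hw⟩ => hz (hw ▸ w.2)),
        Pi.zero_apply, eq_comm]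
      exact Finset.sum_eq_zero fun y _ =>
        if_neg fun h => hz ((mem_sup_dade hD hB).2 ⟨y, h.1, h.2⟩)
  rw [indFun, Finset.sum_congr rfl fun x _ => hext _, Finset.sum_comm, card_sup_dade hD hB hne,
    dE, Nat.cast_mul]
  have hsum : ∀ y : L, (∑ x : G,
      if (y : G) ∈ dNB L B ∧ x⁻¹ * g * x * (y : G)⁻¹ ∈ dHB H B then (a - b) y else 0) =
      if (y : G) ∈ dNB L B then (a - b) y * (dT (dHB H B) y g : ℂ) else 0 := by
    intro y
    split_ifs with hy
    · simp only [hy, true_and]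
      rw [← Finset.sum_filter, Finset.sum_const, nsmul_eq_mul, mul_comm, dT,
        Nat.card_eq_fintype_card, Fintype.card_subtype]
      congr 2
      refine Finset.card_equiv (Equiv.inv G) fun x => ?_
      simp
    · exact Finset.sum_eq_zero fun x _ => if_neg fun h => hy h.1
  rw [Finset.sum_congr rfl fun y _ => hsum y]
  have h2 : (Nat.card (dNB L B) : ℂ) ≠ 0 := Nat.cast_ne_zero.2 Nat.card_pos.ne'
  field_simp

lemma dE_conj (hD : DadeHypothesis A L H) [DecidableEq G] {B : Finset G}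
    (hB : (↑B : Set G) ⊆ A) {α : L → ℂ} (hα : IsClassFunction L α) (l : L) :
    dE L H α (B.image fun b => (l : G) * b * (l : G)⁻¹) = dE L H α B := by
  classical
  funext g
  set B' := B.image fun b => (l : G) * b * (l : G)⁻¹ with hB'
  have hmem : ∀ b, (l : G) * b * (l : G)⁻¹ ∈ B' ↔ b ∈ B := fun b => by
    constructor
    · intro h
      obtain ⟨c, hc, e⟩ := Finset.mem_image.1 h
      rwa [← mul_left_cancel (mul_right_cancel e)]
    · exact fun h => Finset.mem_image_of_mem _ h
  have hB'A : (↑B' : Set G) ⊆ A := by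
    intro b hb
    obtain ⟨c, hc, rfl⟩ := Finset.mem_image.1 hb
    exact hD.conj_mem l l.2 c (hB hc)
  have hH : ∀ u, (l : G) * u * (l : G)⁻¹ ∈ dHB H B' ↔ u ∈ dHB H B := by
    intro u
    constructor
    · intro h
      have := dHB_conj hD hB'A (L.inv_mem l.2) (B' := B) (fun b hb => by
        rw [inv_inv]; exact (hmem b).2 hb) h
      simpa [mul_assoc] using this
    · refine dHB_conj hD hB l.2 fun b hb => ?_
      rw [← hmem]
      simpa [mul_assoc] using hb
  have hN : ∀ y, (l : G) * y * (l : G)⁻¹ ∈ dNB L B' ↔ y ∈ dNB L B := by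
    intro y
    simp only [mem_dNB]
    refine and_congr (by rw [L.mul_mem_cancel_right (L.inv_mem l.2), L.mul_mem_cancel_left l.2]) ?_
    constructor
    · intro h b
      rw [← hmem b, h, ← hmem (y * b * y⁻¹)]
      rw [show (l : G) * y * (l : G)⁻¹ * ((l : G) * b * (l : G)⁻¹) * ((l : G) * y * (l : G)⁻¹)⁻¹ =
        (l : G) * (y * b * y⁻¹) * (l : G)⁻¹ by group]
    · intro h b
      obtain ⟨c, rfl⟩ : ∃ c, (l : G) * c * (l : G)⁻¹ = b := ⟨(l : G)⁻¹ * b * l, by group⟩
      rw [hmem c, h, ← hmem (y * c * y⁻¹),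
        show (l : G) * y * (l : G)⁻¹ * ((l : G) * c * (l : G)⁻¹) * ((l : G) * y * (l : G)⁻¹)⁻¹ =
        (l : G) * (y * c * y⁻¹) * (l : G)⁻¹ by group]
  have hcard : Nat.card (dHB H B') = Nat.card (dHB H B) :=
    (Nat.card_congr ((MulAut.conj (l : G)).toEquiv.subtypeEquiv fun u => (hH u).symm)).symm
  rw [dE, dE, hcard]
  congr 1
  rw [← Equiv.sum_comp (MulAut.conj l).toEquiv]
  refine Finset.sum_congr rfl fun y _ => ?_
  have hy : (((MulAut.conj l).toEquiv y : L) : G) = (l : G) * y * (l : G)⁻¹ := rfl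
  rw [hy, show α ((MulAut.conj l).toEquiv y) = α y from hα y l]
  refine if_congr (hN y) ?_ rfl
  congr 2
  refine Nat.card_congr ((Equiv.mulLeft (l : G)⁻¹).subtypeEquiv fun x => ?_)
  rw [Equiv.coe_mulLeft, ← hH]
  exact iff_of_eq (congrArg (· ∈ dHB H B') (by group))

/-- Weighted sums over an invariant family are divisible by the order of the group. -/
lemma dvd_sum_stab {X : Type*} {K : Type*} [Group K] [Fintype K] [DecidableEq X] [MulAction K X]
    (s : Finset X) (f : X → ℤ) (hs : ∀ k : K, ∀ x ∈ s, k • x ∈ s)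
    (hf : ∀ k : K, ∀ x ∈ s, f (k • x) = f x) :
    (Fintype.card K : ℤ) ∣ ∑ x ∈ s, (Nat.card {k : K // k • x = x} : ℤ) * f x := by
  induction s using Finset.strongInduction with
  | _ s ih =>
    rcases s.eq_empty_or_nonempty with rfl | ⟨x, hx⟩
    · simp
    set O := Finset.univ.image (fun k : K => k • x) with hO
    have hOs : O ⊆ s := fun z hz => by
      obtain ⟨k, -, rfl⟩ := Finset.mem_image.1 hz
      exact hs k x hx
    have hinv : ∀ k : K, ∀ z, z ∉ O → k • z ∉ O := fun k z hz h => by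
      obtain ⟨j, -, e⟩ := Finset.mem_image.1 h
      exact hz (Finset.mem_image.2 ⟨k⁻¹ * j, Finset.mem_univ _, by
        rw [mul_smul, e, inv_smul_smul]⟩)
    rw [← Finset.sum_sdiff hOs]
    refine dvd_add (ih (s \ O) (Finset.ssubset_iff_subset_ne.2 ⟨Finset.sdiff_subset, fun e => ?_⟩)
      (fun k z hz => by
        obtain ⟨hz1, hz2⟩ := Finset.mem_sdiff.1 hz
        exact Finset.mem_sdiff.2 ⟨hs k z hz1, hinv k z hz2⟩)
      fun k z hz => hf k z (Finset.mem_sdiff.1 hz).1) ⟨f x, ?_⟩
    · have hxO : x ∈ O := Finset.mem_image.2 ⟨1, Finset.mem_univ _, one_smul K x⟩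
      rw [← e] at hx
      exact (Finset.mem_sdiff.1 hx).2 hxO
    · have h1 : ∑ k : K, f (k • x) = (Fintype.card K : ℤ) * f x := by
        rw [Finset.sum_congr rfl fun k _ => hf k x hx, Finset.sum_const, Finset.card_univ,
          nsmul_eq_mul]
      rw [← h1, ← Finset.sum_fiberwise_of_maps_to (g := fun k : K => k • x) (t := O)
        (fun k _ => Finset.mem_image_of_mem _ (Finset.mem_univ k))]
      refine Finset.sum_congr rfl fun z hz => ?_
      rw [Finset.sum_congr rfl (g := fun _ => f z) fun k hk => by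
        rw [(Finset.mem_filter.1 hk).2], Finset.sum_const, nsmul_eq_mul]
      congr 2
      obtain ⟨j, -, rfl⟩ := Finset.mem_image.1 hz
      rw [← Fintype.card_subtype, ← Nat.card_eq_fintype_card]
      refine Nat.card_congr ((Equiv.mulRight j).subtypeEquiv fun k => ?_)
      rw [Equiv.coe_mulRight, mul_smul]

/-- The Dade map sends generalized characters to generalized characters. -/
theorem isGeneralized_dadeIsometry (hD : DadeHypothesis A L H) {α : L → ℂ}
    (hα : IsGeneralizedCharacter L α) (hαA : ∀ x : L, (x : G) ∉ A → α x = 0) :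
    IsGeneralizedCharacter G (dadeIsometry A L H α) := by
  classical
  have hαc := Chars.isClassFunction_of_isGeneralized hα
  set P : Finset (Finset G) := Finset.univ.filter fun B => (↑B : Set G) ⊆ A ∧ B.Nonempty with hP
  have hPmem : ∀ B, B ∈ P ↔ (↑B : Set G) ⊆ A ∧ B.Nonempty := fun B => by simp [hP]
  set sgn : Finset G → ℤ := fun B => (-1) ^ (B.card + 1) with hsgn
  have hF : ∀ g, ∑ B ∈ P, (sgn B : ℂ) * dE L H α B g =
      (Nat.card L : ℂ) * dadeIsometry A L H α g := by
    intro g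
    simp only [dE, Finset.mul_sum]
    rw [Finset.sum_comm]
    have hterm : ∀ y : L, (∑ B ∈ P, (sgn B : ℂ) * ((Nat.card (dHB H B) : ℂ)⁻¹ *
        if (y : G) ∈ dNB L B then α y * (dT (dHB H B) y g : ℂ) else 0)) =
        if (y : G) ∈ A then α y * ((Nat.card (H (y : G)) : ℂ)⁻¹ *
          Nat.card {x : G // ∃ u ∈ H (y : G), x * g * x⁻¹ = y * u}) else 0 := by
      intro y
      by_cases hy : (y : G) ∈ A
      swap
      · rw [if_neg hy]
        exact Finset.sum_eq_zero fun B _ => by rw [hαA y hy]; simp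
      rw [if_pos hy]
      have hself : ({(y : G)} : Finset G) ∈ P := (hPmem _).2 ⟨by simpa using hy, by simp⟩
      rw [← Finset.add_sum_erase _ _ hself]
      have hrest : (∑ B ∈ P.erase {(y : G)}, (sgn B : ℂ) * ((Nat.card (dHB H B) : ℂ)⁻¹ *
          if (y : G) ∈ dNB L B then α y * (dT (dHB H B) y g : ℂ) else 0)) = 0 := by
        refine Finset.sum_involution (fun B _ => if (y : G) ∈ B then B.erase y else insert (y : G) B)
          ?_ ?_ ?_ ?_
        · -- the two terms cancel
          intro B hB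
          obtain ⟨hBne, hBP⟩ := Finset.mem_erase.1 hB
          obtain ⟨hBA, hBn⟩ := (hPmem B).1 hBP
          have hcancel : ∀ C : Finset G, (↑C : Set G) ⊆ A → C.Nonempty → (y : G) ∉ C →
              ((sgn (insert (y : G) C) : ℂ) * ((Nat.card (dHB H (insert (y : G) C)) : ℂ)⁻¹ *
                if (y : G) ∈ dNB L (insert (y : G) C) then
                  α y * (dT (dHB H (insert (y : G) C)) y g : ℂ) else 0)) +
              (sgn C : ℂ) * ((Nat.card (dHB H C) : ℂ)⁻¹ *
                if (y : G) ∈ dNB L C then α y * (dT (dHB H C) y g : ℂ) else 0) = 0 := by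
            intro C hCA hCn hyC
            have hiff : (y : G) ∈ dNB L (insert (y : G) C) ↔ (y : G) ∈ dNB L C := by
              simp only [mem_dNB, y.2, true_and]
              refine forall_congr' fun b => ?_
              by_cases hb : b = y
              · subst hb; simp
              · have : (y : G) * b * (y : G)⁻¹ ≠ y := fun e =>
                  hb (by rw [mul_inv_eq_iff_eq_mul] at e; exact mul_left_cancel e)
                simp [hb, this]
            by_cases hyN : (y : G) ∈ dNB L C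
            · rw [if_pos (hiff.2 hyN), if_pos hyN]
              have ht := dT_toggle hD hCA hCn hy hyN g
              have ht' : (Nat.card (dHB H C) : ℂ) * dT (dHB H (insert (y : G) C)) y g =
                  (Nat.card (dHB H (insert (y : G) C)) : ℂ) * dT (dHB H C) y g := by
                exact_mod_cast ht
              have h1 : (Nat.card (dHB H C) : ℂ) ≠ 0 := Nat.cast_ne_zero.2 Nat.card_pos.ne'
              have h2 : (Nat.card (dHB H (insert (y : G) C)) : ℂ) ≠ 0 :=
                Nat.cast_ne_zero.2 Nat.card_pos.ne'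
              simp only [hsgn, Finset.card_insert_of_notMem hyC]
              push_cast
              field_simp
              linear_combination (-(-1) ^ (C.card + 1) * α y) * ht'
            · rw [if_neg fun h => hyN (hiff.1 h), if_neg hyN]; simp
          by_cases hyB : (y : G) ∈ B
          · rw [if_pos hyB]
            conv_lhs => arg 1; rw [← Finset.insert_erase hyB]
            refine hcancel _ (fun b hb => hBA (Finset.mem_of_mem_erase hb)) ?_
              (Finset.notMem_erase _ _)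
            rw [Finset.nonempty_iff_ne_empty]
            intro h
            exact hBne ((Finset.erase_eq_empty_iff _ _).1 h |>.resolve_left hBn.ne_empty)
          · rw [if_neg hyB, add_comm]
            exact hcancel B hBA hBn hyB
        · intro B _ _ h
          split_ifs at h with hyB
          · exact Finset.notMem_erase (y : G) B (by rw [h]; exact hyB)
          · exact hyB (h ▸ Finset.mem_insert_self _ _)
        · intro B hB
          obtain ⟨hBne, hBP⟩ := Finset.mem_erase.1 hB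
          obtain ⟨hBA, hBn⟩ := (hPmem B).1 hBP
          split_ifs with hyB
          · refine Finset.mem_erase.2 ⟨fun e => ?_, (hPmem _).2
              ⟨fun b hb => hBA (Finset.mem_of_mem_erase hb), ?_⟩⟩
            · exact Finset.notMem_erase (y : G) B (e ▸ Finset.mem_singleton_self _)
            · rw [Finset.nonempty_iff_ne_empty]
              intro h
              exact hBne ((Finset.erase_eq_empty_iff _ _).1 h |>.resolve_left hBn.ne_empty)
          · refine Finset.mem_erase.2 ⟨fun e => ?_, (hPmem _).2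
              ⟨by rw [Finset.coe_insert]; exact Set.insert_subset hy hBA,
                Finset.insert_nonempty _ _⟩⟩
            obtain ⟨b, hb⟩ := hBn
            have hby : b ∈ ({(y : G)} : Finset G) := e ▸ Finset.mem_insert_of_mem hb
            rw [Finset.mem_singleton] at hby
            exact hyB (hby ▸ hb)
        · intro B hB
          by_cases hyB : (y : G) ∈ B
          · rw [if_pos hyB, if_neg (Finset.notMem_erase _ _), Finset.insert_erase hyB]
          · rw [if_neg hyB, if_pos (Finset.mem_insert_self _ _), Finset.erase_insert hyB]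
      rw [hrest, add_zero]
      have hyN : (y : G) ∈ dNB L {(y : G)} := by
        refine mem_dNB.2 ⟨y.2, fun b => ?_⟩
        simp only [Finset.mem_singleton]
        constructor
        · rintro rfl; group
        · intro e; rw [mul_inv_eq_iff_eq_mul] at e; exact mul_left_cancel e
      have hH1 : dHB H {(y : G)} = H y := by ext u; simp [mem_dHB]
      rw [if_pos hyN, hH1]
      simp only [hsgn, Finset.card_singleton]
      push_cast
      rw [show dT (H (y : G)) y g = Nat.card {x : G // ∃ u ∈ H (y : G), x * g * x⁻¹ = y * u} from ?_]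
      · ring
      refine Nat.card_congr (Equiv.subtypeEquivRight fun x => ⟨fun h => ?_, ?_⟩)
      · refine ⟨_, h, ?_⟩
        have hc := Subgroup.mem_centralizer_singleton_iff.1 (hD.le_centralizer _ hy h)
        rw [← hc]; group
      · rintro ⟨u, hu, e⟩
        have hc := Subgroup.mem_centralizer_singleton_iff.1 (hD.le_centralizer _ hy hu)
        rw [e, ← hc, mul_inv_cancel_right]
        exact hu
    rw [Finset.sum_congr rfl fun y _ => hterm y, ← Finset.sum_filter]
    by_cases hw : ∃ a ∈ A, DadeWit H g a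
    · obtain ⟨a₀, ha₀, hw₀⟩ := hw
      have hval : ∀ y : L, (y : G) ∈ A → α y * ((Nat.card (H (y : G)) : ℂ)⁻¹ *
          Nat.card {x : G // ∃ u ∈ H (y : G), x * g * x⁻¹ = y * u}) =
          dadeIsometry A L H α g * ((Nat.card (H (y : G)) : ℂ)⁻¹ *
          Nat.card {x : G // ∃ u ∈ H (y : G), x * g * x⁻¹ = y * u}) := by
        intro y hy
        by_cases h : DadeWit H g y
        · obtain ⟨x, u, hu, e⟩ := h
          rw [dadeIsometry_apply hD hαc y hy hu e]
        · have : IsEmpty {x : G // ∃ u ∈ H (y : G), x * g * x⁻¹ = y * u} :=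
            ⟨fun x => h ⟨x, x.2⟩⟩
          simp
      rw [Finset.sum_congr rfl fun y hy => hval y (Finset.mem_filter.1 hy).2, ← Finset.mul_sum,
        dade_weight hD g, if_pos ⟨a₀, ha₀, hw₀⟩, mul_comm]
    · rw [dadeIsometry_eq_zero hD hw, mul_zero]
      refine Finset.sum_eq_zero fun y hy => ?_
      have : IsEmpty {x : G // ∃ u ∈ H (y : G), x * g * x⁻¹ = y * u} :=
        ⟨fun x => hw ⟨y, (Finset.mem_filter.1 hy).2, x, x.2⟩⟩
      simp
  rw [Chars.isGeneralized_iff_inner]
  refine ⟨isClassFunction_dadeIsometry hD hαc, fun χ => ?_⟩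
  let act : MulAction L (Finset G) :=
    { smul := fun l B => B.image fun b => (l : G) * b * (l : G)⁻¹
      one_smul := fun B => by
        show B.image _ = B
        simp
      mul_smul := fun l m B => by
        show B.image _ = (B.image _).image _
        rw [Finset.image_image]
        refine Finset.image_congr fun b _ => ?_
        simp [mul_assoc] }
  have hsmul : ∀ (l : L) (B : Finset G), l • B = B.image fun b => (l : G) * b * (l : G)⁻¹ :=
    fun _ _ => rfl
  have hstab : ∀ B : Finset G, Nat.card (dNB L B) = Nat.card {l : L // l • B = B} := by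
    intro B
    refine Nat.card_congr
      { toFun := fun z => ⟨⟨z, (mem_dNB.1 z.2).1⟩, ?_⟩
        invFun := fun l => ⟨l.1, mem_dNB.2 ⟨l.1.2, fun b => ?_⟩⟩
        left_inv := fun _ => rfl
        right_inv := fun _ => rfl }
    · have hz := (mem_dNB.1 z.2).2
      rw [hsmul]
      ext b
      constructor
      · intro h
        obtain ⟨c, hc, rfl⟩ := Finset.mem_image.1 h
        exact (hz c).1 hc
      · intro h
        refine Finset.mem_image.2 ⟨(z : G)⁻¹ * b * z, (hz _).2 ?_, by group⟩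
        rwa [show (z : G) * ((z : G)⁻¹ * b * z) * (z : G)⁻¹ = b by group]
    · have hl := l.2
      rw [hsmul] at hl
      have hl' := Finset.ext_iff.1 hl ((l.1 : G) * b * (l.1 : G)⁻¹)
      constructor
      · exact fun h => hl'.1 (Finset.mem_image_of_mem _ h)
      · intro h
        obtain ⟨c, hc, e⟩ := Finset.mem_image.1 (hl'.2 h)
        rwa [← mul_left_cancel (mul_right_cancel e)]
  have hz : ∀ B ∈ P, ∃ m : ℤ, classInner (dE L H α B) χ = (Nat.card (dNB L B) : ℂ) * m := by
    intro B hB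
    obtain ⟨hBA, hBn⟩ := (hPmem B).1 hB
    obtain ⟨θ, hθ, e⟩ := exists_indFun_eq_dE hD hBA hBn hα
    obtain ⟨m, hm⟩ := (Chars.isGeneralized_iff_inner.1 (Chars.isGeneralized_indFun _ hθ)).2 χ
    exact ⟨m, by rw [← hm, ← Chars.inner_smul_left]; congr 1; exact funext e⟩
  choose! m hm using hz
  have hPinv : ∀ l : L, ∀ B ∈ P, l • B ∈ P := fun l B hB => by
    obtain ⟨hBA, hBn⟩ := (hPmem B).1 hB
    rw [hsmul, hPmem]
    refine ⟨fun b hb => ?_, hBn.image _⟩
    obtain ⟨c, hc, rfl⟩ := Finset.mem_image.1 hb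
    exact hD.conj_mem l l.2 c (hBA hc)
  have hminv : ∀ l : L, ∀ B ∈ P, sgn (l • B) * m (l • B) = sgn B * m B := by
    intro l B hB
    have e1 : sgn (l • B) = sgn B := by
      simp only [hsgn, hsmul]
      rw [Finset.card_image_of_injective _ fun b c e => mul_left_cancel (mul_right_cancel e)]
    have e2 := hm _ (hPinv l B hB)
    have hc : Nat.card (dNB L (l • B)) = Nat.card (dNB L B) := by
      rw [hstab, hstab]
      refine (Nat.card_congr ((MulAut.conj l).toEquiv.subtypeEquiv fun k => ?_)).symm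
      show k • B = B ↔ (l * k * l⁻¹) • l • B = l • B
      rw [← mul_smul, inv_mul_cancel_right, mul_smul, smul_left_cancel_iff]
    have e3 : dE L H α (l • B) = dE L H α B := dE_conj hD ((hPmem B).1 hB).1 hαc l
    rw [e3, hc, hm B hB] at e2
    have e4 : m (l • B) = m B := by
      exact_mod_cast (mul_left_cancel₀ (Nat.cast_ne_zero.2 Nat.card_pos.ne') e2).symm
    rw [e1, e4]
  obtain ⟨k, hk⟩ := dvd_sum_stab P (fun B => sgn B * m B) hPinv hminv
  refine ⟨k, ?_⟩
  have hLne : (Nat.card L : ℂ) ≠ 0 := Nat.cast_ne_zero.2 Nat.card_pos.ne'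
  apply mul_left_cancel₀ hLne
  rw [← Chars.inner_smul_left, show (Nat.card L : ℂ) • dadeIsometry A L H α =
    ∑ B ∈ P, (sgn B : ℂ) • dE L H α B from funext fun g => by
      simp [hF g, Nat.card_eq_fintype_card],
    Chars.inner_sum_left]
  have hk' : ((∑ B ∈ P, (Nat.card {l : L // l • B = B} : ℤ) * (sgn B * m B) : ℤ) : ℂ) =
      (((Fintype.card L : ℤ) * k : ℤ) : ℂ) := by rw [hk]
  push_cast at hk'
  rw [Nat.card_eq_fintype_card, ← hk']
  refine Finset.sum_congr rfl fun B hB => ?_
  rw [Chars.inner_smul_left, hm B hB, hstab]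
  ring

end Main

end CfsgLib.CharsMore
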