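import Cfsg.Agent.Lib.CharsMore.DadeBasic
import Cfsg.Agent.Lib.Chars.Char

/-!
# Averaging over the support of the Dade map, and the isometry
-/

set_option linter.unusedSectionVars false
set_option linter.style.haveILetI false

namespace CfsgLib.CharsMore

open Cfsg
open scoped ComplexConjugate Pointwise

variable {G : Type*} [Group G] {A : Set G} {L : Subgroup G} {H : G → Subgroup G}

/-- The element `a` witnesses that `g` is in the Dade support. -/
def DadeWit (H : G → Subgroup G) (g a : G) : Prop := ∃ x : G, ∃ u ∈ H a, x * g * x⁻¹ = a * u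

lemma dadeWit_conj {g a : G} (y : G) (h : DadeWit H g a) : DadeWit H (y * g * y⁻¹) a := by
  obtain ⟨x, u, hu, e⟩ := h
  exact ⟨x * y⁻¹, u, hu, by rw [← e]; group⟩

lemma dadeWit_fusion (hD : DadeHypothesis A L H) [Finite G] {g a b : G} (ha : a ∈ A) (hb : b ∈ A)
    (h₁ : DadeWit H g a) (h₂ : DadeWit H g b) : ∃ l ∈ L, l * a * l⁻¹ = b := by
  obtain ⟨x, u, hu, e⟩ := h₁
  obtain ⟨y, v, hv, f⟩ := h₂
  obtain ⟨k, hka, hkb⟩ := dade_exists_pow hD ha hb
  have e1 : (y * x⁻¹) * a * (y * x⁻¹)⁻¹ = b := by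
    have : (y * x⁻¹) * (a * u) * (y * x⁻¹)⁻¹ = b * v := by rw [← e, ← f]; group
    have := congrArg (fun z => z ^ k) this
    simpa only [conj_pow, hka u hu, hkb v hv] using this
  obtain ⟨l, hl, el⟩ := hD.fusion a ha (y * x⁻¹) (by rw [e1]; exact hb)
  exact ⟨l, hl, el.trans e1⟩

lemma dade_card_H_conj (hD : DadeHypothesis A L H) [Finite G] {a : G} (ha : a ∈ A) {l : G}
    (hl : l ∈ L) : ∀ u ∈ H a, l * u * l⁻¹ ∈ H (l * a * l⁻¹) := by
  intro u hu
  refine dade_mem_H hD (hD.conj_mem l hl a ha) ?_ (hD.coprime a ha _ (hD.conj_mem l hl a ha)) ?_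
  · have := Subgroup.mem_centralizer_singleton_iff.1 (hD.le_centralizer a ha hu)
    rw [Subgroup.mem_centralizer_singleton_iff]
    calc l * u * l⁻¹ * (l * a * l⁻¹) = l * (u * a) * l⁻¹ := by group
      _ = l * (a * u) * l⁻¹ := by rw [this]
      _ = l * a * l⁻¹ * (l * u * l⁻¹) := by group
  · rw [conj_pow, orderOf_dvd_iff_pow_eq_one.1 (Subgroup.orderOf_dvd_natCard _ hu), mul_one,
      mul_inv_cancel]

lemma dade_card_centralizer (hD : DadeHypothesis A L H) [Finite G] {a : G} (ha : a ∈ A) :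
    Nat.card (Subgroup.centralizer ({a} : Set G)) =
      Nat.card (H a) * Nat.card ↥(L ⊓ Subgroup.centralizer ({a} : Set G)) := by
  set C := Subgroup.centralizer ({a} : Set G)
  set K := L ⊓ C
  rw [← Nat.card_prod]
  let f : H a × K → C := fun p =>
    ⟨(p.1 : G) * p.2, C.mul_mem (hD.le_centralizer a ha p.1.2) p.2.2.2⟩
  refine (Nat.card_eq_of_bijective f ⟨?_, ?_⟩).symm
  · rintro ⟨h, k⟩ ⟨h', k'⟩ e
    have e' : (h : G) * k = h' * k' := congrArg Subtype.val e
    have hm : (h' : G)⁻¹ * h ∈ H a ⊓ K := by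
      refine ⟨(H a).mul_mem ((H a).inv_mem h'.2) h.2, ?_⟩
      have : (h' : G)⁻¹ * h = (k' : G) * (k : G)⁻¹ := by
        rw [inv_mul_eq_iff_eq_mul, ← mul_assoc, ← e', mul_inv_cancel_right]
      rw [this]
      exact K.mul_mem k'.2 (K.inv_mem k.2)
    rw [hD.inf_eq_bot a ha, Subgroup.mem_bot, inv_mul_eq_one] at hm
    rw [hm] at e'
    exact Prod.ext (Subtype.ext hm.symm) (Subtype.ext (mul_left_cancel e'))
  · intro c
    have hnorm : K ≤ Subgroup.normalizer (H a : Set G) := by
      intro x hx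
      rw [Subgroup.mem_normalizer_iff]
      intro v
      refine ⟨hD.conj_mem_H a ha x hx.2 v, fun hv => ?_⟩
      have := hD.conj_mem_H a ha x⁻¹ (C.inv_mem hx.2) _ hv
      simpa [mul_assoc] using this
    have hc : (c : G) ∈ ((H a : Set G) * (K : Set G)) := by
      rw [← Subgroup.coe_mul_of_right_le_normalizer_left (H a) K hnorm, hD.sup_eq a ha]
      exact c.2
    obtain ⟨h, hh, k, hk, e⟩ := Set.mem_mul.1 hc
    exact ⟨(⟨h, hh⟩, ⟨k, hk⟩), Subtype.ext e⟩

/-- The weights of the Dade support. -/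
lemma dade_weight (hD : DadeHypothesis A L H) [Finite G] [Fintype L] {K : Type*} [Field K]
    [CharZero K] (g : G) [DecidablePred (fun a : L => (a : G) ∈ A)]
    [Decidable (∃ a ∈ A, DadeWit H g a)] :
    ∑ a ∈ Finset.univ.filter (fun a : L => (a : G) ∈ A),
      (Nat.card (H a) : K)⁻¹ * Nat.card {x : G // ∃ u ∈ H (a : G), x * g * x⁻¹ = a * u} =
      if ∃ a ∈ A, DadeWit H g a then (Nat.card L : K) else 0 := by
  classical
  split_ifs with hg
  · obtain ⟨a₀, ha₀, hw₀⟩ := hg
    let a₀' : L := ⟨a₀, hD.subset ha₀⟩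
    have key : ∀ a ∈ Finset.univ.filter (fun a : L => (a : G) ∈ A),
        (Nat.card (H a) : K)⁻¹ * Nat.card {x : G // ∃ u ∈ H (a : G), x * g * x⁻¹ = a * u} =
          ((Finset.univ.filter (fun l : L => l * a₀' * l⁻¹ = a)).card : K) := by
      intro a haA
      have ha : (a : G) ∈ A := (Finset.mem_filter.1 haA).2
      by_cases hw : DadeWit H g a
      · obtain ⟨x₀, u₀, hu₀, e₀⟩ := hw
        obtain ⟨l₀, hl₀, el₀⟩ := dadeWit_fusion hD ha₀ ha hw₀ ⟨x₀, u₀, hu₀, e₀⟩
        have h1 : Nat.card {x : G // ∃ u ∈ H (a : G), x * g * x⁻¹ = a * u} =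
            Nat.card (Subgroup.centralizer ({(a : G)} : Set G)) := by
          refine Nat.card_congr ((Equiv.mulRight x₀⁻¹).subtypeEquiv fun x => ?_)
          rw [Equiv.coe_mulRight, Subgroup.mem_centralizer_singleton_iff]
          constructor
          · rintro ⟨u, hu, e⟩
            obtain ⟨k, hk, -⟩ := dade_exists_pow hD ha ha
            have : (x * x₀⁻¹) * ((a : G) * u₀) * (x * x₀⁻¹)⁻¹ = a * u := by
              rw [← e₀, ← e]; group
            have := congrArg (fun z => z ^ k) this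
            simp only [conj_pow, hk u hu, hk u₀ hu₀] at this
            exact mul_inv_eq_iff_eq_mul.1 this
          · intro hc
            refine ⟨_, hD.conj_mem_H a ha (x * x₀⁻¹)
              (Subgroup.mem_centralizer_singleton_iff.2 hc) u₀ hu₀, ?_⟩
            calc x * g * x⁻¹ = (x * x₀⁻¹) * (x₀ * g * x₀⁻¹) * (x * x₀⁻¹)⁻¹ := by group
              _ = (x * x₀⁻¹) * a * (u₀ * (x * x₀⁻¹)⁻¹) := by rw [e₀]; group
              _ = a * (x * x₀⁻¹) * (u₀ * (x * x₀⁻¹)⁻¹) := by rw [hc]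
              _ = a * ((x * x₀⁻¹) * u₀ * (x * x₀⁻¹)⁻¹) := by group
        have h2 : (Finset.univ.filter (fun l : L => l * a₀' * l⁻¹ = a)).card =
            Nat.card ↥(L ⊓ Subgroup.centralizer ({(a : G)} : Set G)) := by
          rw [← Fintype.card_subtype, ← Nat.card_eq_fintype_card]
          refine Nat.card_congr
            { toFun := fun l => ⟨(l.1 : G) * l₀⁻¹, L.mul_mem l.1.2 (L.inv_mem hl₀),
                Subgroup.mem_centralizer_singleton_iff.2 ?_⟩
              invFun := fun c => ⟨⟨(c : G) * l₀, L.mul_mem c.2.1 hl₀⟩, ?_⟩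
              left_inv := fun l => Subtype.ext (Subtype.ext (inv_mul_cancel_right _ _))
              right_inv := fun c => Subtype.ext (mul_inv_cancel_right _ _) }
          · have el : (l.1 : G) * a₀ * (l.1 : G)⁻¹ = a := congrArg Subtype.val l.2
            apply mul_inv_eq_iff_eq_mul.1
            calc (l.1 : G) * l₀⁻¹ * a * ((l.1 : G) * l₀⁻¹)⁻¹
                = (l.1 : G) * (l₀⁻¹ * a * l₀) * (l.1 : G)⁻¹ := by group
              _ = (l.1 : G) * a₀ * (l.1 : G)⁻¹ := by rw [← el₀]; group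
              _ = a := el
          · apply Subtype.ext
            show (c : G) * l₀ * a₀ * ((c : G) * l₀)⁻¹ = a
            have hc := Subgroup.mem_centralizer_singleton_iff.1 c.2.2
            calc (c : G) * l₀ * a₀ * ((c : G) * l₀)⁻¹ = c * (l₀ * a₀ * l₀⁻¹) * (c : G)⁻¹ := by group
              _ = a * c * (c : G)⁻¹ := by rw [el₀, hc]
              _ = a := mul_inv_cancel_right _ _
        rw [h1, h2, dade_card_centralizer hD ha, Nat.cast_mul, ← mul_assoc,
          inv_mul_cancel₀ (Nat.cast_ne_zero.2 Nat.card_pos.ne'), one_mul]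
      · have : IsEmpty {x : G // ∃ u ∈ H (a : G), x * g * x⁻¹ = a * u} := ⟨fun x => hw ⟨x, x.2⟩⟩
        rw [show Nat.card {x : G // ∃ u ∈ H (a : G), x * g * x⁻¹ = a * u} = 0 from Nat.card_of_isEmpty,
          Nat.cast_zero, mul_zero, eq_comm, Nat.cast_eq_zero,
          Finset.card_eq_zero, Finset.filter_eq_empty_iff]
        intro l _ hl
        apply hw
        obtain ⟨x, u, hu, e⟩ := hw₀
        have el : (l : G) * a₀ * (l : G)⁻¹ = a := congrArg Subtype.val hl
        refine ⟨(l : G) * x, _, el ▸ dade_card_H_conj hD ha₀ l.2 u hu, ?_⟩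
        calc (l : G) * x * g * ((l : G) * x)⁻¹ = l * (x * g * x⁻¹) * (l : G)⁻¹ := by group
          _ = (l * a₀ * (l : G)⁻¹) * (l * u * (l : G)⁻¹) := by rw [e]; group
          _ = a * (l * u * (l : G)⁻¹) := by rw [el]
    rw [Finset.sum_congr rfl key, ← Nat.cast_sum, ← Finset.card_eq_sum_card_fiberwise]
    · rw [Finset.card_univ, Nat.card_eq_fintype_card]
    · intro l _
      exact Finset.mem_filter.2 ⟨Finset.mem_univ _, hD.conj_mem l l.2 a₀ ha₀⟩
  · refine Finset.sum_eq_zero fun a ha => ?_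
    have : IsEmpty {x : G // ∃ u ∈ H (a : G), x * g * x⁻¹ = a * u} :=
      ⟨fun x => hg ⟨a, (Finset.mem_filter.1 ha).2, x, x.2⟩⟩
    simp

/-- Averaging over the support of the Dade map. -/
theorem dade_average (hD : DadeHypothesis A L H) [Fintype G] [Fintype L] {K : Type*} [Field K]
    [CharZero K] (F : G → K) (f : L → G → K)
    (hzero : ∀ g, (¬ ∃ a ∈ A, DadeWit H g a) → F g = 0)
    (hf : ∀ a : L, (a : G) ∈ A → ∀ g x : G, ∀ u ∈ H (a : G), x * g * x⁻¹ = a * u → F g = f a u)
    [DecidablePred (fun a : L => (a : G) ∈ A)] [∀ a : G, Fintype (H a)] :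
    (Nat.card G : K)⁻¹ * ∑ g : G, F g = (Nat.card L : K)⁻¹ *
      ∑ a ∈ Finset.univ.filter (fun a : L => (a : G) ∈ A),
        (Nat.card (H a) : K)⁻¹ * ∑ u : H (a : G), f a u := by
  classical
  have key : (Nat.card L : K) * ∑ g : G, F g = (Nat.card G : K) *
      ∑ a ∈ Finset.univ.filter (fun a : L => (a : G) ∈ A),
        (Nat.card (H a) : K)⁻¹ * ∑ u : H (a : G), f a u := by
    rw [Finset.mul_sum, Finset.mul_sum]
    have h1 : ∀ g : G, (Nat.card L : K) * F g =
        ∑ a ∈ Finset.univ.filter (fun a : L => (a : G) ∈ A), (Nat.card (H a) : K)⁻¹ *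
          (Nat.card {x : G // ∃ u ∈ H (a : G), x * g * x⁻¹ = a * u} * F g) := by
      intro g
      rw [Finset.sum_congr rfl (fun a _ => (mul_assoc _ _ _).symm), ← Finset.sum_mul,
        dade_weight hD g]
      split_ifs with h
      · rfl
      · rw [hzero g h, mul_zero, zero_mul]
    rw [Finset.sum_congr rfl fun g _ => h1 g, Finset.sum_comm]
    refine Finset.sum_congr rfl fun a ha => ?_
    rw [← Finset.mul_sum, ← mul_assoc (Nat.card G : K), mul_comm (Nat.card G : K), mul_assoc]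
    congr 1
    have h2 : ∀ g : G, (Nat.card {x : G // ∃ u ∈ H (a : G), x * g * x⁻¹ = a * u} : K) * F g =
        ∑ x : G, ∑ u : H (a : G), if g = x⁻¹ * (a * u) * x then f a u else 0 := by
      intro g
      rw [Nat.card_eq_fintype_card, Fintype.card_subtype, ← nsmul_eq_mul, ← Finset.sum_const,
        Finset.sum_filter]
      refine Finset.sum_congr rfl fun x _ => ?_
      split_ifs with hx
      · obtain ⟨u, hu, e⟩ := hx
        rw [Finset.sum_eq_single ⟨u, hu⟩]
        · rw [if_pos (by rw [← e]; group), hf a (Finset.mem_filter.1 ha).2 g x u hu e]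
        · intro v _ hv
          refine if_neg fun hgv => hv (Subtype.ext ?_)
          rw [hgv] at e
          simpa [mul_assoc] using e
        · simp
      · rw [eq_comm]
        refine Finset.sum_eq_zero fun u _ => if_neg fun hgu => hx ⟨u, u.2, ?_⟩
        rw [hgu]; group
    rw [Finset.sum_congr rfl fun g _ => h2 g, Finset.sum_comm]
    have h3 : ∀ x : G, ∑ g : G, ∑ u : H (a : G),
        (if g = x⁻¹ * (a * u) * x then f a u else 0) = ∑ u : H (a : G), f a u := by
      intro x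
      rw [Finset.sum_comm]
      simp
    rw [Finset.sum_congr rfl fun x _ => h3 x, Finset.sum_const, Finset.card_univ, nsmul_eq_mul,
      Nat.card_eq_fintype_card]
  have hG : (Nat.card G : K) ≠ 0 := Nat.cast_ne_zero.2 Nat.card_pos.ne'
  have hL : (Nat.card L : K) ≠ 0 := Nat.cast_ne_zero.2 Nat.card_pos.ne'
  apply mul_left_cancel₀ (mul_ne_zero hG hL)
  rw [← mul_assoc, ← mul_assoc, mul_comm (Nat.card G : K) (Nat.card L : K),
    mul_inv_cancel_right₀ hG, mul_comm (Nat.card L : K) (Nat.card G : K), mul_inv_cancel_right₀ hL]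
  exact key

/-- The values of the Dade map. -/
theorem dadeIsometry_apply (hD : DadeHypothesis A L H) [Finite G] {α : L → ℂ}
    (hα : IsClassFunction L α) (a : L) (ha : (a : G) ∈ A) {g x u : G} (hu : u ∈ H (a : G))
    (e : x * g * x⁻¹ = a * u) : dadeIsometry A L H α g = α a := by
  unfold dadeIsometry
  have h : ∃ a : L, (a : G) ∈ A ∧ ∃ x : G, ∃ u ∈ H (a : G), x * g * x⁻¹ = (a : G) * u :=
    ⟨a, ha, x, u, hu, e⟩
  rw [dif_pos h]
  obtain ⟨hA', hw⟩ := Classical.choose_spec h
  obtain ⟨l, hl, el⟩ := dadeWit_fusion hD ha hA' ⟨x, u, hu, e⟩ hw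
  have : Classical.choose h = ⟨l, hl⟩ * a * ⟨l, hl⟩⁻¹ := Subtype.ext el.symm
  rw [this, hα]

/-- The Dade map vanishes off its support. -/
theorem dadeIsometry_eq_zero (_hD : DadeHypothesis A L H) {α : L → ℂ} {g : G}
    (h : ¬ ∃ a ∈ A, DadeWit H g a) : dadeIsometry A L H α g = 0 := by
  unfold dadeIsometry
  exact dif_neg fun ⟨a, ha, hw⟩ => h ⟨a, ha, hw⟩

theorem isClassFunction_dadeIsometry (hD : DadeHypothesis A L H) [Finite G] {α : L → ℂ}
    (hα : IsClassFunction L α) : IsClassFunction G (dadeIsometry A L H α) := by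
  intro g h
  by_cases hw : ∃ a ∈ A, DadeWit H g a
  · obtain ⟨a, ha, hwa⟩ := hw
    obtain ⟨x, u, hu, e⟩ := dadeWit_conj h hwa
    obtain ⟨x', u', hu', e'⟩ := hwa
    rw [dadeIsometry_apply hD hα ⟨a, hD.subset ha⟩ ha hu e,
      dadeIsometry_apply hD hα ⟨a, hD.subset ha⟩ ha hu' e']
  · rw [dadeIsometry_eq_zero hD hw, dadeIsometry_eq_zero hD]
    rintro ⟨a, ha, hwa⟩
    exact hw ⟨a, ha, by simpa [mul_assoc] using dadeWit_conj h⁻¹ hwa⟩

/-- Inner products of Dade images. -/
theorem inner_dadeIsometry (hD : DadeHypothesis A L H) [Fintype G] [Fintype L] {α : L → ℂ}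
    (hα : IsClassFunction L α) (hαA : ∀ x : L, (x : G) ∉ A → α x = 0) {χ : G → ℂ}
    (hχ : IsClassFunction G χ) {ψ : L → ℂ}
    (hψ : ∀ a : L, (a : G) ∈ A → ψ a =
      (Nat.card (H a) : ℂ)⁻¹ * ∑ᶠ u ∈ (H a : Set G), χ (a * u)) :
    classInner (dadeIsometry A L H α) χ = classInner α ψ := by
  classical
  let _ : ∀ a : G, Fintype (H a) := fun a => Fintype.ofFinite _
  rw [Chars.inner_def, Chars.inner_def, dade_average hD
    (fun g => dadeIsometry A L H α g * conj (χ g)) (fun a u => α a * conj (χ (a * u)))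
    (fun g h => by rw [dadeIsometry_eq_zero hD h, zero_mul])
    (fun a ha g x u hu e => by
      rw [dadeIsometry_apply hD hα a ha hu e, ← e, hχ g x])]
  congr 1
  rw [Finset.sum_filter]
  refine Finset.sum_congr rfl fun a _ => ?_
  split_ifs with ha
  · rw [hψ a ha, ← finsum_set_coe_eq_finsum_mem, finsum_eq_sum_of_fintype, map_mul, map_inv₀,
      map_natCast, map_sum, ← Finset.mul_sum]
    simp only [SetLike.coe_sort_coe]
    ring
  · rw [hαA a ha, zero_mul]

end CfsgLib.CharsMore
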