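import Cfsg.Agent.Lib.CharsMore.Clifford
import Cfsg.Agent.Lib.CharsMore.BlichfeldtHall
import Cfsg.Agent.Lib.LinearGroups.SmallUnitary
import Cfsg.Agent.Lib.LocalEven.BlichfeldtTwoSided
import Cfsg.Agent.Lib.Base.Cores
import Cfsg.Agent.Lib.PGroups.Basic
import Mathlib

/-!
# Irreducible linear groups of degree less than twice a prime

If a finite group has a faithful irreducible character of degree `n < 2p`, `n ≠ p`, `p ≥ 7`,
and non-abelian Sylow `p`-subgroups, then `p²` does not divide the index of `O_p`.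
-/

set_option linter.unusedSectionVars false
set_option linter.style.haveILetI false

namespace CfsgLib.CharsMore.LtTwoP

open Cfsg Finset
open scoped ComplexConjugate

universe u

lemma geom_eq {p : ℕ} {x : ℂ} (hx : x ^ p = 1) :
    ∑ k ∈ range p, x ^ k = if x = 1 then (p : ℂ) else 0 := by
  split_ifs with h
  · simp [h]
  · rw [geom_sum_eq h, hx, sub_self, zero_div]

/-- Counting roots of unity by their power sums. -/
lemma mul_count {ι : Type*} (s : Finset ι) (μ : ι → ℂ) {p a b : ℕ} (hp : p ≠ 0) (e : ℕ) {ω : ℂ}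
    (hω : ω ^ p = 1) (hμ : ∀ i ∈ s, μ i ^ p = 1)
    (h : ∀ k : ℕ, (e : ℂ) * ∑ i ∈ s, μ i ^ k = a * ω ^ k + b) {ζ : ℂ} (hζ : ζ ^ p = 1) :
    e * (s.filter fun i => μ i = ζ).card =
      (if ω = ζ then a else 0) + (if (1 : ℂ) = ζ then b else 0) := by
  classical
  have hζ0 : ζ ≠ 0 := by rintro rfl; simp [zero_pow hp] at hζ
  have key : ∀ x : ℂ, x ^ p = 1 →
      ∑ k ∈ range p, ζ⁻¹ ^ k * x ^ k = if x = ζ then (p : ℂ) else 0 := by
    intro x hx
    simp_rw [← mul_pow]
    rw [geom_eq (by rw [mul_pow, inv_pow, hζ, hx]; simp)]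
    simp [inv_mul_eq_one₀ hζ0, eq_comm]
  have key1 : ∑ k ∈ range p, ζ⁻¹ ^ k = if (1 : ℂ) = ζ then (p : ℂ) else 0 := by
    simpa using key 1 (one_pow p)
  have h1 : ∑ k ∈ range p, ζ⁻¹ ^ k * ((e : ℂ) * ∑ i ∈ s, μ i ^ k)
      = (p : ℂ) * ((e : ℂ) * ((s.filter fun i => μ i = ζ).card : ℂ)) := by
    simp only [Finset.mul_sum, mul_left_comm _ (e : ℂ)]
    rw [Finset.sum_comm]
    simp only [← Finset.mul_sum]
    rw [Finset.sum_congr rfl fun i hi => key _ (hμ i hi), ← Finset.sum_filter, Finset.sum_const,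
      nsmul_eq_mul]
    ring
  have h2 : ∑ k ∈ range p, ζ⁻¹ ^ k * ((e : ℂ) * ∑ i ∈ s, μ i ^ k)
      = (p : ℂ) * (((if ω = ζ then a else 0) + (if (1 : ℂ) = ζ then b else 0) : ℕ) : ℂ) := by
    simp only [h, mul_add, Finset.sum_add_distrib, mul_left_comm _ (a : ℂ), ← Finset.mul_sum,
      ← Finset.sum_mul, key _ hω, key1]
    split_ifs <;> push_cast <;> ring
  have h3 := mul_left_cancel₀ (Nat.cast_ne_zero.2 hp) (h1.symm.trans h2)
  exact_mod_cast h3

variable {G : Type u} [Group G] [Fintype G]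

/-- The restriction to a non-abelian `p`-subgroup: a central element in the derived group. -/
lemma exists_special {χ : G → ℂ} (hχ : IsCharacter G χ) (hfaith : ∀ g : G, χ g = χ 1 → g = 1)
    {n p : ℕ} [hp : Fact p.Prime] (hn : χ 1 = n) (hn2 : n < 2 * p) {P : Subgroup G}
    (hP : IsPGroup p P) (hne : ∃ x ∈ P, ∃ y ∈ P, x * y ≠ y * x) :
    ∃ (z : G) (ω : ℂ), z ^ p = 1 ∧ ω ^ p = 1 ∧ ω ≠ 1 ∧ p ≤ n ∧
      ∀ k : ℕ, χ (z ^ k) = (p : ℂ) * ω ^ k + ((n - p : ℕ) : ℂ) := by
  classical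
  have hp0 : p ≠ 0 := hp.out.ne_zero
  let _ := Fintype.ofFinite P
  let _ := Chars.irrFintype P
  have hcne : commutator P ≠ ⊥ := by
    obtain ⟨x, hx, y, hy, hxy⟩ := hne
    intro h
    have hc := (commutator_eq_bot_iff_center_eq_top P).1 h
    have := Subgroup.mem_center_iff.1 (hc ▸ Subgroup.mem_top (⟨y, hy⟩ : P)) ⟨x, hx⟩
    exact hxy (congrArg Subtype.val this)
  have hK := PGroups.inf_center_ne_bot hP hcne
  haveI : Nontrivial ↥(commutator P ⊓ Subgroup.center P) :=
    (Subgroup.nontrivial_iff_ne_bot _).2 hK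
  obtain ⟨w, hw⟩ : ∃ w : ↥(commutator P ⊓ Subgroup.center P), orderOf w = p := by
    refine exists_prime_orderOf_dvd_card' p ?_
    obtain ⟨i, hi⟩ := IsPGroup.iff_card.1 (hP.to_subgroup (commutator P ⊓ Subgroup.center P))
    have h1 := Finite.one_lt_card (α := ↥(commutator P ⊓ Subgroup.center P))
    rw [hi] at h1 ⊢
    exact dvd_pow_self p fun h0 => by simp [h0] at h1
  set z : P := (w : P) with hz
  have hzord : orderOf z = p := by rw [hz, orderOf_submonoid, hw]
  have hzp : z ^ p = 1 := hzord ▸ pow_orderOf_eq_one z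
  have hres : IsCharacter P (fun x : P => χ x) := Chars.isCharacter_restrict P hχ
  set c : IrrCharacter P → ℕ := fun ψ => multNat (fun x : P => χ x) (ψ : P → ℂ) with hc
  have hexp : ∀ x : P, χ x = ∑ ψ : IrrCharacter P, (c ψ : ℂ) * (ψ : P → ℂ) x := by
    intro x
    have := congrFun (char_eq_sum_multNat hres) x
    simpa [Finset.sum_apply] using this
  choose d hd0 hd hdvd using fun ψ : IrrCharacter P => Chars.irr_degree_dvd_card ψ.2
  have hsum : n = ∑ ψ : IrrCharacter P, c ψ * d ψ := by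
    have h := hexp 1
    simp only [hd, OneMemClass.coe_one, hn] at h
    exact_mod_cast h
  -- linear constituents are trivial on `z`
  have hlin : ∀ ψ : IrrCharacter P, d ψ = 1 → ∀ k : ℕ, (ψ : P → ℂ) (z ^ k) = 1 := by
    intro ψ hψ k
    obtain ⟨lam, hlam⟩ := Chars.exists_hom_of_degree_one (Chars.isCharacter_of_irr ψ.2)
      (by rw [hd, hψ, Nat.cast_one])
    have hmem : z ∈ lam.ker := Abelianization.commutator_subset_ker lam w.2.1
    rw [congrFun hlam]
    simp [MonoidHom.mem_ker.1 hmem]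
  obtain ⟨i, hi⟩ := IsPGroup.iff_card.1 hP
  have hbig : ∀ ψ : IrrCharacter P, d ψ ≠ 1 → p ≤ d ψ := by
    intro ψ hψ
    obtain ⟨j, -, hj⟩ := (Nat.dvd_prime_pow hp.out).1 (hi ▸ hdvd ψ)
    rw [hj] at hψ ⊢
    exact Nat.le_self_pow (fun h0 => hψ (by rw [h0, pow_zero])) p
  obtain ⟨ψ₀, hc0, hψ₀⟩ : ∃ ψ : IrrCharacter P, c ψ ≠ 0 ∧ (ψ : P → ℂ) z ≠ (d ψ : ℂ) := by
    by_contra hcon
    push Not at hcon
    have h1 : χ ((z : P) : G) = χ 1 := by
      rw [hexp z, hn, hsum, Nat.cast_sum]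
      refine Finset.sum_congr rfl fun ψ _ => ?_
      by_cases h0 : c ψ = 0
      · simp [h0]
      · rw [hcon ψ h0, Nat.cast_mul]
    have h2 : z = 1 := Subtype.ext (hfaith _ h1)
    rw [h2, orderOf_one] at hzord
    exact hp.out.one_lt.ne hzord
  have hd₀ : d ψ₀ ≠ 1 := fun h => hψ₀ (by rw [← pow_one z, hlin ψ₀ h 1, h, Nat.cast_one])
  have hp₀ := hbig ψ₀ hd₀
  rw [← Finset.add_sum_erase _ _ (Finset.mem_univ ψ₀)] at hsum
  have hd₀p : d ψ₀ = p := by
    obtain ⟨j, -, hj⟩ := (Nat.dvd_prime_pow hp.out).1 (hi ▸ hdvd ψ₀)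
    rcases j with _ | _ | j
    · simp [hj] at hd₀
    · simpa using hj
    · have h1 : p ^ 2 ≤ d ψ₀ := hj ▸ Nat.pow_le_pow_right hp.out.pos (by omega)
      have h2 : d ψ₀ ≤ c ψ₀ * d ψ₀ := Nat.le_mul_of_pos_left _ (Nat.pos_of_ne_zero hc0)
      have h3 : 2 * p ≤ p ^ 2 := by rw [sq]; exact Nat.mul_le_mul_right p hp.out.two_le
      omega
  have hc₀1 : c ψ₀ = 1 := by
    by_contra h
    have h1 : 2 * p ≤ c ψ₀ * d ψ₀ := by
      rw [hd₀p]; exact Nat.mul_le_mul_right p (by omega)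
    omega
  rw [hc₀1, hd₀p, one_mul] at hsum
  have hrest : ∀ ψ ∈ Finset.univ.erase ψ₀, ∀ k : ℕ,
      (c ψ : ℂ) * (ψ : P → ℂ) (z ^ k) = ((c ψ * d ψ : ℕ) : ℂ) := by
    intro ψ hψ k
    by_cases h0 : c ψ = 0
    · simp [h0]
    · have h1 : c ψ * d ψ < p := by
        have : c ψ * d ψ ≤ ∑ φ ∈ Finset.univ.erase ψ₀, c φ * d φ :=
          Finset.single_le_sum (f := fun φ => c φ * d φ) (fun _ _ => Nat.zero_le _) hψ
        omega
      have h2 : d ψ = 1 := by
        by_contra h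
        have := hbig ψ h
        have := Nat.le_mul_of_pos_left (d ψ) (Nat.pos_of_ne_zero h0)
        omega
      rw [hlin ψ h2 k, h2]
      simp
  -- Schur
  obtain ⟨m, σ, hσ, hψσ⟩ := ψ₀.2
  haveI := hσ
  obtain ⟨ω, hω⟩ := Chars.exists_scalar_of_mem_center σ z w.2.2
  have hval : ∀ k : ℕ, (ψ₀ : P → ℂ) (z ^ k) = (p : ℂ) * ω ^ k := by
    intro k
    have h1 : σ (z ^ k) = ω ^ k • LinearMap.id := by
      rw [map_pow, hω, ← Module.End.one_eq_id, smul_pow, one_pow]
    have h2 : (m : ℂ) = (p : ℂ) := by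
      have := hd ψ₀
      rw [← hψσ, hd₀p] at this
      simpa using this
    rw [← hψσ, Representation.character, h1, map_smul, LinearMap.trace_id, smul_eq_mul, ← h2]
    simp [mul_comm]
  have hp' : (p : ℂ) ≠ 0 := Nat.cast_ne_zero.2 hp0
  refine ⟨(z : G), ω, ?_, ?_, ?_, by omega, ?_⟩
  · rw [← Subgroup.coe_pow, hzp, Subgroup.coe_one]
  · have := hval p
    rw [hzp, hd, hd₀p] at this
    exact (mul_right_eq_self₀.1 this.symm).resolve_right hp'
  · intro h1
    apply hψ₀
    rw [← pow_one z, hval 1, h1, hd₀p]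
    simp
  · intro k
    rw [← Subgroup.coe_pow, hexp, ← Finset.add_sum_erase _ _ (Finset.mem_univ ψ₀), hc₀1,
      Nat.cast_one, one_mul, hval, Finset.sum_congr rfl fun ψ hψ => hrest ψ hψ k, ← Nat.cast_sum]
    congr 2
    omega

/-- An element with two eigenvalues close together generates an abelian normal `p`-subgroup. -/
lemma exists_normalClosure_abelian {χ : G → ℂ} (hχ : IsCharacter G χ)
    (hfaith : ∀ g : G, χ g = χ 1 → g = 1) {n p : ℕ} [hp : Fact p.Prime] (h7 : 7 ≤ p)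
    (hn : χ 1 = n) (hn2 : n < 2 * p) {P : Subgroup G} (hP : IsPGroup p P)
    (hne : ∃ x ∈ P, ∃ y ∈ P, x * y ≠ y * x) :
    ∃ (A : Subgroup G) (z : G) (ω : ℂ), A.Normal ∧ (∀ x ∈ A, ∀ y ∈ A, x * y = y * x) ∧
      z ∈ A ∧ z ^ p = 1 ∧ ω ^ p = 1 ∧ ω ≠ 1 ∧ p ≤ n ∧
      ∀ k : ℕ, χ (z ^ k) = (p : ℂ) * ω ^ k + ((n - p : ℕ) : ℂ) := by
  classical
  obtain ⟨z₀, ω₀, hz₀, hω₀, hω₀1, hpn, hval₀⟩ := exists_special hχ hfaith hn hn2 hP hne
  have hp0 : p ≠ 0 := hp.out.ne_zero
  haveI : NeZero p := ⟨hp0⟩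
  set ε : ℂ := Complex.exp (2 * Real.pi * Complex.I / p) with hε
  have hεprim : IsPrimitiveRoot ε p := Complex.isPrimitiveRoot_exp p hp0
  have hω₀prim : IsPrimitiveRoot ω₀ p := IsPrimitiveRoot.iff_orderOf.2 (orderOf_eq_prime hω₀ hω₀1)
  obtain ⟨j, -, hj⟩ := hω₀prim.eq_pow_of_pow_eq_one hεprim.pow_eq_one
  set z := z₀ ^ j with hz
  have hval : ∀ k : ℕ, χ (z ^ k) = (p : ℂ) * ε ^ k + ((n - p : ℕ) : ℂ) := fun k => by
    rw [hz, ← pow_mul, hval₀, ← hj, ← pow_mul]
  have hzp : z ^ p = 1 := by rw [hz, ← pow_mul, mul_comm, pow_mul, hz₀, one_pow]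
  obtain ⟨N, ρ, hρ'⟩ := hχ
  have hρ : χ = ρ.character := hρ'.symm
  have hNn : N = n := by
    have := hn
    rw [hρ] at this
    simpa using this
  subst hNn
  have hinj : Function.Injective ρ := by
    rw [injective_iff_map_eq_one]
    intro g hg
    refine hfaith g ?_
    rw [hρ]
    simp [Representation.character, hg]
  obtain ⟨b, μ, hμ, hb⟩ := Chars.exists_eigenbasis (ρ z) (N := p) hp.out.pos
    (by rw [← map_pow, hzp, map_one])
  have hpowb : ∀ (k : ℕ) i, (ρ z ^ k) (b i) = μ i ^ k • b i := by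
    intro k i
    induction k with
    | zero => simp
    | succ k ih => rw [pow_succ', Module.End.mul_apply, ih, map_smul, hb, smul_smul, pow_succ]
  have htr : ∀ k : ℕ, ((1 : ℕ) : ℂ) * ∑ i, μ i ^ k = (p : ℂ) * ε ^ k + ((N - p : ℕ) : ℂ) := by
    intro k
    rw [← hval k, hρ, Representation.character, map_pow,
      Chars.trace_eq_sum_of_eigenbasis _ b (fun i => μ i ^ k) (hpowb k)]
    simp
  have hmu : ∀ i, μ i = ε ∨ μ i = 1 := by
    intro i
    by_contra hcon
    push Not at hcon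
    have h := mul_count Finset.univ μ hp0 1 hεprim.pow_eq_one (fun i _ => hμ i) htr (hμ i)
    rw [if_neg (Ne.symm hcon.1), if_neg (Ne.symm hcon.2), one_mul, Finset.card_eq_zero,
      Finset.filter_eq_empty_iff] at h
    exact h (Finset.mem_univ i) rfl
  -- the scalar between the two eigenvalues
  set x : ℝ := Real.pi / p with hx
  set α : ℂ := Complex.exp (Complex.I * x) with hα
  have hx0 : 0 ≤ x := by positivity
  have hx2 : x < 1 / 2 := by
    rw [hx, div_lt_iff₀ (by exact_mod_cast hp.out.pos)]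
    have : (7 : ℝ) ≤ p := by exact_mod_cast h7
    linarith [Real.pi_lt_d2]
  have hαn : ‖α‖ = 1 := by rw [hα, mul_comm, Complex.norm_exp_ofReal_mul_I]
  have hd1 : ‖α - 1‖ < 1 / 2 := by
    refine lt_of_le_of_lt Real.norm_exp_I_mul_ofReal_sub_one_le ?_
    rwa [Real.norm_eq_abs, abs_of_nonneg hx0]
  have hε2 : ε = α * α := by
    rw [hε, hα, ← Complex.exp_add]
    congr 1
    rw [hx]; push_cast; ring
  have hdist : ∀ i, ‖μ i - α‖ < 1 / 2 := by
    intro i
    rcases hmu i with h | h <;> rw [h]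
    · rw [hε2, show α * α - α = α * (α - 1) by ring, norm_mul, hαn, one_mul]
      exact hd1
    · rwa [norm_sub_rev]
  have hl : ∀ i, μ i ^ Nat.card G = 1 := by
    intro i
    have h1 := hpowb (Nat.card G) i
    rw [← map_pow, pow_card_eq_one', map_one, Module.End.one_apply] at h1
    exact smul_left_injective ℂ (b.ne_zero i) (h1.symm.trans (one_smul ℂ (b i)).symm)
  let e := LocalEven.TwoSided.emb ρ
  have hinv : ∀ g x y, inner ℂ (e (ρ g x)) (e (ρ g y)) = inner ℂ (e x) (e y) :=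
    fun g x y => LocalEven.TwoSided.inner_emb ρ g x y
  have hsmall : LinearGroups.IsSmall ρ e z :=
    LinearGroups.isSmall_of_eigen hinv b b.span_eq z α (by rw [hαn]; norm_num) μ hl hb hdist
  set A := Subgroup.normalClosure ({z} : Set G) with hA
  have hconj : ∀ g ∈ Group.conjugatesOfSet ({z} : Set G), LinearGroups.IsSmall ρ e g := by
    intro g hg
    obtain ⟨a, ha, hc⟩ := Group.mem_conjugatesOfSet_iff.1 hg
    rw [Set.mem_singleton_iff.1 ha] at hc
    obtain ⟨h, rfl⟩ := isConj_iff.1 hc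
    exact hsmall.conj hinv h
  have hcomm : ∀ x ∈ A, ∀ y ∈ A, x * y = y * x := by
    intro x hx y hy
    refine Subgroup.closure_induction₂ (fun a c ha hc => ?_) (fun a _ => by simp) (fun a _ => by simp)
      (fun a c d _ _ _ h1 h2 => ?_) (fun a c d _ _ _ h1 h2 => ?_) (fun a c _ _ h => ?_)
      (fun a c _ _ h => ?_) hx hy
    · exact ((hconj a ha).commute hinv (LocalEven.TwoSided.emb_injective ρ) hinj (hconj c hc)).eq
    · exact (Commute.mul_left h1 h2).eq
    · exact (Commute.mul_right h1 h2).eq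
    · exact (Commute.inv_left h).eq
    · exact (Commute.inv_right h).eq
  refine ⟨A, z, ε, inferInstance, hcomm, Subgroup.subset_normalClosure rfl, hzp,
    hεprim.pow_eq_one, hεprim.ne_one hp.out.one_lt, hpn, ?_⟩
  exact hval

lemma not_sq_dvd_factorial {n p : ℕ} (hp : p.Prime) (hn : n < 2 * p) :
    ¬ p ^ 2 ∣ n.factorial := by
  intro h
  have hlog : Nat.log p n < 2 := by
    apply Nat.log_lt_of_lt_pow'
    · omega
    · exact hn.trans_le (by rw [sq]; exact Nat.mul_le_mul_right p hp.two_le)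
  rw [Nat.Prime.pow_dvd_factorial_iff hp hlog] at h
  simp only [Nat.Ico_succ_singleton, Finset.sum_singleton, pow_one] at h
  have : n / p < 2 := Nat.div_lt_of_lt_mul (by rwa [mul_comm])
  omega

/-- Non-abelian Sylow subgroups: `p²` does not divide the index of `O_p`. -/
theorem not_sq_dvd_index {χ : G → ℂ} (hχ : IsIrrCharacter G χ)
    (hfaith : ∀ g : G, χ g = χ 1 → g = 1) {n p : ℕ} [hp : Fact p.Prime] (h7 : 7 ≤ p)
    (hn : χ 1 = n) (hn2 : n < 2 * p) (hnp : n ≠ p) {P : Subgroup G} (hP : IsPGroup p P)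
    (hne : ∃ x ∈ P, ∃ y ∈ P, x * y ≠ y * x) :
    ¬ p ^ 2 ∣ (pCore p G).index := by
  classical
  have hχc := Chars.isCharacter_of_irr hχ
  have hp0 : p ≠ 0 := hp.out.ne_zero
  obtain ⟨A, z, ω, hAn, hcomm, hzA, hzp, hω, hω1, hpn, hval⟩ :=
    exists_normalClosure_abelian hχc hfaith h7 hn hn2 hP hne
  haveI := hAn
  let _ := Fintype.ofFinite A
  have hres : IsCharacter A (fun a : A => χ a) := Chars.isCharacter_restrict A hχc
  obtain ⟨θ, hθ⟩ := Chars.exists_constituent hres fun h0 => by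
    have := congrFun h0 1
    simp only [OneMemClass.coe_one, hn, Pi.zero_apply, Nat.cast_eq_zero] at this
    omega
  have hdeg1 : ∀ φ : A → ℂ, IsIrrCharacter A φ → φ 1 = 1 :=
    fun φ hφ => Chars.irr_abelian_degree (fun a c => Subtype.ext (hcomm a a.2 c c.2)) hφ
  obtain ⟨e, he⟩ := Chars.inner_char_nat hres (Chars.isCharacter_of_irr θ.2)
  have hdeg := clifford_degree A hχ θ.2 hθ
  rw [hn, he, hdeg1 _ θ.2, mul_one, ← card_orbitFn A (θ : A → ℂ)] at hdeg
  have hnet : n = e * (orbitFn A (θ : A → ℂ)).card := by exact_mod_cast hdeg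
  have hcl : ∀ a : A, χ a = (e : ℂ) * ∑ φ ∈ orbitFn A (θ : A → ℂ), φ a := by
    intro a
    have := congrFun (clifford A hχ θ.2 hθ) a
    rw [Pi.smul_apply, smul_eq_mul, Finset.sum_apply, he] at this
    exact this
  have hpow : ∀ φ ∈ orbitFn A (θ : A → ℂ), ∀ k : ℕ,
      φ (⟨z, hzA⟩ ^ k) = φ ⟨z, hzA⟩ ^ k := by
    intro φ hφ k
    obtain ⟨lam, rfl⟩ := Chars.exists_hom_of_degree_one
      (Chars.isCharacter_of_irr (orbitFn_irr A θ.2 hφ)) (hdeg1 _ (orbitFn_irr A θ.2 hφ))
    show ((lam (⟨z, hzA⟩ ^ k) : ℂˣ) : ℂ) = (lam ⟨z, hzA⟩ : ℂ) ^ k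
    rw [map_pow, Units.val_pow_eq_pow_val]
  have hcount := mul_count (orbitFn A (θ : A → ℂ)) (fun φ => φ ⟨z, hzA⟩) hp0 e hω
    (a := p) (b := n - p)
    (fun φ hφ => by
      rw [← hpow φ hφ p, show (⟨z, hzA⟩ : A) ^ p = 1 from Subtype.ext hzp,
        hdeg1 _ (orbitFn_irr A θ.2 hφ)])
    (fun k => by
      rw [← hval k, show z ^ k = (((⟨z, hzA⟩ : A) ^ k : A) : G) from rfl, hcl]
      congr 1
      exact Finset.sum_congr rfl fun φ hφ => (hpow φ hφ k).symm)
    (ζ := ω) hω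
  rw [if_pos rfl, if_neg (Ne.symm hω1), add_zero] at hcount
  have he1 : e = 1 := by
    rcases (Nat.dvd_prime hp.out).1 (Dvd.intro _ hcount) with h | h
    · exact h
    · exfalso
      have hnet' : p ∣ n := ⟨_, h ▸ hnet⟩
      obtain ⟨t, rfl⟩ := hnet'
      rcases t with _ | _ | t
      · omega
      · exact hnp (mul_one p)
      · have : p * 2 ≤ p * (t + 1 + 1) := Nat.mul_le_mul_left p (by omega)
        omega
  rw [he1, one_mul] at hnet
  rw [he1, Nat.cast_one] at he
  simp only [he1, Nat.cast_one, one_mul] at hcl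
  -- the centraliser is abelian
  set K := Subgroup.centralizer (A : Set G) with hK
  have hAK : A ≤ K := fun a ha => Subgroup.mem_centralizer_iff.2 fun b hb => hcomm b hb a ha
  let _ := Fintype.ofFinite K
  let _ := Chars.irrFintype K
  let f : A →* K := Subgroup.inclusion hAK
  have hKχ : IsCharacter K (fun x : K => χ x) := Chars.isCharacter_restrict K hχc
  have hKlin : ∀ ψ : IrrCharacter K, multNat (fun x : K => χ x) (ψ : K → ℂ) ≠ 0 →
      (ψ : K → ℂ) 1 = 1 := by
    intro ψ hψ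
    obtain ⟨m, σ, hσ, hψσ⟩ := ψ.2
    haveI := hσ
    have hm : 0 < m := by simpa using Chars.finrank_pos_of_isIrreducible σ
    have hmul : (ψ : K → ℂ) 1 = (m : ℂ) := by rw [← hψσ]; simp
    have hψA : IsCharacter A ((ψ : K → ℂ) ∘ f) :=
      Chars.isCharacter_comp f (Chars.isCharacter_of_irr ψ.2)
    have hA1 : ((ψ : K → ℂ) ∘ f) 1 = (m : ℂ) := by simp [hmul]
    obtain ⟨θ', hθ'⟩ := Chars.exists_constituent hψA fun h0 => by
      rw [h0] at hA1
      simp only [Pi.zero_apply] at hA1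
      exact hm.ne (by exact_mod_cast hA1)
    have hcen : ∀ a : A, f a ∈ Subgroup.center K := fun a => Subgroup.mem_center_iff.2 fun x =>
      Subtype.ext (Subgroup.mem_centralizer_iff.1 x.2 a a.2).symm
    choose c hc using fun a : A => Chars.exists_scalar_of_mem_center σ (f a) (hcen a)
    have hval' : ∀ a : A, ((ψ : K → ℂ) ∘ f) a = (m : ℂ) * c a := by
      intro a
      rw [Function.comp_apply, ← hψσ, Representation.character, hc a, map_smul, LinearMap.trace_id,
        smul_eq_mul]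
      simp [mul_comm]
    have hmA : multNat ((ψ : K → ℂ) ∘ f) (θ' : A → ℂ) ≠ 0 :=
      multNat_ne_zero hψA (Chars.isCharacter_of_irr θ'.2) hθ'
    -- the restriction is a multiple of a linear character
    haveI : Nontrivial (Fin m → ℂ) := Chars.nontrivial_of_isIrreducible σ
    have hc1 : c 1 = 1 := by
      have h := hval' 1
      rw [hA1] at h
      exact (mul_left_cancel₀ (Nat.cast_ne_zero.2 hm.ne') (by rw [mul_one]; exact h)).symm
    have hcmul : ∀ a a' : A, c (a * a') = c a * c a' := fun a a' => by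
      have h1 := hc (a * a')
      rw [map_mul, map_mul, hc a, hc a', Module.End.mul_eq_comp, LinearMap.smul_comp,
        LinearMap.id_comp, smul_smul] at h1
      exact (smul_left_injective ℂ (one_ne_zero (α := Module.End ℂ (Fin m → ℂ))) h1).symm
    have hcu : ∀ a : A, IsUnit (c a) := fun a => isUnit_iff_exists_inv.2 ⟨c a⁻¹, by
      rw [← hcmul, mul_inv_cancel, hc1]⟩
    let lam : A →* ℂˣ := MonoidHom.mk' (fun a => (hcu a).unit) fun a a' => Units.ext (hcmul a a')
    have hlam := Chars.isIrrCharacter_linear lam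
    have hin : classInner ((ψ : K → ℂ) ∘ f) (fun a => (lam a : ℂ)) = (m : ℂ) := by
      rw [show ((ψ : K → ℂ) ∘ f) = (m : ℂ) • (fun a => (lam a : ℂ)) from funext fun a => hval' a,
        Chars.inner_smul_left, Chars.inner_irr_self ⟨_, hlam⟩, mul_one]
    have hmlam : multNat ((ψ : K → ℂ) ∘ f) (fun a => (lam a : ℂ)) = m := by
      exact_mod_cast ((inner_eq_multNat hψA (Chars.isCharacter_of_irr hlam)).symm.trans hin)
    have hle := inner_restrict_ge f hKχ (Chars.isCharacter_of_irr hlam) {ψ}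
    rw [Finset.sum_singleton, hmlam] at hle
    have hχA : IsCharacter A ((fun x : K => χ x) ∘ f) := Chars.isCharacter_comp f hKχ
    have hone : multNat ((fun x : K => χ x) ∘ f) (fun a => (lam a : ℂ)) ≤ 1 := by
      have h1 := (inner_eq_multNat hχA (Chars.isCharacter_of_irr hlam)).symm
      rw [show ((fun x : K => χ x) ∘ f) = ∑ φ ∈ orbitFn A (θ : A → ℂ), φ from
        funext fun a => by rw [Finset.sum_apply]; exact hcl a] at h1 ⊢
      rw [Chars.inner_sum_left, Finset.sum_congr rfl fun φ hφ =>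
        Chars.inner_irr_of_isIrr (orbitFn_irr A θ.2 hφ) hlam, Finset.sum_ite_eq'] at h1
      split_ifs at h1
      · exact (Nat.cast_eq_one.1 h1).le
      · rw [Nat.cast_eq_zero] at h1
        omega
    have h1 : m ≤ multNat (fun x : K => χ x) (ψ : K → ℂ) * m :=
      Nat.le_mul_of_pos_left m (Nat.pos_of_ne_zero hψ)
    have hm1 : m = 1 := by omega
    rw [hmul, hm1, Nat.cast_one]
  have hKab : ∀ x y : K, x * y = y * x := by
    intro x y
    have h1 : χ ((x * y * x⁻¹ * y⁻¹ : K) : G) = χ 1 := by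
      have hexp : ∀ g : K, χ g = ∑ ψ : IrrCharacter K,
          (multNat (fun x : K => χ x) (ψ : K → ℂ) : ℂ) * (ψ : K → ℂ) g := fun g => by
        simpa [Finset.sum_apply] using congrFun (char_eq_sum_multNat hKχ) g
      rw [hexp, show χ 1 = χ ((1 : K) : G) from rfl, hexp]
      refine Finset.sum_congr rfl fun ψ _ => ?_
      by_cases h0 : multNat (fun x : K => χ x) (ψ : K → ℂ) = 0
      · simp [h0]
      · obtain ⟨lam, hlam⟩ := Chars.exists_hom_of_degree_one (Chars.isCharacter_of_irr ψ.2)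
          (hKlin ψ h0)
        rw [congrFun hlam, congrFun hlam, map_mul, map_mul, map_mul, map_inv, map_inv,
          mul_inv_cancel_comm, mul_inv_cancel, map_one]
    have h2 : x * y * x⁻¹ * y⁻¹ = 1 := Subtype.ext (hfaith _ h1)
    exact mul_inv_eq_iff_eq_mul.1 (mul_inv_eq_one.1 h2)
  -- its index divides `n!`
  have hKidx : K.index ∣ n.factorial := by
    let X := {φ // φ ∈ orbitFn A (θ : A → ℂ)}
    have hmem : ∀ (g : G) (φ : X), conjFn A g φ.1 ∈ orbitFn A (θ : A → ℂ) := fun g φ => by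
      obtain ⟨h, hh⟩ := (mem_orbitFn A).1 φ.2
      exact (mem_orbitFn A).2 ⟨h * g, by rw [conjFn_mul, hh]⟩
    let toP : G → Equiv.Perm X := fun g =>
      { toFun := fun φ => ⟨conjFn A g⁻¹ φ.1, hmem _ φ⟩
        invFun := fun φ => ⟨conjFn A g φ.1, hmem _ φ⟩
        left_inv := fun φ => Subtype.ext (show conjFn A g (conjFn A g⁻¹ φ.1) = φ.1 by
          rw [← conjFn_mul, inv_mul_cancel, conjFn_one])
        right_inv := fun φ => Subtype.ext (show conjFn A g⁻¹ (conjFn A g φ.1) = φ.1 by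
          rw [← conjFn_mul, mul_inv_cancel, conjFn_one]) }
    let act : G →* Equiv.Perm X := MonoidHom.mk' toP fun g h => Equiv.ext fun φ => Subtype.ext
      (show conjFn A (g * h)⁻¹ φ.1 = conjFn A g⁻¹ (conjFn A h⁻¹ φ.1) by
        rw [← conjFn_mul, mul_inv_rev])
    have hker : act.ker ≤ K := by
      intro g hg
      refine Subgroup.mem_centralizer_iff.2 fun a ha => ?_
      have h1 : ∀ φ ∈ orbitFn A (θ : A → ℂ),
          φ (conjBy A g⁻¹ ⟨a, ha⟩) = φ ⟨a, ha⟩ := fun φ hφ => by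
        have := congrArg (fun π : Equiv.Perm X => (π ⟨φ, hφ⟩).1) (MonoidHom.mem_ker.1 hg)
        exact congrFun this ⟨a, ha⟩
      have h2 : χ ((conjBy A g⁻¹ ⟨a, ha⟩ * (⟨a, ha⟩ : A)⁻¹ : A) : G) = χ 1 := by
        rw [hcl, show χ 1 = χ ((1 : A) : G) from rfl, hcl]
        refine Finset.sum_congr rfl fun φ hφ => ?_
        obtain ⟨lam, rfl⟩ := Chars.exists_hom_of_degree_one
          (Chars.isCharacter_of_irr (orbitFn_irr A θ.2 hφ)) (hdeg1 _ (orbitFn_irr A θ.2 hφ))
        have h3 : lam (conjBy A g⁻¹ ⟨a, ha⟩) = lam ⟨a, ha⟩ := Units.ext (h1 _ hφ)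
        simp [h3]
      have h4 := congrArg Subtype.val (mul_inv_eq_one.1 (Subtype.ext (hfaith _ h2) :
        conjBy A g⁻¹ ⟨a, ha⟩ * (⟨a, ha⟩ : A)⁻¹ = 1))
      simp only [conjBy, MonoidHom.coe_mk, OneHom.coe_mk, inv_inv] at h4
      calc a * g = g * (g⁻¹ * a * g) := by group
        _ = g * a := by rw [h4]
    refine (Subgroup.index_dvd_of_le hker).trans ?_
    rw [Subgroup.index_ker]
    refine (Subgroup.card_subgroup_dvd_card act.range).trans ?_
    rw [Nat.card_perm, Nat.card_eq_fintype_card, Fintype.card_coe, ← hnet]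
  -- the Sylow subgroup of the centraliser
  intro hdvd
  obtain ⟨S⟩ : Nonempty (Sylow p K) := inferInstance
  haveI : (S : Subgroup K).Normal := ⟨fun x hx g => by
    rwa [hKab g x, mul_inv_cancel_right]⟩
  haveI : (S : Subgroup K).Characteristic := S.characteristic_of_normal inferInstance
  haveI : ((S : Subgroup K).map K.subtype).Normal := inferInstance
  have hle := Base.le_pCore (p := p) (N := (S : Subgroup K).map K.subtype) (S.2.map _)
  have h1 := hdvd.trans (Subgroup.index_dvd_of_le hle)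
  rw [Subgroup.index_map_subtype] at h1
  exact not_sq_dvd_factorial hp.out hn2 ((((hp.out.coprime_iff_not_dvd.2 S.not_dvd_index).pow_left
    2).dvd_of_dvd_mul_left h1).trans hKidx)

end CfsgLib.CharsMore.LtTwoP
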