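import Cfsg.Agent.Lib.CharsMore.BrauerSuzukiQuaternion
import Cfsg.Agent.Lib.Transfer.ThompsonTransfer
import Mathlib

/-!
# Perfect groups with an involution centraliser dihedral of order eight
-/

set_option linter.style.haveILetI false
set_option linter.unusedSectionVars false

namespace CfsgLib.CharsMore

open Cfsg
open scoped ComplexConjugate
open Grid

/-- Two signed integers with the given sums are equal. -/
lemma signed_pair {u v c e : ℤ} (hu : u = 1 ∨ u = -1) (hv : v = 1 ∨ v = -1) (hc : 0 < c) (he : 0 < e)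
    {s : ℤ} (hs : u * c + v * e = s) (h : s * (u * e + v * c) = 4 * (c * e)) : c = e ∧ v = u := by
  subst hs
  rcases hu with rfl | rfl <;> rcases hv with rfl | rfl
  · exact ⟨by nlinarith [mul_self_nonneg (c - e)], rfl⟩
  · exfalso; nlinarith [mul_pos hc he, mul_self_nonneg (c - e)]
  · exfalso; nlinarith [mul_pos hc he, mul_self_nonneg (c - e)]
  · exact ⟨by nlinarith [mul_self_nonneg (c - e)], rfl⟩

lemma order_case_one {g c m : ℕ} (h8 : 8 ∣ g) (h : g * (c + 1) ^ 2 = 128 * (c * (2 * c + 1)))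
    (hm : g = 1 + (2 * c + 1) ^ 2 + (2 * c) ^ 2 + 2 * c ^ 2 + 64 * m) : g = 168 ∨ g = 360 := by
  have hcop : Nat.Coprime ((c + 1) ^ 2) (c * (2 * c + 1)) := by
    refine Nat.Coprime.pow_left 2 (Nat.Coprime.mul_right ?_ ?_)
    · simp
    · refine Nat.coprime_of_dvd fun k hk h1 h2 => hk.ne_one ?_
      have h3 := Nat.dvd_sub (h1.mul_left 2) h2
      rw [show 2 * (c + 1) - (2 * c + 1) = 1 by omega] at h3
      exact Nat.dvd_one.1 h3
  have hd : (c + 1) ^ 2 ∣ 128 := hcop.dvd_of_dvd_mul_right (Dvd.intro_left g h)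
  have hle := Nat.le_of_dvd (by norm_num) hd
  have hc : c ≤ 10 := by nlinarith
  interval_cases c <;>
    first | (exfalso; revert hd; norm_num; done) | (revert h hm; norm_num; omega)

lemma order_case_two {g w m : ℕ} (h8 : 8 ∣ g) (h : g * w ^ 2 = 128 * ((w + 1) * (2 * w + 1)))
    (hm : g = 1 + (2 * w + 2) ^ 2 + (2 * w + 1) ^ 2 + 2 * (w + 1) ^ 2 + 64 * m) :
    g = 168 ∨ g = 360 := by
  have hcop : Nat.Coprime (w ^ 2) ((w + 1) * (2 * w + 1)) := by
    refine Nat.Coprime.pow_left 2 (Nat.Coprime.mul_right ?_ ?_)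
    · simp
    · refine Nat.coprime_of_dvd fun k hk h1 h2 => hk.ne_one ?_
      have h3 := Nat.dvd_sub h2 (h1.mul_left 2)
      rw [show 2 * w + 1 - 2 * w = 1 by omega] at h3
      exact Nat.dvd_one.1 h3
  have hd : w ^ 2 ∣ 128 := hcop.dvd_of_dvd_mul_right (Dvd.intro_left g h)
  have hle := Nat.le_of_dvd (by norm_num) hd
  have hc : w ≤ 11 := by nlinarith
  interval_cases w <;>
    first | (exfalso; revert hd; norm_num; done) | (exfalso; revert h; norm_num; done) |
      (revert h hm; norm_num; omega)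

variable {G : Type*} [Group G] [Fintype G]

set_option maxHeartbeats 2000000 in
/-- The order of a perfect group with an involution centraliser dihedral of order eight. -/
theorem perfect_dihedral_eight_order (hperf : commutator G = ⊤) (t : G) (ht : orderOf t = 2)
    (e : Subgroup.centralizer ({t} : Set G) ≃* DihedralGroup 4) :
    Nat.card G = 168 ∨ Nat.card G = 360 := by
  classical
  set N := Subgroup.centralizer ({t} : Set G) with hN
  set a : G := ((e.symm (.r 1) : N) : G) with hadef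
  set b : G := ((e.symm (.sr 0) : N) : G) with hbdef
  have haN : a ∈ N := (e.symm (.r 1)).2
  have hbN : b ∈ N := (e.symm (.sr 0)).2
  have ha : orderOf a = 4 := by
    rw [hadef, Subgroup.orderOf_coe, MulEquiv.orderOf_eq, DihedralGroup.orderOf_r_one]
  have hb : orderOf b = 2 := by
    rw [hbdef, Subgroup.orderOf_coe, MulEquiv.orderOf_eq, DihedralGroup.orderOf_sr]
  have hba : b * a * b⁻¹ = a⁻¹ := by
    have : e.symm (.sr 0) * e.symm (.r 1) * (e.symm (.sr 0))⁻¹ = (e.symm (.r 1))⁻¹ := by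
      rw [← map_inv, ← map_inv, ← map_mul, ← map_mul]
      congr 1
    exact congrArg Subtype.val this
  have hbpow : ∀ i : ℕ, b * a ^ i * b⁻¹ = (a ^ i)⁻¹ := fun i => by
    rw [← conj_pow, hba, inv_pow]
  have hcover : ∀ x ∈ N, ∃ i : ℕ, x = a ^ i ∨ x = b * a ^ i := by
    intro x hx
    have hr : ∀ i : ZMod 4, (DihedralGroup.r 1 : DihedralGroup 4) ^ i.val = .r i := fun i => by
      rw [DihedralGroup.r_one_pow, ZMod.natCast_zmod_val]
    rcases hx' : e ⟨x, hx⟩ with i | i
    · refine ⟨i.val, Or.inl ?_⟩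
      have : (⟨x, hx⟩ : N) = e.symm (.r 1) ^ i.val := by
        rw [← map_pow, hr, ← hx', MulEquiv.symm_apply_apply]
      exact congrArg Subtype.val this
    · refine ⟨i.val, Or.inr ?_⟩
      have : (⟨x, hx⟩ : N) = e.symm (.sr 0) * e.symm (.r 1) ^ i.val := by
        rw [← map_pow, hr, ← map_mul, DihedralGroup.sr_mul_r, zero_add, ← hx',
          MulEquiv.symm_apply_apply]
      exact congrArg Subtype.val this
  have ha4 : a ^ 4 = 1 := ha ▸ pow_orderOf_eq_one a
  have hamod : ∀ i : ℕ, a ^ i = a ^ (i % 4) := fun i => by rw [← ha, pow_mod_orderOf]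
  -- the given involution is the square of `a`
  have htN : t ∈ N := Subgroup.mem_centralizer_singleton_iff.2 rfl
  have htc : ∀ x ∈ N, x * t = t * x := fun x hx => Subgroup.mem_centralizer_singleton_iff.1 hx
  have ha2 : orderOf (a ^ 2) = 2 := by
    rw [orderOf_pow_of_dvd two_ne_zero (ha ▸ by norm_num), ha]
  have hcentral : ∀ z ∈ N, z * a = a * z → z * b = b * z → z = 1 ∨ z = a ^ 2 := by
    intro z hz hza hzb
    obtain ⟨i, rfl | rfl⟩ := hcover z hz
    · have h := hbpow i
      rw [← hzb, mul_inv_cancel_right, eq_inv_iff_mul_eq_one, ← pow_add,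
        ← orderOf_dvd_iff_pow_eq_one, ha] at h
      rw [hamod i]
      obtain h0 | h0 : i % 4 = 0 ∨ i % 4 = 2 := by omega
      · left; rw [h0, pow_zero]
      · right; rw [h0]
    · exfalso
      have h1 : b * a = a * b := mul_right_cancel (b := a ^ i) (by
        rw [mul_assoc, (Commute.self_pow a i).eq, ← mul_assoc, hza, mul_assoc])
      rw [h1, mul_inv_cancel_right, eq_inv_iff_mul_eq_one, ← sq, ← orderOf_dvd_iff_pow_eq_one,
        ha] at hba
      norm_num at hba
  have ht2 : t = a ^ 2 :=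
    (hcentral t htN (htc a haN).symm (htc b hbN).symm).resolve_left fun h => by
      rw [h, orderOf_one] at ht; omega
  have hcardN : Nat.card N = 8 := by rw [Nat.card_congr e.toEquiv, DihedralGroup.nat_card]
  -- the centraliser is a Sylow subgroup
  have hNp : IsPGroup 2 N := IsPGroup.iff_card.2 ⟨3, by rw [hcardN]; norm_num⟩
  obtain ⟨S, hS⟩ := hNp.exists_le_sylow
  have hSN : (S : Subgroup G) = N := by
    refine le_antisymm ?_ hS
    haveI : Nontrivial (S : Subgroup G) := ⟨⟨⟨t, hS htN⟩, 1, fun h => by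
      rw [show t = 1 from congrArg Subtype.val h, orderOf_one] at ht; omega⟩⟩
    haveI := S.2.center_nontrivial
    obtain ⟨z, hz⟩ := exists_ne (1 : Subgroup.center (S : Subgroup G))
    have hzc : ∀ x ∈ (S : Subgroup G), x * ((z : (S : Subgroup G)) : G) = (z : (S : Subgroup G)) * x :=
      fun x hx => congrArg Subtype.val (Subgroup.mem_center_iff.1 z.2 ⟨x, hx⟩)
    have hzN : ((z : (S : Subgroup G)) : G) ∈ N :=
      Subgroup.mem_centralizer_singleton_iff.2 (hzc t (hS htN)).symm
    rcases hcentral _ hzN (hzc a (hS haN)).symm (hzc b (hS hbN)).symm with h | h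
    · exact absurd (Subtype.ext (Subtype.ext h)) hz
    · intro x hx
      refine Subgroup.mem_centralizer_singleton_iff.2 ?_
      have := hzc x hx
      rwa [h, ← ht2] at this
  have h8 : 8 ∣ Nat.card G := hcardN ▸ Subgroup.card_subgroup_dvd_card N
  -- reflections
  have hrefl : ∀ i : ℕ, orderOf (b * a ^ i) = 2 := fun i => by
    refine orderOf_eq_prime ?_ fun h => ?_
    · have h := hbpow i
      rw [sq, mul_assoc b (a ^ i), ← mul_assoc (a ^ i) b]
      calc b * (a ^ i * b * a ^ i) = b * a ^ i * b * a ^ i := by group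
        _ = b * a ^ i * b⁻¹ * a ^ i := by
          rw [inv_eq_of_mul_eq_one_right (show b * b = 1 by rw [← sq, ← hb, pow_orderOf_eq_one])]
        _ = 1 := by rw [h, inv_mul_cancel]
    · have : b = (a ^ i)⁻¹ := eq_inv_of_mul_eq_one_left h
      rw [this, mul_assoc, inv_inv, (Commute.self_pow a i).eq, ← mul_assoc, inv_mul_cancel,
        one_mul, eq_inv_iff_mul_eq_one, ← sq, ← orderOf_dvd_iff_pow_eq_one, ha] at hba
      norm_num at hba
  have hpowinv : ∀ i : ℕ, orderOf (a ^ i) = 2 → a ^ i = t := fun i hi => by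
    rw [hamod] at hi ⊢
    obtain h | h | h | h : i % 4 = 0 ∨ i % 4 = 1 ∨ i % 4 = 2 ∨ i % 4 = 3 := by omega
    · rw [h, pow_zero, orderOf_one] at hi; omega
    · rw [h, pow_one, ha] at hi; omega
    · rw [h, ht2]
    · rw [h, Nat.Coprime.orderOf_pow (by rw [ha]; norm_num), ha] at hi; omega
  -- all involutions are conjugate
  have hinv : ∀ u : G, orderOf u = 2 → IsConj t u := by
    intro u hu
    obtain ⟨R, hR⟩ := ((IsPGroup.iff_card (p := 2)).2 ⟨1, by
      rw [Nat.card_zpowers, hu, pow_one]⟩ : IsPGroup 2 (Subgroup.zpowers u)).exists_le_sylow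
    obtain ⟨c, hc⟩ := MulAction.exists_smul_eq G R S
    have hcu : c * u * c⁻¹ ∈ N := by
      rw [← hSN, ← hc]
      exact Subgroup.smul_mem_pointwise_smul u (MulAut.conj c) _ (hR (Subgroup.mem_zpowers u))
    have hcuo : orderOf (c * u * c⁻¹) = 2 := by rw [← MulAut.conj_apply, MulEquiv.orderOf_eq, hu]
    have hconj : IsConj u (c * u * c⁻¹) := isConj_iff.2 ⟨c, rfl⟩
    refine IsConj.trans ?_ hconj.symm
    obtain ⟨i, hi | hi⟩ := hcover _ hcu
    · rw [hi] at hcuo ⊢
      rw [hpowinv i hcuo]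
    · rw [hi]
      by_contra hno
      obtain ⟨M, hMn, hMi, hMu⟩ := Transfer.exists_index_two_of_not_conj_mem S
        (Q := Subgroup.zpowers a) (Subgroup.zpowers_le.2 (hS haN)) (by
          have h1 := Subgroup.card_mul_index ((Subgroup.zpowers a).subgroupOf (S : Subgroup G))
          rw [Nat.card_congr (Subgroup.subgroupOfEquivOfLe
            (Subgroup.zpowers_le.2 (hS haN))).toEquiv, Nat.card_zpowers, ha, hSN, hcardN] at h1
          rw [Subgroup.relIndex, hSN]
          omega) (hrefl i) (fun g hg => hno (by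
          obtain ⟨j, hj⟩ := (mem_powers_iff_mem_zpowers (G := G)).2 hg
          have hjo : orderOf (a ^ j) = 2 := by
            rw [show a ^ j = g * (b * a ^ i) * g⁻¹ from hj, ← MulAut.conj_apply,
              MulEquiv.orderOf_eq, hrefl]
          have := hpowinv j hjo
          rw [show a ^ j = g * (b * a ^ i) * g⁻¹ from hj] at this
          exact (isConj_iff.2 ⟨g, this⟩ : IsConj (b * a ^ i) t).symm))
      haveI := hMn
      haveI : Fact (Nat.Prime 2) := ⟨Nat.prime_two⟩
      haveI : IsCyclic (G ⧸ M) := isCyclic_of_prime_card (p := 2) (by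
        rw [← Subgroup.index_eq_card, hMi])
      have hle : commutator G ≤ M := by
        rw [commutator_def, Subgroup.commutator_le]
        intro g _ h _
        refine (QuotientGroup.eq_one_iff _).1 ?_
        rw [commutatorElement_def, QuotientGroup.mk_mul, QuotientGroup.mk_mul, QuotientGroup.mk_mul,
          QuotientGroup.mk_inv, QuotientGroup.mk_inv]
        letI : CommGroup (G ⧸ M) := IsCyclic.commGroup
        rw [mul_inv_cancel_comm, mul_inv_cancel]
      rw [hperf, top_le_iff] at hle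
      exact hMu (hle ▸ Subgroup.mem_top _)
  have hconja : IsConj a a⁻¹ := isConj_iff.2 ⟨b, hba⟩
  have hnc : ¬ IsConj t a := fun h => by
    obtain ⟨c, hc⟩ := isConj_iff.1 h
    have : orderOf (c * t * c⁻¹) = 2 := by rw [← MulAut.conj_apply, MulEquiv.orderOf_eq, ht]
    rw [hc, ha] at this; omega
  -- the centraliser of `a`
  have hCa : Nat.card (Subgroup.centralizer ({a} : Set G)) = 4 := by
    have : Subgroup.centralizer ({a} : Set G) = Subgroup.zpowers a := by
      refine le_antisymm (fun x hx => ?_) (Subgroup.zpowers_le.2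
        (Subgroup.mem_centralizer_singleton_iff.2 rfl))
      have hxa : x * a = a * x := Subgroup.mem_centralizer_singleton_iff.1 hx
      have hxN : x ∈ N := Subgroup.mem_centralizer_singleton_iff.2 (by
        rw [ht2]; exact ((show Commute x a from hxa).pow_right 2).eq)
      obtain ⟨i, rfl | rfl⟩ := hcover x hxN
      · exact Subgroup.npow_mem_zpowers _ _
      · exfalso
        have h1 : b * a = a * b := mul_right_cancel (b := a ^ i) (by
          rw [mul_assoc, (Commute.self_pow a i).eq, ← mul_assoc, hxa, mul_assoc])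
        rw [h1, mul_inv_cancel_right, eq_inv_iff_mul_eq_one, ← sq, ← orderOf_dvd_iff_pow_eq_one,
          ha] at hba
        norm_num at hba
    rw [this, Nat.card_zpowers, ha]
  haveI := Chars.irrFintype G
  -- values at `a` and `t`
  have hval : ∀ χ : IrrCharacter G, ∃ x y : ℤ, (χ : G → ℂ) a = x ∧
      (χ : G → ℂ) t = 2 * y - x := by
    intro χ
    set A := Subgroup.zpowers a
    letI : Fintype A := Fintype.ofFinite _
    have hAc : IsCharacter A (fun h : A => (χ : G → ℂ) h) :=
      Chars.isCharacter_restrict A (Chars.isCharacter_of_irr χ.2)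
    set ga : A := ⟨a, Subgroup.mem_zpowers a⟩
    have hgen : ∀ u : A, u ∈ Subgroup.zpowers ga := fun ⟨u, hu⟩ => by
      obtain ⟨k, hk⟩ := Subgroup.mem_zpowers_iff.1 hu
      exact Subgroup.mem_zpowers_iff.2 ⟨k, Subtype.ext (by simpa [ga] using hk)⟩
    set u : ℂˣ := Units.mk0 Complex.I Complex.I_ne_zero
    have hu : u ^ 4 = 1 := Units.ext (by simp [u, Complex.I_pow_four])
    have hou : orderOf u ∣ orderOf ga := by
      rw [Subgroup.orderOf_mk, ha]; exact orderOf_dvd_of_pow_eq_one hu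
    set μ : A →* ℂˣ := monoidHomOfForallMemZpowers hgen hou
    have hμ : μ ga = u := monoidHomOfForallMemZpowers_apply_gen hgen hou
    have hsum : ∀ F : A → ℂ, ∑ h : A, F h = F 1 + F ga + F (ga ^ 2) + F (ga ^ 3) := by
      intro F
      have hfo : IsOfFinOrder a := isOfFinOrder_of_finite a
      have hfin : ∀ i : Fin (orderOf a), finEquivZPowers hfo i = ga ^ (i : ℕ) :=
        fun i => Subtype.ext (by rw [finEquivZPowers_apply]; rfl)
      rw [← (finEquivZPowers hfo).sum_comp, ← (finCongr ha).symm.sum_comp, Fin.sum_univ_four]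
      simp [hfin]
    have h3 : a ^ 3 = a⁻¹ := eq_inv_of_mul_eq_one_left (by rw [← pow_succ, ha4])
    have hva : (χ : G → ℂ) (a ^ 3) = (χ : G → ℂ) a := by
      obtain ⟨c, hc⟩ := isConj_iff.1 hconja
      rw [h3, ← hc, Chars.isClassFunction_irr χ a c]
    have hin : ∀ l : A →* ℂˣ, ∃ m : ℕ, classInner (fun h : A => (χ : G → ℂ) h) (linFun l) = m :=
      fun l => Chars.inner_char_nat hAc (Chars.isCharacter_of_irr (isIrrCharacter_linFun l))
    obtain ⟨m0, h0⟩ := hin 1
    obtain ⟨m1, h1⟩ := hin μ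
    obtain ⟨m2, h2⟩ := hin (μ ^ 2)
    have hcard : Nat.card A = 4 := by rw [Nat.card_zpowers, ha]
    rw [Chars.inner_def, hsum, hcard] at h0 h1 h2
    simp only [linFun, map_one, map_pow, MonoidHom.one_apply, MonoidHom.pow_apply, hμ, u,
      Units.val_one, Units.val_pow_eq_pow_val, Units.val_mk0, OneMemClass.coe_one,
      SubmonoidClass.coe_pow, ga, hva, ← ht2, Complex.conj_I, ← pow_mul] at h0 h1 h2
    refine ⟨(m0 : ℤ) - m2, (m0 : ℤ) - m1, ?_, ?_⟩
    · push_cast
      rw [← h0, ← h2]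
      norm_num [Complex.I_sq, pow_succ, Complex.I_mul_I, Complex.ext_iff]
      constructor <;> ring
    · push_cast
      rw [← h0, ← h1, ← h2]
      norm_num [Complex.I_sq, pow_succ, Complex.I_mul_I, Complex.ext_iff]
      constructor <;> ring
  choose x y hxa hyt using hval
  choose d hd hd1 using fun χ : IrrCharacter G => Chars.irr_degree_nat χ.2
  -- column orthogonality
  have hcol : ∀ h : G, (∀ χ : IrrCharacter G, conj ((χ : G → ℂ) h) = (χ : G → ℂ) h) → ∀ g : G,
      ∑ χ : IrrCharacter G, (χ : G → ℂ) g * (χ : G → ℂ) h =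
        if IsConj g h then (Nat.card (Subgroup.centralizer ({h} : Set G)) : ℂ) else 0 := by
    intro h hreal g
    have h1 := congrArg conj (Chars.second_orthogonality h g)
    rw [map_sum] at h1
    simp only [map_mul, Complex.conj_conj, hreal] at h1
    refine (Finset.sum_congr rfl fun χ _ => mul_comm _ _).trans (h1.trans ?_)
    split_ifs <;> simp
  have hra : ∀ χ : IrrCharacter G, conj ((χ : G → ℂ) a) = (χ : G → ℂ) a := fun χ => by
    rw [hxa, map_intCast]
  have hrt : ∀ χ : IrrCharacter G, conj ((χ : G → ℂ) t) = (χ : G → ℂ) t := fun χ => by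
    rw [hyt, map_sub, map_mul, map_intCast, map_intCast, map_ofNat]
  have haa := hcol a hra a
  rw [if_pos (IsConj.refl a), hCa] at haa
  have htt := hcol t hrt t
  rw [if_pos (IsConj.refl t), ← hN, hcardN] at htt
  have hta := hcol a hra t
  rw [if_neg hnc] at hta
  have h1a := hcol a hra 1
  rw [if_neg (fun h => by rw [isConj_one_right.1 h, orderOf_one] at ha; omega)] at h1a
  have h1t := hcol t hrt 1
  rw [if_neg (fun h => by rw [isConj_one_right.1 h, orderOf_one] at ht; omega)] at h1t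
  simp only [hxa, hyt, hd1] at haa htt hta h1a h1t
  have hx2 : ∑ χ, x χ * x χ = 4 := by exact_mod_cast haa
  have hsplit : ∀ χ, ((2 * (y χ : ℂ) - x χ) * x χ) = ((2 * y χ - x χ) * x χ : ℤ) := fun χ => by
    push_cast; ring
  have htx : ∑ χ, (2 * y χ - x χ) * x χ = 0 := by exact_mod_cast hta
  have ht8 : ∑ χ, (2 * y χ - x χ) * (2 * y χ - x χ) = 8 := by exact_mod_cast htt
  have hxd : ∑ χ, x χ * (d χ : ℤ) = 0 := by
    have : ∑ χ, (d χ : ℤ) * x χ = 0 := by exact_mod_cast h1a
    rw [← this]; exact Finset.sum_congr rfl fun χ _ => mul_comm _ _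
  have hyd : ∑ χ, y χ * (d χ : ℤ) = 0 := by
    have : ∑ χ, (d χ : ℤ) * (2 * y χ - x χ) = 0 := by exact_mod_cast h1t
    have e : ∑ χ, (d χ : ℤ) * (2 * y χ - x χ) =
        2 * ∑ χ, y χ * (d χ : ℤ) - ∑ χ, x χ * (d χ : ℤ) := by
      rw [Finset.mul_sum, ← Finset.sum_sub_distrib]
      exact Finset.sum_congr rfl fun χ _ => by ring
    omega
  have hxy : ∑ χ, x χ * y χ = 2 := by
    have e : ∑ χ, (2 * y χ - x χ) * x χ = 2 * ∑ χ, x χ * y χ - ∑ χ, x χ * x χ := by
      rw [Finset.mul_sum, ← Finset.sum_sub_distrib]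
      exact Finset.sum_congr rfl fun χ _ => by ring
    omega
  have hy2 : ∑ χ, y χ * y χ = 3 := by
    have e : ∑ χ, (2 * y χ - x χ) * (2 * y χ - x χ) =
        4 * ∑ χ, y χ * y χ - 4 * ∑ χ, x χ * y χ + ∑ χ, x χ * x χ := by
      rw [Finset.mul_sum, Finset.mul_sum, ← Finset.sum_sub_distrib, ← Finset.sum_add_distrib]
      exact Finset.sum_congr rfl fun χ _ => by ring
    omega
  -- the class multiplication constants
  set F := Finset.univ.filter (fun g : G => IsConj t g) with hF
  have hFmem : ∀ g, g ∈ F ↔ orderOf g = 2 := fun g => by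
    refine ⟨fun h => ?_, fun h => Finset.mem_filter.2 ⟨Finset.mem_univ _, hinv g h⟩⟩
    obtain ⟨c, rfl⟩ := isConj_iff.1 (Finset.mem_filter.1 h).2
    rw [← MulAut.conj_apply, MulEquiv.orderOf_eq, ht]
  have hB : ∀ h, (h = a ∨ h = t) → (F.filter fun z => z⁻¹ * h ∈ F).card = 4 := by
    intro h hh
    have heq : (F.filter fun z => z⁻¹ * h ∈ F) =
        (Finset.range 4).image (fun i => b * a ^ i) := by
      ext z
      simp only [Finset.mem_filter, hFmem, Finset.mem_image, Finset.mem_range]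
      constructor
      · rintro ⟨hz, hzh⟩
        have hzz : z⁻¹ = z := inv_eq_of_mul_eq_one_right (by rw [← sq, ← hz, pow_orderOf_eq_one])
        have hsq : z * h * z⁻¹ = h⁻¹ := by
          have h1 : (z⁻¹ * h) * (z⁻¹ * h) = 1 := by rw [← sq, ← hzh, pow_orderOf_eq_one]
          rw [hzz] at h1 ⊢
          exact eq_inv_of_mul_eq_one_left (by rw [← h1]; group)
        have hzt : z * t * z⁻¹ = t := by
          rcases hh with rfl | rfl
          · rw [ht2, ← conj_pow, hsq, inv_pow, inv_eq_iff_mul_eq_one, ← pow_add, ha4]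
          · rw [hsq]; exact inv_eq_of_mul_eq_one_right (by rw [← sq, ← ht, pow_orderOf_eq_one])
        obtain ⟨i, rfl | rfl⟩ := hcover z
          (Subgroup.mem_centralizer_singleton_iff.2 (mul_inv_eq_iff_eq_mul.1 hzt))
        · exfalso
          rw [hpowinv i hz] at hzz hzh hsq
          rcases hh with rfl | rfl
          · rw [ht2, (Commute.pow_self a 2).eq, mul_inv_cancel_right, eq_inv_iff_mul_eq_one, ← sq,
              ← orderOf_dvd_iff_pow_eq_one, ha] at hsq
            norm_num at hsq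
          · rw [inv_mul_cancel, orderOf_one] at hzh; omega
        · exact ⟨i % 4, Nat.mod_lt _ (by norm_num), by rw [← hamod]⟩
      · rintro ⟨i, -, rfl⟩
        refine ⟨hrefl i, ?_⟩
        have hzz : (b * a ^ i)⁻¹ = b * a ^ i :=
          inv_eq_of_mul_eq_one_right (by rw [← sq, ← hrefl i, pow_orderOf_eq_one])
        rw [hzz, mul_assoc]
        rcases hh with rfl | rfl
        · rw [← pow_succ]; exact hrefl _
        · rw [ht2, ← pow_add]; exact hrefl _
    rw [heq, Finset.card_image_of_injOn, Finset.card_range]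
    intro i hi j hj hij
    have := pow_injOn_Iio_orderOf (x := a) (by rw [ha]; exact Finset.mem_range.1 hi)
      (by rw [ha]; exact Finset.mem_range.1 hj) (mul_left_cancel hij)
    exact this
  have hpairs : ∀ h, (h = a ∨ h = t) →
      ∑ u ∈ F, ∑ v ∈ F, (if IsConj (u * v) h then (1 : ℂ) else 0) =
        4 * (Nat.card {g : G // IsConj h g} : ℂ) := by
    intro h hh
    have h1 : ∀ u : G, ∑ v ∈ F, (if IsConj (u * v) h then (1 : ℂ) else 0) =
        ∑ z : G, if IsConj z h ∧ u⁻¹ * z ∈ F then (1 : ℂ) else 0 := by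
      intro u
      rw [← Finset.sum_ite_mem_eq F,
        ← Equiv.sum_comp (Equiv.mulLeft u) (fun z => if IsConj z h ∧ u⁻¹ * z ∈ F then (1 : ℂ) else 0)]
      refine Finset.sum_congr rfl fun v _ => ?_
      rw [Equiv.coe_mulLeft, inv_mul_cancel_left]
      by_cases hv : v ∈ F <;> simp [hv]
    rw [Finset.sum_congr rfl fun u _ => h1 u, Finset.sum_comm]
    have h2 : ∀ z : G, ∑ u ∈ F, (if IsConj z h ∧ u⁻¹ * z ∈ F then (1 : ℂ) else 0) =
        if IsConj h z then (4 : ℂ) else 0 := by
      intro z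
      by_cases hz : IsConj h z
      · rw [if_pos hz, Finset.sum_boole]
        obtain ⟨c, rfl⟩ := isConj_iff.1 hz
        have hc : (F.filter fun u => IsConj (c * h * c⁻¹) h ∧ u⁻¹ * (c * h * c⁻¹) ∈ F).card =
            (F.filter fun u => u⁻¹ * h ∈ F).card := by
          refine Finset.card_equiv (MulAut.conj c⁻¹).toEquiv fun u => ?_
          simp only [Finset.mem_filter, hFmem]
          show _ ↔ orderOf (MulAut.conj c⁻¹ u) = 2 ∧ orderOf ((MulAut.conj c⁻¹ u)⁻¹ * h) = 2
          rw [MulEquiv.orderOf_eq,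
            show ((MulAut.conj c⁻¹) u)⁻¹ * h = MulAut.conj c⁻¹ (u⁻¹ * (c * h * c⁻¹)) by
              simp [mul_assoc], MulEquiv.orderOf_eq, and_iff_right hz.symm]
        rw [hc, hB h hh]
        norm_num
      · rw [if_neg hz, Finset.sum_eq_zero]
        exact fun u _ => if_neg fun h3 => hz h3.1.symm
    rw [Finset.sum_congr rfl fun z _ => h2 z, ← Finset.sum_filter, Finset.sum_const,
      nsmul_eq_mul, Nat.card_eq_fintype_card, Fintype.card_subtype, mul_comm]
  have hkt : (Nat.card {g : G // IsConj t g} : ℂ) * 8 = (Nat.card G : ℂ) := by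
    have := Chars.card_isConj_mul_card_centralizer t
    rw [← hN, hcardN] at this
    exact_mod_cast this
  have hka : (Nat.card {g : G // IsConj a g} : ℂ) * 4 = (Nat.card G : ℂ) := by
    have := Chars.card_isConj_mul_card_centralizer a
    rw [hCa] at this
    exact_mod_cast this
  have hk0 : (Nat.card G : ℂ) ≠ 0 := Nat.cast_ne_zero.2 Nat.card_pos.ne'
  have hd0 : ∀ χ, (d χ : ℂ) ≠ 0 := fun χ => Nat.cast_ne_zero.2 (hd χ).ne'
  have hR : ∀ h, (h = a ∨ h = t) →
      ∑ χ : IrrCharacter G, (χ : G → ℂ) h * (χ : G → ℂ) t ^ 2 / (d χ : ℂ) =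
        256 / (Nat.card G : ℂ) := by
    intro h hh
    have hr : ∀ χ : IrrCharacter G, conj ((χ : G → ℂ) h) = (χ : G → ℂ) h := by
      rcases hh with rfl | rfl
      exacts [hra, hrt]
    have e : ∑ u ∈ F, ∑ v ∈ F, ∑ χ : IrrCharacter G, (χ : G → ℂ) h * (χ : G → ℂ) (u * v) =
        (Nat.card (Subgroup.centralizer ({h} : Set G)) : ℂ) *
          (4 * (Nat.card {g : G // IsConj h g} : ℂ)) := by
      rw [← hpairs h hh, Finset.mul_sum]
      refine Finset.sum_congr rfl fun u _ => ?_
      rw [Finset.mul_sum]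
      refine Finset.sum_congr rfl fun v _ => ?_
      refine (Finset.sum_congr rfl fun χ _ => mul_comm _ _).trans ?_
      rw [hcol h hr, mul_ite, mul_one, mul_zero]
    rw [Finset.sum_congr rfl fun u _ => Finset.sum_comm, Finset.sum_comm] at e
    simp only [← Finset.mul_sum] at e
    have hsp : ∀ χ : IrrCharacter G, ∑ u ∈ F, ∑ v ∈ F, (χ : G → ℂ) (u * v) =
        (Nat.card {g : G // IsConj t g} : ℂ) ^ 2 * (χ : G → ℂ) t ^ 2 / (d χ : ℂ) := fun χ => by
      rw [← hd1]; exact QuatData.sum_pairs χ t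
    simp only [hsp] at e
    have hC : (Nat.card (Subgroup.centralizer ({h} : Set G)) : ℂ) *
        (Nat.card {g : G // IsConj h g} : ℂ) = (Nat.card G : ℂ) := by
      have := Chars.card_isConj_mul_card_centralizer h
      rw [mul_comm] at this
      exact_mod_cast this
    rw [mul_left_comm, hC] at e
    have e' : (Nat.card {g : G // IsConj t g} : ℂ) ^ 2 *
        ∑ χ : IrrCharacter G, (χ : G → ℂ) h * (χ : G → ℂ) t ^ 2 / (d χ : ℂ) =
          4 * (Nat.card G : ℂ) := by
      rw [← e, Finset.mul_sum]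
      exact Finset.sum_congr rfl fun χ _ => by ring
    rw [eq_div_iff hk0]
    refine mul_left_cancel₀ hk0 ?_
    rw [← hkt] at e' hk0 ⊢
    linear_combination 64 * e'
  have hRx : ∑ χ, (x χ : ℂ) * (2 * (y χ : ℂ) - x χ) ^ 2 / (d χ : ℂ) =
      256 / (Nat.card G : ℂ) := by
    rw [← hR a (Or.inl rfl)]
    exact Finset.sum_congr rfl fun χ _ => by rw [hxa, hyt]
  have hRy : ∑ χ, (y χ : ℂ) * (2 * (y χ : ℂ) - x χ) ^ 2 / (d χ : ℂ) =
      256 / (Nat.card G : ℂ) := by
    have e1 := hR t (Or.inr rfl)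
    rw [Finset.sum_congr rfl fun χ _ => by rw [hyt χ]] at e1
    have e2 : ∑ χ, (y χ : ℂ) * (2 * (y χ : ℂ) - x χ) ^ 2 / (d χ : ℂ) =
        ((∑ χ, (2 * (y χ : ℂ) - x χ) * (2 * (y χ : ℂ) - x χ) ^ 2 / (d χ : ℂ)) +
          ∑ χ, (x χ : ℂ) * (2 * (y χ : ℂ) - x χ) ^ 2 / (d χ : ℂ)) / 2 := by
      rw [← Finset.sum_add_distrib, Finset.sum_div]
      exact Finset.sum_congr rfl fun χ _ => by ring
    rw [e2, e1, hRx]; ring
  -- the supports
  set o := CharApps.oneIrr G
  have hxo : x o = 1 := by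
    have := hxa o
    rw [CharApps.oneIrr_apply] at this
    exact_mod_cast this.symm
  have hyo : y o = 1 := by
    have := hyt o
    rw [CharApps.oneIrr_apply, hxo] at this
    have : (2 : ℤ) * y o - 1 = 1 := by exact_mod_cast this.symm
    omega
  have hdo : d o = 1 := by
    have := hd1 o
    rw [CharApps.oneIrr_apply] at this
    exact_mod_cast this.symm
  have hdz : ∀ χ, (0 : ℤ) < d χ := fun χ => by exact_mod_cast hd χ
  obtain ⟨P, Q, hPQ, hPQs⟩ := Finset.card_eq_two.1
    (show ((supp y).erase o).card = 2 by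
      rw [Finset.card_erase_of_mem (mem_supp.2 (by rw [hyo]; exact one_ne_zero)), card_supp hy2])
  have hysupp : ∀ χ, y χ ≠ 0 → χ = o ∨ χ = P ∨ χ = Q := fun χ h => by
    by_cases hχ : χ = o
    · exact Or.inl hχ
    · have : χ ∈ (supp y).erase o := Finset.mem_erase.2 ⟨hχ, mem_supp.2 h⟩
      rw [hPQs, Finset.mem_insert, Finset.mem_singleton] at this
      exact Or.inr this
  have hP : P ≠ o ∧ y P ≠ 0 := by
    have : P ∈ (supp y).erase o := by rw [hPQs]; simp
    rwa [Finset.mem_erase, mem_supp] at this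
  have hQ : Q ≠ o ∧ y Q ≠ 0 := by
    have : Q ∈ (supp y).erase o := by rw [hPQs]; simp
    rwa [Finset.mem_erase, mem_supp] at this
  have hsum3 : ∀ f : IrrCharacter G → ℤ, ∑ χ, y χ * f χ = y o * f o + (y P * f P + y Q * f Q) := by
    intro f
    rw [← Finset.sum_subset (Finset.subset_univ {o, P, Q}) (fun χ _ hχ => by
      by_contra hne
      refine hχ ?_
      rcases hysupp χ (left_ne_zero_of_mul hne) with rfl | rfl | rfl <;> simp),
      Finset.sum_insert (by simp [hP.1.symm, hQ.1.symm]), Finset.sum_pair hPQ]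
  have hdeg := hsum3 fun χ => (d χ : ℤ)
  rw [hyd, hyo, hdo] at hdeg
  -- name the two constituents
  obtain ⟨A, B, hAB, hAo, hBo, hyA, hyB, hyrest⟩ : ∃ A B : IrrCharacter G, A ≠ B ∧ A ≠ o ∧ B ≠ o ∧
      y A = -1 ∧ y B = 1 ∧ ∀ χ, χ ≠ o → χ ≠ A → χ ≠ B → y χ = 0 := by
    have hrest : ∀ χ, χ ≠ o → χ ≠ P → χ ≠ Q → y χ = 0 := fun χ h1 h2 h3 => by
      by_contra h
      rcases hysupp χ h with h4 | h4 | h4
      exacts [h1 h4, h2 h4, h3 h4]
    have hdP := hdz P
    have hdQ := hdz Q
    rcases sq_entry hy2 P with e1 | e1 | e1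
    · exact absurd e1 hP.2
    · rcases sq_entry hy2 Q with e2 | e2 | e2
      · exact absurd e2 hQ.2
      · rw [e1, e2] at hdeg; omega
      · exact ⟨Q, P, hPQ.symm, hQ.1, hP.1, e2, e1, fun χ h1 h2 h3 => hrest χ h1 h3 h2⟩
    · rcases sq_entry hy2 Q with e2 | e2 | e2
      · exact absurd e2 hQ.2
      · exact ⟨P, Q, hPQ, hP.1, hQ.1, e1, e2, hrest⟩
      · rw [e1, e2] at hdeg; omega
  have hsum3' : ∀ f : IrrCharacter G → ℂ,
      ∑ χ, (y χ : ℂ) * f χ = f o + (-f A + f B) := by
    intro f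
    rw [← Finset.sum_subset (Finset.subset_univ {o, A, B}) (fun χ _ hχ => by
      simp only [Finset.mem_insert, Finset.mem_singleton, not_or] at hχ
      rw [hyrest χ hχ.1 hχ.2.1 hχ.2.2, Int.cast_zero, zero_mul]),
      Finset.sum_insert (by simp [hAo.symm, hBo.symm]), Finset.sum_pair hAB, hyo, hyA, hyB]
    push_cast; ring
  have hdAB : (d A : ℤ) = d B + 1 := by
    have h := hsum3' fun χ => (d χ : ℂ)
    have h' : (0 : ℂ) = (d o : ℂ) + (-(d A : ℂ) + d B) := by
      rw [← h]; exact_mod_cast hyd.symm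
    rw [hdo, Nat.cast_one] at h'
    have : (d A : ℂ) = d B + 1 := by linear_combination h'
    exact_mod_cast this
  have hxAB : x B - x A = 1 := by
    have h := hsum3' fun χ => (x χ : ℂ)
    have h' : (2 : ℂ) = (x o : ℂ) + (-(x A : ℂ) + x B) := by
      rw [← h, ← Int.cast_two, ← hxy, Int.cast_sum]
      exact Finset.sum_congr rfl fun χ _ => by push_cast; ring
    rw [hxo, Int.cast_one] at h'
    have : (x B : ℂ) - x A = 1 := by linear_combination -h'
    exact_mod_cast this
  set U := ((Finset.univ.erase o).erase A).erase B with hU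
  have hUsum : ∀ f : IrrCharacter G → ℤ,
      ∑ χ, f χ = f o + f A + f B + ∑ χ ∈ U, f χ := by
    intro f
    rw [← Finset.add_sum_erase _ _ (Finset.mem_univ o),
      ← Finset.add_sum_erase _ _ (show A ∈ Finset.univ.erase o by simp [hAo]),
      ← Finset.add_sum_erase _ _ (show B ∈ (Finset.univ.erase o).erase A by simp [hBo, hAB.symm])]
    ring
  have hUsumC : ∀ f : IrrCharacter G → ℂ,
      ∑ χ, f χ = f o + f A + f B + ∑ χ ∈ U, f χ := by
    intro f
    rw [← Finset.add_sum_erase _ _ (Finset.mem_univ o),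
      ← Finset.add_sum_erase _ _ (show A ∈ Finset.univ.erase o by simp [hAo]),
      ← Finset.add_sum_erase _ _ (show B ∈ (Finset.univ.erase o).erase A by simp [hBo, hAB.symm])]
    ring
  have hyU : ∀ χ ∈ U, y χ = 0 := fun χ hχ => by
    simp only [hU, Finset.mem_erase, Finset.mem_univ, and_true] at hχ
    exact hyrest χ hχ.2.2 hχ.2.1 hχ.1
  have hx2U := hUsum fun χ => x χ * x χ
  rw [hx2, hxo] at hx2U
  have hUnn : 0 ≤ ∑ χ ∈ U, x χ * x χ := Finset.sum_nonneg fun χ _ => mul_self_nonneg _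
  have hcases : (x A = -1 ∧ x B = 0) ∨ (x A = 0 ∧ x B = 1) := by
    have h1 : -1 ≤ x A := by nlinarith
    have h2 : x A ≤ 1 := by nlinarith
    have h3 : x B ≤ 1 := by nlinarith
    omega
  have hsqAB : x A * x A + x B * x B = 1 := by
    rcases hcases with ⟨h1, h2⟩ | ⟨h1, h2⟩ <;> simp [h1, h2]
  have hU2 : ∑ χ ∈ U, x χ * x χ = 2 := by omega
  have hle1 : ∀ χ ∈ U, x χ = 0 ∨ x χ = 1 ∨ x χ = -1 := fun χ hχ => by
    have : x χ * x χ ≤ 2 := hU2 ▸ Finset.single_le_sum (fun i _ => mul_self_nonneg (x i)) hχ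
    have h1 : -1 ≤ x χ := by nlinarith
    have h2 : x χ ≤ 1 := by nlinarith
    omega
  have hcardU : (U.filter fun χ => x χ ≠ 0).card = 2 := by
    have : ∑ χ ∈ U, x χ * x χ = ∑ χ ∈ U.filter (fun χ => x χ ≠ 0), (1 : ℤ) := by
      rw [Finset.sum_filter]
      refine Finset.sum_congr rfl fun χ hχ => ?_
      rcases hle1 χ hχ with h | h | h <;> simp [h]
    rw [hU2, Finset.sum_const, nsmul_eq_mul, mul_one] at this
    exact_mod_cast this.symm
  obtain ⟨C, D, hCD, hCDs⟩ := Finset.card_eq_two.1 hcardU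
  have hCm : C ∈ U ∧ x C ≠ 0 := by
    have : C ∈ U.filter fun χ => x χ ≠ 0 := by rw [hCDs]; simp
    simpa using this
  have hDm : D ∈ U ∧ x D ≠ 0 := by
    have : D ∈ U.filter fun χ => x χ ≠ 0 := by rw [hCDs]; simp
    simpa using this
  have hxrest : ∀ χ ∈ U, χ ≠ C → χ ≠ D → x χ = 0 := fun χ hχ h1 h2 => by
    by_contra h
    have : χ ∈ U.filter fun χ => x χ ≠ 0 := Finset.mem_filter.2 ⟨hχ, h⟩
    rw [hCDs, Finset.mem_insert, Finset.mem_singleton] at this
    rcases this with h3 | h3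
    exacts [h1 h3, h2 h3]
  have hxC : x C = 1 ∨ x C = -1 := (hle1 C hCm.1).resolve_left hCm.2
  have hxD : x D = 1 ∨ x D = -1 := (hle1 D hDm.1).resolve_left hDm.2
  have hUtwo : ∀ f : IrrCharacter G → ℂ, ∑ χ ∈ U, (x χ : ℂ) * f χ = x C * f C + x D * f D := by
    intro f
    rw [← Finset.sum_subset (s₁ := {C, D}) (fun χ hχ => by
      simp only [Finset.mem_insert, Finset.mem_singleton] at hχ
      rcases hχ with rfl | rfl
      exacts [hCm.1, hDm.1]) (fun χ hχ hχ' => by
      simp only [Finset.mem_insert, Finset.mem_singleton, not_or] at hχ'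
      rw [hxrest χ hχ hχ'.1 hχ'.2, Int.cast_zero, zero_mul]), Finset.sum_pair hCD]
  -- the two equations
  have hdegx : (0 : ℂ) = 1 + (x A : ℂ) * d A + (x B : ℂ) * d B + (x C * d C + x D * d D) := by
    have h := hUsumC fun χ => (x χ : ℂ) * d χ
    rw [hxo, hdo, hUtwo] at h
    rw [show (0 : ℂ) = ∑ χ, (x χ : ℂ) * d χ by exact_mod_cast hxd.symm, h]
    push_cast; ring
  have hRy' : 1 - (2 + (x A : ℂ)) ^ 2 / d A + (2 - (x B : ℂ)) ^ 2 / d B =
      256 / (Nat.card G : ℂ) := by
    rw [← hRy, Finset.sum_congr rfl fun χ _ => mul_div_assoc _ _ _, hsum3', hyA, hyB, hyo, hxo, hdo]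
    push_cast; ring
  have hRx' : 1 + (x A : ℂ) * (2 + (x A : ℂ)) ^ 2 / d A + (x B : ℂ) * (2 - (x B : ℂ)) ^ 2 / d B +
      ((x C : ℂ) / d C + (x D : ℂ) / d D) = 256 / (Nat.card G : ℂ) := by
    rw [← hRx, hUsumC, Finset.sum_congr rfl fun χ _ => mul_div_assoc _ _ _, hUtwo, hyA, hyB, hyo,
      hxo, hdo, hyU C hCm.1, hyU D hDm.1]
    have e1 : ((x C : ℤ) : ℂ) ^ 2 = 1 := by rcases hxC with h | h <;> simp [h]
    have e2 : ((x D : ℤ) : ℂ) ^ 2 = 1 := by rcases hxD with h | h <;> simp [h]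
    push_cast
    simp only [mul_zero, zero_sub, neg_sq, e1, e2]
    ring
  -- the other degrees
  have hother : ∀ χ ∈ U, χ ≠ C → χ ≠ D → 8 ∣ d χ := by
    intro χ hχ h1 h2
    have hx0 := hxrest χ hχ h1 h2
    have hy0 := hyU χ hχ
    letI : Fintype N := Fintype.ofFinite _
    obtain ⟨m, hm⟩ := Chars.inner_char_nat
      (Chars.isCharacter_restrict N (Chars.isCharacter_of_irr χ.2)) (Chars.isCharacter_one (G := N))
    have hva : (χ : G → ℂ) a = 0 := by rw [hxa, hx0, Int.cast_zero]
    have hvt : (χ : G → ℂ) t = 0 := by rw [hyt, hx0, hy0]; simp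
    have hzero : ∀ n : N, n ≠ 1 → (χ : G → ℂ) n = 0 := by
      intro n hn
      have hinv0 : ∀ u : G, orderOf u = 2 → (χ : G → ℂ) u = 0 := fun u hu => by
        rw [← (Chars.isConj_iff_forall_irr t u).1 (hinv u hu) χ, hvt]
      obtain ⟨i, hi | hi⟩ := hcover n n.2
      · rw [hi, hamod]
        obtain h | h | h | h : i % 4 = 0 ∨ i % 4 = 1 ∨ i % 4 = 2 ∨ i % 4 = 3 := by omega
        · exact absurd (Subtype.ext (by rw [hi, hamod, h, pow_zero]; rfl)) hn
        · rw [h, pow_one, hva]
        · rw [h, ← ht2, hvt]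
        · rw [h, show a ^ 3 = a⁻¹ from eq_inv_of_mul_eq_one_left (by rw [← pow_succ, ha4]),
            ← (Chars.isConj_iff_forall_irr a a⁻¹).1 hconja χ, hva]
      · rw [hi]; exact hinv0 _ (hrefl i)
    rw [Chars.inner_def, Finset.sum_eq_single 1 (fun n _ hn => by rw [hzero n hn, zero_mul])
      (by simp), hcardN, OneMemClass.coe_one, hd1, map_one, mul_one] at hm
    have h8' : (d χ : ℂ) = 8 * m := by rw [← hm]; push_cast; ring
    exact ⟨m, by exact_mod_cast h8'⟩
  obtain ⟨m, hm⟩ : ∃ m : ℕ, Nat.card G = 1 + d A ^ 2 + d B ^ 2 + d C ^ 2 + d D ^ 2 + 64 * m := by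
    have hs := Chars.sum_degree_sq (G := G)
    simp only [hd1] at hs
    have hs' : ∑ χ, ((d χ : ℤ)) ^ 2 = (Nat.card G : ℤ) := by exact_mod_cast hs
    rw [hUsum, hdo, ← Finset.add_sum_erase _ _ hCm.1,
      ← Finset.add_sum_erase _ _ (Finset.mem_erase.2 ⟨hCD.symm, hDm.1⟩)] at hs'
    obtain ⟨k, hk⟩ : (64 : ℕ) ∣ ∑ χ ∈ (U.erase C).erase D, d χ ^ 2 := Finset.dvd_sum fun χ hχ => by
      simp only [Finset.mem_erase] at hχ
      obtain ⟨j, hj⟩ := hother χ hχ.2.2 hχ.2.1 hχ.1
      exact ⟨j ^ 2, by rw [hj]; ring⟩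
    have hk' : ∑ χ ∈ (U.erase C).erase D, ((d χ : ℤ)) ^ 2 = ((64 * k : ℕ) : ℤ) := by
      exact_mod_cast hk
    rw [hk'] at hs'
    refine ⟨k, ?_⟩
    zify at hs' ⊢
    push_cast at hs' ⊢
    linarith
  have hC0 := hd0 C
  have hD0 := hd0 D
  have hA0 := hd0 A
  have hB0 := hd0 B
  have hdA : (d A : ℂ) = d B + 1 := by exact_mod_cast hdAB
  rcases hcases with ⟨hA, hB⟩ | ⟨hA, hB⟩
  · -- first case
    rw [hA, hB] at hdegx hRy' hRx'
    push_cast at hdegx hRy' hRx'
    have hs : ((x C * d C + x D * d D : ℤ) : ℂ) = (d B : ℂ) := by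
      push_cast; linear_combination hdA - hdegx
    have hs' : x C * d C + x D * d D = (d B : ℤ) := by exact_mod_cast hs
    have hinvsum : (x C : ℂ) / d C + (x D : ℂ) / d D = 4 / d B := by
      linear_combination hRx' - hRy'
    rw [div_add_div _ _ hC0 hD0, div_eq_div_iff (mul_ne_zero hC0 hD0) hB0] at hinvsum
    have hprod : (d B : ℤ) * (x C * d D + x D * d C) = 4 * (d C * d D) := by
      have : ((d B : ℂ) * (x C * d D + x D * d C)) = 4 * (d C * d D) := by linear_combination hinvsum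
      exact_mod_cast this
    obtain ⟨hce, hvu⟩ := signed_pair hxC hxD (hdz C) (hdz D) hs' hprod
    rw [hvu, ← hce] at hs'
    have hu1 : x C = 1 := by
      rcases hxC with h | h
      · exact h
      · rw [h] at hs'; have := hdz B; have := hdz C; omega
    rw [hu1] at hs'
    have hB2 : d B = 2 * d C := by omega
    have hA2 : d A = 2 * d C + 1 := by omega
    have hDC : d D = d C := by omega
    refine order_case_one (c := d C) (m := m) h8 ?_ (by rw [hm, hA2, hB2, hDC]; ring)
    rw [hA2, hB2] at hRy'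
    have hG : ((Nat.card G * (d C + 1) ^ 2 : ℕ) : ℂ) = ((128 * (d C * (2 * d C + 1)) : ℕ) : ℂ) := by
      push_cast at hRy' ⊢
      have : (2 * (d C : ℂ) + 1) ≠ 0 := by exact_mod_cast Nat.succ_ne_zero (2 * d C)
      field_simp at hRy'
      linear_combination (1 / 4 : ℂ) * hRy'
    exact_mod_cast hG
  · -- second case
    rw [hA, hB] at hdegx hRy' hRx'
    push_cast at hdegx hRy' hRx'
    have hs : ((x C * d C + x D * d D : ℤ) : ℂ) = -((d B : ℂ) + 1) := by
      push_cast; linear_combination -hdegx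
    have hs' : x C * d C + x D * d D = -((d B : ℤ) + 1) := by exact_mod_cast hs
    have hinvsum : (x C : ℂ) / d C + (x D : ℂ) / d D = -4 / d A := by
      linear_combination hRx' - hRy'
    rw [div_add_div _ _ hC0 hD0, div_eq_div_iff (mul_ne_zero hC0 hD0) hA0] at hinvsum
    have hprod : (-((d B : ℤ) + 1)) * (x C * d D + x D * d C) = 4 * (d C * d D) := by
      have : ((-((d B : ℂ) + 1)) * (x C * d D + x D * d C)) = 4 * (d C * d D) := by
        rw [hdA] at hinvsum
        linear_combination -hinvsum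
      exact_mod_cast this
    obtain ⟨hce, hvu⟩ := signed_pair hxC hxD (hdz C) (hdz D) hs' hprod
    rw [hvu, ← hce] at hs'
    have hu1 : x C = -1 := by
      rcases hxC with h | h
      · rw [h] at hs'; have := hdz B; have := hdz C; omega
      · exact h
    rw [hu1] at hs'
    obtain ⟨w, hw⟩ : ∃ w, d C = w + 1 := ⟨d C - 1, by have := hd C; omega⟩
    have hB2 : d B = 2 * w + 1 := by omega
    have hA2 : d A = 2 * w + 2 := by omega
    have hDC : d D = w + 1 := by omega
    refine order_case_two (w := w) (m := m) h8 ?_ (by rw [hm, hA2, hB2, hw, hDC]; ring)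
    rw [hA2, hB2] at hRy'
    have hG : ((Nat.card G * w ^ 2 : ℕ) : ℂ) = ((128 * ((w + 1) * (2 * w + 1)) : ℕ) : ℂ) := by
      push_cast at hRy' ⊢
      have : (2 * (w : ℂ) + 1) ≠ 0 := by exact_mod_cast Nat.succ_ne_zero (2 * w)
      have : (2 * (w : ℂ) + 2) ≠ 0 := by exact_mod_cast Nat.succ_ne_zero (2 * w + 1)
      field_simp at hRy'
      linear_combination (1 / 4 : ℂ) * hRy'
    exact_mod_cast hG

end CfsgLib.CharsMore
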