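import Cfsg.Agent.Lib.CharsMore.BrauerInduction
import Cfsg.Agent.Lib.CharsMore.CliffordDegree
import Cfsg.Agent.Lib.CharsMore.CharAlg
import Cfsg.Agent.Lib.CharsMore.Extend
import Cfsg.Agent.Lib.CharsMore.RelativeAGroup
import Mathlib

/-!
# An invariant character seen on an elementary supplement
-/

set_option linter.style.haveILetI false
set_option linter.unusedSectionVars false

namespace CfsgLib.CharsMore

open Cfsg
open scoped ComplexConjugate

/-- A sum of an invariant function is divisible by `p` once this holds orbit by orbit. -/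
lemma dvd_sum_of_orbits {E X : Type*} [Group E] [MulAction E X] [Fintype X] {p : ℕ} (f : X → ℕ)
    (hinv : ∀ (g : E) (x : X), f (g • x) = f x)
    (h : ∀ x : X, p ∣ f x ∨ p ∣ (MulAction.orbit E x).ncard) : p ∣ ∑ x, f x := by
  classical
  rw [← Finset.sum_fiberwise_of_maps_to (g := fun x : X => MulAction.orbit E x)
    (t := Finset.univ.image fun x : X => MulAction.orbit E x)
    (fun x _ => Finset.mem_image_of_mem _ (Finset.mem_univ x))]
  refine Finset.dvd_sum fun O hO => ?_
  obtain ⟨x, -, rfl⟩ := Finset.mem_image.1 hO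
  have hmem : ∀ y : X, y ∈ Finset.univ.filter
      (fun y => MulAction.orbit E y = MulAction.orbit E x) ↔ y ∈ MulAction.orbit E x := fun y => by
    simp [MulAction.orbit_eq_iff]
  have hconst : ∀ y ∈ Finset.univ.filter
      (fun y => MulAction.orbit E y = MulAction.orbit E x), f y = f x := fun y hy => by
    obtain ⟨g, rfl⟩ := (hmem y).1 hy
    exact hinv g x
  rw [Finset.sum_congr rfl hconst, Finset.sum_const, smul_eq_mul]
  rcases h x with hd | hd
  · exact hd.mul_left _
  · refine Dvd.dvd.mul_right ?_ _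
    rwa [← Set.ncard_coe_finset,
      show ((Finset.univ.filter fun y => MulAction.orbit E y = MulAction.orbit E x : Finset X) :
        Set X) = MulAction.orbit E x from Set.ext fun y => hmem y]

/-- A linear character of a subgroup of a finite abelian group extends. -/
lemma exists_ext_of_injective {A B : Type*} [CommGroup A] [Finite A] [Group B] (f : B →* A)
    (hf : Function.Injective f) (l : B →* ℂˣ) : ∃ μ : A →* ℂˣ, ∀ b, μ (f b) = l b := by
  obtain ⟨μ, hμ⟩ := MonoidHom.domRestrict_surjective ℂ f.range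
    (l.comp (MonoidHom.ofInjective hf).symm.toMonoidHom)
  refine ⟨μ, fun b => ?_⟩
  have h := DFunLike.congr_fun hμ (MonoidHom.ofInjective hf b)
  simp at h
  exact h

variable {G : Type*} [Group G] [Fintype G] (N : Subgroup G) [hN : N.Normal] [Fintype N]

/-- Pairing an induced function against an invariant function of a normal subgroup. -/
lemma sum_indFun_normal (E : Subgroup G) [Fintype (N.subgroupOf E)] (ψ : E → ℂ) (w : N → ℂ)
    (hw : ∀ g n, w (conjBy N g n) = w n) :
    ∑ n : N, indFun E ψ n * w n = (Nat.card G : ℂ) / Nat.card E *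
      ∑ d : N.subgroupOf E, ψ d * w ⟨((d : E) : G), Subgroup.mem_subgroupOf.1 d.2⟩ := by
  classical
  simp only [indFun, mul_assoc (Nat.card E : ℂ)⁻¹, Finset.sum_mul]
  rw [← Finset.mul_sum, Finset.sum_comm]
  have h1 : ∀ x : G, ∑ n : N, extendByZero E ψ (x⁻¹ * n * x) * w n =
      ∑ d : N.subgroupOf E, ψ d * w ⟨((d : E) : G), Subgroup.mem_subgroupOf.1 d.2⟩ := by
    intro x
    have e : ∑ n : N, extendByZero E ψ (x⁻¹ * n * x) * w n =
        ∑ n : N, extendByZero E ψ n * w n := by
      refine Fintype.sum_bijective (conjBy N x⁻¹) (Finite.injective_iff_bijective.1 ?_) _ _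
        fun n => ?_
      · intro a b h
        exact Subtype.ext (by simpa using congrArg Subtype.val h)
      · rw [hw, coe_conjBy, inv_inv]
    rw [e]
    let ι : N.subgroupOf E → N := fun d => ⟨((d : E) : G), Subgroup.mem_subgroupOf.1 d.2⟩
    refine (Fintype.sum_of_injective ι ?_ _ _ ?_ ?_).symm
    · intro a b h
      exact Subtype.ext (Subtype.ext (congrArg Subtype.val h :))
    · intro n hn
      rw [Chars.extendByZero_of_not_mem, zero_mul]
      exact fun h => hn ⟨⟨⟨n, h⟩, n.2⟩, rfl⟩
    · intro d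
      rw [Chars.extendByZero_of_mem E ψ (d : E).2]
  rw [Finset.sum_congr rfl fun x _ => h1 x, Finset.sum_const, Finset.card_univ, nsmul_eq_mul,
    Nat.card_eq_fintype_card (α := G)]
  ring

/-- Some elementary supplement carries an invariant constituent of multiplicity prime to `p`. -/
theorem exists_elementary_constituent {p : ℕ} (hp : p.Prime) (hind : ∃ k : ℕ, N.index = p ^ k)
    {ϑ : N → ℂ} (hϑ : IsIrrCharacter N ϑ) (hinv : ∀ g n, ϑ (conjBy N g n) = ϑ n) :
    ∃ (E : Subgroup G) (φ : N.subgroupOf E → ℂ), IsElementary p E ∧ E ⊔ N = ⊤ ∧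
      IsIrrCharacter (N.subgroupOf E) φ ∧ (∀ g x, φ (conjBy (N.subgroupOf E) g x) = φ x) ∧
      ∃ m : ℕ, ¬ p ∣ m ∧ (Nat.card (N.subgroupOf E) : ℂ)⁻¹ *
        ∑ᶠ x : N.subgroupOf E, ϑ ⟨((x : E) : G), Subgroup.mem_subgroupOf.1 x.2⟩ * conj (φ x) = (m : ℂ) := by
  classical
  by_contra hcon
  obtain ⟨n, hn, hmem⟩ := brauer_local (G := G) hp
  set Φ : (G → ℂ) → ℂ := fun f =>
    (Nat.card N : ℂ)⁻¹ * ∑ x : N, f x * (ϑ x * conj (ϑ x)) with hΦ
  have hkey : ∀ f ∈ elemSpan p G, ∃ z : ℤ, Φ f = ((p : ℤ) * z : ℤ) := by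
    intro f hf
    induction hf using AddSubgroup.closure_induction with
    | mem f hf =>
      obtain ⟨E, ψ, hE, hψ, rfl⟩ := hf
      letI : Fintype (N.subgroupOf E) := Fintype.ofFinite _
      letI : Fintype E := Fintype.ofFinite _
      haveI := Chars.irrFintype (N.subgroupOf E)
      -- restriction to the intersection
      let ι : N.subgroupOf E →* N :=
        { toFun := fun d => ⟨((d : E) : G), Subgroup.mem_subgroupOf.1 d.2⟩
          map_one' := rfl
          map_mul' := fun _ _ => rfl }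
      set r : N.subgroupOf E → ℂ := fun d => ϑ (ι d) with hr
      set ψ' : N.subgroupOf E → ℂ := fun d => ψ (d : E) with hψ'
      have hrc : IsCharacter (N.subgroupOf E) r :=
        Chars.isCharacter_comp ι (Chars.isCharacter_of_irr hϑ)
      have hψc : IsCharacter (N.subgroupOf E) ψ' := Chars.isCharacter_restrict _ hψ
      choose m hm using fun φ : IrrCharacter (N.subgroupOf E) => Chars.inner_irr_right_nat hrc φ
      choose j hj using fun φ : IrrCharacter (N.subgroupOf E) =>
        Chars.inner_char_nat (Chars.isCharacter_mul hψc (Chars.isCharacter_of_irr φ.2)) hrc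
      -- the intersection has index a power of `p`
      obtain ⟨k, hk⟩ := hind
      have hmi : N.relIndex E * (E ⊔ N).index = N.index := by
        rw [← Subgroup.relIndex_sup_right (K := N) E]
        exact Subgroup.relIndex_mul_index le_sup_right
      have hval : Φ (indFun E ψ) =
          (((E ⊔ N).index * ∑ φ : IrrCharacter (N.subgroupOf E), m φ * j φ : ℕ) : ℂ) := by
        have h1 := Chars.classFun_eq_sum (Chars.isClassFunction_of_isCharacter hrc)
        have h2 : classInner (ψ' * r) r = ∑ φ : IrrCharacter (N.subgroupOf E), (m φ : ℂ) * j φ := by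
          conv_lhs => arg 1; rw [h1, Finset.mul_sum]
          rw [Chars.inner_sum_left]
          refine Finset.sum_congr rfl fun φ _ => ?_
          rw [mul_smul_comm, Chars.inner_smul_left, hm, hj]
        simp only [Nat.cast_mul, Nat.cast_sum]
        rw [← h2, hΦ]
        dsimp only
        rw [sum_indFun_normal N E ψ (fun x => ϑ x * conj (ϑ x)) (fun g x => by rw [hinv]),
          Chars.inner_def]
        have hcards : Nat.card G * Nat.card (N.subgroupOf E) =
            (E ⊔ N).index * (Nat.card N * Nat.card E) := by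
          rw [← N.card_mul_index, ← hmi, ← (N.subgroupOf E).card_mul_index, Subgroup.relIndex]
          ring
        have hcards' : (Nat.card G : ℂ) * Nat.card (N.subgroupOf E) =
            (E ⊔ N).index * ((Nat.card N : ℂ) * Nat.card E) := by exact_mod_cast hcards
        have hN0 : (Nat.card N : ℂ) ≠ 0 := Nat.cast_ne_zero.2 Nat.card_pos.ne'
        have hE0 : (Nat.card E : ℂ) ≠ 0 := Nat.cast_ne_zero.2 Nat.card_pos.ne'
        have hD0 : (Nat.card (N.subgroupOf E) : ℂ) ≠ 0 := Nat.cast_ne_zero.2 Nat.card_pos.ne'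
        rw [Finset.sum_congr rfl (g := fun x => (ψ' * r) x * conj (r x)) (fun x _ => by
          show ψ (x : E) * (ϑ (ι x) * conj (ϑ (ι x))) = ψ (x : E) * ϑ (ι x) * conj (ϑ (ι x))
          ring)]
        field_simp
        linear_combination
          (∑ x : N.subgroupOf E, (ψ' * r) x * conj (r x)) * hcards'
      suffices hdvd : p ∣ (E ⊔ N).index * ∑ φ : IrrCharacter (N.subgroupOf E), m φ * j φ by
        obtain ⟨z, hz⟩ := hdvd
        exact ⟨(z : ℤ), by rw [hval, hz]; push_cast; ring⟩
      by_cases htop : E ⊔ N = ⊤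
      · refine Dvd.dvd.mul_left ?_ _
        -- conjugation action of the supplement
        letI : MulAction E (IrrCharacter (N.subgroupOf E)) :=
          { smul := fun g φ => ⟨conjFn (N.subgroupOf E) g⁻¹ φ, isIrr_conjFn _ g⁻¹ φ.2⟩
            one_smul := fun φ => Subtype.ext (by
              show conjFn (N.subgroupOf E) (1 : E)⁻¹ (φ : N.subgroupOf E → ℂ) = φ
              rw [inv_one, conjFn_one])
            mul_smul := fun g h φ => Subtype.ext (by
              show conjFn (N.subgroupOf E) (g * h)⁻¹ (φ : N.subgroupOf E → ℂ) =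
                conjFn (N.subgroupOf E) g⁻¹ (conjFn (N.subgroupOf E) h⁻¹ φ)
              rw [mul_inv_rev, conjFn_mul]) }
        have hsm : ∀ (g : E) (φ : IrrCharacter (N.subgroupOf E)),
            ((g • φ : IrrCharacter (N.subgroupOf E)) : N.subgroupOf E → ℂ) =
              conjFn (N.subgroupOf E) g⁻¹ φ := fun _ _ => rfl
        have hrinv : ∀ g : E, conjFn (N.subgroupOf E) g r = r := fun g => funext fun x =>
          hinv (g : G) (ι x)
        have hψinv : ∀ g : E, conjFn (N.subgroupOf E) g ψ' = ψ' := fun g => funext fun x =>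
          Chars.isClassFunction_of_isCharacter hψ (x : E) g
        refine dvd_sum_of_orbits (E := E) _ (fun g φ => ?_) fun φ => ?_
        · have e1 : m (g • φ) = m φ := by
            have := hm (g • φ)
            rw [hsm, ← hrinv g⁻¹, inner_conjFn, hm] at this
            exact_mod_cast this.symm
          have e2 : j (g • φ) = j φ := by
            have := hj (g • φ)
            have e : ψ' * ((g • φ : IrrCharacter (N.subgroupOf E)) : N.subgroupOf E → ℂ) =
                conjFn (N.subgroupOf E) g⁻¹ (ψ' * (φ : N.subgroupOf E → ℂ)) := by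
              rw [hsm]
              funext x
              show _ = ψ' (conjBy (N.subgroupOf E) g⁻¹ x) *
                (φ : N.subgroupOf E → ℂ) (conjBy (N.subgroupOf E) g⁻¹ x)
              rw [show ψ' (conjBy (N.subgroupOf E) g⁻¹ x) = ψ' x from congrFun (hψinv g⁻¹) x]
              rfl
            rw [e, ← hrinv g⁻¹, inner_conjFn, hj] at this
            exact_mod_cast this.symm
          rw [e1, e2]
        · rw [← MulAction.index_stabilizer]
          have hle : N.subgroupOf E ≤ MulAction.stabilizer E φ := fun d hd => Subtype.ext (by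
            rw [hsm]
            exact le_inertia (N.subgroupOf E)
              (Chars.isClassFunction_irr φ) ((N.subgroupOf E).inv_mem hd))
          have hdk : (MulAction.stabilizer E φ).index ∣ p ^ k :=
            (Subgroup.index_dvd_of_le hle).trans (hk ▸ Dvd.intro _ hmi)
          obtain ⟨i, -, hi⟩ := (Nat.dvd_prime_pow hp).1 hdk
          rcases Nat.eq_zero_or_pos i with rfl | hi0
          · left
            rw [pow_zero, Subgroup.index_eq_one] at hi
            refine Dvd.dvd.mul_right ?_ _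
            by_contra hpm
            refine hcon ⟨E, (φ : N.subgroupOf E → ℂ), hE, htop, φ.2, fun g x => ?_, m φ, hpm, ?_⟩
            · have hg : g⁻¹ • φ = φ := (hi ▸ Subgroup.mem_top _ : g⁻¹ ∈ MulAction.stabilizer E φ)
              have h1 := congrFun (congrArg Subtype.val hg) x
              rw [hsm, inv_inv] at h1
              exact h1
            · rw [← hm φ, finsum_eq_sum_of_fintype, Chars.inner_def]
              rfl
          · right
            rw [hi]
            exact dvd_pow_self p hi0.ne'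
      · refine Dvd.dvd.mul_right ?_ _
        obtain ⟨i, -, hi⟩ := (Nat.dvd_prime_pow hp).1 (hk ▸ Dvd.intro_left _ hmi :
          (E ⊔ N).index ∣ p ^ k)
        rcases Nat.eq_zero_or_pos i with rfl | hi0
        · exact absurd (Subgroup.index_eq_one.1 (hi.trans (pow_zero p))) htop
        · rw [hi]; exact dvd_pow_self p hi0.ne'
    | zero => exact ⟨0, by simp [hΦ]⟩
    | add x y _ _ hx hy =>
      obtain ⟨a, ha⟩ := hx
      obtain ⟨b, hb⟩ := hy
      refine ⟨a + b, ?_⟩
      have : Φ (x + y) = Φ x + Φ y := by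
        simp only [hΦ, Pi.add_apply, add_mul, Finset.sum_add_distrib, mul_add]
      rw [this, ha, hb]; push_cast; ring
    | neg x _ hx =>
      obtain ⟨a, ha⟩ := hx
      refine ⟨-a, ?_⟩
      have : Φ (-x) = -Φ x := by
        simp only [hΦ, Pi.neg_apply, neg_mul, Finset.sum_neg_distrib, mul_neg]
      rw [this, ha]; push_cast; ring
  obtain ⟨z, hz⟩ := hkey _ hmem
  have h1 : Φ (fun _ : G => (n : ℂ)) = n := by
    have h := (Chars.isIrrCharacter_iff_inner_self.1 hϑ).2
    rw [Chars.inner_def] at h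
    simp only [hΦ]
    rw [← Finset.mul_sum, mul_left_comm, h, mul_one]
  rw [h1] at hz
  have h2 : (n : ℤ) = (p : ℤ) * z := by exact_mod_cast hz
  exact hn (Int.natCast_dvd_natCast.1 ⟨z, h2⟩)

/-- An invariant character extends if linear characters extend on a Sylow subgroup. -/
theorem exists_ext_of_sylow {p : ℕ} [Fact p.Prime] (hind : ∃ k : ℕ, N.index = p ^ k)
    (P : Sylow p G) (hcent : ∀ x ∈ (P : Subgroup G) ⊓ N, ∀ y ∈ (P : Subgroup G), x * y = y * x)
    (hlin : ∀ l : ↥((P : Subgroup G) ⊓ N) →* ℂˣ, ∃ μ : (P : Subgroup G) →* ℂˣ,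
      ∀ x : ↥((P : Subgroup G) ⊓ N), μ ⟨(x : G), x.2.1⟩ = l x)
    {ϑ : N → ℂ} (hϑ : IsIrrCharacter N ϑ) (hinv : ∀ g n, ϑ (conjBy N g n) = ϑ n) :
    ∃ χ : G → ℂ, IsIrrCharacter G χ ∧ ∀ n : N, χ n = ϑ n := by
  classical
  obtain ⟨E, φ, hE, htop, hφ, -, m, hm, hmval⟩ :=
    exists_elementary_constituent N (Fact.out) hind hϑ hinv
  obtain ⟨x, hx, hxp, k, hxk⟩ := hE
  letI : Fintype E := Fintype.ofFinite _
  letI : Fintype (N.subgroupOf E) := Fintype.ofFinite _
  obtain ⟨S⟩ : Nonempty (Sylow p E) := inferInstance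
  set Z := Subgroup.zpowers x
  have hS : Nat.Coprime (Nat.card Z) (Nat.card (S : Subgroup E)) := by
    obtain ⟨i, hi⟩ := IsPGroup.iff_card.1 S.2
    rw [Nat.card_zpowers, hi]
    exact hxp.pow_right i
  -- every element splits
  have hsplit : ∀ e : E, ∃ z ∈ Z, ∃ s ∈ (S : Subgroup E), e = z * s := by
    have hZn : Z.Normal := ⟨fun z hz g => by
      rw [(Subgroup.mem_center_iff.1 ((Subgroup.zpowers_le.2 hx) hz) g), mul_inv_cancel_right]
      exact hz⟩
    have hsup : Z ⊔ (S : Subgroup E) = ⊤ := by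
      rw [← Subgroup.index_eq_one]
      refine Nat.eq_one_of_dvd_coprimes (?_ : Nat.Coprime (p ^ k) (S : Subgroup E).index)
        (hxk ▸ Subgroup.index_dvd_of_le le_sup_left) (Subgroup.index_dvd_of_le le_sup_right)
      exact ((Fact.out : p.Prime).coprime_iff_not_dvd.2 S.not_dvd_index).pow_left k
    intro e
    have h : e ∈ ((Z ⊔ (S : Subgroup E) : Subgroup E) : Set E) := by rw [hsup]; trivial
    rw [Subgroup.normal_mul] at h
    obtain ⟨z, hz, s, hs, rfl⟩ := h
    exact ⟨z, hz, s, hs, rfl⟩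
  -- the Sylow subgroup sits in a conjugate of `P`
  obtain ⟨Q, hQ⟩ := (S.2.map E.subtype).exists_le_sylow
  obtain ⟨g, hg⟩ := MulAction.exists_smul_eq G Q P
  have hgQ : ∀ y ∈ (Q : Subgroup G), g * y * g⁻¹ ∈ (P : Subgroup G) := fun y hy => by
    rw [← hg]
    exact Subgroup.smul_mem_pointwise_smul y (MulAut.conj g) _ hy
  let c : (S : Subgroup E) →* (P : Subgroup G) :=
    { toFun := fun s => ⟨g * ((s : E) : G) * g⁻¹, hgQ _ (hQ ⟨(s : E), s.2, rfl⟩)⟩
      map_one' := by ext; simp
      map_mul' := fun a b => by ext; simp [mul_assoc] }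
  have hcinj : Function.Injective c := fun a b h => Subtype.ext (Subtype.ext
    (mul_left_cancel (mul_right_cancel (congrArg Subtype.val h :))))
  -- the intersection is central
  have hparts : ∀ d ∈ N.subgroupOf E, ∃ z ∈ Z, ∃ s ∈ (S : Subgroup E),
      d = z * s ∧ z ∈ N.subgroupOf E ∧ s ∈ N.subgroupOf E := by
    intro d hd
    obtain ⟨z, hz, s, hs, rfl⟩ := hsplit d
    have hzN : (z : G) ∈ N := by
      obtain ⟨kk, hkk⟩ := hind
      refine (QuotientGroup.eq_one_iff _).1 (orderOf_eq_one_iff.1 ?_)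
      refine Nat.eq_one_of_dvd_coprimes
        (Nat.Coprime.pow_right kk (?_ : Nat.Coprime (orderOf (z : G)) p))
        (orderOf_map_dvd (QuotientGroup.mk' N) (z : G)) ?_
      · rw [Subgroup.orderOf_coe]
        exact hxp.coprime_dvd_left (Nat.card_zpowers x ▸ Z.orderOf_dvd_natCard hz)
      · rw [← hkk, Subgroup.index_eq_card]
        exact orderOf_dvd_natCard _
    refine ⟨z, hz, s, hs, rfl, hzN, ?_⟩
    simpa using (N.subgroupOf E).mul_mem ((N.subgroupOf E).inv_mem (x := z) hzN) hd
  have hcN : ∀ s : (S : Subgroup E), (s : E) ∈ N.subgroupOf E →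
      ((c s : (P : Subgroup G)) : G) ∈ (P : Subgroup G) ⊓ N := fun s hs =>
    ⟨(c s).2, hN.conj_mem _ hs g⟩
  have hDc : ∀ d : E, d ∈ N.subgroupOf E → d ∈ Subgroup.center E := by
    intro d hd
    obtain ⟨z, hz, s, hs, rfl, -, hsN⟩ := hparts d hd
    refine (Subgroup.center E).mul_mem ((Subgroup.zpowers_le.2 hx) hz) ?_
    refine Subgroup.mem_center_iff.2 fun e => ?_
    obtain ⟨z', hz', s', hs', rfl⟩ := hsplit e
    have h1 : s' * s = s * s' := by
      have h2 := hcent _ (hcN ⟨s, hs⟩ hsN) _ (c ⟨s', hs'⟩).2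
      have h4 : c (⟨s', hs'⟩ * ⟨s, hs⟩) = c (⟨s, hs⟩ * ⟨s', hs'⟩) := by
        rw [map_mul, map_mul]; exact Subtype.ext h2.symm
      exact congrArg Subtype.val (hcinj h4)
    have h3 : s * z' = z' * s := Subgroup.mem_center_iff.1 ((Subgroup.zpowers_le.2 hx) hz') s
    rw [mul_assoc z' s' s, h1, ← mul_assoc, ← h3, mul_assoc]
  have hDcomm : ∀ a b : N.subgroupOf E, a * b = b * a := fun a b =>
    Subtype.ext (Subgroup.mem_center_iff.1 (hDc b b.2) a)
  obtain ⟨lam, hlam⟩ : ∃ lam : N.subgroupOf E →* ℂˣ, φ = fun y => (lam y : ℂ) :=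
    Chars.exists_hom_of_degree_one (Chars.isCharacter_of_irr hφ)
      (degree_one_of_commutators hφ fun a b => by
        rw [show a * b * a⁻¹ * b⁻¹ = 1 by rw [hDcomm a b]; group])
  -- extend the linear character
  obtain ⟨ε, hε⟩ : ∃ ε : E →* ℂˣ, ∀ d : N.subgroupOf E, ε d = lam d := by
    letI : CommGroup ↥((P : Subgroup G) ⊓ N) :=
      { (inferInstance : Group ↥((P : Subgroup G) ⊓ N)) with
        mul_comm := fun a b => Subtype.ext (hcent _ a.2 _ b.2.1) }
    let f1 : ↥(N.subgroupOf E ⊓ (S : Subgroup E)) →* ↥((P : Subgroup G) ⊓ N) :=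
      { toFun := fun s => ⟨c ⟨s, s.2.2⟩, hcN _ s.2.1⟩
        map_one' := Subtype.ext (congrArg Subtype.val (map_one c) :)
        map_mul' := fun a b =>
          Subtype.ext (congrArg Subtype.val (map_mul c ⟨a, a.2.2⟩ ⟨b, b.2.2⟩) :) }
    have hf1 : Function.Injective f1 := fun a b h => by
      have := hcinj (Subtype.ext (congrArg Subtype.val h :) : c ⟨a, a.2.2⟩ = c ⟨b, b.2.2⟩)
      exact Subtype.ext (congrArg Subtype.val this :)
    obtain ⟨l', hl'⟩ := exists_ext_of_injective f1 hf1
      (lam.comp (Subgroup.inclusion inf_le_left))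
    obtain ⟨μ, hμ⟩ := hlin l'
    letI : CommGroup Z := IsCyclic.commGroup
    obtain ⟨α, hα⟩ := exists_ext_of_injective
      (Subgroup.inclusion (inf_le_right : N.subgroupOf E ⊓ Z ≤ Z)) (Subgroup.inclusion_injective _)
      (lam.comp (Subgroup.inclusion inf_le_left))
    let ν : Z × (S : Subgroup E) →* E := MonoidHom.noncommCoprod Z.subtype (S : Subgroup E).subtype
      fun z s => (Subgroup.mem_center_iff.1 ((Subgroup.zpowers_le.2 hx) z.2) s).symm
    have hν : Function.Bijective ν := by
      refine ⟨(injective_iff_map_eq_one ν).2 ?_, fun e => ?_⟩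
      · rintro ⟨z, s⟩ h
        have h' : (z : E) * (s : E) = 1 := h
        have hzS : (z : E) ∈ Z ⊓ (S : Subgroup E) :=
          ⟨z.2, by rw [eq_inv_of_mul_eq_one_left h']; exact (S : Subgroup E).inv_mem s.2⟩
        rw [(Subgroup.disjoint_of_coprime_natCard hS).eq_bot, Subgroup.mem_bot] at hzS
        rw [hzS, one_mul] at h'
        exact Prod.ext (Subtype.ext hzS) (Subtype.ext h')
      · obtain ⟨z, hz, s, hs, rfl⟩ := hsplit e
        exact ⟨(⟨z, hz⟩, ⟨s, hs⟩), rfl⟩
    refine ⟨(α.coprod (μ.comp c)).comp (MulEquiv.ofBijective ν hν).symm.toMonoidHom, ?_⟩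
    rintro ⟨d, hd⟩
    obtain ⟨z, hz, s, hs, rfl, hzN, hsN⟩ := hparts d hd
    have he : (MulEquiv.ofBijective ν hν).symm (z * s) = (⟨z, hz⟩, ⟨s, hs⟩) := by
      rw [MulEquiv.symm_apply_eq]; rfl
    show (α.coprod (μ.comp c)) ((MulEquiv.ofBijective ν hν).symm (z * s)) = _
    rw [he, MonoidHom.coprod_apply, MonoidHom.comp_apply]
    have h1 : α ⟨z, hz⟩ = lam ⟨z, hzN⟩ := hα ⟨z, hzN, hz⟩
    have h2 : μ (c ⟨s, hs⟩) = lam ⟨s, hsN⟩ :=
      (hμ (f1 ⟨s, hsN, hs⟩)).trans (hl' ⟨s, hsN, hs⟩)
    rw [h1, h2, ← map_mul]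
    rfl
  -- a constituent of small multiplicity
  set I := indFun E (fun e => ((ε e : ℂˣ) : ℂ)) with hI
  have hIc : IsCharacter G I := Chars.isCharacter_indFun E (Chars.isCharacter_of_irr
    (isIrrCharacter_linFun ε))
  have hIm : classInner (fun n : N => I n) ϑ = (m : ℂ) := by
    rw [Chars.inner_def, hI,
      sum_indFun_normal N E (fun e => ((ε e : ℂˣ) : ℂ)) (fun y => conj (ϑ y))
        (fun g y => by rw [hinv]),
      ← map_natCast (starRingEnd ℂ) m, ← hmval, finsum_eq_sum_of_fintype, map_mul, map_sum,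
      map_inv₀, map_natCast]
    have hcards : (Nat.card G : ℂ) * Nat.card (N.subgroupOf E) =
        (Nat.card N : ℂ) * Nat.card E := by
      have h : N.relIndex E = N.index := by
        rw [← Subgroup.relIndex_sup_right (K := N) E, htop, Subgroup.relIndex_top_right]
      have h' : Nat.card G * Nat.card (N.subgroupOf E) = Nat.card N * Nat.card E := by
        rw [← N.card_mul_index, ← (N.subgroupOf E).card_mul_index, ← h, Subgroup.relIndex]
        ring
      exact_mod_cast h'
    have hN0 : (Nat.card N : ℂ) ≠ 0 := Nat.cast_ne_zero.2 Nat.card_pos.ne'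
    have hE0 : (Nat.card E : ℂ) ≠ 0 := Nat.cast_ne_zero.2 Nat.card_pos.ne'
    have hD0 : (Nat.card (N.subgroupOf E) : ℂ) ≠ 0 := Nat.cast_ne_zero.2 Nat.card_pos.ne'
    simp only [map_mul, Complex.conj_conj, hlam, hε]
    simp only [mul_comm (conj _) ((lam _ : ℂˣ) : ℂ)]
    field_simp
    linear_combination (∑ x : N.subgroupOf E,
      ((lam x : ℂˣ) : ℂ) * conj (ϑ ⟨((x : E) : G), Subgroup.mem_subgroupOf.1 x.2⟩)) * hcards
  haveI := Chars.irrFintype G
  choose a ha using fun χ : IrrCharacter G => Chars.inner_irr_right_nat hIc χ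
  choose b hb using fun χ : IrrCharacter G =>
    Chars.inner_char_nat (Chars.isCharacter_restrict N (Chars.isCharacter_of_irr χ.2))
      (Chars.isCharacter_of_irr hϑ)
  have hsum : m = ∑ χ : IrrCharacter G, a χ * b χ := by
    have h1 := Chars.classFun_eq_sum (Chars.isClassFunction_of_isCharacter hIc)
    have h2 : (fun n : N => I n) =
        ∑ χ : IrrCharacter G, (a χ : ℂ) • fun n : N => (χ : G → ℂ) n := by
      funext n
      rw [h1]
      simp only [Finset.sum_apply, Pi.smul_apply, ha]
    rw [h2, Chars.inner_sum_left] at hIm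
    simp only [Chars.inner_smul_left, hb] at hIm
    exact_mod_cast hIm.symm
  obtain ⟨χ, hχb⟩ : ∃ χ : IrrCharacter G, ¬ p ∣ b χ := by
    by_contra hcon
    push Not at hcon
    exact hm (hsum ▸ Finset.dvd_sum fun χ _ => (hcon χ).mul_left _)
  have hne : classInner (fun n : N => (χ : G → ℂ) n) ϑ ≠ 0 := by
    rw [hb]
    exact Nat.cast_ne_zero.2 fun h => hχb (h ▸ dvd_zero p)
  obtain ⟨i, -, hi1, hidvd⟩ := degree_quotient N χ.2 hϑ hne
  have hres := restrict_eq_mul_of_invariant N χ.2 hϑ hinv hne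
  have hdeg := hres 1
  rw [OneMemClass.coe_one, hb, hi1] at hdeg
  have hib : i = b χ := by
    exact_mod_cast mul_right_cancel₀ (Chars.irr_degree_ne_zero hϑ) hdeg
  obtain ⟨kk, hkk⟩ := hind
  rw [hib, hkk] at hidvd
  obtain ⟨u, -, hu⟩ := (Nat.dvd_prime_pow Fact.out).1 hidvd
  have hb1 : b χ = 1 := by
    rcases Nat.eq_zero_or_pos u with rfl | hu0
    · rw [hu, pow_zero]
    · exact absurd (hu ▸ dvd_pow_self p hu0.ne') hχb
  exact ⟨χ, χ.2, fun n => by rw [hres n, hb, hb1, Nat.cast_one, one_mul]⟩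

end CfsgLib.CharsMore
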