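import Cfsg.Agent.Lib.CharsMore.CoherenceDescent
import Cfsg.Agent.Lib.PGroups.Extraspecial
import Cfsg.Agent.Lib.Chars.Degree
import Mathlib

/-!
# Irreducible characters of extraspecial groups
-/

set_option linter.style.haveILetI false
set_option linter.unusedSectionVars false

namespace CfsgLib.CharsMore

open Cfsg
open scoped ComplexConjugate commutatorElement

variable {P : Type*} [Group P] [Fintype P] {p : ℕ} [Fact p.Prime]

/-- A class function transforming by a faithful function on the centre vanishes outside it. -/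
lemma extraspecial_vanish (hP : IsExtraspecial p P) {f : P → ℂ} (hf : IsClassFunction P f)
    (w : P → ℂ) (hw : ∀ z ∈ Subgroup.center P, ∀ x, f (z * x) = w z * f x)
    (hw1 : ∀ z ∈ Subgroup.center P, z ≠ 1 → w z ≠ 1) {x : P} (hx : x ∉ Subgroup.center P) :
    f x = 0 := by
  rw [Subgroup.mem_center_iff] at hx
  push Not at hx
  obtain ⟨g, hg⟩ := hx
  have hc1 : ⁅g, x⁆ ≠ 1 := fun e => hg (commutatorElement_eq_one_iff_mul_comm.1 e)
  have hcZ := PGroups.Extraspecial.commutator_mem_center hP g x
  have h1 : f x = w ⁅g, x⁆ * f x := by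
    rw [← hw _ hcZ, show ⁅g, x⁆ * x = g * x * g⁻¹ by rw [commutatorElement_def]; group, hf x g]
  have h2 : (w ⁅g, x⁆ - 1) * f x = 0 := by linear_combination -h1
  exact (mul_eq_zero.1 h2).resolve_left (sub_ne_zero.2 (hw1 _ hcZ hc1))

/-- A function multiplicative on a centre of prime order, not identically one, is nowhere one. -/
lemma extraspecial_center_ne (hP : IsExtraspecial p P) (w : Subgroup.center P →* ℂˣ)
    (hw : w ≠ 1) {z : Subgroup.center P} (hz : z ≠ 1) : w z ≠ 1 := by
  intro h
  refine hw (MonoidHom.ext fun y => ?_)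
  have htop : w.ker = ⊤ := by
    haveI : Fact (Nat.card (Subgroup.center P)).Prime := ⟨by rw [hP.2]; exact Fact.out⟩
    exact (Subgroup.eq_bot_or_eq_top_of_prime_card w.ker).resolve_left fun e => hz
      (by rw [← Subgroup.mem_bot, ← e]; exact h)
  exact MonoidHom.mem_ker.1 (htop ▸ Subgroup.mem_top y)

/-- An irreducible character nontrivial on the centre has degree `p ^ n`. -/
lemma extraspecial_degree (hP : IsExtraspecial p P) {n : ℕ} (hcard : Nat.card P = p ^ (2 * n + 1))
    {χ : P → ℂ} (hχ : IsIrrCharacter P χ) :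
    (charDegree χ = 1 ∧ ∀ z ∈ Subgroup.center P, χ z = χ 1) ∨
      (charDegree χ = p ^ n ∧ ¬ ∀ z ∈ Subgroup.center P, χ z = χ 1) := by
  classical
  have hdeg := CharApps.deg_eq_of_isChar (Chars.isCharacter_of_irr hχ)
  have hnorm := (Chars.isIrrCharacter_iff_inner_self.1 hχ).2
  have hG : (Nat.card P : ℂ) ≠ 0 := Nat.cast_ne_zero.2 Nat.card_pos.ne'
  rw [Chars.inner_def, inv_mul_eq_iff_eq_mul₀ hG, mul_one] at hnorm
  by_cases htriv : ∀ z ∈ Subgroup.center P, χ z = χ 1
  · refine Or.inl ⟨?_, htriv⟩
    have hn : ∀ x, χ x * conj (χ x) = (charDegree χ : ℂ) ^ 2 := fun x => by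
      rw [Complex.mul_conj', norm_eq_of_commutes_mod_ker hχ (d := x) fun c =>
        htriv _ (PGroups.Extraspecial.commutator_mem_center hP x c)]
      norm_num
    rw [Finset.sum_congr rfl (fun x _ => hn x), Finset.sum_const, Finset.card_univ,
      ← Nat.card_eq_fintype_card, nsmul_eq_mul, mul_eq_left₀ hG] at hnorm
    have : charDegree χ ^ 2 = 1 := by exact_mod_cast hnorm
    exact (Nat.pow_eq_one.1 this).resolve_right (by norm_num)
  · refine Or.inr ⟨?_, htriv⟩
    obtain ⟨m, ρ, hρ, hρc⟩ := hχ
    haveI := hρ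
    have hsc : ∀ z ∈ Subgroup.center P, ∀ x, χ (z * x) = χ z / χ 1 * χ x := by
      intro z hz x
      obtain ⟨c, hc⟩ := Chars.exists_scalar_of_mem_center ρ z hz
      have h1 : ∀ y, χ (z * y) = c * χ y := fun y => by
        rw [← hρc, Representation.character, Representation.character, map_mul, hc,
          Module.End.mul_eq_comp, LinearMap.smul_comp, LinearMap.id_comp, map_smul, smul_eq_mul]
      have h2 := h1 1
      rw [mul_one] at h2
      rw [h1, h2, mul_div_cancel_right₀ _
        (Chars.irr_degree_ne_zero ⟨m, ρ, hρ, hρc⟩)]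
    have h0 : χ 1 ≠ 0 := Chars.irr_degree_ne_zero ⟨m, ρ, hρ, hρc⟩
    let w : Subgroup.center P →* ℂ :=
      { toFun := fun z => χ z / χ 1
        map_one' := div_self h0
        map_mul' := fun a b => by
          show χ ((a : P) * b) / χ 1 = χ a / χ 1 * (χ b / χ 1)
          rw [hsc _ a.2]; ring }
    have hne : ∀ z : Subgroup.center P, z ≠ 1 → w.toHomUnits z ≠ 1 := fun z =>
      extraspecial_center_ne hP w.toHomUnits (fun e => htriv fun y hy => by
        have h3 := congrArg Units.val (DFunLike.congr_fun e ⟨y, hy⟩)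
        exact (div_eq_one_iff_eq h0).1 (by simpa [w] using h3))
    have hvan : ∀ x, x ∉ Subgroup.center P → χ x = 0 := fun x hx =>
      extraspecial_vanish hP (Chars.isClassFunction_of_isCharacter
        (Chars.isCharacter_of_irr ⟨m, ρ, hρ, hρc⟩)) (fun z => χ z / χ 1) hsc (fun z hz hz1 e =>
          hne ⟨z, hz⟩ (fun e' => hz1 (congrArg Subtype.val e'))
            (Units.ext (by simpa [w] using e))) hx
    have hnZ : ∀ z ∈ Subgroup.center P, χ z * conj (χ z) = (charDegree χ : ℂ) ^ 2 := fun z hz => by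
      rw [Complex.mul_conj', norm_eq_of_commutes_mod_ker ⟨m, ρ, hρ, hρc⟩ (d := z) fun c => by
        rw [← Subgroup.mem_center_iff.1 hz c]; group]
      norm_num
    rw [← Finset.sum_subset (Finset.subset_univ (Finset.univ.filter (· ∈ Subgroup.center P)))
      (fun x _ hx => by rw [hvan x (by simpa using hx), zero_mul]),
      Finset.sum_congr rfl (fun x hx => hnZ x (Finset.mem_filter.1 hx).2), Finset.sum_const,
      ← Fintype.card_subtype, ← Nat.card_eq_fintype_card, nsmul_eq_mul] at hnorm
    change (Nat.card (Subgroup.center P) : ℂ) * _ = _ at hnorm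
    rw [hP.2, hcard] at hnorm
    have h4 : p * charDegree χ ^ 2 = p * (p ^ n) ^ 2 := by
      rw [show p * (p ^ n) ^ 2 = p ^ (2 * n + 1) by rw [← pow_mul]; ring]
      exact_mod_cast hnorm
    exact Nat.pow_left_injective (by norm_num) (Nat.eq_of_mul_eq_mul_left (Fact.out : p.Prime).pos h4)

end CfsgLib.CharsMore
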