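import Cfsg.Agent.Lib.CharsMore.Sibley
import Cfsg.Agent.Lib.CharsMore.Feit
import Cfsg.Prelude.Def_Transfer

/-!
# The Feit–Sibley coherence theorem
-/

set_option linter.unusedSectionVars false
set_option linter.style.haveILetI false

namespace CfsgLib.CharsMore

open Cfsg

section Kernel

variable {L : Type*} [Group L] [Fintype L] {K : Subgroup L} [hK : K.Normal]

/-- A nonabelian kernel of Frobenius type of odd order sits in a group of odd order. -/
lemma odd_of_nonabelian_kernel (hC : ∀ k ∈ K, k ≠ 1 → Subgroup.centralizer ({k} : Set L) ≤ K)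
    (hodd : Odd (Nat.card K)) (hna : ⁅K, K⁆ ≠ ⊥) : Odd (Nat.card L) := by
  rw [← K.card_mul_index, Nat.odd_mul]
  refine ⟨hodd, Nat.not_even_iff_odd.1 fun heven => hna ?_⟩
  haveI := Fact.mk Nat.prime_two
  obtain ⟨x, hx⟩ := exists_prime_orderOf_dvd_card' (G := L) 2
    ((even_iff_two_dvd.1 heven).trans K.index_dvd_card)
  have hxK : x ∉ K := fun h => (Nat.not_even_iff_odd.2 hodd)
    (even_iff_two_dvd.2 (hx ▸ K.orderOf_dvd_natCard h))
  have hx2 : x * x = 1 := by rw [← sq, ← hx, pow_orderOf_eq_one]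
  exact Subgroup.commutator_eq_bot_iff_le_centralizer.2
    (Subgroup.le_centralizer_iff_isMulCommutative.2 (comm_of_involution hC hxK hx2))

/-- When `|K| = [L:K] + 1` there is exactly one induced character and `K` is elementary abelian. -/
lemma kernel_minimal (hC : ∀ k ∈ K, k ≠ 1 → Subgroup.centralizer ({k} : Set L) ≤ K) (hK1 : K ≠ ⊥)
    (hsolv : Group.IsSolvable K) (he : Nat.card K = K.index + 1) :
    Nat.card (inducedIrrAbove K ⊥) = 1 ∧
      ∃ p : ℕ, p.Prime ∧ IsMulCommutative K ∧ ∀ a ∈ K, a ^ p = 1 := by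
  classical
  let _ : Fintype K := Fintype.ofFinite _
  haveI := Chars.irrFintype K
  refine ⟨?_, ?_⟩
  · set F := (inducedIrrAbove_finite K ⊥).toFinset
    have hF : ∀ φ, φ ∈ F ↔ φ ∈ inducedIrrAbove K ⊥ := fun φ => Set.Finite.mem_toFinset _
    have hw := weight_nat F (fun φ h => (hF φ).1 h)
      (fun φ h => inducedIrrAbove_isIrr hC φ ((hF φ).1 h))
    have e : Finset.univ.filter (fun θ : IrrCharacter K => indFun K (θ : K → ℂ) ∈ F) =
        Finset.univ.erase (CharApps.oneIrr K) := by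
      ext θ
      simp only [Finset.mem_filter, Finset.mem_univ, true_and, Finset.mem_erase, and_true, hF,
        mem_inducedIrrAbove_bot K θ.2, ne_eq, Subtype.ext_iff]
      rfl
    have hall := CharApps.sum_degree_sq_nat (G := K)
    rw [← Finset.add_sum_erase _ _ (Finset.mem_univ (CharApps.oneIrr K)),
      show charDegree (CharApps.oneIrr K : K → ℂ) = 1 by simp [charDegree, CharApps.oneIrr],
      one_pow, he, add_comm] at hall
    rw [e, Nat.add_right_cancel hall] at hw
    have hle : F.card * K.index ^ 2 ≤ ∑ φ ∈ F, charDegree φ ^ 2 := by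
      rw [← smul_eq_mul, ← Finset.sum_const]
      refine Finset.sum_le_sum fun φ h => Nat.pow_le_pow_left ?_ 2
      obtain ⟨θ, hθ, -, -, rfl⟩ := (hF φ).1 h
      rw [charDegree_indFun K (Chars.isCharacter_of_irr hθ)]
      exact Nat.le_mul_of_pos_right _ (CharApps.deg_pos (⟨θ, hθ⟩ : IrrCharacter K))
    rw [hw, ← sq] at hle
    have h1 : F.card ≤ 1 := Nat.le_of_mul_le_mul_right (by rwa [one_mul])
      (pow_pos (Nat.pos_of_ne_zero Subgroup.index_ne_zero_of_finite) 2)
    have h2 : 0 < F.card := Finset.card_pos.2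
      ((inducedIrrAbove_nonempty K hsolv (bot_lt_iff_ne_bot.2 hK1)).imp fun φ h => (hF φ).2 h)
    rw [Nat.card_coe_set_eq, Set.ncard_eq_toFinset_card _ (inducedIrrAbove_finite K ⊥)]
    show F.card = 1
    omega
  -- the nonidentity elements form one class
  have hclass : ∀ x ∈ K, x ≠ 1 →
      Subgroup.centralizer ({x} : Set L) = K ∧ ∀ y ∈ K, y ≠ 1 → IsConj x y := by
    intro x hx hx1
    set A := (Finset.univ.filter (fun y : L => y ∈ K)).erase 1
    have hA : A.card = K.index := by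
      rw [Finset.card_erase_of_mem (by simp), ← Fintype.card_subtype, ← Nat.card_eq_fintype_card]
      show Nat.card K - 1 = _
      omega
    have hsub : Finset.univ.filter (IsConj x) ⊆ A := by
      intro y hy
      obtain ⟨g, rfl⟩ := isConj_iff.1 (Finset.mem_filter.1 hy).2
      exact Finset.mem_erase.2 ⟨fun e => hx1 (conj_eq_one_iff.1 e),
        Finset.mem_filter.2 ⟨Finset.mem_univ _, hK.conj_mem x hx g⟩⟩
    have hcard : (Subgroup.centralizer ({x} : Set L)).index = (Finset.univ.filter (IsConj x)).card := by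
      rw [Chars.index_centralizer_eq, Nat.card_eq_fintype_card, Fintype.card_subtype]
    have hrel := Subgroup.relIndex_mul_index (hC x hx hx1)
    have hle := (Finset.card_le_card hsub).trans_eq hA
    rw [← hcard, ← hrel] at hle
    have h1 : (Subgroup.centralizer ({x} : Set L)).relIndex K = 1 := by
      refine le_antisymm ?_ (Nat.one_le_iff_ne_zero.2 Subgroup.index_ne_zero_of_finite)
      exact Nat.le_of_mul_le_mul_right (by rwa [one_mul])
        (Nat.pos_of_ne_zero Subgroup.index_ne_zero_of_finite)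
    refine ⟨le_antisymm (hC x hx hx1) (Subgroup.relIndex_eq_one.1 h1), fun y hy hy1 => ?_⟩
    have heq : Finset.univ.filter (IsConj x) = A := Finset.eq_of_subset_of_card_le hsub (by
      rw [hA, ← hcard, ← hrel, h1, one_mul])
    have : y ∈ A := Finset.mem_erase.2 ⟨hy1, Finset.mem_filter.2 ⟨Finset.mem_univ _, hy⟩⟩
    rw [← heq] at this
    exact (Finset.mem_filter.1 this).2
  obtain ⟨p, hp, hpd⟩ := Nat.exists_prime_and_dvd (fun h => hK1 (K.eq_bot_of_card_eq h))
  haveI := Fact.mk hp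
  obtain ⟨c, hc⟩ := exists_prime_orderOf_dvd_card' (G := K) p hpd
  have hc1 : (c : L) ≠ 1 := fun e => hp.one_lt.ne' (by
    rw [← hc, show c = 1 from Subtype.ext e, orderOf_one])
  refine ⟨p, hp, ⟨⟨fun a b => Subtype.ext ?_⟩⟩, fun a ha => ?_⟩
  · show (a : L) * b = b * a
    by_cases h : (a : L) = 1
    · rw [h, one_mul, mul_one]
    · exact (Subgroup.mem_centralizer_singleton_iff.1 ((hclass a a.2 h).1.ge b.2)).symm
  · by_cases h : a = 1
    · rw [h, one_pow]
    obtain ⟨g, rfl⟩ := isConj_iff.1 ((hclass c c.2 hc1).2 a ha h)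
    rw [conj_pow, ← hc, ← Subgroup.orderOf_coe, pow_orderOf_eq_one, mul_one, mul_inv_cancel]

end Kernel

variable {G : Type*} [Group G] [Fintype G] {H N : Subgroup G} [Fintype N]

/-- A kernel of prime power order is a Sylow subgroup. -/
lemma card_eq_pow_factorization (hN : Subgroup.normalizer (H : Set G) = N)
    (hC : ∀ h ∈ H, h ≠ 1 → Subgroup.centralizer ({h} : Set G) ≤ H) [(H.subgroupOf N).Normal]
    {p m : ℕ} (hp : p.Prime) (hm : Nat.card H = p ^ m) (hH : H ≠ ⊥) :
    Nat.card H = p ^ (Nat.card G).factorization p := by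
  haveI := Fact.mk hp
  have hHN : H ≤ N := hN ▸ Subgroup.le_normalizer
  obtain ⟨P, hP⟩ := (IsPGroup.iff_card.2 ⟨m, hm⟩ : IsPGroup p H).exists_le_sylow
  suffices H = P by rw [this]; exact P.card_eq_multiplicity
  by_contra hne
  set HP := H.subgroupOf (P : Subgroup G)
  have hlt : HP < ⊤ := lt_top_iff_ne_top.2 fun e =>
    hne (le_antisymm hP (Subgroup.subgroupOf_eq_top.1 e))
  haveI : Group.IsNilpotent (P : Subgroup G) := P.2.isNilpotent
  have hnlt := Group.normalizerCondition_of_isNilpotent HP hlt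
  obtain ⟨x, hxn, hxH⟩ := SetLike.exists_of_lt hnlt
  have hxN : (x : G) ∈ N := by
    rw [← hN, Subgroup.mem_normalizer_iff]
    intro h
    constructor
    · intro hh
      exact (Subgroup.mem_normalizer_iff.1 hxn ⟨h, hP hh⟩).1 hh
    · intro hh
      have hP' : h ∈ (P : Subgroup G) := by
        have := (P : Subgroup G).mul_mem ((P : Subgroup G).mul_mem ((P : Subgroup G).inv_mem x.2)
          (hP hh)) x.2
        rwa [show (x : G)⁻¹ * ((x : G) * h * (x : G)⁻¹) * x = h by group] at this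
      exact (Subgroup.mem_normalizer_iff.1 hxn ⟨h, hP'⟩).2 hh
  refine hxH (show (x : G) ∈ H from ?_)
  have hcop := coprime_card_index (centralizer_subgroupOf hHN hC)
  rw [Nat.card_congr (Subgroup.subgroupOfEquivOfLe hHN).toEquiv, hm] at hcop
  have hm0 : 0 < m := Nat.pos_of_ne_zero fun h => hH (H.eq_bot_of_card_eq (by rw [hm, h, pow_zero]))
  obtain ⟨k, hk⟩ := P.2 x
  have h1 : orderOf (QuotientGroup.mk (⟨x, hxN⟩ : N) : N ⧸ H.subgroupOf N) ∣ p ^ k :=
    orderOf_dvd_of_pow_eq_one (by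
      rw [← QuotientGroup.mk_pow, show (⟨x, hxN⟩ : N) ^ p ^ k = 1 from Subtype.ext (by
        simpa using congrArg Subtype.val hk), QuotientGroup.mk_one])
  have h2 : orderOf (QuotientGroup.mk (⟨x, hxN⟩ : N) : N ⧸ H.subgroupOf N) ∣ (H.subgroupOf N).index := by
    rw [Subgroup.index_eq_card]; exact orderOf_dvd_natCard _
  have h3 := Nat.eq_one_of_dvd_coprimes
    ((Nat.coprime_pow_left_iff hm0 p _).1 hcop |>.pow_left k) h1 h2
  rw [orderOf_eq_one_iff, QuotientGroup.eq_one_iff] at h3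
  exact h3

/-- The Feit–Sibley theorem. -/
theorem feit_sibley (hN : Subgroup.normalizer (H : Set G) = N) (hTI : IsTISubset (H : Set G))
    (hC : ∀ h ∈ H, h ≠ 1 → Subgroup.centralizer ({h} : Set G) ≤ H) [(H.subgroupOf N).Normal]
    (hnil : Group.IsNilpotent H) (hH : H ≠ ⊥) (hlt : H < N) :
    (Nat.card {χ : N → ℂ // IsIrrCharacter N χ ∧ ∃ k : N, (k : G) ∈ H ∧ χ k ≠ χ 1} = 1 ∧
        Nat.card H = (H.subgroupOf N).index + 1 ∧ ∃ p : ℕ, p.Prime ∧ IsElementaryAbelian p H) ∨
      (Nat.card H = 2 ^ (Nat.card G).factorization 2 ∧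
        (⁅H, H⁆.subgroupOf H).index < 4 * (H.subgroupOf N).index ^ 2) ∨
      IsCoherent {χ : N → ℂ | IsIrrCharacter N χ ∧ ∃ k : N, (k : G) ∈ H ∧ χ k ≠ χ 1} {1}ᶜ
        (fun α : N → ℂ => indFun N α) := by
  classical
  set K := H.subgroupOf N with hKdef
  have hHN : H ≤ N := hlt.le
  have hcard : Nat.card K = Nat.card H := Nat.card_congr (Subgroup.subgroupOfEquivOfLe hHN).toEquiv
  have hC' := centralizer_subgroupOf hHN hC
  haveI := hnil
  have hnilK : Group.IsNilpotent K :=
    Group.nilpotent_of_mulEquiv (Subgroup.subgroupOfEquivOfLe hHN).symm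
  haveI := hnilK
  have hsolv : Group.IsSolvable K := inferInstance
  have hK1 : K ≠ ⊥ := fun h => hH (H.eq_bot_of_card_eq (by rw [← hcard, h, Subgroup.card_bot]))
  have hK2 : K ≠ ⊤ := fun h => hlt.not_ge (Subgroup.subgroupOf_eq_top.1 h)
  have hset : {χ : N → ℂ | IsIrrCharacter N χ ∧ ∃ k : N, (k : G) ∈ H ∧ χ k ≠ χ 1} =
      inducedIrrAbove K ⊥ := (inducedIrrAbove_eq_nontrivial hC').symm
  rw [hset]
  by_cases he : Nat.card K = K.index + 1
  · obtain ⟨h1, p, hp, hcomm, hexp⟩ := kernel_minimal hC' hK1 hsolv he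
    refine Or.inl ⟨?_, by rw [← hcard]; exact he, p, hp, ?_, fun a ha => ?_⟩
    · rw [← h1, ← hset]
      rfl
    · refine ⟨⟨fun a b => Subtype.ext ?_⟩⟩
      have := congrArg (fun z : K => ((z : N) : G))
        (hcomm.is_comm.comm (⟨⟨a, hHN a.2⟩, a.2⟩ : K) ⟨⟨b, hHN b.2⟩, b.2⟩)
      exact this
    · exact congrArg Subtype.val (hexp ⟨a, hHN ha⟩ ha)
  obtain ⟨hτ, hτ1⟩ := isometry_indFun_TI hN hTI
  rcases feit_coherence hK1 hK2 hC' he hτ hτ1 with h | ⟨p, hp, ⟨m, hm⟩, hna, hle⟩
  · exact Or.inr (Or.inr h)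
  by_cases hp2 : p = 2
  · subst hp2
    refine Or.inr (Or.inl ⟨card_eq_pow_factorization hN hC hp (hcard ▸ hm) hH, ?_⟩)
    have heq : (⁅H, H⁆.subgroupOf H).index = (⁅K, K⁆).relIndex K := by
      have e1 : ⁅H, H⁆ = (⁅K, K⁆).map N.subtype := by
        rw [Subgroup.map_commutator, hKdef, Subgroup.map_subgroupOf_eq_of_le hHN]
      show ⁅H, H⁆.relIndex H = _
      conv_lhs => rw [e1, show H = K.map N.subtype from (Subgroup.map_subgroupOf_eq_of_le hHN).symm]
      exact Subgroup.relIndex_map_map_of_injective _ _ N.subtype_injective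
    rw [heq]
    obtain ⟨b, -, hb⟩ := (Nat.dvd_prime_pow hp).1
      ((⁅K, K⁆.subgroupOf K).index_dvd_card.trans (dvd_of_eq hm))
    change (⁅K, K⁆).relIndex K = 2 ^ b at hb
    have hb0 : b ≠ 0 := fun h => (commutator_lt_of_solvable hsolv hK1).not_ge
      (Subgroup.relIndex_eq_one.1 (by rw [hb, h, pow_zero]))
    have hm0 : m ≠ 0 := fun h => hK1 (K.eq_bot_of_card_eq (by rw [hm, h, pow_zero]))
    have hcop := coprime_card_index hC'
    rw [hm, Nat.coprime_pow_left_iff (Nat.pos_of_ne_zero hm0)] at hcop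
    have he2 : 2 ≤ K.index := by
      have h0 := Subgroup.index_ne_zero_of_finite (H := K)
      have h1 : K.index ≠ 1 := fun h => hK2 (Subgroup.index_eq_one.1 h)
      omega
    rw [hb] at hle ⊢
    have h2b : Even (2 ^ b) := (Nat.even_pow' hb0).2 even_two
    refine lt_of_le_of_ne (by
      rcases hle.eq_or_lt with h | h
      · rw [h] at h2b
        exact absurd h2b (by simp [Nat.even_add_one, parity_simps])
      · omega) fun h => ?_
    have hdvd : K.index ^ 2 ∣ 2 ^ b := h ▸ dvd_mul_left _ _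
    have hone := Nat.eq_one_of_dvd_coprimes (hcop.pow_left b)
      ((dvd_pow_self _ two_ne_zero).trans hdvd) dvd_rfl
    omega
  · refine Or.inr (Or.inr (sibley_odd hN hTI hC (odd_of_nonabelian_kernel hC' ?_ hna) hnilK hH))
    rw [hm]
    exact (hp.odd_of_ne_two hp2).pow

end CfsgLib.CharsMore
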