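import Cfsg.Agent.Lib.CharsMore.InducedIrr
import Cfsg.Agent.Lib.CharsMore.CoherenceKernel
import Cfsg.Agent.Lib.Chars.Permutation

/-!
# Characters over a normal subgroup containing the centralisers of its nonidentity elements
-/

set_option linter.unusedSectionVars false
set_option linter.style.haveILetI false

namespace CfsgLib.CharsMore

open Cfsg
open scoped ComplexConjugate commutatorElement

variable {L : Type*} [Group L] {K : Subgroup L} [hK : K.Normal]

/-- Elements of `K` commute with elements outside `K` only trivially. -/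
lemma eq_one_of_commute_outside (hC : ∀ k ∈ K, k ≠ 1 → Subgroup.centralizer ({k} : Set L) ≤ K)
    {x : L} (hx : x ∉ K) {k : L} (hk : k ∈ K) (h : x * k * x⁻¹ = k) : k = 1 := by
  by_contra hne
  exact hx (hC k hk hne (Subgroup.mem_centralizer_singleton_iff.2 (mul_inv_eq_iff_eq_mul.1 h)))

lemma commutatorMap_injective (hC : ∀ k ∈ K, k ≠ 1 → Subgroup.centralizer ({k} : Set L) ≤ K)
    {x : L} (hx : x ∉ K) {a b : L} (ha : a ∈ K) (hb : b ∈ K)
    (h : x * a * x⁻¹ * a⁻¹ = x * b * x⁻¹ * b⁻¹) : a = b := by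
  have h1 : x * (b⁻¹ * a) * x⁻¹ = b⁻¹ * a := by
    calc x * (b⁻¹ * a) * x⁻¹ = (x * b * x⁻¹)⁻¹ * (x * a * x⁻¹ * a⁻¹) * a := by group
      _ = b⁻¹ * a := by rw [h]; group
  exact (inv_mul_eq_one.1 (eq_one_of_commute_outside hC hx (K.mul_mem (K.inv_mem hb) ha) h1)).symm

/-- Fixed point freeness passes to every quotient `K/N` with `N` normal in `L`. -/
lemma frob_quot_of_centralizer [Finite L]
    (hC : ∀ k ∈ K, k ≠ 1 → Subgroup.centralizer ({k} : Set L) ≤ K) {N : Subgroup L} [hN : N.Normal]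
    (hNK : N ≤ K) : ∀ k ∈ K, k ∉ N → ∀ x : L, x * k * x⁻¹ * k⁻¹ ∈ N → x ∈ K := by
  intro k hk hkN x hmem
  by_contra hx
  let f : N → N := fun a => ⟨x * a * x⁻¹ * (a : L)⁻¹, N.mul_mem (hN.conj_mem a a.2 x) (N.inv_mem a.2)⟩
  obtain ⟨a, ha⟩ := (Finite.surjective_of_injective (f := f) fun a b h => Subtype.ext
    (commutatorMap_injective hC hx (hNK a.2) (hNK b.2) (congrArg Subtype.val h))) ⟨_, hmem⟩
  exact hkN (commutatorMap_injective hC hx (hNK a.2) hk (congrArg Subtype.val ha) ▸ a.2)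

/-- An involution outside `K` inverts `K`, so `K` is abelian. -/
lemma comm_of_involution [Finite L]
    (hC : ∀ k ∈ K, k ≠ 1 → Subgroup.centralizer ({k} : Set L) ≤ K) {x : L} (hx : x ∉ K)
    (hx2 : x * x = 1) : IsMulCommutative K := by
  let f : K → K := fun a => ⟨x * a * x⁻¹ * (a : L)⁻¹, K.mul_mem (hK.conj_mem a a.2 x) (K.inv_mem a.2)⟩
  have hsurj := Finite.surjective_of_injective (f := f) fun a b h => Subtype.ext
    (commutatorMap_injective hC hx a.2 b.2 (congrArg Subtype.val h))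
  have hxi : x⁻¹ = x := inv_eq_of_mul_eq_one_right hx2
  have hinv : ∀ c ∈ K, x * c * x⁻¹ = c⁻¹ := fun c hc => by
    obtain ⟨k, hk⟩ := hsurj ⟨c, hc⟩
    have e : x * (k : L) * x⁻¹ * (k : L)⁻¹ = c := congrArg Subtype.val hk
    rw [← e, hxi]
    simp only [mul_inv_rev, inv_inv, hxi, mul_assoc, ← mul_assoc x x, hx2, one_mul]
  refine ⟨⟨fun a b => Subtype.ext ?_⟩⟩
  show (a : L) * b = b * a
  have h1 := hinv _ (K.mul_mem a.2 b.2)
  rw [show x * ((a : L) * b) * x⁻¹ = (x * a * x⁻¹) * (x * b * x⁻¹) by group, hinv _ a.2,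
    hinv _ b.2, mul_inv_rev] at h1
  simpa using congrArg (fun z : L => z⁻¹) h1.symm

variable [Fintype L]

/-- Only the principal character of `K` is fixed by an element outside `K`. -/
lemma inertia_eq_of_centralizer [Fintype K]
    (hC : ∀ k ∈ K, k ≠ 1 → Subgroup.centralizer ({k} : Set L) ≤ K) {θ : K → ℂ}
    (hθ : IsIrrCharacter K θ) (h1 : θ ≠ fun _ => 1) : inertia K θ = K := by
  classical
  refine le_antisymm (fun g hg => ?_)
    (le_inertia K (Chars.isClassFunction_of_isCharacter (Chars.isCharacter_of_irr hθ)))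
  by_contra hgK
  let α : K ≃* K := MulAut.conjNormal g
  have hfix : (θ : K → ℂ) ∘ α = θ := by
    funext n
    exact (mem_inertia K).mp hg n
  haveI : Nontrivial {χ : IrrCharacter K // (χ : K → ℂ) ∘ α = (χ : K → ℂ)} :=
    ⟨⟨⟨⟨θ, hθ⟩, hfix⟩, ⟨Chars.principal K, rfl⟩, fun e => h1 (congrArg
      (fun x : {χ : IrrCharacter K // (χ : K → ℂ) ∘ α = (χ : K → ℂ)} => ((x.1 : IrrCharacter K) : K → ℂ)) e)⟩⟩
  have h2 : 1 < Nat.card {C : ConjClasses K // ConjClasses.map α.toMonoidHom C = C} := by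
    rw [Chars.card_fixed_classes_eq_card_fixed_irr α]; exact Finite.one_lt_card
  haveI := Finite.one_lt_card_iff_nontrivial.mp h2
  obtain ⟨⟨C, hC'⟩, hne1⟩ := exists_ne (⟨ConjClasses.mk 1,
    congrArg ConjClasses.mk (map_one α)⟩ : {C : ConjClasses K // ConjClasses.map α.toMonoidHom C = C})
  obtain ⟨k, rfl⟩ := ConjClasses.mk_surjective C
  have hk : k ≠ 1 := fun e => hne1 (Subtype.ext (congrArg ConjClasses.mk e))
  obtain ⟨b, hb⟩ := isConj_iff.mp (ConjClasses.mk_eq_mk_iff_isConj.mp hC')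
  have hb' : (b : L) * (g * k * g⁻¹) * (b : L)⁻¹ = k := congrArg Subtype.val hb
  refine hk (Subtype.ext (eq_one_of_commute_outside hC (x := (b : L) * g) (fun h => hgK ?_) k.2 ?_))
  · simpa using K.mul_mem (K.inv_mem b.2) h
  · simpa [mul_assoc] using hb'

/-- Nonprincipal irreducible characters of `K` induce irreducibly. -/
lemma isIrr_indFun_kernel (hC : ∀ k ∈ K, k ≠ 1 → Subgroup.centralizer ({k} : Set L) ≤ K)
    {θ : K → ℂ} (hθ : IsIrrCharacter K θ) (h1 : θ ≠ fun _ => 1) :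
    IsIrrCharacter L (indFun K θ) := by
  let _ : Fintype K := Fintype.ofFinite _
  refine Chars.isIrrCharacter_iff_inner_self.2
    ⟨Chars.isCharacter_indFun K (Chars.isCharacter_of_irr hθ), ?_⟩
  rw [inner_indFun_self K hθ, inertia_eq_of_centralizer hC hθ h1, Subgroup.relIndex_self,
    Nat.cast_one]

lemma inducedIrrAbove_isIrr (hC : ∀ k ∈ K, k ≠ 1 → Subgroup.centralizer ({k} : Set L) ≤ K) :
    ∀ χ ∈ inducedIrrAbove K ⊥, IsIrrCharacter L χ := by
  rintro χ ⟨θ, hθ, h1, -, rfl⟩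
  exact isIrr_indFun_kernel hC hθ h1

/-- Members outside `S(Z)`, when irreducible, are the irreducible characters nontrivial on `Z`. -/
theorem sdiff_inducedIrrAbove_eq {Z : Subgroup L} [Z.Normal] (hZK : Z ≤ K)
    (hirr : ∀ χ ∈ inducedIrrAbove K ⊥ \ inducedIrrAbove K Z, IsIrrCharacter L χ) :
    inducedIrrAbove K ⊥ \ inducedIrrAbove K Z =
      {χ | IsIrrCharacter L χ ∧ ∃ z ∈ Z, χ z ≠ χ 1} := by
  classical
  let _ : Fintype K := Fintype.ofFinite _
  ext χ
  constructor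
  · intro hχ
    refine ⟨hirr χ hχ, ?_⟩
    obtain ⟨⟨θ, hθ, h1, -, rfl⟩, hZ⟩ := hχ
    by_contra hcon
    push Not at hcon
    exact hZ ⟨θ, hθ, h1, (kernel_of_indFun K hZK hθ).2 hcon, rfl⟩
  · rintro ⟨hχ, z, hz, hzne⟩
    have hres := Chars.isCharacter_restrict K (Chars.isCharacter_of_irr hχ)
    obtain ⟨θ, hθ⟩ := Chars.exists_constituent hres fun h0 =>
      Chars.irr_degree_ne_zero hχ (congrFun h0 1)
    have hnk : ¬ ∀ a : K, (a : L) ∈ Z → (θ : K → ℂ) a = (θ : K → ℂ) 1 := by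
      intro hker
      apply hzne
      have h1 := congrFun (clifford K hχ θ.2 hθ) ⟨z, hZK hz⟩
      have h2 := congrFun (clifford K hχ θ.2 hθ) 1
      simp only [Pi.smul_apply, Finset.sum_apply, smul_eq_mul, OneMemClass.coe_one] at h1 h2
      rw [h1, h2]
      refine congrArg _ (Finset.sum_congr rfl fun ψ hψ => ?_)
      obtain ⟨g, rfl⟩ := (mem_orbitFn K).1 hψ
      show (θ : K → ℂ) (conjBy K g ⟨z, hZK hz⟩) = (θ : K → ℂ) (conjBy K g 1)
      rw [map_one]
      refine hker _ ?_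
      rw [coe_conjBy]
      exact ‹Z.Normal›.conj_mem z hz g
    have hne1 : (θ : K → ℂ) ≠ fun _ => 1 := fun e => hnk fun a _ => by rw [e]
    have hS : indFun K (θ : K → ℂ) ∈ inducedIrrAbove K ⊥ \ inducedIrrAbove K Z :=
      ⟨(mem_inducedIrrAbove_bot K θ.2).2 hne1,
        fun h => hnk ((mem_inducedIrrAbove K hZK θ.2).1 h).2⟩
    have h0 : classInner (indFun K (θ : K → ℂ)) χ ≠ 0 := by
      rw [Chars.inner_indFun K _ (Chars.isClassFunction_of_isCharacter (Chars.isCharacter_of_irr hχ)),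
        ← Chars.inner_conj]
      exact (map_ne_zero _).mpr hθ
    rw [Chars.inner_irr_of_isIrr (hirr _ hS) hχ] at h0
    by_cases e : indFun K (θ : K → ℂ) = χ
    · exact e ▸ hS
    · rw [if_neg e] at h0
      exact absurd rfl h0

/-- The characters induced from `K` are the irreducible characters nontrivial on `K`. -/
theorem inducedIrrAbove_eq_nontrivial
    (hC : ∀ k ∈ K, k ≠ 1 → Subgroup.centralizer ({k} : Set L) ≤ K) :
    inducedIrrAbove K ⊥ = {χ | IsIrrCharacter L χ ∧ ∃ k ∈ K, χ k ≠ χ 1} := by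
  rw [← sdiff_inducedIrrAbove_eq (K := K) le_rfl fun χ h => inducedIrrAbove_isIrr hC χ h.1]
  refine (sdiff_eq_left.2 ?_).symm
  rw [Set.disjoint_left]
  rintro χ - ⟨θ, hθ, h1, h2, -⟩
  refine h1 ?_
  have hall : ∀ a : K, θ a = θ 1 := fun a => h2 a a.2
  let _ : Fintype K := Fintype.ofFinite _
  have h3 := Chars.inner_irr_self (⟨θ, hθ⟩ : IrrCharacter K)
  rw [Chars.inner_def] at h3
  simp only [hall, Finset.sum_const, Finset.card_univ, ← Nat.card_eq_fintype_card, nsmul_eq_mul,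
    inv_mul_cancel_left₀ (Chars.card_ne_zero K)] at h3
  obtain ⟨d, hd0, hd⟩ := Chars.irr_degree_nat hθ
  rw [hd, map_natCast] at h3
  have : d * d = 1 := by exact_mod_cast h3
  funext a
  rw [hall a, hd, Nat.eq_one_of_mul_eq_one_right this, Nat.cast_one]

end CfsgLib.CharsMore
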