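import Cfsg.Agent.Lib.CharsMore.FullyRamifiedSylow
import Mathlib

/-!
# Fully ramified sections under a fixed-point-free cyclic action
-/

set_option linter.unusedSectionVars false
set_option linter.style.haveILetI false

namespace CfsgLib.CharsMore.FrobeniusRamified

open Cfsg FullyRamified
open scoped ComplexConjugate

/-- If `h Σ cᵢ² - (Σ cᵢ)² = h - 1` with `h` the number of terms, then `Σ cᵢ ≡ ± 1` modulo `h`. -/
lemma sum_mod {ι : Type*} (s : Finset ι) (c : ι → ℕ) (h2 : 2 ≤ s.card)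
    (h : s.card * ∑ i ∈ s, c i ^ 2 = (∑ i ∈ s, c i) ^ 2 + (s.card - 1)) :
    (s.card : ℤ) ∣ (∑ i ∈ s, c i : ℕ) - 1 ∨ (s.card : ℤ) ∣ (∑ i ∈ s, c i : ℕ) + 1 := by
  classical
  obtain ⟨i₀, hi₀, hmin⟩ := s.exists_min_image c (Finset.card_pos.1 (by omega))
  set d : ι → ℕ := fun i => c i - c i₀ with hd
  have hcd : ∀ i ∈ s, c i = c i₀ + d i := fun i hi => by have := hmin i hi; simp only [hd]; omega
  set S := ∑ i ∈ s, d i with hS
  set T := ∑ i ∈ s, d i ^ 2 with hT
  have hsum : ∑ i ∈ s, c i = s.card * c i₀ + S := by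
    rw [Finset.sum_congr rfl hcd, Finset.sum_add_distrib, Finset.sum_const, smul_eq_mul]
  have hsq : ∑ i ∈ s, c i ^ 2 = s.card * c i₀ ^ 2 + 2 * c i₀ * S + T := by
    rw [Finset.sum_congr rfl fun i hi => by rw [hcd i hi, add_sq], Finset.sum_add_distrib,
      Finset.sum_add_distrib, Finset.sum_const, smul_eq_mul, ← Finset.mul_sum]
  have hT' : s.card * T = S ^ 2 + (s.card - 1) := by rw [hsum, hsq] at h; nlinarith [h]
  set B := s.filter fun i => d i ≠ 0 with hB
  set k := B.card with hk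
  have hk' : k < s.card := Finset.card_lt_card (Finset.filter_ssubset.2 ⟨i₀, hi₀, by simp [hd]⟩)
  have hSB : S = ∑ i ∈ B, d i := (Finset.sum_filter_ne_zero s).symm
  have hTB : T = ∑ i ∈ B, d i ^ 2 := by
    refine (Finset.sum_subset (Finset.filter_subset _ _) fun i hi hn => ?_).symm
    have : d i = 0 := by
      by_contra h0
      exact hn (Finset.mem_filter.2 ⟨hi, h0⟩)
    simp [this]
  have hCS : (S : ℤ) ^ 2 ≤ (k : ℤ) * T := by
    rw [hSB, hTB, hk]
    push_cast
    exact sq_sum_le_card_mul_sum_sq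
  have hkT : k ≤ T := by
    rw [hTB, hk, Finset.card_eq_sum_ones]
    exact Finset.sum_le_sum fun i hi =>
      Nat.one_le_pow _ _ (Nat.pos_of_ne_zero (Finset.mem_filter.1 hi).2)
  have hk0 : k ≠ 0 := by
    intro h0
    rw [hk, Finset.card_eq_zero] at h0
    rw [hSB, hTB, h0] at hT'
    simp at hT'
    omega
  have hT'' : (s.card : ℤ) * T = (S : ℤ) ^ 2 + ((s.card : ℤ) - 1) := by
    have := congrArg (fun n : ℕ => (n : ℤ)) hT'
    push_cast [Nat.cast_sub (show 1 ≤ s.card by omega)] at this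
    exact this
  have e1 : ((s.card : ℤ) - k) * T ≤ (s.card : ℤ) - 1 := by nlinarith
  have e2 : ((s.card : ℤ) - k) * k ≤ ((s.card : ℤ) - k) * T := by
    refine mul_le_mul_of_nonneg_left (by exact_mod_cast hkT) (by omega)
  have e3 : ((k : ℤ) - 1) * ((s.card : ℤ) - k - 1) ≤ 0 := by nlinarith
  have e4 : k = 1 ∨ k + 1 = s.card := by
    rcases Nat.lt_or_ge 1 k with h1 | h1
    · right
      by_contra hne
      have a1 : (0 : ℤ) < (k : ℤ) - 1 := by omega
      have a2 : (0 : ℤ) < (s.card : ℤ) - k - 1 := by omega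
      nlinarith [mul_pos a1 a2]
    · left; omega
  have hTk : T = k := by
    rcases e4 with h1 | h1
    · have : ((s.card : ℤ) - 1) * T ≤ ((s.card : ℤ) - 1) * 1 := by rw [h1] at e1; push_cast at e1; linarith
      have h' : (T : ℤ) ≤ 1 := le_of_mul_le_mul_left this (by omega)
      omega
    · have h2' : (s.card : ℤ) - k = 1 := by omega
      rw [h2', one_mul] at e1
      omega
  have hall : ∀ i ∈ B, d i = 1 := by
    by_contra hcon
    push Not at hcon
    obtain ⟨i, hi, hne⟩ := hcon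
    have hlt : ∑ j ∈ B, 1 < ∑ j ∈ B, d j ^ 2 := Finset.sum_lt_sum
      (fun j hj => Nat.one_le_pow _ _ (Nat.pos_of_ne_zero (Finset.mem_filter.1 hj).2))
      ⟨i, hi, Nat.one_lt_pow two_ne_zero (by
        have := Nat.pos_of_ne_zero (Finset.mem_filter.1 hi).2; omega)⟩
    rw [← Finset.card_eq_sum_ones, ← hTB, hTk] at hlt
    omega
  have hSk : S = k := by rw [hSB, Finset.sum_congr rfl hall, ← Finset.card_eq_sum_ones]
  rw [hsum, hSk]
  rcases e4 with h1 | h1
  · left
    exact ⟨c i₀, by rw [h1]; push_cast; ring⟩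
  · right
    exact ⟨(c i₀ : ℤ) + 1, by rw [← h1]; push_cast; ring⟩

variable {Γ : Type*} [Group Γ] [Fintype Γ]

theorem index_dvd (G N : Subgroup Γ) [G.Normal] [N.Normal] [Fintype G] [Fintype N] (hNG : N ≤ G)
    (hGlt : G ≠ ⊤) (hcyc : IsCyclic (Γ ⧸ G))
    (hfrob : ∀ x : Γ, x ∉ G → ∀ g : Γ, g ∈ G → x * g * x⁻¹ * g⁻¹ ∈ N → g ∈ N)
    (θ : IrrCharacter N) (hinv : ∀ (x : Γ) (n : N), (θ : N → ℂ) (conjBy N x n) = (θ : N → ℂ) n)
    (χ : IrrCharacter G) (e : ℕ)
    (hram : ∀ g, indFun (N.subgroupOf G) (pullFn N G (θ : N → ℂ)) g = (e : ℂ) * (χ : G → ℂ) g) :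
    (G.index : ℤ) ∣ (e : ℤ) - 1 ∨ (G.index : ℤ) ∣ (e : ℤ) + 1 := by
  classical
  let _ := Fintype.ofFinite (N.subgroupOf G)
  have hθG := isIrr_pullFn N hNG θ.2
  have hinvG : ∀ g : G, conjFn (N.subgroupOf G) g (pullFn N G (θ : N → ℂ)) = pullFn N G (θ : N → ℂ) :=
    fun g => funext fun n => hinv (g : Γ) ⟨((n : G) : Γ), n.2⟩
  have hindeq : indFun (N.subgroupOf G) (pullFn N G (θ : N → ℂ)) = (e : ℂ) • (χ : G → ℂ) :=
    funext hram
  have he2 : e ^ 2 = (N.subgroupOf G).index := by
    have h := inner_indFun_self_of_invariant (N.subgroupOf G) hθG hinvG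
    rw [hindeq, Chars.inner_smul_left, Chars.inner_smul_right, Chars.inner_irr_self, mul_one,
      map_natCast] at h
    rw [sq]; exact_mod_cast h
  have he : e ≠ 0 := fun h0 =>
    Subgroup.index_ne_zero_of_finite (H := N.subgroupOf G) (by rw [← he2, h0]; rfl)
  have hχover : classInner (fun n : N.subgroupOf G => (χ : G → ℂ) n) (pullFn N G (θ : N → ℂ)) =
      (e : ℂ) := by
    rw [← conj_inner (Chars.isCharacter_restrict _ (Chars.isCharacter_of_irr χ.2))
      (Chars.isCharacter_of_irr hθG), ← Chars.inner_indFun _ _ (Chars.isClassFunction_irr χ),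
      hindeq, Chars.inner_smul_left, Chars.inner_irr_self, mul_one]
  have hχN : ∀ z : N.subgroupOf G, (χ : G → ℂ) z = (e : ℂ) * pullFn N G (θ : N → ℂ) z := by
    intro z
    rw [restrict_eq_mul_of_invariant _ χ.2 hθG (fun g => congrFun (hinvG g))
      (by rw [hχover]; exact_mod_cast he) z, hχover]
  -- `χ` is invariant and extends
  have hχinv : ∀ (x : Γ) (g : G), (χ : G → ℂ) (conjBy G x g) = (χ : G → ℂ) g := by
    intro x
    have h1 : IsIrrCharacter G (conjFn G x (χ : G → ℂ)) := isIrr_conjFn G x χ.2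
    refine congrFun (eq_of_over χ.2 hθG he2 hχN h1 ?_)
    have e1 : (fun z : N.subgroupOf G => conjFn G x (χ : G → ℂ) z) =
        (e : ℂ) • pullFn N G (θ : N → ℂ) := by
      funext z
      have hz : (conjBy G x (z : G) : G) ∈ N.subgroupOf G :=
        (inferInstance : N.Normal).conj_mem _ z.2 x
      show (χ : G → ℂ) (conjBy G x (z : G)) = _
      rw [hχN ⟨_, hz⟩, Pi.smul_apply, smul_eq_mul]
      congr 1
      exact hinv x ⟨((z : G) : Γ), z.2⟩
    show classInner (fun z : N.subgroupOf G => conjFn G x (χ : G → ℂ) z)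
      (pullFn N G (θ : N → ℂ)) ≠ 0
    rw [e1, Chars.inner_smul_left, Chars.inner_irr_self ⟨_, hθG⟩, mul_one]
    exact_mod_cast he
  haveI := hcyc
  obtain ⟨d, ρ, hρ, hρχ, hρinv, -⟩ := exists_invariant_rep (N := G) χ.2 hχinv
  haveI := hρ
  obtain ⟨R, hR⟩ := repExtends_of_cyclic G ρ hρinv
  obtain ⟨-, hψ, hψG⟩ := isIrrExt_of_rep G R hR
  rw [hρχ] at hψG
  set ψ := R.character with hψdef
  -- the cyclic supplement
  obtain ⟨q, hq⟩ := hcyc.exists_generator
  obtain ⟨x, rfl⟩ := QuotientGroup.mk'_surjective G q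
  set π := QuotientGroup.mk' N with hπ
  have hxG : x ∉ G := by
    intro hx
    apply hGlt
    rw [Subgroup.eq_top_iff']
    intro y
    obtain ⟨i, hi⟩ := Subgroup.mem_zpowers_iff.1 (hq (y : Γ ⧸ G))
    rw [show QuotientGroup.mk' G x = 1 from (QuotientGroup.eq_one_iff x).2 hx, one_zpow] at hi
    exact (QuotientGroup.eq_one_iff y).1 hi.symm
  have hpowN : ∀ i : ℤ, x ^ i ∈ G → x ^ i ∈ N := by
    intro i hi
    refine hfrob x hxG _ hi ?_
    rw [(Commute.self_zpow x i).eq]
    simp
  set H := (Subgroup.zpowers (π x)).comap π with hH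
  have hNH : N ≤ H := QuotientGroup.le_comap_mk' N _
  have hxH : x ∈ H := Subgroup.mem_zpowers (π x)
  have hHG : ∀ y ∈ H, y ∈ G → y ∈ N := by
    intro y hy hyG
    obtain ⟨i, hi⟩ := Subgroup.mem_zpowers_iff.1 hy
    have h1 : (x ^ i)⁻¹ * y ∈ N := by
      refine QuotientGroup.eq.1 ?_
      rw [show ((x ^ i : Γ) : Γ ⧸ N) = π x ^ i from map_zpow π x i]
      exact hi
    have h2 : x ^ i ∈ G := by
      have := G.mul_mem hyG (G.inv_mem (hNG h1))
      simpa using this
    have := N.mul_mem (hpowN i h2) h1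
    simpa using this
  let _ := Fintype.ofFinite H
  let _ := Fintype.ofFinite (N.subgroupOf H)
  haveI : IsCyclic (↥H ⧸ N.subgroupOf H) := by
    let f : ↥H ⧸ N.subgroupOf H →* Subgroup.zpowers (π x) := QuotientGroup.lift (N.subgroupOf H)
      ((π.comp H.subtype).codRestrict _ fun y => y.2)
      fun y hy => Subtype.ext ((QuotientGroup.eq_one_iff (N := N) (y : Γ)).2 hy)
    refine isCyclic_of_injective f ?_
    rw [injective_iff_map_eq_one]
    intro z
    induction z using QuotientGroup.induction_on with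
    | H y =>
      intro hy
      exact (QuotientGroup.eq_one_iff y).2
        ((QuotientGroup.eq_one_iff (N := N) (y : Γ)).1 (congrArg Subtype.val hy))
  have hidx : (N.subgroupOf H).index = G.index := by
    let f : ↥H ⧸ N.subgroupOf H →* Γ ⧸ G :=
      QuotientGroup.map (N.subgroupOf H) G H.subtype fun y hy => hNG hy
    refine Nat.card_eq_of_bijective f ⟨?_, ?_⟩
    · rw [injective_iff_map_eq_one]
      intro z
      induction z using QuotientGroup.induction_on with
      | H y =>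
        intro hy
        exact (QuotientGroup.eq_one_iff y).2
          (hHG _ y.2 ((QuotientGroup.eq_one_iff (N := G) (y : Γ)).1 hy))
    · intro z
      obtain ⟨i, rfl⟩ := Subgroup.mem_zpowers_iff.1 (hq z)
      exact ⟨((⟨x, hxH⟩ : H) ^ i : H), by
        show ((((⟨x, hxH⟩ : H) ^ i : H) : Γ) : Γ ⧸ G) = _
        rw [Subgroup.coe_zpow]; rfl⟩
  have hh : 2 ≤ G.index := by
    have h1 := Subgroup.index_ne_zero_of_finite (H := G)
    have h2 : G.index ≠ 1 := fun h => hGlt (Subgroup.index_eq_one.1 h)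
    omega
  -- extensions of `θ` to `H`
  have hθH := isIrr_pullFn N hNH θ.2
  obtain ⟨d', σ, hσ, hσθ, hσinv, -⟩ := exists_invariant_rep (N := N.subgroupOf H) hθH
    (fun y n => hinv (y : Γ) ⟨((n : H) : Γ), n.2⟩)
  haveI := hσ
  obtain ⟨S, hS⟩ := repExtends_of_cyclic (N.subgroupOf H) σ hσinv
  obtain ⟨-, hφ, hφN⟩ := isIrrExt_of_rep (N.subgroupOf H) S hS
  rw [hσθ] at hφN
  set φ := S.character
  have hφres : IsIrrCharacter (N.subgroupOf H) (fun n : N.subgroupOf H => φ n) := by
    rw [funext hφN]; exact hθH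
  let _ := Chars.irrFintype H
  set s := quotIrr (N.subgroupOf H) with hs
  have hβ1 : ∀ β ∈ s, (β : H → ℂ) 1 = 1 := by
    intro β hβ
    obtain ⟨τ, hτ, hτe⟩ := Chars.exists_deflate_irr (N.subgroupOf H) β.2
      fun y hy => ((mem_quotIrr _).1 hβ) hy
    letI := IsCyclic.commGroup (α := ↥H ⧸ N.subgroupOf H)
    rw [congrFun hτe 1]
    exact Chars.irr_abelian_degree (fun a b => mul_comm a b) hτ
  have hscard : s.card = G.index := by
    have h := congrFun (indFun_one_eq_sum (N.subgroupOf H)) 1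
    rw [Chars.indFun_one_apply, mul_one, Finset.sum_apply, hidx, Finset.sum_congr rfl fun β hβ => by
      rw [Pi.smul_apply, hβ1 β hβ, smul_eq_mul, mul_one], Finset.sum_const, nsmul_eq_mul,
      mul_one] at h
    exact_mod_cast h.symm
  have hψH : IsCharacter H (fun y : H => ψ y) :=
    Chars.isCharacter_restrict H (Chars.isCharacter_of_irr hψ)
  have hprod : ∀ β ∈ s, IsIrrCharacter H ((β : H → ℂ) * φ) := fun β hβ =>
    gallagher_irr (N.subgroupOf H) hφ hφres hβ
  set a : IrrCharacter H → ℕ := fun β => multNat (fun y : H => ψ y) ((β : H → ℂ) * φ) with ha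
  have hdecomp : (fun y : H => ψ y) = ∑ β ∈ s, (a β : ℂ) • ((β : H → ℂ) * φ) := by
    refine Chars.ext_inner_irr (Chars.isClassFunction_of_isCharacter hψH)
      (Chars.isClassFunction_sum _ fun β hβ => Chars.isClassFunction_smul _
        (Chars.isClassFunction_of_isCharacter (Chars.isCharacter_of_irr (hprod β hβ)))) fun η => ?_
    rw [Chars.inner_sum_left]
    by_cases hmem : ∃ β ∈ s, (η : H → ℂ) = (β : H → ℂ) * φ
    · obtain ⟨β, hβ, hη⟩ := hmem
      rw [Finset.sum_eq_single β (fun γ hγ hne => ?_) (fun h => absurd hβ h), Chars.inner_smul_left,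
        hη, gallagher_orthonormal (N.subgroupOf H) hφ hφres hβ hβ, if_pos rfl, mul_one,
        inner_eq_multNat hψH (Chars.isCharacter_of_irr (hprod β hβ))]
      rw [Chars.inner_smul_left, hη, gallagher_orthonormal (N.subgroupOf H) hφ hφres hγ hβ,
        if_neg hne, mul_zero]
    · rw [Finset.sum_eq_zero fun β hβ => by
        rw [Chars.inner_smul_left, Chars.inner_irr_of_isIrr (hprod β hβ) η.2,
          if_neg fun h => hmem ⟨β, hβ, h.symm⟩, mul_zero]]
      by_contra hne
      apply hmem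
      -- constituents of the restriction lie over `θ`
      have hover : classInner (fun n : N.subgroupOf H => (η : H → ℂ) n)
          (fun n : N.subgroupOf H => φ n) ≠ 0 := by
        obtain ⟨τ, hτ⟩ := exists_below (N.subgroupOf H) η.2
        have h1 := inner_comp_ne_zero (N.subgroupOf H).subtype hψH η.2 hne
          (Chars.isCharacter_of_irr τ.2) hτ
        have e1 : ((fun y : H => ψ y) ∘ (N.subgroupOf H).subtype) =
            (e : ℂ) • pullFn N H (θ : N → ℂ) := by
          funext n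
          show ψ ((n : H) : Γ) = _
          have h2 := hψG ⟨((n : H) : Γ), hNG n.2⟩
          rw [h2]
          exact hχN ⟨⟨((n : H) : Γ), hNG n.2⟩, n.2⟩
        rw [e1, Chars.inner_smul_left, Chars.inner_irr_of_isIrr hθH τ.2] at h1
        rw [funext hφN]
        split_ifs at h1 with hτe
        · rwa [hτe]
        · exact absurd (mul_zero _) h1
      exact gallagher_exists (N.subgroupOf H) hφ hφres η.2 hover
  -- degrees
  have hdeg : e = ∑ β ∈ s, a β := by
    have h := congrFun hdecomp 1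
    rw [Finset.sum_apply] at h
    have h1 : ψ 1 = (e : ℂ) * φ 1 := by
      have h2 := hψG 1
      rw [OneMemClass.coe_one] at h2
      rw [h2]
      have h3 := hχN 1
      rw [OneMemClass.coe_one] at h3
      rw [h3]
      congr 1
      have h4 := hφN 1
      rw [OneMemClass.coe_one] at h4
      rw [h4]; rfl
    rw [OneMemClass.coe_one, h1, Finset.sum_congr rfl fun β hβ => by
      rw [Pi.smul_apply, Pi.mul_apply, hβ1 β hβ, one_mul, smul_eq_mul], ← Finset.sum_mul] at h
    exact_mod_cast mul_right_cancel₀ (Chars.irr_degree_ne_zero hφ) h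
  have hnorm : classInner (fun y : H => ψ y) (fun y : H => ψ y) = ((∑ β ∈ s, a β ^ 2 : ℕ) : ℂ) := by
    rw [hdecomp, Chars.inner_sum_left, Nat.cast_sum]
    refine Finset.sum_congr rfl fun β hβ => ?_
    rw [Chars.inner_smul_left, ← hdecomp,
      conj_inner hψH (Chars.isCharacter_of_irr (hprod β hβ)),
      inner_eq_multNat hψH (Chars.isCharacter_of_irr (hprod β hβ)), Nat.cast_pow, sq]
  -- the values on a coset outside `G`
  set f : Γ → ℂ := fun g => ψ g * conj (ψ g) with hf
  have hψcl := Chars.isClassFunction_of_isCharacter (Chars.isCharacter_of_irr hψ)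
  have hcoset : ∀ y : H, (y : Γ) ∉ G → ∑ n : N, f ((n : Γ) * y) = (Nat.card N : ℂ) := by
    intro y hy
    have hG : ∑ g : G, f ((g : Γ) * y) = (Nat.card G : ℂ) := by
      have h := coset_norm_avg G hψ (by rw [funext hψG]; exact χ.2) (y : Γ)
      rw [inv_mul_eq_one₀ (Nat.cast_ne_zero.2 Nat.card_pos.ne')] at h
      exact h.symm
    let Φ : G × N → G := fun gn => ⟨(gn.1 : Γ) * ((gn.2 : Γ) * y) * (gn.1 : Γ)⁻¹ * (y : Γ)⁻¹, by
      have h1 : (y : Γ) * (gn.1 : Γ)⁻¹ * (y : Γ)⁻¹ ∈ G :=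
        (inferInstance : G.Normal).conj_mem _ (G.inv_mem gn.1.2) _
      have h2 := G.mul_mem (G.mul_mem gn.1.2 (hNG gn.2.2)) h1
      simpa [mul_assoc] using h2⟩
    have hfib : ∀ k : G, (Finset.univ.filter fun gn => Φ gn = k).card ≤ Nat.card N := by
      intro k
      rcases Finset.eq_empty_or_nonempty (Finset.univ.filter fun gn => Φ gn = k) with h0 | ⟨gn₀, h0⟩
      · simp [h0]
      have hmem : ∀ gn ∈ Finset.univ.filter (fun gn => Φ gn = k),
          (gn₀.1 : Γ)⁻¹ * (gn.1 : Γ) ∈ N := by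
        intro gn hgn
        have h1 : Φ gn = Φ gn₀ := ((Finset.mem_filter.1 hgn).2).trans (Finset.mem_filter.1 h0).2.symm
        have h2 := congrArg (fun z : G => π ((z : Γ) * y)) h1
        simp only [Φ, inv_mul_cancel_right, map_mul, map_inv] at h2
        have hn : ∀ n : N, π (n : Γ) = 1 := fun n => (QuotientGroup.eq_one_iff (n : Γ)).2 n.2
        rw [hn, hn, one_mul] at h2
        set u := (gn₀.1 : Γ)⁻¹ * (gn.1 : Γ) with hu
        have huG : u ∈ G := G.mul_mem (G.inv_mem gn₀.1.2) gn.1.2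
        refine hfrob (y : Γ) hy u huG ((QuotientGroup.eq_one_iff (N := N) _).1 ?_)
        show π ((y : Γ) * u * (y : Γ)⁻¹ * u⁻¹) = 1
        simp only [hu, map_mul, map_inv, mul_inv_rev, inv_inv]
        have h3 : π (y : Γ) * (π (gn₀.1 : Γ))⁻¹ * π (gn.1 : Γ) =
            (π (gn₀.1 : Γ))⁻¹ * π (gn.1 : Γ) * π (y : Γ) := by
          have h4 : π (gn₀.1 : Γ) * π (y : Γ) * (π (gn₀.1 : Γ))⁻¹ * π (gn.1 : Γ) =
              π (gn.1 : Γ) * π (y : Γ) := by rw [← h2, inv_mul_cancel_right]
          calc π (y : Γ) * (π (gn₀.1 : Γ))⁻¹ * π (gn.1 : Γ)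
              = (π (gn₀.1 : Γ))⁻¹ *
                (π (gn₀.1 : Γ) * π (y : Γ) * (π (gn₀.1 : Γ))⁻¹ * π (gn.1 : Γ)) := by group
            _ = _ := by rw [h4]; group
        calc π (y : Γ) * ((π (gn₀.1 : Γ))⁻¹ * π (gn.1 : Γ)) * (π (y : Γ))⁻¹ *
              ((π (gn.1 : Γ))⁻¹ * π (gn₀.1 : Γ))
            = (π (y : Γ) * (π (gn₀.1 : Γ))⁻¹ * π (gn.1 : Γ)) * (π (y : Γ))⁻¹ *
              ((π (gn.1 : Γ))⁻¹ * π (gn₀.1 : Γ)) := by group
          _ = 1 := by rw [h3]; group
      rw [Nat.card_eq_fintype_card, ← Finset.card_univ]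
      refine Finset.card_le_card_of_injOn
        (fun gn : G × N => if h : (gn₀.1 : Γ)⁻¹ * (gn.1 : Γ) ∈ N then (⟨_, h⟩ : N) else 1)
        (fun _ _ => Finset.mem_univ _) ?_
      intro u hu v hv huv
      simp only [dif_pos (hmem u hu), dif_pos (hmem v hv), Subtype.mk.injEq, mul_right_inj] at huv
      have huv' : u.1 = v.1 := Subtype.ext huv
      refine Prod.ext huv' (Subtype.ext ?_)
      have h1 : Φ u = Φ v :=
        ((Finset.mem_filter.1 hu).2).trans ((Finset.mem_filter.1 hv).2).symm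
      have h2 := congrArg (fun z : G => (z : Γ)) h1
      simp only [Φ, huv', mul_left_inj, mul_right_inj] at h2
      exact h2
    have hcard : ∀ k : G, (Finset.univ.filter fun gn => Φ gn = k).card = Nat.card N := by
      have htot : ∑ k : G, (Finset.univ.filter fun gn => Φ gn = k).card = ∑ _k : G, Nat.card N := by
        rw [← Finset.card_eq_sum_card_fiberwise (fun _ _ => Finset.mem_univ _)]
        simp [Nat.card_eq_fintype_card]
      intro k
      exact (Finset.sum_eq_sum_iff_of_le (fun k _ => hfib k)).1 htot k (Finset.mem_univ k)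
    have h1 : ∑ gn : G × N, f ((Φ gn : Γ) * y) = (Nat.card N : ℂ) * (Nat.card G : ℂ) := by
      rw [← Finset.sum_fiberwise Finset.univ Φ, Finset.sum_congr rfl fun k _ => by
        rw [Finset.sum_congr rfl (g := fun _ => f ((k : Γ) * y))
          (fun gn hgn => by rw [(Finset.mem_filter.1 hgn).2]), Finset.sum_const, hcard, nsmul_eq_mul],
        ← Finset.mul_sum, hG]
    have h2 : ∀ gn : G × N, f ((Φ gn : Γ) * y) = f ((gn.2 : Γ) * y) := fun gn => by
      show f ((gn.1 : Γ) * ((gn.2 : Γ) * y) * (gn.1 : Γ)⁻¹ * (y : Γ)⁻¹ * y) = _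
      rw [inv_mul_cancel_right]
      simp only [hf]
      rw [hψcl]
    simp only [h2, Fintype.sum_prod_type, Finset.sum_const, Finset.card_univ, nsmul_eq_mul,
      ← Nat.card_eq_fintype_card, mul_comm (Nat.card N : ℂ) (Nat.card G : ℂ)] at h1
    exact mul_left_cancel₀ (Nat.cast_ne_zero.2 Nat.card_pos.ne') h1
  -- the norm of the restriction
  have hcardH : Nat.card H = G.index * Nat.card N := by
    rw [← (N.subgroupOf H).index_mul_card, hidx,
      Nat.card_congr (Subgroup.subgroupOfEquivOfLe hNH).toEquiv]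
  have hsumH : ∑ y : H, f y = (Nat.card N : ℂ) * ((e : ℂ) ^ 2 + ((G.index - 1 : ℕ) : ℂ)) := by
    rw [← Finset.sum_fiberwise Finset.univ (fun y : H => (y : ↥H ⧸ N.subgroupOf H))]
    have hterm : ∀ q : ↥H ⧸ N.subgroupOf H,
        (∑ y ∈ Finset.univ.filter (fun y : H => (y : ↥H ⧸ N.subgroupOf H) = q), f y) =
          if q = 1 then (e : ℂ) ^ 2 * Nat.card N else (Nat.card N : ℂ) := by
      intro q
      induction q using QuotientGroup.induction_on with
      | H y =>
        have hre : (∑ z ∈ Finset.univ.filter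
            (fun z : H => (z : ↥H ⧸ N.subgroupOf H) = (y : ↥H ⧸ N.subgroupOf H)), f z) =
            ∑ n : N, f ((n : Γ) * y) := by
          refine Finset.sum_bij' (fun z hz => (⟨(z : Γ) * (y : Γ)⁻¹, ?_⟩ : N))
            (fun n _ => (⟨(n : Γ) * y, H.mul_mem (hNH n.2) y.2⟩ : H))
            (fun _ _ => Finset.mem_univ _) (fun n _ => Finset.mem_filter.2 ⟨Finset.mem_univ _, ?_⟩)
            (fun z _ => Subtype.ext (by simp)) (fun n _ => Subtype.ext (by simp))
            (fun z _ => by simp)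
          · have h1 := QuotientGroup.eq.1 (Finset.mem_filter.1 hz).2.symm
            have h2 := (inferInstance : N.Normal).conj_mem _ h1 (y : Γ)
            simpa [mul_assoc] using h2
          · refine (QuotientGroup.eq.2 ?_).symm
            show (y : Γ)⁻¹ * ((n : Γ) * y) ∈ N
            simpa [mul_assoc] using (inferInstance : N.Normal).conj_mem _ n.2 (y : Γ)⁻¹
        rw [hre]
        by_cases hyN : (y : Γ) ∈ N
        · rw [if_pos ((QuotientGroup.eq_one_iff y).2 hyN)]
          rw [show ∑ n : N, f ((n : Γ) * y) = ∑ n : N, f (n : Γ) from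
            Fintype.sum_equiv (Equiv.mulRight (⟨(y : Γ), hyN⟩ : N)) _ _ fun n => rfl]
          have h1 : ∀ n : N, f (n : Γ) = (e : ℂ) ^ 2 *
              ((θ : N → ℂ) n * conj ((θ : N → ℂ) n)) := by
            intro n
            have h2 : ψ (n : Γ) = (e : ℂ) * (θ : N → ℂ) n := by
              rw [show (n : Γ) = ((⟨(n : Γ), hNG n.2⟩ : G) : Γ) from rfl, hψG]
              exact hχN ⟨⟨(n : Γ), hNG n.2⟩, n.2⟩
            simp only [hf, h2, map_mul, map_natCast]
            ring
          have h3 := Chars.inner_irr_self θ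
          rw [Chars.inner_def, inv_mul_eq_one₀ (Nat.cast_ne_zero.2 Nat.card_pos.ne')] at h3
          rw [Finset.sum_congr rfl fun n _ => h1 n, ← Finset.mul_sum, ← h3]
        · rw [if_neg fun h => hyN ((QuotientGroup.eq_one_iff y).1 h)]
          exact hcoset y fun hyG => hyN (hHG _ y.2 hyG)
    rw [Finset.sum_congr rfl fun q _ => hterm q, ← Finset.add_sum_erase _ _ (Finset.mem_univ 1),
      if_pos rfl, Finset.sum_congr rfl (g := fun _ => (Nat.card N : ℂ))
        (fun q hq => if_neg (Finset.ne_of_mem_erase hq)), Finset.sum_const, nsmul_eq_mul,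
      Finset.card_erase_of_mem (Finset.mem_univ _), Finset.card_univ, ← Nat.card_eq_fintype_card]
    change (e : ℂ) ^ 2 * Nat.card N + (((N.subgroupOf H).index - 1 : ℕ) : ℂ) * Nat.card N = _
    rw [hidx]; ring
  have hfinal : s.card * ∑ β ∈ s, a β ^ 2 = (∑ β ∈ s, a β) ^ 2 + (s.card - 1) := by
    rw [Chars.inner_def] at hnorm
    rw [show (∑ y : H, ψ (y : Γ) * conj (ψ (y : Γ))) = ∑ y : H, f y from rfl, hsumH, hcardH,
      inv_mul_eq_iff_eq_mul₀ (Nat.cast_ne_zero.2 (mul_ne_zero
        (Subgroup.index_ne_zero_of_finite (H := G)) (Nat.card_pos (α := N)).ne'))] at hnorm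
    rw [← hdeg, hscard]
    have h : ((Nat.card N * (G.index * ∑ β ∈ s, a β ^ 2) : ℕ) : ℂ) =
        ((Nat.card N * (e ^ 2 + (G.index - 1)) : ℕ) : ℂ) := by
      push_cast at hnorm ⊢
      linear_combination -hnorm
    exact Nat.eq_of_mul_eq_mul_left Nat.card_pos (Nat.cast_inj.1 h)
  have := sum_mod s a (hscard ▸ hh) hfinal
  rwa [← hdeg, hscard] at this

end CfsgLib.CharsMore.FrobeniusRamified
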