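import Cfsg.Agent.Lib.CharsMore.ItoDegree
import Cfsg.Agent.Lib.CharsMore.CharAlg
import Cfsg.Agent.Lib.CharsMore.Extend
import Cfsg.Agent.Lib.CharApps.Galois
import Cfsg.Agent.Lib.Chars.Quotient
import Cfsg.Agent.Lib.Base.Fitting
import Cfsg.Agent.Lib.Base.MinimalNormal
import Mathlib

/-!
# Irreducible products of a character with a Galois conjugate
-/

set_option linter.unusedSectionVars false
set_option linter.style.haveILetI false

namespace CfsgLib.CharsMore.GaloisProduct

open Cfsg
open scoped ComplexConjugate commutatorElement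

variable {G : Type*} [Group G] [Fintype G]

/-- The squared modulus of a character. -/
noncomputable def sq (χ : G → ℂ) : G → ℂ := χ * fun g => conj (χ g)

lemma isCharacter_sq {χ : G → ℂ} (hχ : IsCharacter G χ) : IsCharacter G (sq χ) :=
  Chars.isCharacter_mul hχ (Chars.isCharacter_conj hχ)

lemma inner_nat_pos {H : Type*} [Group H] [Fintype H] {f g : H → ℂ} (hf : IsCharacter H f)
    (hg : IsCharacter H g) (ξ : IrrCharacter H) (h1 : classInner f (ξ : H → ℂ) ≠ 0)
    (h2 : classInner g (ξ : H → ℂ) ≠ 0) : classInner f g ≠ 0 := by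
  classical
  let _ := Chars.irrFintype H
  have h : classInner f g =
      ((∑ ψ : IrrCharacter H, multNat f ψ * multNat g ψ : ℕ) : ℂ) := by
    conv_lhs => arg 1; rw [char_eq_sum_multNat hf]
    rw [Chars.inner_sum_left, Nat.cast_sum]
    refine Finset.sum_congr rfl fun ψ _ => ?_
    rw [Chars.inner_smul_left, conj_inner hg (Chars.isCharacter_of_irr ψ.2),
      inner_eq_multNat hg (Chars.isCharacter_of_irr ψ.2), Nat.cast_mul]
  rw [h, Nat.cast_ne_zero]
  refine (lt_of_lt_of_le ?_ (Finset.single_le_sum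
    (f := fun ψ : IrrCharacter H => multNat f (ψ : H → ℂ) * multNat g (ψ : H → ℂ))
    (fun _ _ => Nat.zero_le _) (Finset.mem_univ ξ))).ne'
  exact Nat.mul_pos
    (Nat.pos_of_ne_zero (multNat_ne_zero hf (Chars.isCharacter_of_irr ξ.2) h1))
    (Nat.pos_of_ne_zero (multNat_ne_zero hg (Chars.isCharacter_of_irr ξ.2) h2))

/-- If `χ χ'` is irreducible, `|χ|²` and `|χ'|²` share only the trivial constituent. -/
lemma eq_principal_of_common {χ χ' : G → ℂ} (hχ : IsIrrCharacter G χ) (hχ' : IsIrrCharacter G χ')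
    (hirr : IsIrrCharacter G (χ * χ')) {η : IrrCharacter G}
    (h1 : classInner (sq χ) (η : G → ℂ) ≠ 0) (h2 : classInner (sq χ') (η : G → ℂ) ≠ 0) :
    η = Chars.principal G := by
  classical
  let _ := Chars.irrFintype G
  by_contra hne
  have hA := isCharacter_sq (Chars.isCharacter_of_irr hχ)
  have hA' := isCharacter_sq (Chars.isCharacter_of_irr hχ')
  have e : classInner (sq χ) (sq χ') = classInner (χ * χ') (χ * χ') := by
    rw [Chars.inner_def, Chars.inner_def]
    congr 1
    refine Finset.sum_congr rfl fun g _ => ?_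
    simp only [sq, Pi.mul_apply, map_mul, Complex.conj_conj]
    ring
  rw [Chars.inner_irr_self ⟨_, hirr⟩] at e
  have hone : ∀ {φ : G → ℂ} (hφ : IsIrrCharacter G φ),
      classInner (sq φ) (Chars.principal G : G → ℂ) = 1 := by
    intro φ hφ
    rw [← Chars.inner_irr_self ⟨φ, hφ⟩, Chars.inner_def, Chars.inner_def]
    simp [sq, Chars.principal_apply]
  have hsum : classInner (sq χ) (sq χ') =
      ((∑ ψ : IrrCharacter G, multNat (sq χ) ψ * multNat (sq χ') ψ : ℕ) : ℂ) := by
    conv_lhs => arg 1; rw [char_eq_sum_multNat hA]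
    rw [Chars.inner_sum_left, Nat.cast_sum]
    refine Finset.sum_congr rfl fun ψ _ => ?_
    rw [Chars.inner_smul_left, conj_inner hA' (Chars.isCharacter_of_irr ψ.2),
      inner_eq_multNat hA' (Chars.isCharacter_of_irr ψ.2), Nat.cast_mul]
  rw [e] at hsum
  have hsum' : 1 = ∑ ψ : IrrCharacter G, multNat (sq χ) ψ * multNat (sq χ') ψ := by
    exact_mod_cast hsum
  have hle := Finset.sum_le_sum_of_subset
    (f := fun ψ : IrrCharacter G => multNat (sq χ) (ψ : G → ℂ) * multNat (sq χ') (ψ : G → ℂ))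
    (Finset.subset_univ ({η, Chars.principal G} : Finset (IrrCharacter G)))
  rw [Finset.sum_pair hne, ← hsum'] at hle
  have hp : ∀ {φ : G → ℂ} (hφ : IsIrrCharacter G φ),
      multNat (sq φ) (Chars.principal G : G → ℂ) = 1 := by
    intro φ hφ
    have h := hone hφ
    rw [inner_eq_multNat (isCharacter_sq (Chars.isCharacter_of_irr hφ))
      (Chars.isCharacter_of_irr (Chars.principal G).2)] at h
    exact_mod_cast h
  have hpos : 0 < multNat (sq χ) (η : G → ℂ) * multNat (sq χ') (η : G → ℂ) := Nat.mul_pos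
    (Nat.pos_of_ne_zero (multNat_ne_zero hA (Chars.isCharacter_of_irr η.2) h1))
    (Nat.pos_of_ne_zero (multNat_ne_zero hA' (Chars.isCharacter_of_irr η.2) h2))
  rw [hp hχ, hp hχ'] at hle
  omega

/-- If `χ` is induced from `T`, then `|χ|²` contains the constituents of `1_T^G`. -/
lemma inner_sq_ne_zero_of_induced (T : Subgroup G) [Fintype T] {ψ : T → ℂ} (hψ : IsCharacter T ψ)
    {χ : G → ℂ} (hχ : IsIrrCharacter G χ) (hind : indFun T ψ = χ) (η : IrrCharacter G)
    (hη : classInner (fun t : T => (η : G → ℂ) t) (Chars.principal T : T → ℂ) ≠ 0) :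
    classInner (sq χ) (η : G → ℂ) ≠ 0 := by
  have hc : IsCharacter G fun g => conj (χ g) := Chars.isCharacter_conj (Chars.isCharacter_of_irr hχ)
  have e : sq χ = indFun T (fun t : T => conj (χ t) * ψ t) := by
    rw [Chars.indFun_mul_restrict T ψ (Chars.isClassFunction_of_isCharacter hc), hind]
    funext g
    simp [sq, mul_comm]
  rw [e, Chars.inner_indFun T _ (Chars.isClassFunction_irr η)]
  refine inner_nat_pos (Chars.isCharacter_mul (Chars.isCharacter_restrict T hc) hψ)
    (Chars.isCharacter_restrict T (Chars.isCharacter_of_irr η.2)) (Chars.principal T) ?_ hη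
  have e2 : classInner ((fun t : T => conj (χ t)) * ψ) (Chars.principal T : T → ℂ) =
      classInner ψ (fun t : T => χ t) := by
    rw [Chars.inner_def, Chars.inner_def]
    congr 1
    refine Finset.sum_congr rfl fun t _ => ?_
    simp [Chars.principal_apply, mul_comm]
  rw [show (fun t : T => conj (χ t) * ψ t) = (fun t : T => conj (χ t)) * ψ from rfl, e2,
    ← Chars.inner_indFun T ψ (Chars.isClassFunction_of_isCharacter (Chars.isCharacter_of_irr hχ)),
    hind, Chars.inner_irr_self ⟨χ, hχ⟩]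
  exact one_ne_zero

theorem fitting_eq_center (χ : IrrCharacter G)
    (hfaith : ∀ g : G, (χ : G → ℂ) g = (χ : G → ℂ) 1 → g = 1) (k : ℕ)
    (hk : Nat.Coprime k (Nat.card G))
    (hirr : IsIrrCharacter G (fun g => (χ : G → ℂ) g * (χ : G → ℂ) (g ^ k))) :
    fittingSubgroup G = Subgroup.center G := by
  classical
  haveI : NeZero (Nat.card G) := ⟨Nat.card_pos.ne'⟩
  obtain ⟨σ, hσ⟩ := CharApps.exists_galois_pow (Nat.card G) hk
  set χ' : G → ℂ := fun g => (χ : G → ℂ) (g ^ k) with hχ'def
  have hσχ : ∀ g, χ' g = σ ((χ : G → ℂ) g) := fun g =>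
    (CharApps.galois_apply σ hσ (Chars.isCharacter_of_irr χ.2) g pow_card_eq_one').symm
  have hχ' : IsIrrCharacter G χ' := by
    rw [funext hσχ]
    exact Chars.isIrrCharacter_ringHom σ.toRingHom χ.2
  have hprod : IsIrrCharacter G ((χ : G → ℂ) * χ') := hirr
  obtain ⟨n, ρ, hρ, hρχ⟩ := id χ.2
  have hdeg : (χ : G → ℂ) 1 = (n : ℂ) := by rw [← hρχ]; simp
  have hn : n ≠ 0 := fun h => Chars.irr_degree_ne_zero χ.2 (by rw [hdeg, h, Nat.cast_zero])
  have hinj : Function.Injective ρ := by
    rw [← MonoidHom.ker_eq_bot_iff, eq_bot_iff]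
    exact fun x hx => Subgroup.mem_bot.2 (hfaith x ((Chars.ker_iff ρ hρχ x).mpr hx))
  -- every normal subgroup is homogeneous
  have hhom : ∀ (N : Subgroup G) [N.Normal] [Fintype N], ∃ (θ : IrrCharacter N) (c : ℂ),
      ∀ x : N, (χ : G → ℂ) x = c * (θ : N → ℂ) x := by
    intro N _ _
    obtain ⟨θ, hθ⟩ := exists_below N χ.2
    let T := inertia N (θ : N → ℂ)
    let _ := Fintype.ofFinite T
    have hNT : N ≤ T := le_inertia N (Chars.isClassFunction_irr θ)
    have hTtop : T = ⊤ := by
      by_contra hT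
      obtain ⟨ψ, hψ, hind, -, -⟩ := exists_correspondent N hNT θ.2 rfl χ.2 hθ
      have hψc := Chars.isCharacter_of_irr hψ
      have hind' : indFun T (fun t => σ (ψ t)) = χ' := by
        funext g
        rw [hσχ, ← hind, Chars.indFun_apply, Chars.indFun_apply, map_mul, map_inv₀, map_natCast,
          map_sum]
        refine congrArg _ (Finset.sum_congr rfl fun x _ => ?_)
        by_cases hx : x⁻¹ * g * x ∈ T
        · rw [Chars.extendByZero_of_mem _ _ hx, Chars.extendByZero_of_mem _ _ hx]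
        · rw [Chars.extendByZero_of_not_mem _ _ hx, Chars.extendByZero_of_not_mem _ _ hx, map_zero]
      set π := indFun T (fun _ : T => (1 : ℂ)) with hπ
      have hπc : IsCharacter G π := Chars.isCharacter_indFun T Chars.isCharacter_one
      have hπ1 : classInner π (Chars.principal G : G → ℂ) = 1 := by
        rw [hπ, Chars.inner_indFun T _ (Chars.isClassFunction_irr _)]
        exact Chars.inner_one_one
      obtain ⟨η, hη, hηne⟩ : ∃ η : IrrCharacter G, classInner π (η : G → ℂ) ≠ 0 ∧
          η ≠ Chars.principal G := by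
        by_contra hcon
        push Not at hcon
        let _ := Chars.irrFintype G
        apply hT
        rw [← Subgroup.index_eq_one]
        have h := congrFun (char_eq_sum_multNat hπc) 1
        rw [Finset.sum_apply, Finset.sum_eq_single (Chars.principal G) (fun η _ hne => ?_) (by simp),
          Pi.smul_apply, Chars.principal_apply, smul_eq_mul, mul_one,
          ← inner_eq_multNat hπc (Chars.isCharacter_of_irr (Chars.principal G).2), hπ1, hπ,
          Chars.indFun_one_apply, mul_one] at h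
        · exact_mod_cast h
        · by_cases h0 : classInner π (η : G → ℂ) = 0
          · rw [inner_eq_multNat hπc (Chars.isCharacter_of_irr η.2), Nat.cast_eq_zero] at h0
            simp [h0]
          · exact absurd (hcon η h0) hne
      have hηT : classInner (fun t : T => (η : G → ℂ) t) (Chars.principal T : T → ℂ) ≠ 0 := by
        rw [← conj_inner (Chars.isCharacter_restrict T (Chars.isCharacter_of_irr η.2))
          (Chars.isCharacter_of_irr (Chars.principal T).2)]
        rw [hπ, Chars.inner_indFun T _ (Chars.isClassFunction_irr η)] at hη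
        exact hη
      exact hηne (eq_principal_of_common χ.2 hχ' hprod
        (inner_sq_ne_zero_of_induced T hψc χ.2 hind η hηT)
        (inner_sq_ne_zero_of_induced T (Chars.isCharacter_ringHom σ.toRingHom hψc) hχ' hind' η hηT))
    exact ⟨θ, _, restrict_eq_mul_of_invariant N χ.2 θ.2 (fun g x =>
      (mem_inertia N).mp (show g ∈ T from hTtop ▸ Subgroup.mem_top g) x) hθ⟩
  -- abelian normal subgroups act by scalars
  have hscal : ∀ (N : Subgroup G) [N.Normal], (∀ a ∈ N, ∀ b ∈ N, a * b = b * a) →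
      ∀ a ∈ N, ∃ ω : ℂ, ρ a = ω • (LinearMap.id : (Fin n → ℂ) →ₗ[ℂ] (Fin n → ℂ)) := by
    intro N _ hab a ha
    let _ := Fintype.ofFinite N
    obtain ⟨θ, c, hc⟩ := hhom N
    have h1 := Chars.irr_abelian_degree (fun x y : N => Subtype.ext (hab x x.2 y y.2)) θ.2
    obtain ⟨lam, hlam⟩ := Chars.exists_hom_of_degree_one (Chars.isCharacter_of_irr θ.2) h1
    have hcn : c = (n : ℂ) := by
      have := hc 1
      rw [OneMemClass.coe_one, hdeg, h1, mul_one] at this
      exact this.symm
    refine (Chars.norm_character_eq_iff ρ a).mp ?_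
    rw [show ρ.character a = (χ : G → ℂ) ((⟨a, ha⟩ : N) : G) by rw [← hρχ], hc, hcn, norm_mul,
      Complex.norm_natCast, hlam, Complex.norm_eq_one_of_pow_eq_one (n := Nat.card N) ?_
        Nat.card_pos.ne', mul_one, Module.finrank_fin_fun]
    rw [← Units.val_pow_eq_pow_val, ← map_pow, pow_card_eq_one', map_one, Units.val_one]
  have hcentral : ∀ (N : Subgroup G) [N.Normal], (∀ a ∈ N, ∀ b ∈ N, a * b = b * a) →
      N ≤ Subgroup.center G := by
    intro N _ hab a ha
    obtain ⟨ω, hω⟩ := hscal N hab a ha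
    refine Subgroup.mem_center_iff.mpr fun g => hinj ?_
    rw [map_mul, map_mul, hω]
    ext; simp
  set Z := Subgroup.center G with hZ
  let _ := Fintype.ofFinite Z
  have hzmul : ∀ z ∈ Z, ∀ x, (χ : G → ℂ) (z * x) * (n : ℂ) = (χ : G → ℂ) z * (χ : G → ℂ) x := by
    intro z hz x
    obtain ⟨ω, hω⟩ := hscal Z (fun a ha b _ => (Subgroup.mem_center_iff.1 ha b).symm) z hz
    rw [← hρχ]
    simp only [Representation.character, map_mul, hω, LinearMap.smul_apply, smul_mul_assoc,
      map_smul, smul_eq_mul]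
    rw [show (LinearMap.id : (Fin n → ℂ) →ₗ[ℂ] (Fin n → ℂ)) * ρ x = ρ x from one_mul _,
      LinearMap.trace_id, Module.finrank_fin_fun]
    ring
  refine le_antisymm ?_ (Base.center_le_fittingSubgroup G)
  by_contra hF
  set F := fittingSubgroup G
  haveI := Base.fittingSubgroup_normal' G
  haveI hFnil : Group.IsNilpotent F := Base.isNilpotent_fittingSubgroup G
  -- a minimal noncentral normal subgroup inside the Fitting subgroup
  obtain ⟨N, ⟨hNn, hNF, hNZ⟩, hmin⟩ := exists_minimal_of_wellFoundedLT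
    (fun N : Subgroup G => N.Normal ∧ N ≤ F ∧ ¬ N ≤ Z) ⟨F, inferInstance, le_rfl, hF⟩
  haveI := hNn
  let _ := Fintype.ofFinite N
  have hNN : ⁅N, N⁆ ≤ Z := by
    by_contra h
    have hle : N ≤ ⁅N, N⁆ := hmin ⟨Subgroup.commutator_normal N N,
      (Subgroup.commutator_le_self N).trans hNF, h⟩ (Subgroup.commutator_le_self N)
    haveI : Group.IsNilpotent N := Base.isNilpotent_of_le hNF hFnil
    refine absurd hle (not_le_of_gt (Base.commutator_self_lt_of_isSolvable ?_ inferInstance))
    rintro rfl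
    exact hNZ bot_le
  obtain ⟨m, hmN, hmZ⟩ := SetLike.not_le_iff_exists.1 hNZ
  -- the homomorphism on the centralizer of `m` modulo the centre
  obtain ⟨θ₀, c₀, hc₀⟩ := hhom Z
  have hθ₀1 := Chars.irr_abelian_degree
    (fun x y : Z => Subtype.ext ((Subgroup.mem_center_iff.1 x.2 y).symm)) θ₀.2
  obtain ⟨lam, hlam⟩ := Chars.exists_hom_of_degree_one (Chars.isCharacter_of_irr θ₀.2) hθ₀1
  have hχz : ∀ z : Z, (χ : G → ℂ) z = (n : ℂ) * (lam z : ℂ) := by
    have hcn : c₀ = (n : ℂ) := by
      have := hc₀ 1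
      rw [OneMemClass.coe_one, hdeg, hθ₀1, mul_one] at this
      exact this.symm
    intro z
    rw [hc₀, hcn, hlam]
  have hlam1 : ∀ z : Z, lam z = 1 → z = 1 := fun z hz => Subtype.ext (hfaith z (by
    rw [hχz, hz, Units.val_one, mul_one, hdeg]))
  set π := QuotientGroup.mk' Z with hπdef
  set I := (Subgroup.centralizer ({π m} : Set (G ⧸ Z))).comap π with hI
  let _ := Fintype.ofFinite I
  have hmemI : ∀ x : G, x ∈ I ↔ ⁅x, m⁆ ∈ Z := by
    intro x
    rw [hI, Subgroup.mem_comap, Subgroup.mem_centralizer_singleton_iff,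
      ← commutatorElement_eq_one_iff_mul_comm, ← map_commutatorElement, hπdef,
      QuotientGroup.mk'_apply, QuotientGroup.eq_one_iff]
  have hNI : N ≤ I := fun x hx => (hmemI x).2 (hNN (Subgroup.commutator_mem_commutator hx hmN))
  have hmul : ∀ x y : G, ⁅x * y, m⁆ = x * ⁅y, m⁆ * x⁻¹ * ⁅x, m⁆ := fun x y => by
    simp [commutatorElement_def, mul_assoc]
  let μ : I →* ℂˣ :=
    { toFun := fun x => lam ⟨⁅(x : G), m⁆, (hmemI x).1 x.2⟩
      map_one' := by
        rw [show (⟨⁅((1 : I) : G), m⁆, (hmemI _).1 (1 : I).2⟩ : Z) = 1 from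
          Subtype.ext (by simp [commutatorElement_def]), map_one]
      map_mul' := fun x y => by
        rw [← map_mul]
        congr 1
        refine Subtype.ext ?_
        show ⁅(x : G) * y, m⁆ = ⁅(x : G), m⁆ * ⁅(y : G), m⁆
        rw [hmul, Subgroup.mem_center_iff.1 ((hmemI _).1 y.2) x, mul_inv_cancel_right,
          Subgroup.mem_center_iff.1 ((hmemI _).1 x.2)] }
  have hμapply : ∀ x : I, μ x = lam ⟨⁅(x : G), m⁆, (hmemI x).1 x.2⟩ := fun _ => rfl
  set μN : N → ℂ := fun x => (μ ⟨x, hNI x.2⟩ : ℂ) with hμN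
  have hμNirr : IsIrrCharacter N μN :=
    Chars.isIrrCharacter_linear (μ.comp (Subgroup.inclusion hNI))
  -- the inertia group of `μ` is `I`
  have hIT : I = inertia N μN := by
    ext g
    rw [mem_inertia]
    constructor
    · intro hg x
      show (μ _ : ℂ) = (μ _ : ℂ)
      rw [show (⟨((conjBy N g x : N) : G), hNI (conjBy N g x).2⟩ : I) =
        ⟨g, hg⟩ * ⟨x, hNI x.2⟩ * ⟨g, hg⟩⁻¹ from Subtype.ext (coe_conjBy N g x), map_mul, map_mul,
        map_inv, mul_comm (μ ⟨g, hg⟩), mul_inv_cancel_right]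
    · intro hg
      rw [hmemI]
      -- `g⁻¹ m g m⁻¹` commutes with `N`
      set w := g⁻¹ * m * g * m⁻¹ with hw
      have hwN : w ∈ N := N.mul_mem (by simpa using hNn.conj_mem m hmN g⁻¹) (N.inv_mem hmN)
      have hwc : ∀ x ∈ N, x * w = w * x := by
        intro x hx
        have h1 : μN (conjBy N g ⟨x, hx⟩) = μN ⟨x, hx⟩ := hg ⟨x, hx⟩
        simp only [hμN, Units.val_inj, hμapply] at h1
        have h2 : ⁅g * x * g⁻¹, m⁆ = ⁅x, m⁆ := by
          have h3 := hlam1 _ (show lam (⟨⁅g * x * g⁻¹, m⁆, hNN (Subgroup.commutator_mem_commutator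
            (hNn.conj_mem x hx g) hmN)⟩ * (⟨⁅x, m⁆, hNN (Subgroup.commutator_mem_commutator hx
            hmN)⟩ : Z)⁻¹) = 1 by
              rw [map_mul, map_inv, mul_inv_eq_one]
              simpa using h1)
          exact mul_inv_eq_one.1 (congrArg Subtype.val h3)
        have hz : ⁅x, g⁻¹ * m * g⁆ ∈ Z := hNN (Subgroup.commutator_mem_commutator hx
          (by simpa using hNn.conj_mem m hmN g⁻¹))
        have h4 : ⁅x, g⁻¹ * m * g⁆ = ⁅x, m⁆ := by
          have e : g * ⁅x, g⁻¹ * m * g⁆ * g⁻¹ = ⁅g * x * g⁻¹, m⁆ := by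
            simp [commutatorElement_def, mul_assoc]
          rw [← h2, ← e, Subgroup.mem_center_iff.1 hz g, mul_inv_cancel_right]
        have h5 : ⁅x, w⁆ = 1 := by
          have e : ⁅x, w⁆ = ⁅x, g⁻¹ * m * g⁆ * ((g⁻¹ * m * g) * ⁅x, m⁻¹⁆ * (g⁻¹ * m * g)⁻¹) := by
            simp [hw, commutatorElement_def, mul_assoc]
          have hz' : ⁅x, m⁻¹⁆ ∈ Z := hNN (Subgroup.commutator_mem_commutator hx (N.inv_mem hmN))
          have e2 : ⁅x, m⁻¹⁆ = m⁻¹ * ⁅x, m⁆⁻¹ * m := by
            simp [commutatorElement_def, mul_assoc]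
          have e3 : m⁻¹ * ⁅x, m⁆⁻¹ * m = ⁅x, m⁆⁻¹ := by
            rw [Subgroup.mem_center_iff.1
              (Z.inv_mem (hNN (Subgroup.commutator_mem_commutator hx hmN))) m⁻¹, inv_mul_cancel_right]
          rw [e, Subgroup.mem_center_iff.1 hz' (g⁻¹ * m * g), mul_inv_cancel_right, e2, e3, h4,
            mul_inv_cancel]
        exact commutatorElement_eq_one_iff_mul_comm.1 h5
      have hwZ : w ∈ Z := by
        haveI : (N ⊓ Subgroup.centralizer (N : Set G)).Normal := inferInstance
        refine hcentral (N ⊓ Subgroup.centralizer (N : Set G))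
          (fun a ha b hb => (Subgroup.mem_centralizer_iff.1 hb.2 a ha.1)) ⟨hwN, ?_⟩
        exact Subgroup.mem_centralizer_iff.2 hwc
      have h6 : ⁅g, m⁆ = g * (m * g⁻¹ * m⁻¹) := by simp [commutatorElement_def, mul_assoc]
      have h7 : m * g⁻¹ * m⁻¹ = g⁻¹ * (g * w⁻¹ * g⁻¹)⁻¹⁻¹ := by
        simp [hw, mul_assoc]
      have h8 : g * w⁻¹ * g⁻¹ = w⁻¹ := by
        rw [Subgroup.mem_center_iff.1 (Z.inv_mem hwZ) g, mul_inv_cancel_right]
      rw [h6, h7, h8, inv_inv, mul_inv_cancel_left]
      exact Z.inv_mem hwZ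
  -- the induced character
  set μI : I → ℂ := fun x => (μ x : ℂ) with hμI
  have hμIirr : IsIrrCharacter I μI := Chars.isIrrCharacter_linear μ
  have hover : classInner (fun x : N => μI ⟨x, hNI x.2⟩) μN ≠ 0 := by
    rw [show (fun x : N => μI ⟨x, hNI x.2⟩) = μN from rfl, Chars.inner_irr_self ⟨μN, hμNirr⟩]
    exact one_ne_zero
  let η : IrrCharacter G := ⟨_, isIrr_indFun_of_over N hNI hμNirr hIT hμIirr hover⟩
  have hsq : ∀ φ : G → ℂ, IsCharacter G φ → φ 1 ≠ 0 →
      (∀ x, φ x ≠ 0 → (χ : G → ℂ) x ≠ 0) → classInner (sq φ) (η : G → ℂ) ≠ 0 := by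
    intro φ hφ hφ1 hsupp
    have hA := isCharacter_sq hφ
    rw [← conj_inner hA (Chars.isCharacter_of_irr η.2)]
    show classInner (indFun I μI) (sq φ) ≠ 0
    rw [Chars.inner_indFun I μI (Chars.isClassFunction_of_isCharacter hA), Chars.inner_def]
    refine mul_ne_zero (inv_ne_zero (Nat.cast_ne_zero.2 Nat.card_pos.ne')) ?_
    have hterm : ∀ x : I, μI x * conj (sq φ (x : G)) = ((Complex.normSq (φ x) : ℝ) : ℂ) := by
      intro x
      rw [Complex.normSq_eq_conj_mul_self]
      simp only [sq, Pi.mul_apply, map_mul, Complex.conj_conj]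
      by_cases h0 : φ (x : G) = 0
      · simp [h0]
      · have hχx := hsupp _ h0
        set z : Z := ⟨⁅(x : G), m⁆, (hmemI x).1 x.2⟩ with hz
        have e : m * (x : G) * m⁻¹ = (z : G)⁻¹ * x := by
          rw [hz]; simp [commutatorElement_def, mul_assoc]
        have h1 := Chars.isClassFunction_of_isCharacter (Chars.isCharacter_of_irr χ.2) (x : G) m
        rw [e] at h1
        have h2 := hzmul _ (Z.inv_mem z.2) (x : G)
        rw [h1, show (z : G)⁻¹ = ((z⁻¹ : Z) : G) from rfl, hχz] at h2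
        have h3 : (lam z⁻¹ : ℂ) = 1 := by
          have hn' : (n : ℂ) ≠ 0 := Nat.cast_ne_zero.2 hn
          refine mul_left_cancel₀ (mul_ne_zero hn' hχx) ?_
          linear_combination -h2
        have h4 : z⁻¹ = 1 := hlam1 _ (Units.ext h3)
        have h5 : μI x = 1 := by
          simp only [hμI, hμapply, ← hz, inv_eq_one.1 h4, map_one, Units.val_one]
        rw [h5, one_mul]
    rw [Finset.sum_congr rfl fun x _ => hterm x, ← Complex.ofReal_sum, Complex.ofReal_ne_zero]
    refine (lt_of_lt_of_le ?_ (Finset.single_le_sum (f := fun x : I => Complex.normSq (φ x))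
      (fun _ _ => Complex.normSq_nonneg _) (Finset.mem_univ (1 : I)))).ne'
    rw [OneMemClass.coe_one]
    exact Complex.normSq_pos.2 hφ1
  have hη := eq_principal_of_common χ.2 hχ' hprod
    (hsq _ (Chars.isCharacter_of_irr χ.2) (Chars.irr_degree_ne_zero χ.2) fun _ h => h)
    (hsq _ (Chars.isCharacter_of_irr hχ') (Chars.irr_degree_ne_zero hχ') fun x h h0 =>
      h (by rw [hσχ, h0, map_zero]))
  -- `η` is not principal
  obtain ⟨y, hyN, hy⟩ : ∃ y ∈ N, ⁅y, m⁆ ≠ 1 := by
    by_contra hcon
    push Not at hcon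
    apply hmZ
    haveI : (N ⊓ Subgroup.centralizer (N : Set G)).Normal := inferInstance
    exact hcentral (N ⊓ Subgroup.centralizer (N : Set G))
      (fun a ha b hb => Subgroup.mem_centralizer_iff.1 hb.2 a ha.1)
      ⟨hmN, Subgroup.mem_centralizer_iff.2 fun x hx =>
        commutatorElement_eq_one_iff_mul_comm.1 (hcon x hx)⟩
  have h1 : classInner μI (Chars.principal I : I → ℂ) ≠ 0 := by
    have h : classInner (indFun I μI) (Chars.principal G : G → ℂ) = 1 := by
      rw [show indFun I μI = (η : G → ℂ) from rfl, hη, Chars.inner_irr_self]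
    rw [Chars.inner_indFun I μI (Chars.isClassFunction_irr _)] at h
    rw [show (Chars.principal I : I → ℂ) = fun x : I => (Chars.principal G : G → ℂ) (x : G)
      from rfl, h]
    exact one_ne_zero
  rw [Chars.inner_irr_of_isIrr hμIirr (Chars.principal I).2] at h1
  split_ifs at h1 with he
  · have h2 := congrFun he ⟨y, hNI hyN⟩
    rw [Chars.principal_apply] at h2
    have h3 := hlam1 ⟨⁅y, m⁆, (hmemI y).1 (hNI hyN)⟩ (Units.ext h2)
    exact hy (congrArg Subtype.val h3)
  · exact h1 rfl

end CfsgLib.CharsMore.GaloisProduct
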