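import Cfsg.Agent.Lib.CharsMore.FullyRamified
import Cfsg.Agent.Lib.CharsMore.ItoDegree
import Cfsg.Agent.Lib.Base.HallConverse
import Cfsg.Agent.Lib.CharsMore.GaloisProduct
import Mathlib

/-!
# Fully ramified characters: complements in the quotient

If `χ` is fully ramified over `Z` and `Z ≤ K`, a Sylow `p`-subgroup `P` acts on the constituents
over `θ` in `(P ⊔ Z) ⊓ K`; regularity of this action gives a `p`-complement in `H ⧸ K`.
-/

set_option linter.unusedSectionVars false
set_option linter.style.haveILetI false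

namespace CfsgLib.CharsMore.FullyRamified

open Cfsg
open scoped ComplexConjugate

section Over

variable {G H' : Type*} [Group G] [Fintype G] [Group H'] [Fintype H']

/-- Constituents of constituents are constituents. -/
lemma inner_comp_ne_zero (f : H' →* G) {φ : G → ℂ} (hφ : IsCharacter G φ) {ψ : G → ℂ}
    (hψ : IsIrrCharacter G ψ) (hφψ : classInner φ ψ ≠ 0) {θ : H' → ℂ} (hθ : IsCharacter H' θ)
    (h : classInner (ψ ∘ f) θ ≠ 0) : classInner (φ ∘ f) θ ≠ 0 := by
  have hge := inner_restrict_ge f hφ hθ {(⟨ψ, hψ⟩ : IrrCharacter G)}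
  rw [Finset.sum_singleton] at hge
  have hpos : 0 < multNat φ ψ * multNat (ψ ∘ f) θ := Nat.mul_pos
    (Nat.pos_of_ne_zero (multNat_ne_zero hφ (Chars.isCharacter_of_irr hψ) hφψ))
    (Nat.pos_of_ne_zero (multNat_ne_zero
      (Chars.isCharacter_comp f (Chars.isCharacter_of_irr hψ)) hθ h))
  rw [inner_eq_multNat (φ := φ ∘ f) (Chars.isCharacter_comp f hφ) hθ, Nat.cast_ne_zero]
  simp only at hge
  omega

/-- A constituent of a restriction comes from some constituent. -/
lemma exists_constituent_of_comp (f : H' →* G) {φ : G → ℂ} (hφ : IsCharacter G φ) {θ : H' → ℂ}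
    (h : classInner (φ ∘ f) θ ≠ 0) :
    ∃ ψ : IrrCharacter G, classInner φ (ψ : G → ℂ) ≠ 0 ∧
      classInner ((ψ : G → ℂ) ∘ f) θ ≠ 0 := by
  classical
  let _ := Chars.irrFintype G
  by_contra hno
  push Not at hno
  apply h
  have e : φ ∘ f = ∑ ψ : IrrCharacter G, (multNat φ ψ : ℂ) • ((ψ : G → ℂ) ∘ f) := by
    funext x
    have := congrFun (char_eq_sum_multNat hφ) (f x)
    simpa [Finset.sum_apply] using this
  rw [e, Chars.inner_sum_left]
  refine Finset.sum_eq_zero fun ψ _ => ?_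
  rw [Chars.inner_smul_left]
  by_cases h0 : classInner φ (ψ : G → ℂ) = 0
  · rw [inner_eq_multNat hφ (Chars.isCharacter_of_irr ψ.2), Nat.cast_eq_zero] at h0
    simp [h0]
  · rw [hno ψ h0, mul_zero]

end Over

section Object

variable {G : Type*} [Group G] [Fintype G] {Z : Subgroup G} [Z.Normal] [Fintype Z]
  (A : Subgroup G) [A.Normal] [Fintype A] {ξ : G → ℂ} {θ : Z → ℂ} {e : ℕ}

/-- The only irreducible over `θ` lies over every irreducible of `A` over `θ`. -/
lemma over_object (hξ : IsIrrCharacter G ξ) (hθ : IsIrrCharacter Z θ) (he2 : e ^ 2 = Z.index)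
    (hZ : ∀ z : Z, ξ z = (e : ℂ) * θ z) (hZA : Z ≤ A) {ω : A → ℂ} (hω : IsIrrCharacter A ω)
    (hωθ : classInner (ω ∘ Subgroup.inclusion hZA) θ ≠ 0) :
    classInner (fun a : A => ξ a) ω ≠ 0 := by
  obtain ⟨η, hη⟩ := exists_over A hω
  have h : classInner (fun z : Z => (η : G → ℂ) z) θ ≠ 0 :=
    inner_comp_ne_zero (Subgroup.inclusion hZA)
      (Chars.isCharacter_restrict A (Chars.isCharacter_of_irr η.2)) hω hη
      (Chars.isCharacter_of_irr hθ) hωθ
  rwa [eq_of_over hξ hθ he2 hZ η.2 h] at hη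

/-- The multiplicity squared times the index of the inertia group is the index of `A`. -/
lemma mult_sq_mul_index (hξ : IsIrrCharacter G ξ) (hθ : IsIrrCharacter Z θ)
    (he2 : e ^ 2 = Z.index) (hZ : ∀ z : Z, ξ z = (e : ℂ) * θ z) (hZA : Z ≤ A) {ω : A → ℂ}
    (hω : IsIrrCharacter A ω) (hωθ : classInner (ω ∘ Subgroup.inclusion hZA) θ ≠ 0) :
    multNat (fun a : A => ξ a) ω ^ 2 * (inertia A ω).index = A.index ∧
      ξ 1 = (multNat (fun a : A => ξ a) ω : ℂ) * ((inertia A ω).index : ℂ) * ω 1 := by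
  classical
  let _ := Chars.irrFintype G
  have hov := over_object A hξ hθ he2 hZ hZA hω hωθ
  have hξA := Chars.isCharacter_restrict A (Chars.isCharacter_of_irr hξ)
  have hdeg := clifford_degree A hξ hω hov
  rw [inner_eq_multNat hξA (Chars.isCharacter_of_irr hω)] at hdeg
  refine ⟨?_, hdeg⟩
  set c := multNat (fun a : A => ξ a) ω with hc
  have hind := Chars.isCharacter_indFun A (Chars.isCharacter_of_irr hω)
  have hcoef : multNat (indFun A ω) ξ = c := by
    have h : classInner (indFun A ω) ξ = (c : ℂ) := by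
      rw [Chars.inner_indFun A ω (Chars.isClassFunction_of_isCharacter (Chars.isCharacter_of_irr hξ)),
        conj_inner hξA (Chars.isCharacter_of_irr hω), inner_eq_multNat hξA (Chars.isCharacter_of_irr hω)]
    rw [inner_eq_multNat hind (Chars.isCharacter_of_irr hξ)] at h
    exact_mod_cast h
  have h1 := congrFun (char_eq_sum_multNat hind) 1
  rw [Chars.indFun_one_apply, Finset.sum_apply,
    Finset.sum_eq_single (⟨ξ, hξ⟩ : IrrCharacter G) (fun η _ hne => ?_) (by simp)] at h1
  · rw [Pi.smul_apply, smul_eq_mul] at h1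
    change _ = (multNat (indFun A ω) ξ : ℂ) * ξ 1 at h1
    rw [hcoef, hdeg] at h1
    have h2 : ((A.index : ℕ) : ℂ) = ((c ^ 2 * (inertia A ω).index : ℕ) : ℂ) := by
      refine mul_right_cancel₀ (Chars.irr_degree_ne_zero hω) ?_
      rw [h1]; push_cast; ring
    exact_mod_cast h2.symm
  · by_cases h0 : multNat (indFun A ω) (η : G → ℂ) = 0
    · simp [h0]
    refine absurd (Subtype.ext (eq_of_over hξ hθ he2 hZ η.2 ?_)) hne
    refine inner_comp_ne_zero (Subgroup.inclusion hZA)
      (Chars.isCharacter_restrict A (Chars.isCharacter_of_irr η.2)) hω ?_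
      (Chars.isCharacter_of_irr hθ) hωθ
    rw [← conj_inner (Chars.isCharacter_restrict A (Chars.isCharacter_of_irr η.2))
        (Chars.isCharacter_of_irr hω), ← Chars.inner_indFun A ω (Chars.isClassFunction_irr η),
      inner_eq_multNat hind (Chars.isCharacter_of_irr η.2)]
    exact_mod_cast h0

/-- With cyclic quotient the multiplicity is one. -/
lemma mult_eq_one_of_cyclic [IsCyclic (G ⧸ A)] (hξ : IsIrrCharacter G ξ) (hθ : IsIrrCharacter Z θ)
    (he2 : e ^ 2 = Z.index) (hZ : ∀ z : Z, ξ z = (e : ℂ) * θ z) (hZA : Z ≤ A) {ω : A → ℂ}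
    (hω : IsIrrCharacter A ω) (hωθ : classInner (ω ∘ Subgroup.inclusion hZA) θ ≠ 0) :
    multNat (fun a : A => ξ a) ω = 1 := by
  classical
  set T := inertia A ω with hT
  have hAT : A ≤ T := le_inertia A (Chars.isClassFunction_of_isCharacter (Chars.isCharacter_of_irr hω))
  let _ := Fintype.ofFinite T
  let _ := Fintype.ofFinite (A.subgroupOf T)
  haveI : IsCyclic (↥T ⧸ A.subgroupOf T) := by
    refine isCyclic_of_injective (QuotientGroup.map (A.subgroupOf T) A T.subtype fun x hx => hx) ?_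
    rw [injective_iff_map_eq_one]
    intro q
    induction q using QuotientGroup.induction_on with
    | H a =>
      intro ha
      exact (QuotientGroup.eq_one_iff a).2 ((QuotientGroup.eq_one_iff (N := A) (a : G)).1 ha)
  obtain ⟨d, ρ, hρirr, hρω, hinv, -⟩ := exists_invariant_rep (N := A.subgroupOf T)
    (isIrr_pullFn A hAT hω)
    (fun g n => (mem_inertia A).1 g.2 ⟨((n : T) : G), n.2⟩)
  haveI := hρirr
  obtain ⟨R, hR⟩ := repExtends_of_cyclic (A.subgroupOf T) ρ hinv
  obtain ⟨-, hψ, hψA⟩ := isIrrExt_of_rep (A.subgroupOf T) R hR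
  rw [hρω] at hψA
  have hres : (fun a : A => R.character ⟨(a : G), hAT a.2⟩) = ω := funext fun a =>
    hψA ⟨⟨(a : G), hAT a.2⟩, a.2⟩
  have hover : classInner (fun a : A => R.character ⟨(a : G), hAT a.2⟩) ω = 1 := by
    rw [hres, Chars.inner_irr_self ⟨ω, hω⟩]
  have hover0 : classInner (fun a : A => R.character ⟨(a : G), hAT a.2⟩) ω ≠ 0 := by
    rw [hover]; exact one_ne_zero
  have hirr := isIrr_indFun_of_over A hAT hω hT hψ hover0
  have hηT : classInner (fun t : T => indFun T R.character t) R.character ≠ 0 := by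
    rw [← conj_inner (Chars.isCharacter_restrict T (Chars.isCharacter_of_irr hirr))
      (Chars.isCharacter_of_irr hψ), ← Chars.inner_indFun T _
        (Chars.isClassFunction_of_isCharacter (Chars.isCharacter_of_irr hirr)),
      Chars.inner_irr_self ⟨_, hirr⟩]
    exact one_ne_zero
  obtain ⟨-, h2, -⟩ := correspondence_core A hAT hω hT hψ hover0 hirr hηT
  have heq : indFun T R.character = ξ := by
    refine eq_of_over hξ hθ he2 hZ hirr ?_
    refine inner_comp_ne_zero (Subgroup.inclusion hZA)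
      (Chars.isCharacter_restrict A (Chars.isCharacter_of_irr hirr)) hω ?_
      (Chars.isCharacter_of_irr hθ) hωθ
    rw [← h2]; exact hover0
  rw [heq, hover, inner_eq_multNat (Chars.isCharacter_restrict A (Chars.isCharacter_of_irr hξ))
    (Chars.isCharacter_of_irr hω)] at h2
  exact_mod_cast h2.symm

end Object

section Sylow

variable {H : Type*} [Group H] [Fintype H] {Z : Subgroup H} [Z.Normal] [Fintype Z]
  {χ : H → ℂ} {θ : Z → ℂ} {e p : ℕ}

lemma isIrr_pull {Q : Subgroup H} (hZQ : Z ≤ Q) (hθ : IsIrrCharacter Z θ) :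
    IsIrrCharacter (Z.subgroupOf Q) (pullFn Z Q θ) :=
  isIrr_pullFn Z hZQ hθ

/-- The subgroup `P ⊔ Z` is fully ramified over `Z`. -/
theorem sylow_ramified [Fact p.Prime] (hχ : IsIrrCharacter H χ) (hθ : IsIrrCharacter Z θ)
    (he2 : e ^ 2 = Z.index) (hZ : ∀ z : Z, χ z = (e : ℂ) * θ z) (P : Sylow p H) {Q : Subgroup H}
    (hQ : Q = (P : Subgroup H) ⊔ Z) [Fintype Q] [Fintype (Z.subgroupOf Q)] :
    ∃ ξ : IrrCharacter Q,
      (p ^ e.factorization p) ^ 2 = (Z.subgroupOf Q).index ∧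
      ∀ z : Z.subgroupOf Q,
        (ξ : Q → ℂ) z =
          ((p ^ e.factorization p : ℕ) : ℂ) * pullFn Z Q θ z := by
  classical
  let _ := Chars.irrFintype H
  have hp : p.Prime := Fact.out
  have hZQ : Z ≤ Q := hQ ▸ le_sup_right
  have hθQ := isIrr_pull hZQ hθ
  set ZQ := Z.subgroupOf Q with hZQdef
  obtain ⟨ξ, hξ⟩ := exists_over ZQ hθQ
  have he : e ≠ 0 := fun h0 => Subgroup.index_ne_zero_of_finite (H := Z) (by rw [← he2, h0]; rfl)
  have hinv : ∀ (g : Q) (n : ZQ), pullFn Z Q θ (conjBy ZQ g n) = pullFn Z Q θ n := by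
    intro g n
    have := invariant hχ hZ he (g : H) ⟨((n : Q) : H), n.2⟩
    exact this
  have hξc := Chars.isCharacter_of_irr ξ.2
  have hres := restrict_eq_mul_of_invariant ZQ ξ.2 hθQ hinv hξ
  rw [inner_eq_multNat (Chars.isCharacter_restrict ZQ hξc) (Chars.isCharacter_of_irr hθQ)] at hres
  set c := multNat (fun n : ZQ => (ξ : Q → ℂ) n) (pullFn Z Q θ) with hc
  -- the sizes
  have hPQ : (P : Subgroup H) ≤ Q := hQ ▸ le_sup_left
  obtain ⟨s, hs⟩ : ∃ s, ZQ.index = p ^ s := by
    obtain ⟨i, hi⟩ := IsPGroup.iff_card.1 P.2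
    have h1 : Z.relIndex Q = Z.relIndex (P : Subgroup H) := by
      rw [hQ, Subgroup.relIndex_sup_right]
    have h2 : Z.relIndex (P : Subgroup H) ∣ p ^ i := hi ▸ Subgroup.index_dvd_card _
    obtain ⟨s, -, hs⟩ := (Nat.dvd_prime_pow hp).1 (h1 ▸ h2 : Z.relIndex Q ∣ p ^ i)
    exact ⟨s, hs⟩
  have hQp : ¬ p ∣ Q.index := fun h =>
    P.not_dvd_index (h.trans (Subgroup.index_dvd_of_le hPQ))
  have hmulidx : ZQ.index * Q.index = e ^ 2 := by
    rw [he2]; exact Subgroup.relIndex_mul_index hZQ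
  have hs2 : s = 2 * e.factorization p := by
    rw [hs] at hmulidx
    have h := congrArg (fun n => n.factorization p) hmulidx
    simp only [Nat.factorization_mul (pow_ne_zero s hp.ne_zero)
      (Subgroup.index_ne_zero_of_finite (H := Q)), Finsupp.add_apply,
      hp.factorization_pow, Finsupp.single_eq_same, Nat.factorization_eq_zero_of_not_dvd hQp,
      Nat.factorization_pow, Finsupp.smul_apply, smul_eq_mul, add_zero] at h
    exact h
  -- `ξ` induces a multiple of `χ`
  have hind := Chars.isCharacter_indFun Q hξc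
  have hdvd : e ∣ Q.index * c := by
    have h1 := congrFun (char_eq_sum_multNat hind) 1
    rw [Chars.indFun_one_apply, Finset.sum_apply,
      Finset.sum_eq_single (⟨χ, hχ⟩ : IrrCharacter H) (fun η _ hne => ?_) (by simp),
      Pi.smul_apply, smul_eq_mul] at h1
    · have h2 : (ξ : Q → ℂ) 1 = (c : ℂ) * θ 1 := hres 1
      have h3 : χ 1 = (e : ℂ) * θ 1 := by simpa using hZ 1
      rw [h2] at h1
      change _ = (multNat (indFun Q (ξ : Q → ℂ)) χ : ℂ) * χ 1 at h1
      rw [h3, ← mul_assoc, ← mul_assoc] at h1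
      have h4 := mul_right_cancel₀ (Chars.irr_degree_ne_zero hθ) h1
      have h5 : Q.index * c = multNat (indFun Q (ξ : Q → ℂ)) χ * e := by exact_mod_cast h4
      exact Dvd.intro_left _ h5.symm
    · by_cases h0 : multNat (indFun Q (ξ : Q → ℂ)) (η : H → ℂ) = 0
      · simp [h0]
      refine absurd (Subtype.ext (eq_of_over hχ hθ he2 hZ η.2 ?_)) hne
      refine inner_comp_ne_zero (Subgroup.inclusion hZQ)
        (Chars.isCharacter_restrict Q (Chars.isCharacter_of_irr η.2)) ξ.2 ?_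
        (Chars.isCharacter_of_irr hθ) ?_
      · rw [← conj_inner (Chars.isCharacter_restrict Q (Chars.isCharacter_of_irr η.2)) hξc,
          ← Chars.inner_indFun Q _ (Chars.isClassFunction_irr η),
          inner_eq_multNat hind (Chars.isCharacter_of_irr η.2)]
        exact_mod_cast h0
      · have := inner_pullFn Z hZQ (fun z : Z => (ξ : Q → ℂ) ⟨z, hZQ z.2⟩) θ
        show classInner (fun z : Z => (ξ : Q → ℂ) ⟨z, hZQ z.2⟩) θ ≠ 0
        rw [← this]
        exact hξ
  have hcpos : c ≠ 0 := multNat_ne_zero (Chars.isCharacter_restrict ZQ hξc)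
    (Chars.isCharacter_of_irr hθQ) hξ
  have hle : c ^ 2 ≤ ZQ.index := by
    have hQ1 : classInner (ξ : Q → ℂ) (ξ : Q → ℂ) = 1 := Chars.inner_irr_self ξ
    have hZ1 : classInner (pullFn Z Q θ) (pullFn Z Q θ) = 1 := Chars.inner_irr_self ⟨_, hθQ⟩
    rw [Chars.inner_def, inv_mul_eq_one₀ (Nat.cast_ne_zero.2 Nat.card_pos.ne')] at hQ1 hZ1
    have hQ2 : ∑ x : Q, Complex.normSq ((ξ : Q → ℂ) x) = (Nat.card Q : ℝ) := by
      have := congrArg Complex.re hQ1
      simp only [Complex.re_sum, Complex.mul_conj, Complex.ofReal_re, Complex.natCast_re] at this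
      exact this.symm
    have hZ2 : ∑ x : ZQ, Complex.normSq (pullFn Z Q θ x) = (Nat.card ZQ : ℝ) := by
      have := congrArg Complex.re hZ1
      simp only [Complex.re_sum, Complex.mul_conj, Complex.ofReal_re, Complex.natCast_re] at this
      exact this.symm
    have h1 : ∑ x : ZQ, Complex.normSq ((ξ : Q → ℂ) x) ≤ ∑ x : Q, Complex.normSq ((ξ : Q → ℂ) x) := by
      rw [← Finset.sum_image (f := fun x : Q => Complex.normSq ((ξ : Q → ℂ) x))
        (fun a _ b _ h => Subtype.ext h)]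
      exact Finset.sum_le_sum_of_subset_of_nonneg (Finset.subset_univ _)
        fun _ _ _ => Complex.normSq_nonneg _
    simp only [hres, map_mul, Complex.normSq_natCast, ← Finset.mul_sum, hZ2, hQ2] at h1
    have h2 : c * c * Nat.card ZQ ≤ ZQ.index * Nat.card ZQ := by
      rw [ZQ.index_mul_card]; exact_mod_cast h1
    rw [sq]
    exact Nat.le_of_mul_le_mul_right h2 Nat.card_pos
  have hpdvd : p ^ e.factorization p ∣ c :=
    (Nat.Coprime.pow_left _ (hp.coprime_iff_not_dvd.2 hQp)).dvd_of_dvd_mul_left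
      ((Nat.ordProj_dvd e p).trans hdvd)
  have hc' : c = p ^ e.factorization p := by
    refine le_antisymm ?_ (Nat.le_of_dvd (Nat.pos_of_ne_zero hcpos) hpdvd)
    refine (Nat.pow_le_pow_iff_left (two_ne_zero)).1 ?_
    rw [← pow_mul, mul_comm, ← hs2, ← hs]
    exact hle
  refine ⟨ξ, by rw [hs, hs2, ← pow_mul, mul_comm], fun z => ?_⟩
  rw [hres z, hc']

/-- A subgroup of index prime to `p` meets a normal subgroup in index prime to `p`. -/
lemma not_dvd_relIndex_inf [Fact p.Prime] (K Q : Subgroup H) [K.Normal] (hQp : ¬ p ∣ Q.index)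
    {i : ℕ} (hi : K.relIndex Q = p ^ i) :
    ¬ p ∣ (Q ⊓ K).relIndex K ∧ K.index.factorization p = i := by
  have hp : p.Prime := Fact.out
  have hAK : (Q ⊓ K).relIndex K * K.index = p ^ i * Q.index := by
    rw [Subgroup.relIndex_mul_index inf_le_right, ← hi, ← Subgroup.inf_relIndex_left Q K,
      Subgroup.relIndex_mul_index inf_le_left]
  have hdvdi : p ^ i ∣ K.index := by
    rw [← hi, ← Subgroup.relIndex_sup_right (H := Q) (K := K)]
    exact Dvd.intro _ (Subgroup.relIndex_mul_index (le_sup_right : K ≤ Q ⊔ K))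
  have hfac := congrArg (fun n => n.factorization p) hAK
  have hne : (Q ⊓ K).relIndex K ≠ 0 := Subgroup.index_ne_zero_of_finite
  simp only [Nat.factorization_mul hne
      (Subgroup.index_ne_zero_of_finite (H := K)),
    Nat.factorization_mul (pow_ne_zero i hp.ne_zero) (Subgroup.index_ne_zero_of_finite (H := Q)),
    Finsupp.add_apply, hp.factorization_pow, Finsupp.single_eq_same,
    Nat.factorization_eq_zero_of_not_dvd hQp, add_zero] at hfac
  have hile : i ≤ K.index.factorization p :=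
    (hp.pow_dvd_iff_le_factorization Subgroup.index_ne_zero_of_finite).1 hdvdi
  refine ⟨fun h => ?_, by omega⟩
  have h1 : 1 ≤ ((Q ⊓ K).relIndex K).factorization p :=
    hp.factorization_pos_of_dvd hne h
  omega

/-- The statement used for both applications. -/
theorem exists_index_eq [Fact p.Prime] (hχ : IsIrrCharacter H χ) (hθ : IsIrrCharacter Z θ)
    (he2 : e ^ 2 = Z.index) (hZ : ∀ z : Z, χ z = (e : ℂ) * θ z) (K : Subgroup H) [K.Normal]
    (hZK : Z ≤ K) (P : Sylow p H) {Q : Subgroup H}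
    (hQ : Q = (P : Subgroup H) ⊔ Z) [Fintype Q] [Fintype (Z.subgroupOf Q)]
    [Fintype (K.subgroupOf Q)]
    (hreg : ∀ (ξ : IrrCharacter Q)
      (ω : IrrCharacter (K.subgroupOf Q)),
      (p ^ e.factorization p) ^ 2 = (Z.subgroupOf Q).index →
      (∀ z : Z.subgroupOf Q, (ξ : Q → ℂ) z =
        ((p ^ e.factorization p : ℕ) : ℂ) * pullFn Z Q θ z) →
      (K.subgroupOf Q).index = p ^ K.index.factorization p →
      classInner ((ω : K.subgroupOf Q → ℂ) ∘
        Subgroup.inclusion (show Z.subgroupOf Q ≤ K.subgroupOf Q from Subgroup.comap_mono hZK)) (pullFn Z Q θ) ≠ 0 →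
      multNat (fun a : K.subgroupOf Q =>
        (ξ : Q → ℂ) a) (ω : K.subgroupOf Q → ℂ) = 1) :
    ∃ M : Subgroup (H ⧸ K), M.index = p ^ K.index.factorization p := by
  classical
  have hp : p.Prime := Fact.out
  obtain ⟨ξ, hξ2, hξZ⟩ := sylow_ramified hχ hθ he2 hZ P hQ
  have hPQ : (P : Subgroup H) ≤ Q := hQ ▸ le_sup_left
  have hZQ : Z ≤ Q := hQ ▸ le_sup_right
  have hZA : (Z.subgroupOf Q) ≤ (K.subgroupOf Q) := Subgroup.comap_mono hZK
  have hθQ := isIrr_pull hZQ hθ
  -- orders
  set A : Subgroup H := Q ⊓ K with hA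
  have hQA : (K.subgroupOf Q).index = K.relIndex Q := rfl
  obtain ⟨i, hi⟩ : ∃ i, K.relIndex Q = p ^ i := by
    obtain ⟨j, hj⟩ := IsPGroup.iff_card.1 P.2
    have h1 : K.relIndex Q ∣ Z.relIndex Q := Subgroup.relIndex_dvd_of_le_left Q hZK
    rw [hQ, Subgroup.relIndex_sup_right (H := (P : Subgroup H)) (K := Z)] at h1
    obtain ⟨i, -, hi⟩ := (Nat.dvd_prime_pow hp).1
      (h1.trans (hj ▸ Subgroup.index_dvd_card _ : Z.relIndex (P : Subgroup H) ∣ p ^ j))
    exact ⟨i, by rw [hQ]; exact hi⟩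
  have hQp : ¬ p ∣ Q.index := fun h => P.not_dvd_index (h.trans (Subgroup.index_dvd_of_le hPQ))
  obtain ⟨hAKp, hidxi⟩ := not_dvd_relIndex_inf (p := p) K Q hQp hi
  have hAQidx : (K.subgroupOf Q).index = p ^ K.index.factorization p := by rw [hQA, hi, hidxi]
  -- an object
  obtain ⟨ω, hω⟩ : ∃ ω : IrrCharacter (K.subgroupOf Q),
      classInner ((ω : (K.subgroupOf Q) → ℂ) ∘ Subgroup.inclusion hZA) (pullFn Z Q θ) ≠ 0 := by
    have h0 : classInner ((fun a : (K.subgroupOf Q) => (ξ : Q → ℂ) a) ∘ Subgroup.inclusion hZA)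
        (pullFn Z Q θ) ≠ 0 := by
      rw [show (fun a : (K.subgroupOf Q) => (ξ : Q → ℂ) a) ∘ Subgroup.inclusion hZA =
        fun z : (Z.subgroupOf Q) => (ξ : Q → ℂ) z from rfl, inner_restrict hθQ hξZ]
      exact_mod_cast (pow_ne_zero (e.factorization p) hp.ne_zero)
    obtain ⟨ψ, -, hψ⟩ := exists_constituent_of_comp (Subgroup.inclusion hZA)
      (Chars.isCharacter_restrict (K.subgroupOf Q) (Chars.isCharacter_of_irr ξ.2)) h0
    exact ⟨ψ, hψ⟩
  have hc1 := hreg ξ ω hξ2 hξZ hAQidx hω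
  obtain ⟨hsq, -⟩ := mult_sq_mul_index (K.subgroupOf Q) ξ.2 hθQ hξ2 hξZ hZA ω.2 hω
  rw [hc1, one_pow, one_mul] at hsq
  have hωA : (K.subgroupOf Q) ≤ inertia (K.subgroupOf Q) (ω : (K.subgroupOf Q) → ℂ) := le_inertia (K.subgroupOf Q) (Chars.isClassFunction_irr ω)
  have hinA : ∀ q : Q, q ∈ inertia (K.subgroupOf Q) (ω : (K.subgroupOf Q) → ℂ) → (q : H) ∈ K := by
    intro q hq
    have h := Subgroup.relIndex_mul_index hωA
    rw [hsq] at h
    have h1 : (K.subgroupOf Q).relIndex (inertia (K.subgroupOf Q) (ω : (K.subgroupOf Q) → ℂ)) = 1 :=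
      Nat.eq_of_mul_eq_mul_right (Nat.pos_of_ne_zero Subgroup.index_ne_zero_of_finite)
        (by rw [one_mul]; exact h)
    exact Subgroup.relIndex_eq_one.1 h1 hq
  -- the normalizer
  set N := Subgroup.normalizer (A : Set H) with hN
  have hQN : Q ≤ N := by
    intro q hq
    rw [hN, Subgroup.mem_normalizer_iff]
    intro a
    constructor
    · intro ha
      exact ⟨Q.mul_mem (Q.mul_mem hq ha.1) (Q.inv_mem hq),
        (inferInstance : K.Normal).conj_mem a ha.2 q⟩
    · intro ha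
      have h1 := Q.mul_mem (Q.mul_mem (Q.inv_mem hq) ha.1) hq
      have h2 := (inferInstance : K.Normal).conj_mem _ ha.2 q⁻¹
      simp only [mul_assoc, inv_mul_cancel_left, inv_mul_cancel, mul_one, inv_inv] at h1 h2
      exact ⟨h1, h2⟩
  have hAN : A ≤ N := inf_le_left.trans hQN
  haveI : (A.subgroupOf N).Normal := Subgroup.normal_in_normalizer
  let _ := Fintype.ofFinite N
  let _ := Fintype.ofFinite (A.subgroupOf N)
  set AN := A.subgroupOf N
  let η : (K.subgroupOf Q) →* AN :=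
    { toFun := fun a => ⟨⟨((a : Q) : H), hQN (a : Q).2⟩, ⟨(a : Q).2, a.2⟩⟩
      map_one' := rfl
      map_mul' := fun _ _ => rfl }
  let η' : AN →* (K.subgroupOf Q) :=
    { toFun := fun a => ⟨⟨((a : N) : H), a.2.1⟩, a.2.2⟩
      map_one' := rfl
      map_mul' := fun _ _ => rfl }
  have hη's : Function.Surjective η' := fun a => ⟨η a, rfl⟩
  set ωN : AN → ℂ := (ω : (K.subgroupOf Q) → ℂ) ∘ η' with hωN
  set T := inertia AN ωN with hT
  have hAT : AN ≤ T := le_inertia AN (Chars.isClassFunction_of_isCharacter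
    (Chars.isCharacter_comp η' (Chars.isCharacter_of_irr ω.2)))
  have hinv := invariant hχ hZ
    (fun h0 : e = 0 => Subgroup.index_ne_zero_of_finite (H := Z) (by rw [← he2, h0]; rfl))
  -- transitivity of `Q`
  have htrans : ∀ g : N, ∃ q : Q, g * (⟨(q : H), hQN q.2⟩ : N)⁻¹ ∈ T := by
    intro g
    let cg : (K.subgroupOf Q) →* (K.subgroupOf Q) := η'.comp ((conjBy AN g).comp η)
    have hcg : Function.Surjective cg := fun a => by
      obtain ⟨b, hb⟩ := conjBy_surjective AN g (η a)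
      obtain ⟨a', ha'⟩ : ∃ a', η a' = b := ⟨η' b, rfl⟩
      exact ⟨a', by simp only [cg, MonoidHom.comp_apply, ha', hb]; rfl⟩
    have hω' : IsIrrCharacter (K.subgroupOf Q) ((ω : (K.subgroupOf Q) → ℂ) ∘ cg) := Chars.isIrrCharacter_comp cg hcg ω.2
    have hover' : classInner (((ω : (K.subgroupOf Q) → ℂ) ∘ cg) ∘ Subgroup.inclusion hZA) (pullFn Z Q θ) ≠ 0 := by
      have e1 : classInner (((ω : (K.subgroupOf Q) → ℂ) ∘ cg) ∘ Subgroup.inclusion hZA) (pullFn Z Q θ) =
          classInner ((ω : (K.subgroupOf Q) → ℂ) ∘ Subgroup.inclusion hZA) (pullFn Z Q θ) := by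
        rw [Chars.inner_def, Chars.inner_def]
        congr 1
        refine Fintype.sum_bijective (fun z : (Z.subgroupOf Q) =>
          (⟨⟨(conjBy Z (g : H) ⟨((z : Q) : H), z.2⟩ : H), hZQ (Subtype.prop _)⟩,
            (conjBy Z (g : H) ⟨((z : Q) : H), z.2⟩).2⟩ : (Z.subgroupOf Q))) ?_ _ _ fun z => ?_
        · refine Finite.injective_iff_bijective.1 fun z z' h => ?_
          have h1 : (g : H) * ((z : Q) : H) * (g : H)⁻¹ = (g : H) * ((z' : Q) : H) * (g : H)⁻¹ :=
            congrArg (fun w : (Z.subgroupOf Q) => ((w : Q) : H)) h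
          exact Subtype.ext (Subtype.ext (mul_left_cancel (mul_right_cancel h1)))
        · have h2 : pullFn Z Q θ z = pullFn Z Q θ ⟨⟨(conjBy Z (g : H) ⟨((z : Q) : H), z.2⟩ : H),
              hZQ (Subtype.prop _)⟩, (conjBy Z (g : H) ⟨((z : Q) : H), z.2⟩).2⟩ :=
            (hinv (g : H) ⟨((z : Q) : H), z.2⟩).symm
          rw [h2]
          rfl
      rw [e1]; exact hω
    obtain ⟨q, hq⟩ := restrict_constituents_conj (K.subgroupOf Q) ξ.2 ω.2 hω'
      (over_object (K.subgroupOf Q) ξ.2 hθQ hξ2 hξZ hZA ω.2 hω)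
      (over_object (K.subgroupOf Q) ξ.2 hθQ hξ2 hξZ hZA hω' hover')
    refine ⟨q, (mem_inertia AN).2 fun a => ?_⟩
    set q' : N := ⟨(q : H), hQN q.2⟩
    have h := congrFun hq (η' (conjBy AN q'⁻¹ a))
    have e1 : conjBy (K.subgroupOf Q) q (η' (conjBy AN q'⁻¹ a)) = η' a := Subtype.ext (Subtype.ext (by
      show (q : H) * ((q : H)⁻¹ * ((a : N) : H) * ((q : H)⁻¹)⁻¹) * (q : H)⁻¹ = ((a : N) : H)
      simp [mul_assoc]))
    have e2 : cg (η' (conjBy AN q'⁻¹ a)) = η' (conjBy AN (g * q'⁻¹) a) := Subtype.ext (Subtype.ext (by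
      show (g : H) * ((q : H)⁻¹ * ((a : N) : H) * ((q : H)⁻¹)⁻¹) * (g : H)⁻¹ =
        (g : H) * (q : H)⁻¹ * ((a : N) : H) * ((g : H) * (q : H)⁻¹)⁻¹
      simp [mul_assoc]))
    simp only [conjFn, Function.comp_apply, e1, e2] at h
    exact h.symm
  -- the index of the inertia group
  have hTidx : T.index = p ^ i := by
    let QN := Q.subgroupOf N
    have h1 : T.relIndex QN = T.index := by
      refine Nat.card_eq_of_bijective (fun x : QN ⧸ T.subgroupOf QN =>
          Quotient.map' (fun y : QN => (y : N)) (fun a b h => by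
            rw [QuotientGroup.leftRel_apply] at h ⊢; exact h) x) ⟨?_, ?_⟩
      · intro x y
        induction x using Quotient.inductionOn' with | h x => ?_
        induction y using Quotient.inductionOn' with | h y => ?_
        intro h
        have h' : (x : N)⁻¹ * (y : N) ∈ T := QuotientGroup.eq.1 h
        exact QuotientGroup.eq.2 h'
      · intro z
        induction z using Quotient.inductionOn' with | h z => ?_
        obtain ⟨q, hq⟩ := htrans z⁻¹
        refine ⟨QuotientGroup.mk (⟨(⟨(q : H), hQN q.2⟩ : N)⁻¹, QN.inv_mem q.2⟩ : QN), ?_⟩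
        refine QuotientGroup.eq.2 ?_
        show ((⟨(q : H), hQN q.2⟩ : N)⁻¹)⁻¹ * z ∈ T
        simpa using T.inv_mem hq
    rw [← h1]
    have h2 : T ⊓ QN = AN := by
      refine le_antisymm ?_ (le_inf hAT fun a ha => ha.1)
      rintro t ⟨ht, htQ⟩
      refine ⟨htQ, hinA ⟨(t : H), htQ⟩ ((mem_inertia (K.subgroupOf Q)).2 fun a => ?_)⟩
      have h := (mem_inertia AN).1 ht (η a)
      exact h
    rw [← Subgroup.inf_relIndex_right, h2, ← hi, ← Subgroup.inf_relIndex_left Q K]
    show (A.subgroupOf N).relIndex (Q.subgroupOf N) = A.relIndex Q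
    exact Subgroup.relIndex_subgroupOf hQN
  -- `K ⊓ N` lies in the inertia group
  set KN := K.subgroupOf N
  have hKT : KN ≤ T := by
    rw [← Subgroup.relIndex_eq_one]
    have h1 : T.relIndex KN ∣ p ^ i := by
      have e1 := Subgroup.relIndex_mul_relIndex (T ⊓ KN) T (T ⊔ KN) inf_le_left le_sup_left
      have e2 := Subgroup.relIndex_mul_relIndex (T ⊓ KN) KN (T ⊔ KN) inf_le_right le_sup_right
      rw [Subgroup.inf_relIndex_left, ← e2, Subgroup.inf_relIndex_right,
        Subgroup.relIndex_sup_right, mul_comm (T.relIndex KN)] at e1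
      have hne : KN.relIndex T ≠ 0 := Subgroup.index_ne_zero_of_finite
      rw [← Nat.eq_of_mul_eq_mul_left (Nat.pos_of_ne_zero hne) e1, ← hTidx]
      exact Dvd.intro _ (Subgroup.relIndex_mul_index (le_sup_left : T ≤ T ⊔ KN))
    have h2 : T.relIndex KN ∣ A.relIndex K := by
      have e : AN.relIndex KN = A.relIndex (K ⊓ N) := by
        rw [show KN = (K ⊓ N).subgroupOf N from (Subgroup.inf_subgroupOf_right K N).symm]
        exact Subgroup.relIndex_subgroupOf inf_le_right
      refine (Subgroup.relIndex_dvd_of_le_left KN hAT).trans (e ▸ ?_)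
      exact Dvd.intro _ (Subgroup.relIndex_mul_relIndex A (K ⊓ N) K (le_inf inf_le_right hAN)
        inf_le_left)
    obtain ⟨j, -, hj⟩ := (Nat.dvd_prime_pow hp).1 h1
    rcases j with - | j
    · simpa using hj
    · exact absurd ((hj ▸ dvd_pow_self p j.succ_ne_zero).trans h2) hAKp
  -- Frattini
  have hsup : ∀ x : H, ∃ k ∈ K, ∃ y ∈ N, x = k * y := by
    let PK : Subgroup H := (P : Subgroup H) ⊓ K
    have hPKp : IsPGroup p PK := P.2.to_le inf_le_left
    have hidx : ¬ p ∣ (PK.subgroupOf K).index := by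
      obtain ⟨j, hj⟩ := IsPGroup.iff_card.1 P.2
      obtain ⟨l, -, hl⟩ := (Nat.dvd_prime_pow hp).1
        (hj ▸ Subgroup.index_dvd_card _ : K.relIndex (P : Subgroup H) ∣ p ^ j)
      exact (not_dvd_relIndex_inf (p := p) K (P : Subgroup H) P.not_dvd_index hl).1
    let PS : Sylow p K := (hPKp.comap_subtype).toSylow hidx
    have hfr := Sylow.normalizer_sup_eq_top PS
    have hmap : (PS : Subgroup K).map K.subtype = PK := by
      show (PK.subgroupOf K).map K.subtype = PK
      rw [Subgroup.subgroupOf_map_subtype, inf_eq_left.2 inf_le_right]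
    rw [hmap] at hfr
    intro x
    have hx : x ∈ Subgroup.normalizer (PK : Set H) ⊔ K := hfr ▸ Subgroup.mem_top x
    rw [sup_comm] at hx
    obtain ⟨k, hk, y, hy, hkey⟩ := Subgroup.mem_sup_of_normal_left.1 hx
    refine ⟨k, hk, y, ?_, hkey.symm⟩
    have hsub : ∀ y ∈ Subgroup.normalizer (PK : Set H), ∀ a ∈ A, y * a * y⁻¹ ∈ A := by
      intro y hy a ha
      obtain ⟨u, hu, z, hz, rfl⟩ := Subgroup.mem_sup_of_normal_right.1 (hQ ▸ ha.1 : a ∈ (P : Subgroup H) ⊔ Z)
      have huK : u ∈ K := by simpa using K.mul_mem ha.2 (K.inv_mem (hZK hz))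
      have hu' : y * u * y⁻¹ ∈ PK := (Subgroup.mem_normalizer_iff.1 hy u).1 ⟨hu, huK⟩
      have hz' : y * z * y⁻¹ ∈ Z := (inferInstance : Z.Normal).conj_mem z hz y
      rw [show y * (u * z) * y⁻¹ = (y * u * y⁻¹) * (y * z * y⁻¹) by simp [mul_assoc]]
      exact ⟨Q.mul_mem (hPQ hu'.1) (hZQ hz'), K.mul_mem hu'.2 (hZK hz')⟩
    rw [hN, Subgroup.mem_normalizer_iff]
    refine fun a => ⟨fun ha => hsub y hy a ha, fun ha => ?_⟩
    have := hsub y⁻¹ (inv_mem hy) _ ha
    simpa [mul_assoc] using this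
  -- the complement
  refine ⟨T.map ((QuotientGroup.mk' K).comp N.subtype), ?_⟩
  have hsurj : Function.Surjective ((QuotientGroup.mk' K).comp N.subtype) := by
    intro z
    obtain ⟨x, rfl⟩ := QuotientGroup.mk'_surjective K z
    obtain ⟨k, hk, y, hy, rfl⟩ := hsup x
    refine ⟨⟨y, hy⟩, ?_⟩
    show QuotientGroup.mk' K y = QuotientGroup.mk' K (k * y)
    rw [map_mul, show QuotientGroup.mk' K k = 1 from (QuotientGroup.eq_one_iff k).2 hk, one_mul]
  have hker : ((QuotientGroup.mk' K).comp N.subtype).ker ≤ T := fun x hx =>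
    hKT ((QuotientGroup.eq_one_iff (N := K) (x : H)).1 hx)
  rw [T.index_map_eq hsurj hker, hTidx, hidxi]

/-- If `χ` is induced from `K` then `H ⧸ K` has `p`-complements. -/
theorem exists_index_eq_of_induced [Fact p.Prime] (hχ : IsIrrCharacter H χ)
    (hθ : IsIrrCharacter Z θ) (he2 : e ^ 2 = Z.index) (hZ : ∀ z : Z, χ z = (e : ℂ) * θ z)
    (K : Subgroup H) [K.Normal] [Fintype K] (hZK : Z ≤ K) {φ : K → ℂ} (hφ : IsCharacter K φ)
    (hind : indFun K φ = χ) :
    ∃ M : Subgroup (H ⧸ K), M.index = p ^ K.index.factorization p := by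
  classical
  have hp : p.Prime := Fact.out
  obtain ⟨P⟩ : Nonempty (Sylow p H) := inferInstance
  set Q : Subgroup H := (P : Subgroup H) ⊔ Z with hQ
  let _ := Fintype.ofFinite Q
  let _ := Fintype.ofFinite (Z.subgroupOf Q)
  let _ := Fintype.ofFinite (K.subgroupOf Q)
  refine exists_index_eq hχ hθ he2 hZ K hZK P hQ fun ξ ω hξ2 hξZ hidx hω => ?_
  have hZQ : Z ≤ Q := le_sup_right
  have hθQ := isIrr_pull hZQ hθ
  have hZA : Z.subgroupOf Q ≤ K.subgroupOf Q := Subgroup.comap_mono hZK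
  obtain ⟨hsq, hdeg⟩ := mult_sq_mul_index (K.subgroupOf Q) ξ.2 hθQ hξ2 hξZ hZA ω.2 hω
  set c := multNat (fun a : K.subgroupOf Q => (ξ : Q → ℂ) a) (ω : K.subgroupOf Q → ℂ) with hc
  set k := (inertia (K.subgroupOf Q) (ω : K.subgroupOf Q → ℂ)).index with hk
  rw [hidx] at hsq
  have he : e ≠ 0 := fun h0 => Subgroup.index_ne_zero_of_finite (H := Z) (by rw [← he2, h0]; rfl)
  let j : K.subgroupOf Q →* K :=
    { toFun := fun a => ⟨((a : Q) : H), a.2⟩
      map_one' := rfl
      map_mul' := fun _ _ => rfl }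
  let _ := Chars.irrFintype (K.subgroupOf Q)
  have hφA : IsCharacter (K.subgroupOf Q) (φ ∘ j) := Chars.isCharacter_comp j hφ
  have hχc := Chars.isCharacter_of_irr hχ
  have hsame : ∀ τ : IrrCharacter (K.subgroupOf Q),
      classInner (φ ∘ j) (τ : K.subgroupOf Q → ℂ) ≠ 0 →
      (τ : K.subgroupOf Q → ℂ) 1 = (ω : K.subgroupOf Q → ℂ) 1 := by
    intro τ hτ
    obtain ⟨ψ, hψ, hψτ⟩ := exists_constituent_of_comp j hφ hτ
    obtain ⟨η, hη⟩ := exists_over K ψ.2
    have hηχ : (η : H → ℂ) = χ := by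
      have h : classInner (indFun K φ) (η : H → ℂ) ≠ 0 := by
        rw [Chars.inner_indFun K φ (Chars.isClassFunction_irr η)]
        exact GaloisProduct.inner_nat_pos hφ
          (Chars.isCharacter_restrict K (Chars.isCharacter_of_irr η.2)) ψ hψ hη
      rw [hind, Chars.inner_irr_of_isIrr hχ η.2] at h
      by_contra hne
      exact h (if_neg (Ne.symm hne))
    rw [hηχ] at hη
    have hχτ : classInner (fun a : K.subgroupOf Q => χ ((a : Q) : H))
        (τ : K.subgroupOf Q → ℂ) ≠ 0 :=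
      inner_comp_ne_zero j (Chars.isCharacter_restrict K hχc) ψ.2 hη
        (Chars.isCharacter_of_irr τ.2) hψτ
    obtain ⟨σ, hσ⟩ : ∃ σ : IrrCharacter (Z.subgroupOf Q),
        classInner ((τ : K.subgroupOf Q → ℂ) ∘ Subgroup.inclusion hZA)
          (σ : Z.subgroupOf Q → ℂ) ≠ 0 := by
      refine Chars.exists_constituent
        (Chars.isCharacter_comp (Subgroup.inclusion hZA) (Chars.isCharacter_of_irr τ.2)) fun h => ?_
      exact Chars.irr_degree_ne_zero τ.2 (by simpa using congrFun h 1)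
    have hσ' : classInner (fun z : Z.subgroupOf Q => χ ((z : Q) : H))
        (σ : Z.subgroupOf Q → ℂ) ≠ 0 :=
      inner_comp_ne_zero (Subgroup.inclusion hZA)
        (Chars.isCharacter_comp (Q.subtype.comp (K.subgroupOf Q).subtype) hχc) τ.2 hχτ
        (Chars.isCharacter_of_irr σ.2) hσ
    have hover : classInner ((τ : K.subgroupOf Q → ℂ) ∘ Subgroup.inclusion hZA)
        (pullFn Z Q θ) ≠ 0 := by
      have e1 : (fun z : Z.subgroupOf Q => χ ((z : Q) : H)) = (e : ℂ) • pullFn Z Q θ :=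
        funext fun z => hZ ⟨((z : Q) : H), z.2⟩
      rw [e1, Chars.inner_smul_left, Chars.inner_irr_of_isIrr hθQ σ.2] at hσ'
      split_ifs at hσ' with he'
      · rw [he']; exact hσ
      · exact absurd (mul_zero _) hσ'
    obtain ⟨g, hg⟩ := restrict_constituents_conj (K.subgroupOf Q) ξ.2 ω.2 τ.2
      (over_object (K.subgroupOf Q) ξ.2 hθQ hξ2 hξZ hZA ω.2 hω)
      (over_object (K.subgroupOf Q) ξ.2 hθQ hξ2 hξZ hZA τ.2 hover)
    rw [← hg]
    exact congrArg (ω : K.subgroupOf Q → ℂ) (map_one _)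
  set M := ∑ τ : IrrCharacter (K.subgroupOf Q), multNat (φ ∘ j) (τ : K.subgroupOf Q → ℂ) with hM
  have hφ1 : φ 1 = (M : ℂ) * (ω : K.subgroupOf Q → ℂ) 1 := by
    have h := congrFun (char_eq_sum_multNat hφA) 1
    simp only [Function.comp_apply, map_one, Finset.sum_apply, Pi.smul_apply, smul_eq_mul] at h
    rw [h, hM, Nat.cast_sum, Finset.sum_mul]
    refine Finset.sum_congr rfl fun τ _ => ?_
    by_cases h0 : classInner (φ ∘ j) (τ : K.subgroupOf Q → ℂ) = 0
    · rw [inner_eq_multNat hφA (Chars.isCharacter_of_irr τ.2), Nat.cast_eq_zero] at h0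
      simp [h0]
    · rw [hsame τ h0]
  have h1 : (K.index : ℂ) * φ 1 = (e : ℂ) * θ 1 := by
    have h := congrFun hind 1
    rw [Chars.indFun_one_apply] at h
    rw [h]
    exact hZ 1
  have h2 : ((p ^ e.factorization p : ℕ) : ℂ) * θ 1 =
      (c : ℂ) * (k : ℂ) * (ω : K.subgroupOf Q → ℂ) 1 := (hξZ 1).symm.trans hdeg
  have h3 : K.index * M * p ^ e.factorization p = e * (c * k) := by
    have : ((K.index * M * p ^ e.factorization p : ℕ) : ℂ) = ((e * (c * k) : ℕ) : ℂ) := by
      refine mul_right_cancel₀ (Chars.irr_degree_ne_zero ω.2) ?_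
      rw [hφ1] at h1
      simp only [Nat.cast_mul]
      linear_combination ((p ^ e.factorization p : ℕ) : ℂ) * h1 + (e : ℂ) * h2
    exact_mod_cast this
  have hK0 : K.index ≠ 0 := Subgroup.index_ne_zero_of_finite
  have hc0 : c ≠ 0 := fun h => pow_ne_zero (K.index.factorization p) hp.ne_zero
    (by rw [← hsq, h]; simp)
  have hk0 : k ≠ 0 := Subgroup.index_ne_zero_of_finite
  have hM0 : M ≠ 0 := fun h => mul_ne_zero he (mul_ne_zero hc0 hk0) (by rw [← h3, h]; simp)
  have hv := congrArg (fun n => n.factorization p) h3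
  have hv2 := congrArg (fun n => n.factorization p) hsq
  simp only [Nat.factorization_mul (mul_ne_zero hK0 hM0) (pow_ne_zero _ hp.ne_zero),
    Nat.factorization_mul hK0 hM0, Nat.factorization_mul he (mul_ne_zero hc0 hk0),
    Nat.factorization_mul hc0 hk0, Nat.factorization_mul (pow_ne_zero 2 hc0) hk0,
    Nat.factorization_pow, Finsupp.add_apply, Finsupp.smul_apply, smul_eq_mul,
    hp.factorization_self, mul_one] at hv hv2
  obtain ⟨i, -, hi⟩ := (Nat.dvd_prime_pow hp).1
    (show c ∣ p ^ K.index.factorization p from ⟨c * k, by rw [← hsq]; ring⟩)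
  rw [hi, Nat.factorization_pow, Finsupp.smul_apply, hp.factorization_self, smul_eq_mul,
    mul_one] at hv hv2
  rw [hi, show i = 0 by omega, pow_zero]

/-- A cyclic Sylow subgroup of `H ⧸ K` has a complement. -/
theorem exists_complement_of_cyclic [Fact p.Prime] (hχ : IsIrrCharacter H χ)
    (hθ : IsIrrCharacter Z θ) (he2 : e ^ 2 = Z.index) (hZ : ∀ z : Z, χ z = (e : ℂ) * θ z)
    (K : Subgroup H) [K.Normal] (hZK : Z ≤ K) (S : Sylow p (H ⧸ K)) (hcyc : IsCyclic S) :
    ∃ M : Subgroup (H ⧸ K), M.IsComplement' (S : Subgroup (H ⧸ K)) := by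
  classical
  have hp : p.Prime := Fact.out
  obtain ⟨P⟩ : Nonempty (Sylow p H) := inferInstance
  set Q : Subgroup H := (P : Subgroup H) ⊔ Z with hQ
  let _ := Fintype.ofFinite Q
  let _ := Fintype.ofFinite (Z.subgroupOf Q)
  let _ := Fintype.ofFinite (K.subgroupOf Q)
  have hcycQ : IsCyclic (↥Q ⧸ K.subgroupOf Q) := by
    set π := QuotientGroup.mk' K
    have himg : Q.map π = (P : Subgroup H).map π := by
      rw [hQ, Subgroup.map_sup, show Z.map π = ⊥ from (Subgroup.map_eq_bot_iff _).2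
        (by rw [QuotientGroup.ker_mk']; exact hZK), sup_bot_eq]
    obtain ⟨S', hS'⟩ := (P.2.map π).exists_le_sylow
    haveI : IsCyclic (S' : Subgroup (H ⧸ K)) :=
      isCyclic_of_surjective _ (Sylow.equiv S S').surjective
    haveI : IsCyclic (Q.map π) :=
      isCyclic_of_injective _ (Subgroup.inclusion_injective (himg ▸ hS' : Q.map π ≤ S'))
    let f : ↥Q ⧸ K.subgroupOf Q →* Q.map π := QuotientGroup.lift (K.subgroupOf Q)
      ((π.comp Q.subtype).codRestrict (Q.map π) fun q => ⟨q, q.2, rfl⟩)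
      fun q hq => Subtype.ext ((QuotientGroup.eq_one_iff (N := K) (q : H)).2 hq)
    refine isCyclic_of_injective f ?_
    rw [injective_iff_map_eq_one]
    intro q
    induction q using QuotientGroup.induction_on with
    | H q =>
      intro hq
      exact (QuotientGroup.eq_one_iff q).2
        ((QuotientGroup.eq_one_iff (N := K) (q : H)).1 (congrArg Subtype.val hq))
  obtain ⟨M, hM⟩ := exists_index_eq hχ hθ he2 hZ K hZK P hQ fun ξ ω hξ2 hξZ _ hω =>
    mult_eq_one_of_cyclic (K.subgroupOf Q) ξ.2 (isIrr_pull le_sup_right hθ) hξ2 hξZ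
      (Subgroup.comap_mono hZK) ω.2 hω
  have hS : Nat.card (S : Subgroup (H ⧸ K)) = M.index := by
    rw [hM, S.card_eq_multiplicity]; rfl
  refine ⟨M, Subgroup.isComplement'_of_coprime ?_ ?_⟩
  · rw [hS, M.card_mul_index]
  · have h0 := M.card_mul_index
    rw [hM] at h0
    have h1 := congrArg (fun n => n.factorization p) h0
    simp only [Nat.factorization_mul (Nat.card_pos (α := M)).ne' (pow_ne_zero _ hp.ne_zero),
      Finsupp.add_apply, hp.factorization_pow, Finsupp.single_eq_same] at h1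
    rw [hS, hM]
    refine Nat.Coprime.pow_right _ (hp.coprime_iff_not_dvd.2 fun hd => ?_).symm
    have := hp.factorization_pos_of_dvd Nat.card_pos.ne' hd
    change _ = K.index.factorization p at h1
    omega

end Sylow

end CfsgLib.CharsMore.FullyRamified
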