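import Cfsg.Agent.Lib.CharsMore.Gallagher
import Cfsg.Agent.Lib.CharsMore.BrauerInduction
import Cfsg.Agent.Lib.CharsMore.Intertwiners
import Cfsg.Agent.Lib.CharsMore.Extend
import Cfsg.Agent.Lib.CharApps.Galois
import Cfsg.Agent.Lib.Chars.MonSpan

/-!
# Characters fixed by an automorphism over a normal subgroup of odd index
-/

set_option autoImplicit false
set_option linter.style.haveILetI false
set_option linter.unusedSectionVars false

namespace CfsgLib.GaloisOdd

open Cfsg CfsgLib.Chars CfsgLib.CharsMore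
open scoped ComplexConjugate

universe u

variable {G : Type u} [Group G] [Fintype G]

/-- The permutation of the irreducible characters given by raising the argument to a power prime
to the order. -/
noncomputable def powIrr {k : ℕ} (hk : k.Coprime (Nat.card G)) : IrrCharacter G ≃ IrrCharacter G :=
  haveI : NeZero (Nat.card G) := ⟨Nat.card_pos.ne'⟩
  CharApps.galoisIrr (CharApps.exists_galois_pow (Nat.card G) hk).choose

@[simp] theorem powIrr_apply {k : ℕ} (hk : k.Coprime (Nat.card G)) (χ : IrrCharacter G) (g : G) :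
    (powIrr hk χ : G → ℂ) g = (χ : G → ℂ) (g ^ k) := by
  haveI : NeZero (Nat.card G) := ⟨Nat.card_pos.ne'⟩
  rw [powIrr, CharApps.galoisIrr_apply]
  exact CharApps.galois_apply _ (CharApps.exists_galois_pow (Nat.card G) hk).choose_spec
    (isCharacter_of_irr χ.2) g pow_card_eq_one'

/-- Inner products are invariant under raising the arguments to a power prime to the order. -/
theorem inner_pow {k : ℕ} (hk : k.Coprime (Nat.card G)) (a b : G → ℂ) :
    classInner (fun g => a (g ^ k)) (fun g => b (g ^ k)) = classInner a b := by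
  rw [inner_def, inner_def]
  congr 1
  exact Fintype.sum_equiv (powCoprime hk.symm) _ _ fun g => by rw [powCoprime_apply]

section Fixed

variable (N : Subgroup G) [N.Normal] [Fintype N]

theorem orbit_fixed {k : ℕ} {θ : N → ℂ} (hθ : ∀ n : N, θ (n ^ k) = θ n) {φ : N → ℂ}
    (hφ : φ ∈ orbitFn N θ) (n : N) : φ (n ^ k) = φ n := by
  obtain ⟨g, rfl⟩ := (mem_orbitFn N).1 hφ
  show θ (conjBy N g (n ^ k)) = θ (conjBy N g n)
  rw [map_pow, hθ]

/-- A character over `θ` and one not over it are orthogonal on every coset. -/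
theorem coset_orth {θ : IrrCharacter N} {χ ψ : IrrCharacter G}
    (hχ : classInner (fun n : N => (χ : G → ℂ) n) (θ : N → ℂ) ≠ 0)
    (hψ : classInner (fun n : N => (ψ : G → ℂ) n) (θ : N → ℂ) = 0) (g : G) :
    ∑ n : N, (χ : G → ℂ) ((n : G) * g) * conj ((ψ : G → ℂ) ((n : G) * g)) = 0 := by
  classical
  letI := irrFintype G
  set F : G → ℂ := fun g => ∑ n : N, (χ : G → ℂ) ((n : G) * g) * conj ((ψ : G → ℂ) ((n : G) * g))
    with hF
  suffices hF0 : F = 0 from congrFun hF0 g
  have hc1 := isClassFunction_irr χ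
  have hc2 := isClassFunction_irr ψ
  have hshift : ∀ (f : G → ℂ) (n : N), ∑ x : G, f ((n : G) * x) = ∑ x : G, f x := fun f n =>
    Fintype.sum_equiv (Equiv.mulLeft (n : G)) _ _ fun _ => rfl
  have hFinv : ∀ (m : N) (g : G), F ((m : G) * g) = F g := fun m g => by
    simp only [hF]
    exact Fintype.sum_equiv (Equiv.mulRight m) _ _ fun n => by simp [mul_assoc]
  have hFcl : IsClassFunction G F := by
    intro g h
    simp only [hF]
    refine (Fintype.sum_bijective (conjBy N h)
      ⟨fun a b e => Subtype.ext (by simpa using congrArg Subtype.val e),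
        conjBy_surjective N h⟩ _ _ fun n => ?_).symm
    have e : ((conjBy N h n : N) : G) * (h * g * h⁻¹) = h * ((n : G) * g) * h⁻¹ := by
      simp [mul_assoc]
    rw [e, hc1, hc2]
  refine eq_zero_of_inner_irr hFcl fun β => ?_
  by_cases hβ : β ∈ quotIrr N
  · have e : classInner F (β : G → ℂ) =
        (Nat.card N : ℂ) * classInner (χ : G → ℂ) ((β : G → ℂ) * (ψ : G → ℂ)) := by
      simp only [inner_def, hF, Finset.sum_mul, Pi.mul_apply, map_mul]
      rw [Finset.sum_comm, Finset.sum_congr rfl fun (n : N) _ => show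
        ∑ x : G, (χ : G → ℂ) ((n : G) * x) * conj ((ψ : G → ℂ) ((n : G) * x)) *
            conj ((β : G → ℂ) x) =
          ∑ x : G, (χ : G → ℂ) x * (conj ((β : G → ℂ) x) * conj ((ψ : G → ℂ) x)) from
        Fintype.sum_equiv (Equiv.mulLeft (n : G)) _ _ fun x => by
          rw [Equiv.coe_mulLeft, quotIrr_mul N hβ]; ring,
        Finset.sum_const, Finset.card_univ, ← Nat.card_eq_fintype_card, nsmul_eq_mul]
      ring
    have hΦ : IsCharacter G ((β : G → ℂ) * (ψ : G → ℂ)) :=
      isCharacter_mul (isCharacter_of_irr β.2) (isCharacter_of_irr ψ.2)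
    rw [e, mul_eq_zero]
    refine Or.inr (by_contra fun hne => ?_)
    have hne' : classInner ((β : G → ℂ) * (ψ : G → ℂ)) (χ : G → ℂ) ≠ 0 := fun h =>
      hne (by rw [← inner_conj, h, map_zero])
    have h := inner_restrict_ge N.subtype hΦ (isCharacter_of_irr θ.2) {χ}
    rw [Finset.sum_singleton] at h
    have h0 : classInner (fun n : N => ((β : G → ℂ) * (ψ : G → ℂ)) n) (θ : N → ℂ) = 0 := by
      rw [show (fun n : N => ((β : G → ℂ) * (ψ : G → ℂ)) n) =
        (β : G → ℂ) 1 • fun n : N => (ψ : G → ℂ) n from funext fun n => by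
          rw [Pi.smul_apply, Pi.mul_apply, smul_eq_mul, ← mul_one ((n : N) : G),
            quotIrr_mul N hβ n 1], Chars.inner_smul_left, hψ, mul_zero]
    have hz : multNat (((β : G → ℂ) * (ψ : G → ℂ)) ∘ N.subtype) (θ : N → ℂ) = 0 := by
      have := inner_eq_multNat (isCharacter_comp N.subtype hΦ) (isCharacter_of_irr θ.2)
      exact_mod_cast this.symm.trans h0
    rw [hz, Nat.le_zero, Nat.mul_eq_zero] at h
    exact h.elim (multNat_ne_zero hΦ (isCharacter_of_irr χ.2) hne')
      (multNat_ne_zero (isCharacter_comp N.subtype (isCharacter_of_irr χ.2))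
        (isCharacter_of_irr θ.2) hχ)
  · have h0 := CharApps.sum_coset_eq_zero N β (fun h => hβ ((mem_quotIrr N).2 h))
    have h1 : (Nat.card N : ℂ) * ∑ x : G, F x * conj ((β : G → ℂ) x) = 0 := by
      calc (Nat.card N : ℂ) * ∑ x : G, F x * conj ((β : G → ℂ) x)
          = ∑ n : N, ∑ x : G, F ((n : G) * x) * conj ((β : G → ℂ) ((n : G) * x)) := by
            rw [Finset.sum_congr rfl fun n _ => hshift (fun x => F x * conj ((β : G → ℂ) x)) n,
              Finset.sum_const, Finset.card_univ, nsmul_eq_mul, Nat.card_eq_fintype_card]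
        _ = ∑ x : G, F x * conj (∑ n : N, (β : G → ℂ) ((n : G) * x)) := by
            rw [Finset.sum_comm]
            simp only [hFinv, map_sum, Finset.mul_sum]
        _ = 0 := by simp [h0]
    rw [inner_def, (mul_eq_zero.1 h1).resolve_left (card_ne_zero N), mul_zero]

/-- An element of a group of odd order conjugate to its inverse is trivial. -/
theorem eq_one_of_conj_inv {Q : Type*} [Group Q] [Finite Q] (hQ : Odd (Nat.card Q)) {q y : Q}
    (h : y * q * y⁻¹ = q⁻¹) : q = 1 := by
  obtain ⟨m, hm⟩ := hQ.of_dvd_nat (orderOf_dvd_natCard y)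
  have h2 : y ^ 2 * q * (y ^ 2)⁻¹ = q := by
    have h' : y * q⁻¹ * y⁻¹ = q := by
      rw [← conj_inv, h, inv_inv]
    calc y ^ 2 * q * (y ^ 2)⁻¹ = y * (y * q * y⁻¹) * y⁻¹ := by rw [pow_two]; group
      _ = q := by rw [h, h']
  have hc : Commute (y ^ 2) q := mul_inv_eq_iff_eq_mul.1 h2
  have hy : (y ^ 2) ^ (m + 1) = y := by
    rw [← pow_mul, show 2 * (m + 1) = orderOf y + 1 by omega, pow_succ, pow_orderOf_eq_one,
      one_mul]
  have hcy : Commute y q := hy ▸ hc.pow_left (m + 1)
  rw [hcy.eq, mul_inv_cancel_right] at h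
  obtain ⟨l, hl⟩ := hQ.of_dvd_nat (orderOf_dvd_natCard q)
  have hq2 : q ^ 2 = 1 := by rw [pow_two]; exact mul_eq_one_iff_eq_inv.2 h
  have := pow_orderOf_eq_one q
  rwa [hl, pow_succ, pow_mul, hq2, one_pow, one_mul] at this

/-- Over a subgroup of odd index, the image of `g ^ k` is the inverse of the image of `g`. -/
theorem quot_pow_eq_inv (hidx : Odd N.index) {k : ℕ}
    (hk₂ : ∀ g : G, Odd (orderOf g) → g ^ k = g⁻¹) (g : G) :
    ((g ^ k : G) : G ⧸ N) = (g : G ⧸ N)⁻¹ := by
  set a := (orderOf g).factorization 2 with ha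
  have hu : ¬ 2 ∣ orderOf g / 2 ^ a := Nat.not_dvd_ordCompl Nat.prime_two (orderOf_pos g).ne'
  have hNa : Nat.Coprime (2 ^ a) (orderOf g / 2 ^ a) :=
    Nat.Coprime.pow_left a ((Nat.prime_two.coprime_iff_not_dvd).2 hu)
  obtain ⟨t, ht1, ht2⟩ := Nat.chineseRemainder hNa 0 1
  set h : G := g ^ t with hh
  have hord : h ^ (orderOf g / 2 ^ a) = 1 := by
    rw [hh, ← pow_mul, ← orderOf_dvd_iff_pow_eq_one]
    conv_lhs => rw [← Nat.ordProj_mul_ordCompl_eq_self (orderOf g) 2, ← ha]
    exact Nat.mul_dvd_mul (Nat.modEq_zero_iff_dvd.1 ht1) dvd_rfl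
  have hodd : Odd (orderOf h) := (Nat.odd_iff.2 (by omega) :
    Odd (orderOf g / 2 ^ a)).of_dvd_nat (orderOf_dvd_of_pow_eq_one hord)
  have hgh : ((h : G) : G ⧸ N) = (g : G ⧸ N) := by
    rw [hh, QuotientGroup.mk_pow]
    conv_rhs => rw [← pow_one (g : G ⧸ N)]
    refine pow_eq_pow_iff_modEq.2 (ht2.of_dvd ?_)
    refine (Nat.Coprime.pow_right a ?_).dvd_of_dvd_mul_left
      ((orderOf_map_dvd (QuotientGroup.mk' N) g).trans
        (dvd_of_eq (Nat.ordProj_mul_ordCompl_eq_self (orderOf g) 2).symm))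
    refine Nat.coprime_comm.1 ((Nat.prime_two.coprime_iff_not_dvd).2 fun hd => ?_)
    exact hidx.not_two_dvd_nat (hd.trans ((orderOf_dvd_natCard _).trans
      (dvd_of_eq (N.index_eq_card).symm)))
  calc ((g ^ k : G) : G ⧸ N) = (h : G ⧸ N) ^ k := by rw [QuotientGroup.mk_pow, hgh]
    _ = ((h⁻¹ : G) : G ⧸ N) := by rw [← QuotientGroup.mk_pow, hk₂ h hodd]
    _ = (g : G ⧸ N)⁻¹ := by rw [QuotientGroup.mk_inv, hgh]

/-- Exactly one fixed character lies over a fixed one. -/
theorem existsUnique_fixed (hidx : Odd N.index) {k : ℕ} (hk : k.Coprime (Nat.card G))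
    (hk₂ : ∀ g : G, Odd (orderOf g) → g ^ k = g⁻¹) (θ : IrrCharacter N)
    (hθ : ∀ n : N, (θ : N → ℂ) (n ^ k) = (θ : N → ℂ) n) :
    ∃! χ : IrrCharacter G, classInner (fun n : N => (χ : G → ℂ) n) (θ : N → ℂ) ≠ 0 ∧
      ∀ g : G, (χ : G → ℂ) (g ^ k) = (χ : G → ℂ) g := by
  classical
  letI := irrFintype G
  set S := Finset.univ.filter
    (fun χ : IrrCharacter G => classInner (fun n : N => (χ : G → ℂ) n) (θ : N → ℂ) ≠ 0) with hS
  have memS : ∀ χ, χ ∈ S ↔ classInner (fun n : N => (χ : G → ℂ) n) (θ : N → ℂ) ≠ 0 := fun χ => by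
    simp [hS]
  -- the count of fixed members
  suffices hcard : (S.filter fun χ => powIrr hk χ = χ).card = 1 by
    obtain ⟨χ, hχ⟩ := Finset.card_eq_one.1 hcard
    have hmem : ∀ ψ : IrrCharacter G,
        (classInner (fun n : N => (ψ : G → ℂ) n) (θ : N → ℂ) ≠ 0 ∧
          ∀ g : G, (ψ : G → ℂ) (g ^ k) = (ψ : G → ℂ) g) ↔ ψ ∈ S.filter fun χ => powIrr hk χ = χ := by
      intro ψ
      rw [Finset.mem_filter, memS]
      refine and_congr_right fun _ => ⟨fun h => ?_, fun h g => ?_⟩
      · exact Subtype.ext (funext fun g => by rw [powIrr_apply, h])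
      · conv_rhs => rw [← h]
        rw [powIrr_apply]
    refine ⟨χ, (hmem χ).2 (by rw [hχ]; exact Finset.mem_singleton_self _), fun ψ hψ => ?_⟩
    have := (hmem ψ).1 hψ
    rwa [hχ, Finset.mem_singleton] at this
  -- the kernel vanishes outside `N`
  have hK : ∀ g : G, g ∉ N → ∑ χ ∈ S, (χ : G → ℂ) (g ^ k) * conj ((χ : G → ℂ) g) = 0 := by
    intro g hg
    set c : G → ℂ := fun y => if IsConj (y : G ⧸ N) (g : G ⧸ N) then 0 else 1 with hc
    set v : G → ℂ := fun x => c x * ∑ χ ∈ S, conj ((χ : G → ℂ) g) * (χ : G → ℂ) x with hv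
    have hccl : IsClassFunction G c := fun x h => by
      have : IsConj ((h * x * h⁻¹ : G) : G ⧸ N) (g : G ⧸ N) ↔ IsConj (x : G ⧸ N) (g : G ⧸ N) := by
        have e : IsConj (x : G ⧸ N) ((h * x * h⁻¹ : G) : G ⧸ N) :=
          isConj_iff.2 ⟨(h : G ⧸ N), by simp⟩
        exact ⟨e.trans, e.symm.trans⟩
      simp only [hc, this]
    have hcN : ∀ (n : N) (x : G), c ((n : G) * x) = c x := fun n x => by
      have : (((n : G) * x : G) : G ⧸ N) = (x : G ⧸ N) := by
        rw [QuotientGroup.mk_mul, (QuotientGroup.eq_one_iff (n : G)).2 n.2, one_mul]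
      simp only [hc, this]
    have hvcl : IsClassFunction G v := fun x h => by
      simp only [hv, hccl x h, isClassFunction_irr _ x h]
    have horth : ∀ χ ∈ S, ∀ ψ ∉ S, classInner (fun x => c x * (χ : G → ℂ) x) (ψ : G → ℂ) = 0 := by
      intro χ hχ ψ hψ
      have h0 := coset_orth N ((memS χ).1 hχ) (not_not.1 ((memS ψ).not.1 hψ))
      have h1 : (Nat.card N : ℂ) * ∑ x : G, c x * (χ : G → ℂ) x * conj ((ψ : G → ℂ) x) = 0 := by
        calc (Nat.card N : ℂ) * ∑ x : G, c x * (χ : G → ℂ) x * conj ((ψ : G → ℂ) x)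
            = ∑ n : N, ∑ x : G, c ((n : G) * x) * (χ : G → ℂ) ((n : G) * x) *
                conj ((ψ : G → ℂ) ((n : G) * x)) := by
              have hs : ∀ n : N, ∑ x : G, c ((n : G) * x) * (χ : G → ℂ) ((n : G) * x) *
                  conj ((ψ : G → ℂ) ((n : G) * x)) =
                  ∑ x : G, c x * (χ : G → ℂ) x * conj ((ψ : G → ℂ) x) := fun n =>
                Fintype.sum_equiv (Equiv.mulLeft (n : G)) _ _ fun _ => rfl
              rw [Finset.sum_congr rfl fun n _ => hs n,
                Finset.sum_const, Finset.card_univ, nsmul_eq_mul, Nat.card_eq_fintype_card]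
          _ = ∑ x : G, c x * ∑ n : N, (χ : G → ℂ) ((n : G) * x) *
                conj ((ψ : G → ℂ) ((n : G) * x)) := by
              rw [Finset.sum_comm]
              simp only [hcN, Finset.mul_sum, mul_assoc]
          _ = 0 := by simp [h0]
      rw [inner_def, (mul_eq_zero.1 h1).resolve_left (card_ne_zero N), mul_zero]
    have hv0 : v = 0 := by
      refine eq_zero_of_inner_irr hvcl fun ψ => ?_
      have hve : v = ∑ χ ∈ S, conj ((χ : G → ℂ) g) • fun x => c x * (χ : G → ℂ) x := by
        funext x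
        simp only [hv, Finset.mul_sum, Finset.sum_apply, Pi.smul_apply, smul_eq_mul]
        exact Finset.sum_congr rfl fun χ _ => by ring
      rw [hve, Chars.inner_sum_left]
      simp only [Chars.inner_smul_left]
      by_cases hψ : ψ ∈ S
      · -- the expansion of `c • ψ` at `g`
        have hexp := congrFun (classFun_eq_sum (ψ := fun x => c x * (ψ : G → ℂ) x)
          (fun x h => by simp only [hccl x h, isClassFunction_irr ψ x h])) g
        have hcg : c g = 0 := by simp only [hc]; exact if_pos (IsConj.refl _)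
        simp only [hcg, zero_mul, Finset.sum_apply, Pi.smul_apply, smul_eq_mul] at hexp
        rw [← Finset.sum_subset (Finset.subset_univ S) (fun χ _ hχ => by
          rw [horth ψ hψ χ hχ, zero_mul])] at hexp
        have hexp' := congrArg conj hexp
        rw [map_zero, map_sum] at hexp'
        rw [hexp']
        refine Finset.sum_congr rfl fun χ _ => ?_
        rw [map_mul, inner_conj, mul_comm]
        congr 1
        simp only [inner_def]
        congr 1
        refine Finset.sum_congr rfl fun x _ => ?_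
        have : conj (c x) = c x := by simp only [hc]; split_ifs <;> simp
        rw [map_mul, this]; ring
      · exact Finset.sum_eq_zero fun χ hχ => by rw [horth χ hχ ψ hψ, mul_zero]
    have hne : ¬ IsConj ((g ^ k : G) : G ⧸ N) (g : G ⧸ N) := by
      rw [quot_pow_eq_inv N hidx hk₂ g]
      intro h
      obtain ⟨y, hy⟩ := isConj_iff.1 h.symm
      refine hg ((QuotientGroup.eq_one_iff g).1 (eq_one_of_conj_inv ?_ hy))
      rwa [← Subgroup.index_eq_card]
    have := congrFun hv0 (g ^ k)
    simp only [hv, hc, if_neg hne, one_mul, Pi.zero_apply] at this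
    rw [← this]
    exact Finset.sum_congr rfl fun χ _ => mul_comm _ _
  -- the trace
  have hfix : ∀ χ ∈ S, ∀ n : N, (χ : G → ℂ) ((n : G) ^ k) = (χ : G → ℂ) n := by
    intro χ hχ n
    have hcl := fun m : N => congrFun (clifford N χ.2 θ.2 ((memS χ).1 hχ)) m
    simp only [Pi.smul_apply, Finset.sum_apply] at hcl
    rw [← SubgroupClass.coe_pow, hcl, hcl, Finset.sum_congr rfl fun φ hφ => orbit_fixed N hθ hφ n]
  have hcast : ((S.filter fun χ => powIrr hk χ = χ).card : ℂ) =
      (Nat.card G : ℂ)⁻¹ * ∑ g : G, ∑ χ ∈ S, (χ : G → ℂ) (g ^ k) * conj ((χ : G → ℂ) g) := by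
    rw [Finset.sum_comm, Finset.mul_sum, Finset.card_filter, Nat.cast_sum]
    refine Finset.sum_congr rfl fun χ _ => ?_
    have := inner_irr (powIrr hk χ) χ
    rw [inner_def] at this
    simp only [powIrr_apply] at this
    rw [this]
    split_ifs <;> simp
  -- the sum over `N`
  have hsumN : ∑ n : N, ∑ χ ∈ S, (χ : G → ℂ) n * conj ((χ : G → ℂ) n) = (Nat.card G : ℂ) := by
    set I := inertia N (θ : N → ℂ) with hI
    have ha : ∀ χ : IrrCharacter G, classInner (indFun N (θ : N → ℂ)) (χ : G → ℂ) =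
        classInner (fun n : N => (χ : G → ℂ) n) (θ : N → ℂ) := fun χ => by
      rw [Chars.inner_indFun N _ (isClassFunction_irr χ),
        CharsMore.conj_inner (isCharacter_restrict N (isCharacter_of_irr χ.2))
          (isCharacter_of_irr θ.2)]
    have hnorm : ∀ χ ∈ S, ∑ n : N, (χ : G → ℂ) n * conj ((χ : G → ℂ) n) =
        (Nat.card N : ℂ) * (I.index : ℂ) *
          (classInner (indFun N (θ : N → ℂ)) (χ : G → ℂ) *
            conj (classInner (indFun N (θ : N → ℂ)) (χ : G → ℂ))) := by
      intro χ hχ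
      have h1 : classInner (fun n : N => (χ : G → ℂ) n) (fun n : N => (χ : G → ℂ) n) =
          (I.index : ℂ) * (classInner (indFun N (θ : N → ℂ)) (χ : G → ℂ) *
            conj (classInner (indFun N (θ : N → ℂ)) (χ : G → ℂ))) := by
        rw [ha]
        conv_lhs => arg 2; rw [clifford N χ.2 θ.2 ((memS χ).1 hχ)]
        rw [Chars.inner_smul_right, Chars.inner_sum_right, Finset.sum_congr rfl (g := fun _ =>
          classInner (fun n : N => (χ : G → ℂ) n) (θ : N → ℂ)) fun φ hφ => by
            obtain ⟨x, rfl⟩ := (mem_orbitFn N).1 hφ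
            rw [inner_restrict_conjFn N (isClassFunction_irr χ)],
          Finset.sum_const, card_orbitFn, nsmul_eq_mul]
        ring
      rw [mul_assoc, ← h1, inner_def, mul_inv_cancel_left₀ (card_ne_zero N)]
    have hstab : classInner (indFun N (θ : N → ℂ)) (indFun N (θ : N → ℂ)) =
        (Nat.card N : ℂ)⁻¹ * (Nat.card I : ℂ) := by
      rw [Chars.inner_indFun N _ (isClassFunction_indFun N _), ← inner_conj,
        inner_indFun_restrict N θ.2 θ.2, map_mul, map_inv₀, map_natCast, map_natCast]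
      rfl
    have hexp := inner_eq_sum (isClassFunction_indFun N (θ : N → ℂ)) (indFun N (θ : N → ℂ))
    rw [hstab, ← Finset.sum_subset (Finset.subset_univ S) (fun χ _ hχ => by
      rw [ha, not_not.1 ((memS χ).not.1 hχ), zero_mul])] at hexp
    rw [Finset.sum_comm, Finset.sum_congr rfl hnorm, ← Finset.mul_sum, ← hexp,
      ← I.index_mul_card, Nat.cast_mul]
    field_simp [card_ne_zero N]
  have hsplit : ∑ g : G, ∑ χ ∈ S, (χ : G → ℂ) (g ^ k) * conj ((χ : G → ℂ) g) = (Nat.card G : ℂ) := by
    rw [← hsumN, ← Finset.sum_filter_add_sum_filter_not Finset.univ (fun g => g ∈ N),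
      Finset.sum_eq_zero (s := Finset.univ.filter fun g => ¬ g ∈ N)
        (fun g hg => hK g (Finset.mem_filter.1 hg).2), add_zero,
      Finset.sum_subtype (p := fun g => g ∈ N) (Finset.univ.filter fun g => g ∈ N) (by simp)
        fun g => ∑ χ ∈ S, (χ : G → ℂ) (g ^ k) * conj ((χ : G → ℂ) g)]
    exact Finset.sum_congr rfl fun n _ => Finset.sum_congr rfl fun χ hχ => by rw [hfix χ hχ]
  rw [hsplit, inv_mul_cancel₀ (card_ne_zero G)] at hcast
  exact_mod_cast hcast

end Fixed

end CfsgLib.GaloisOdd
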