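import Cfsg.Agent.Lib.CharsMore.GaloisOdd
import Cfsg.Agent.Lib.CharsMore.InducedCore
import Cfsg.Agent.Lib.Chars.Quotient
import Mathlib.Algebra.Group.Subgroup.Order
import Mathlib.GroupTheory.Nilpotent

/-!
# A fixed invariant character of a normal subgroup of odd index extends to a fixed character
-/

set_option autoImplicit false
set_option linter.style.haveILetI false
set_option linter.unusedSectionVars false

namespace CfsgLib.GaloisOdd

open Cfsg CfsgLib.Chars CfsgLib.CharsMore
open scoped ComplexConjugate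

universe u

variable {G : Type u} [Group G] [Fintype G] {N : Subgroup G} [N.Normal] [Fintype N]
  {θ : N → ℂ} {k : ℕ}

/-- `f` is an irreducible character of `K` extending `θ` and fixed by the `k`-th power map. -/
structure IsFixExt (θ : N → ℂ) (k : ℕ) (K : Subgroup G) (f : K → ℂ) : Prop where
  irr : IsIrrCharacter K f
  res : ∀ (n : N) (h : (n : G) ∈ K), f ⟨n, h⟩ = θ n
  fixed : ∀ x : K, f (x ^ k) = f x

theorem isFixExt_self (hθ : IsIrrCharacter N θ) (hfix : ∀ n : N, θ (n ^ k) = θ n) :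
    IsFixExt θ k N θ :=
  ⟨hθ, fun _ _ => rfl, hfix⟩

theorem IsFixExt.restrict (hθ : IsIrrCharacter N θ) {K L : Subgroup G} (hNL : N ≤ L) (hLK : L ≤ K)
    {f : K → ℂ} (hf : IsFixExt θ k K f) :
    IsFixExt θ k L (fun x => f (Subgroup.inclusion hLK x)) := by
  refine ⟨isIrr_of_restrict_irr (Subgroup.inclusion hNL)
    (isCharacter_comp _ (isCharacter_of_irr hf.irr)) ?_, fun n h => hf.res n _, fun x => ?_⟩
  · rw [show (fun y : N => f (Subgroup.inclusion hLK (Subgroup.inclusion hNL y))) = θ from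
      funext fun n => hf.res n _]
    exact hθ
  · rw [map_pow, hf.fixed]

variable (hidx : Odd N.index) (hk : k.Coprime (Nat.card G))
  (hk₂ : ∀ g : G, Odd (orderOf g) → g ^ k = g⁻¹) (hθ : IsIrrCharacter N θ)
  (hfix : ∀ n : N, θ (n ^ k) = θ n)

include hidx hk hk₂ hθ hfix

/-- The fixed extension is unique. -/
theorem IsFixExt.unique {K : Subgroup G} (hNK : N ≤ K) {f f' : K → ℂ} (hf : IsFixExt θ k K f)
    (hf' : IsFixExt θ k K f') : f = f' := by
  haveI := Fintype.ofFinite K
  haveI := Fintype.ofFinite (N.subgroupOf K)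
  have hirr := isIrr_pullFn N hNK hθ
  obtain ⟨χ, -, hu⟩ := existsUnique_fixed (N.subgroupOf K)
    (hidx.of_dvd_nat (Subgroup.relIndex_dvd_index_of_normal N K))
    (hk.coprime_dvd_right (Subgroup.card_subgroup_dvd_card K))
    (fun g hg => Subtype.ext (by
      rw [SubgroupClass.coe_pow, Subgroup.coe_inv]
      exact hk₂ g (by rwa [← Subgroup.orderOf_coe] at hg)))
    ⟨_, hirr⟩ (fun n => hfix (⟨((n : K) : G), Subgroup.mem_subgroupOf.1 n.2⟩ : N))
  have h : ∀ {g : K → ℂ} (hg : IsFixExt θ k K g), (⟨g, hg.irr⟩ : IrrCharacter K) = χ := by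
    intro g hg
    refine hu _ ⟨?_, hg.fixed⟩
    have e : (fun n : N.subgroupOf K => g n) = pullFn N K θ := funext fun n =>
      hg.res ⟨(n : K), Subgroup.mem_subgroupOf.1 n.2⟩ (n : K).2
    show classInner (fun n : N.subgroupOf K => g n) (pullFn N K θ) ≠ 0
    rw [e, inner_irr_of_isIrr hirr hirr, if_pos rfl]
    exact one_ne_zero
  have := (h hf).trans (h hf').symm
  exact congrArg Subtype.val this

variable (hinv : ∀ g n, θ (conjBy N g n) = θ n)
include hinv

/-- Extension over a cyclic quotient. -/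
theorem exists_step {L : Subgroup G} (hNL : N ≤ L) {η : L → ℂ} (hη : IsFixExt θ k L η) {x : G}
    (hx : ∀ l ∈ L, x * l * x⁻¹ ∈ L) : ∃ f, IsFixExt θ k (L ⊔ Subgroup.zpowers x) f := by
  classical
  have hxN : x ∈ Subgroup.normalizer (L : Set G) :=
    Subgroup.mem_normalizer_fintype (S := (L : Set G)) fun n hn => hx n hn
  set K := L ⊔ Subgroup.zpowers x with hK
  have hLK : L ≤ K := le_sup_left
  have hNK : N ≤ K := hNL.trans hLK
  have hnor : K ≤ Subgroup.normalizer (L : Set G) :=
    sup_le Subgroup.le_normalizer (Subgroup.zpowers_le.2 hxN)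
  haveI hLn : (L.subgroupOf K).Normal := ⟨fun n hn g => by
    rw [Subgroup.mem_subgroupOf] at hn ⊢
    exact (Subgroup.mem_normalizer_iff.1 (hnor g.2) _).1 hn⟩
  haveI : IsCyclic (K ⧸ L.subgroupOf K) := by
    refine ⟨⟨((⟨x, (le_sup_right : _ ≤ K) (Subgroup.mem_zpowers x)⟩ : K) : K ⧸ L.subgroupOf K),
      fun q => ?_⟩⟩
    obtain ⟨⟨a, ha⟩, rfl⟩ := QuotientGroup.mk_surjective q
    have ha' : a ∈ (↑(Subgroup.zpowers x ⊔ L) : Set G) := by rw [sup_comm]; exact ha
    rw [Subgroup.coe_mul_of_left_le_normalizer_right _ _ (Subgroup.zpowers_le.2 hxN)] at ha'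
    obtain ⟨z, hz, l, hl, rfl⟩ := Set.mem_mul.1 ha'
    obtain ⟨i, rfl⟩ := Subgroup.mem_zpowers_iff.1 hz
    refine ⟨i, ?_⟩
    show _ ^ i = _
    rw [← QuotientGroup.mk_zpow, QuotientGroup.eq, Subgroup.mem_subgroupOf]
    simpa using hl
  haveI := Fintype.ofFinite K
  haveI := Fintype.ofFinite L
  haveI := Fintype.ofFinite (L.subgroupOf K)
  have hkK : k.Coprime (Nat.card K) := hk.coprime_dvd_right (Subgroup.card_subgroup_dvd_card K)
  have hk₂K : ∀ g : K, Odd (orderOf g) → g ^ k = g⁻¹ := fun g hg => Subtype.ext (by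
      rw [SubgroupClass.coe_pow, Subgroup.coe_inv]
      exact hk₂ g (by rwa [← Subgroup.orderOf_coe] at hg))
  -- `η` is invariant
  have hηinv : ∀ g ∈ K, ∀ (l : L) (h : g * l * g⁻¹ ∈ L), η ⟨g * l * g⁻¹, h⟩ = η l := by
    intro g hg
    have hgL : ∀ l : L, g * (l : G) * g⁻¹ ∈ L := fun l =>
      (Subgroup.mem_normalizer_iff.1 (hnor hg) _).1 l.2
    let φ : L →* L :=
      { toFun := fun l => ⟨g * l * g⁻¹, hgL l⟩
        map_one' := Subtype.ext (by simp)
        map_mul' := fun a b => Subtype.ext (by simp [mul_assoc]) }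
    have hφ : Function.Surjective φ := (Finite.injective_iff_surjective).1 fun a b e =>
      Subtype.ext (by simpa [φ] using congrArg Subtype.val e)
    have hη' : IsFixExt θ k L (fun l => η (φ l)) := by
      refine ⟨isIrrCharacter_comp φ hφ hη.irr, fun n h => ?_, fun l => by rw [map_pow, hη.fixed]⟩
      show η ⟨g * (n : G) * g⁻¹, _⟩ = θ n
      rw [← hinv g n]
      exact hη.res (conjBy N g n) _
    intro l h
    exact congrFun (hη'.unique hidx hk hk₂ hθ hfix hNL hη) l
  set η' : L.subgroupOf K → ℂ := fun y => η ⟨(y : K), Subgroup.mem_subgroupOf.1 y.2⟩ with hη'def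
  have hη'irr : IsIrrCharacter (L.subgroupOf K) η' :=
    isIrrCharacter_comp (Subgroup.subgroupOfEquivOfLe hLK).toMonoidHom
      (Subgroup.subgroupOfEquivOfLe hLK).surjective hη.irr
  obtain ⟨d, ρ, hρ, hρe, hI, -⟩ := exists_invariant_rep (L.subgroupOf K) hη'irr fun g n =>
    hηinv g g.2 ⟨(n : K), Subgroup.mem_subgroupOf.1 n.2⟩ _
  haveI := hρ
  obtain ⟨R, hR⟩ := repExtends_of_cyclic (L.subgroupOf K) ρ hI
  obtain ⟨-, hRirr, hRres⟩ := isIrrExt_of_rep (L.subgroupOf K) R hR
  have hext : (fun n : L.subgroupOf K => R.character n) = η' := by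
    rw [← hρe]; exact funext hRres
  have hLidx : Odd (L.subgroupOf K).index :=
    hidx.of_dvd_nat (dvd_trans (by
      rw [← Subgroup.relIndex_mul_relIndex N L K hNL hLK]; exact dvd_mul_left _ _)
      (Subgroup.relIndex_dvd_index_of_normal N K))
  obtain ⟨χ, ⟨hover, hχfix⟩, -⟩ := existsUnique_fixed (L.subgroupOf K) hLidx hkK hk₂K ⟨_, hη'irr⟩
    fun n => hη.fixed ⟨(n : K), Subgroup.mem_subgroupOf.1 n.2⟩
  letI := irrFintype K
  obtain ⟨β, hβ, hχe⟩ := gallagher_exists (L.subgroupOf K) hRirr (hext.symm ▸ hη'irr) χ.2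
    (hext.symm ▸ hover)
  have hβ1 : (β : K → ℂ) 1 = 1 := by
    have hker := (mem_quotIrr (L.subgroupOf K)).1 hβ
    obtain ⟨f, hf, hfe⟩ := exists_deflate_irr (L.subgroupOf K) β.2 fun n hn =>
      CharApps.mem_charKer.1 (hker hn)
    rw [hfe]
    refine irr_abelian_degree (fun a b => ?_) hf
    letI := IsCyclic.commGroup (α := K ⧸ L.subgroupOf K)
    exact mul_comm a b
  refine ⟨(χ : K → ℂ), χ.2, fun n h => ?_, hχfix⟩
  have hn : (⟨n, h⟩ : K) ∈ L.subgroupOf K := Subgroup.mem_subgroupOf.2 (hNL n.2)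
  rw [hχe, Pi.mul_apply, ← mul_one (⟨n, h⟩ : K),
    quotIrr_mul (L.subgroupOf K) hβ ⟨_, hn⟩ 1, hβ1, one_mul, mul_one]
  rw [show R.character (⟨n, h⟩ : K) = η' ⟨_, hn⟩ from congrFun hext ⟨_, hn⟩]
  exact hη.res n _

/-- Extension to `E ⊔ N` for a nilpotent subgroup `E`. -/
theorem exists_fixExt_of_nilpotent (E : Subgroup G) [hE : Group.IsNilpotent E] :
    ∃ f, IsFixExt θ k (E ⊔ N) f := by
  suffices ∀ (m : ℕ) (E : Subgroup G), Nat.card E = m → Group.IsNilpotent E →
      ∃ f, IsFixExt θ k (E ⊔ N) f from this _ E rfl hE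
  intro m
  induction m using Nat.strong_induction_on with
  | _ m ih =>
    intro E hm hE
    by_cases hb : E = ⊥
    · rw [hb, bot_sup_eq]; exact ⟨θ, isFixExt_self hθ hfix⟩
    · haveI : Nontrivial E := (Subgroup.nontrivial_iff_ne_bot E).2 hb
      obtain ⟨C, hC⟩ : ∃ C : Subgroup E, IsCoatom C := by
        rcases eq_top_or_exists_le_coatom (⊥ : Subgroup E) with h | ⟨C, hC, -⟩
        · exact absurd h bot_ne_top
        · exact ⟨C, hC⟩
      haveI hCn : C.Normal :=
        Subgroup.NormalizerCondition.normal_of_coatom C Group.normalizerCondition_of_isNilpotent hC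
      obtain ⟨y, hy⟩ : ∃ y : E, y ∉ C := by
        by_contra h
        push Not at h
        exact hC.1 ((Subgroup.eq_top_iff' C).2 h)
      have htop : C ⊔ Subgroup.zpowers y = ⊤ := hC.2 _ (lt_of_le_of_ne le_sup_left fun h =>
        hy (h ▸ Subgroup.mem_sup_right (Subgroup.mem_zpowers y)))
      set E' := C.map E.subtype with hE'
      have hcard : Nat.card E' = Nat.card C :=
        Subgroup.card_map_of_injective E.subtype_injective
      have hlt : Nat.card C < m := by
        rw [← hm]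
        refine lt_of_le_of_ne (Subgroup.card_le_card_group C) fun h => hC.1 ?_
        exact Subgroup.eq_top_of_card_eq C h
      obtain ⟨η, hη⟩ := ih _ (hcard ▸ hlt) E' rfl
        (Group.nilpotent_of_surjective (C.equivMapOfInjective E.subtype E.subtype_injective).toMonoidHom
          (C.equivMapOfInjective E.subtype E.subtype_injective).surjective)
      have hEeq : E ⊔ N = (E' ⊔ N) ⊔ Subgroup.zpowers (y : G) := by
        have h1 := congrArg (Subgroup.map E.subtype) htop
        rw [Subgroup.map_sup, ← MonoidHom.range_eq_map, Subgroup.range_subtype,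
          MonoidHom.map_zpowers] at h1
        conv_lhs => rw [← h1]
        exact sup_right_comm _ _ _
      rw [hEeq]
      refine exists_step hidx hk hk₂ hθ hfix hinv le_sup_right hη fun l hl => ?_
      have h1 : E' ⊔ N ≤ (E' ⊔ N).comap (MulAut.conj (y : G)).toMonoidHom := by
        refine sup_le ?_ fun n hn => Subgroup.mem_sup_right (Subgroup.Normal.conj_mem inferInstance n hn _)
        rintro _ ⟨c, hc, rfl⟩
        exact Subgroup.mem_sup_left ⟨y * c * y⁻¹, hCn.conj_mem c hc y, by simp⟩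
      simpa using h1 hl

/-- The fixed extension of an invariant fixed character. -/
theorem exists_fixed_extension : ∃ χ : IrrCharacter G,
    (∀ n : N, (χ : G → ℂ) n = θ n) ∧ ∀ g : G, (χ : G → ℂ) (g ^ k) = (χ : G → ℂ) g := by
  classical
  have hcyc : ∀ g : G, ∃ f, IsFixExt θ k (N ⊔ Subgroup.zpowers g) f := fun g =>
    exists_step hidx hk hk₂ hθ hfix hinv le_rfl (isFixExt_self hθ hfix)
      fun n hn => Subgroup.Normal.conj_mem inferInstance n hn g
  choose η hη using hcyc
  set Φ : G → ℂ := fun g => η g ⟨g, Subgroup.mem_sup_right (Subgroup.mem_zpowers g)⟩ with hΦ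
  have key : ∀ (K : Subgroup G), N ≤ K → ∀ (f : K → ℂ), IsFixExt θ k K f →
      ∀ (g : G) (hg : g ∈ K), Φ g = f ⟨g, hg⟩ := by
    intro K hNK f hf g hg
    have hle : N ⊔ Subgroup.zpowers g ≤ K := sup_le hNK (Subgroup.zpowers_le.2 hg)
    exact congrFun ((hη g).unique hidx hk hk₂ hθ hfix le_sup_left
      (hf.restrict hθ le_sup_left hle)) _
  have hΦN : ∀ n : N, Φ n = θ n := fun n => key N le_rfl θ (isFixExt_self hθ hfix) n n.2
  have hclass : IsClassFunction G Φ := by
    intro g h
    set U := N ⊔ Subgroup.zpowers g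
    set V := N ⊔ Subgroup.zpowers (h * g * h⁻¹)
    have hle : U ≤ V.comap (MulAut.conj h).toMonoidHom := by
      refine sup_le (fun n hn => Subgroup.mem_sup_left (Subgroup.Normal.conj_mem inferInstance n hn h))
        (Subgroup.zpowers_le.2 ?_)
      exact Subgroup.mem_sup_right (Subgroup.mem_zpowers _)
    let φ : U →* V := ((MulAut.conj h).toMonoidHom.comp U.subtype).codRestrict V fun u => hle u.2
    have hle' : V ≤ U.map (MulAut.conj h).toMonoidHom := by
      refine sup_le (fun n hn => ⟨h⁻¹ * n * h, Subgroup.mem_sup_left ?_, by simp [mul_assoc]⟩)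
        (Subgroup.zpowers_le.2 ⟨g, Subgroup.mem_sup_right (Subgroup.mem_zpowers g), rfl⟩)
      simpa using Subgroup.Normal.conj_mem inferInstance n hn h⁻¹
    have hsurj : Function.Surjective φ := fun v => by
      obtain ⟨u, hu, he⟩ := hle' v.2
      exact ⟨⟨u, hu⟩, Subtype.ext he⟩
    have hf : IsFixExt θ k U (fun u => η (h * g * h⁻¹) (φ u)) := by
      refine ⟨isIrrCharacter_comp φ hsurj (hη _).irr, fun n hn => ?_,
        fun u => by rw [map_pow, (hη _).fixed]⟩
      rw [← hinv h n]
      exact (hη _).res (conjBy N h n) _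
    rw [key U le_sup_left _ hf g (Subgroup.mem_sup_right (Subgroup.mem_zpowers g))]
    rfl
  have hfixΦ : ∀ g : G, Φ (g ^ k) = Φ g := by
    intro g
    have hg : g ∈ N ⊔ Subgroup.zpowers g := Subgroup.mem_sup_right (Subgroup.mem_zpowers g)
    rw [key _ le_sup_left _ (hη g) (g ^ k) (Subgroup.pow_mem _ hg k)]
    exact (hη g).fixed ⟨g, hg⟩
  have hgen : IsGeneralizedCharacter G Φ := by
    refine isGeneralized_of_elementary hclass fun E p hp hEel => ?_
    haveI := isNilpotent_of_isElementary hp hEel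
    obtain ⟨f, hf⟩ := exists_fixExt_of_nilpotent hidx hk hk₂ hθ hfix hinv E
    refine ⟨fun e => f (Subgroup.inclusion le_sup_left e), 0,
      isCharacter_comp _ (isCharacter_of_irr hf.irr), isCharacter_zero, ?_⟩
    rw [sub_zero]
    exact funext fun e => key _ le_sup_right f hf e _
  have hnorm : classInner Φ Φ = 1 := by
    have hcoset : ∀ g : G, ∑ n : N, Φ ((n : G) * g) * conj (Φ ((n : G) * g)) = Nat.card N := by
      intro g
      set K := N ⊔ Subgroup.zpowers g
      haveI := Fintype.ofFinite K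
      haveI := Fintype.ofFinite (N.subgroupOf K)
      have hres : (fun n : N.subgroupOf K => η g n) = pullFn N K θ := funext fun n =>
        (hη g).res ⟨(n : K), Subgroup.mem_subgroupOf.1 n.2⟩ (n : K).2
      have := coset_norm_avg (N.subgroupOf K) (hη g).irr
        (hres ▸ isIrr_pullFn N le_sup_left hθ) ⟨g, Subgroup.mem_sup_right (Subgroup.mem_zpowers g)⟩
      rw [inv_mul_eq_one₀ (card_ne_zero _)] at this
      rw [← Nat.card_congr (Subgroup.subgroupOfEquivOfLe (le_sup_left : N ≤ K)).toEquiv, this]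
      refine (Fintype.sum_equiv (Subgroup.subgroupOfEquivOfLe (le_sup_left : N ≤ K)).toEquiv _ _
        fun n => ?_).symm
      have hmem : ((n : K) : G) * g ∈ K :=
        mul_mem (n : K).2 (Subgroup.mem_sup_right (Subgroup.mem_zpowers g))
      rw [show ((((Subgroup.subgroupOfEquivOfLe (le_sup_left : N ≤ K)).toEquiv n : N)) : G) =
        ((n : K) : G) from rfl, key K le_sup_left _ (hη g) _ hmem]
      rfl
    have hN0 := card_ne_zero (N : Subgroup G)
    have h1 : (Nat.card N : ℂ) * ∑ g : G, Φ g * conj (Φ g) =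
        (Nat.card N : ℂ) * (Nat.card G : ℂ) := by
      calc (Nat.card N : ℂ) * ∑ g : G, Φ g * conj (Φ g)
          = ∑ n : N, ∑ g : G, Φ ((n : G) * g) * conj (Φ ((n : G) * g)) := by
            have hs : ∀ n : N, ∑ g : G, Φ ((n : G) * g) * conj (Φ ((n : G) * g)) =
                ∑ g : G, Φ g * conj (Φ g) := fun n =>
              Fintype.sum_equiv (Equiv.mulLeft (n : G)) _ _ fun _ => rfl
            rw [Finset.sum_congr rfl fun n _ => hs n, Finset.sum_const, Finset.card_univ,
              nsmul_eq_mul, Nat.card_eq_fintype_card]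
        _ = (Nat.card N : ℂ) * (Nat.card G : ℂ) := by
            rw [Finset.sum_comm, Finset.sum_congr rfl fun g _ => hcoset g, Finset.sum_const,
              Finset.card_univ, nsmul_eq_mul, Nat.card_eq_fintype_card]
            simp only [Nat.card_eq_fintype_card]; ring
    rw [inner_def, mul_left_cancel₀ hN0 h1, inv_mul_cancel₀ (card_ne_zero G)]
  -- a generalized character of norm one and positive degree is irreducible
  letI := irrFintype G
  choose m hm using (isGeneralized_iff_inner.1 hgen).2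
  have hsum : ∑ χ : IrrCharacter G, m χ * m χ = 1 := by
    have := inner_eq_sum hclass Φ
    simp only [hm, hnorm, map_intCast] at this
    exact_mod_cast this.symm
  obtain ⟨χ, -, hχ⟩ : ∃ χ ∈ Finset.univ, m χ * m χ ≠ 0 :=
    Finset.exists_ne_zero_of_sum_ne_zero (by rw [hsum]; exact one_ne_zero)
  have hle := Finset.single_le_sum (fun ψ _ => mul_self_nonneg (m ψ)) (Finset.mem_univ χ)
  rw [hsum] at hle
  have hχ1 : m χ * m χ = 1 := le_antisymm hle
    (lt_of_le_of_ne (mul_self_nonneg _) (Ne.symm hχ))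
  have hzero : ∀ ψ, ψ ≠ χ → m ψ = 0 := by
    intro ψ hψ
    have := Finset.add_le_sum (fun ψ _ => mul_self_nonneg (m ψ)) (Finset.mem_univ ψ)
      (Finset.mem_univ χ) hψ
    rw [hsum, hχ1] at this
    exact mul_self_eq_zero.1 (le_antisymm (by linarith) (mul_self_nonneg _))
  have hΦe : Φ = (m χ : ℂ) • (χ : G → ℂ) := by
    rw [classFun_eq_sum hclass, Finset.sum_eq_single χ (fun ψ _ hψ => by
      rw [hm, hzero ψ hψ, Int.cast_zero, zero_smul]) (by simp), hm]
  have hone : m χ = 1 := by
    rcases mul_self_eq_one_iff.1 hχ1 with h | h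
    · exact h
    · exfalso
      have h1 := congrFun hΦe 1
      rw [show Φ 1 = θ 1 from hΦN 1] at h1
      obtain ⟨a, ha0, ha⟩ := irr_degree_nat hθ
      obtain ⟨b, hb0, hb⟩ := irr_degree_nat χ.2
      rw [Pi.smul_apply, smul_eq_mul, ha, hb, h] at h1
      have : (a : ℤ) = -1 * b := by exact_mod_cast h1
      omega
  rw [hone, Int.cast_one, one_smul] at hΦe
  exact ⟨χ, fun n => by rw [← hΦe]; exact hΦN n, fun g => by rw [← hΦe]; exact hfixΦ g⟩

end CfsgLib.GaloisOdd
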