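import Cfsg.Agent.Lib.CharsMore.KernelDegree
import Mathlib

/-!
# Garrison's bound on the nilpotent length
-/

set_option linter.unusedSectionVars false
set_option linter.style.haveILetI false

namespace CfsgLib.CharsMore.KernelDegree

open Cfsg

universe u

/-- The set of degrees is finite. -/
lemma finite_degrees (G : Type u) [Group G] [Finite G] :
    {d : ℕ | ∃ χ : IrrCharacter G, charDegree (χ : G → ℂ) = d}.Finite :=
  Set.finite_range fun χ : IrrCharacter G => charDegree (χ : G → ℂ)

/-- In a solvable group the largest degree is not a degree of `G ⧸ F(G)`. -/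
lemma ncard_degrees_quotient_lt (G : Type u) [Group G] [Finite G] [Group.IsSolvable G]
    [(fittingSubgroup G).Normal] (hF : fittingSubgroup G ≠ ⊤) :
    Set.ncard {d : ℕ | ∃ χ : IrrCharacter (G ⧸ fittingSubgroup G),
      charDegree (χ : G ⧸ fittingSubgroup G → ℂ) = d} <
    Set.ncard {d : ℕ | ∃ χ : IrrCharacter G, charDegree (χ : G → ℂ) = d} := by
  haveI : Nonempty (IrrCharacter G) := ⟨CharApps.oneIrr G⟩
  obtain ⟨χ, hχ⟩ := Finite.exists_max fun χ : IrrCharacter G => charDegree (χ : G → ℂ)
  refine Set.ncard_lt_ncard ⟨?_, fun hsub => ?_⟩ (finite_degrees G)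
  · rintro d ⟨ψ, rfl⟩
    exact ⟨⟨_, Chars.isIrrCharacter_inflate (fittingSubgroup G) ψ.2⟩, rfl⟩
  · obtain ⟨ψ, hψ⟩ := hsub ⟨χ, rfl⟩
    let χ' : IrrCharacter G := ⟨_, Chars.isIrrCharacter_inflate (fittingSubgroup G) ψ.2⟩
    have hd : charDegree (χ' : G → ℂ) = charDegree (χ : G → ℂ) := hψ
    have hker : fittingSubgroup G ≤ CharApps.charKer χ' := fun x hx => by
      rw [CharApps.mem_charKer]
      show (ψ : _ → ℂ) (x : G ⧸ fittingSubgroup G) = (ψ : _ → ℂ) ((1 : G) : G ⧸ fittingSubgroup G)
      rw [(QuotientGroup.eq_one_iff x).2 hx, QuotientGroup.mk_one]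
    have hcase : ¬ CharApps.charKer χ' ≤ fittingSubgroup G ∨
        (CharApps.charKer χ' = fittingSubgroup G ∧
          (∀ [(CharApps.charKer χ').Normal], Group.IsSolvable (G ⧸ CharApps.charKer χ')) ∧
          CharApps.charKer χ' ≠ ⊤) := by
      by_cases hle : CharApps.charKer χ' ≤ fittingSubgroup G
      · have he := le_antisymm hle hker
        exact Or.inr ⟨he, fun {_} => inferInstance, he ▸ hF⟩
      · exact Or.inl hle
    obtain ⟨ξ, hξ, -⟩ := broline_garrison χ' hcase
    exact absurd (hd ▸ hξ) (not_lt.2 (hχ ξ))

/-- Nilpotency of a section passes to its inverse image. -/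
lemma isNilpotent_comap_quotient {X : Type*} [Group X] {Y : Type*} [Group Y] (π : X →* Y)
    (A B : Subgroup Y) [(A.subgroupOf B).Normal] [Group.IsNilpotent (↥B ⧸ A.subgroupOf B)]
    [((A.comap π).subgroupOf (B.comap π)).Normal] :
    Group.IsNilpotent (↥(B.comap π) ⧸ (A.comap π).subgroupOf (B.comap π)) := by
  let g := QuotientGroup.map ((A.comap π).subgroupOf (B.comap π)) (A.subgroupOf B)
    ((π.comp (B.comap π).subtype).codRestrict _ fun x => x.2) fun x hx => hx
  refine Subgroup.isNilpotent_of_ker_le_center g fun q => ?_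
  induction q using QuotientGroup.induction_on with
  | _ x =>
    intro hx
    have h2 := (QuotientGroup.eq_one_iff (N := A.subgroupOf B)
      (⟨π x, x.2⟩ : B)).1 hx
    rw [(QuotientGroup.eq_one_iff x).2 h2]
    exact one_mem _

/-- Garrison: a solvable group with at most `n` degrees has nilpotent length at most `n`. -/
theorem exists_nilpotent_chain (n : ℕ) : ∀ (G : Type u) [Group G] [Finite G] [Group.IsSolvable G],
    (Subsingleton G ∨ Set.ncard {d : ℕ | ∃ χ : IrrCharacter G, charDegree (χ : G → ℂ) = d} ≤ n) →
    ∃ N : Fin (n + 1) → Subgroup G, N 0 = ⊥ ∧ N (Fin.last n) = ⊤ ∧ Monotone N ∧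
      (∀ i, (N i).Normal) ∧ ∀ i : Fin n, ∀ h : ((N i.castSucc).subgroupOf (N i.succ)).Normal,
        Group.IsNilpotent (↥(N i.succ) ⧸ (N i.castSucc).subgroupOf (N i.succ)) := by
  induction n with
  | zero =>
    intro G _ _ _ h
    have hs : Subsingleton G := by
      rcases h with h | h
      · exact h
      · exfalso
        have := (Set.ncard_pos (finite_degrees G)).2 ⟨_, CharApps.oneIrr G, rfl⟩
        omega
    exact ⟨fun _ => ⊥, rfl, Subsingleton.elim _ _, monotone_const, fun _ => inferInstance,
      fun i => i.elim0⟩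
  | succ n ih =>
    intro G _ _ _ h
    haveI hFn := Base.fittingSubgroup_normal' G
    haveI hnil := Base.isNilpotent_fittingSubgroup G
    have hQ : Subsingleton (G ⧸ fittingSubgroup G) ∨ Set.ncard {d : ℕ |
        ∃ χ : IrrCharacter (G ⧸ fittingSubgroup G), charDegree (χ : G ⧸ fittingSubgroup G → ℂ) = d} ≤ n := by
      by_cases hF : fittingSubgroup G = ⊤
      · left
        rw [hF]
        exact QuotientGroup.subsingleton_quotient_top
      · right
        rcases h with h | h
        · exact absurd (Subsingleton.elim _ _) hF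
        · have := ncard_degrees_quotient_lt G hF
          omega
    obtain ⟨N, hN0, hNn, hmono, hnorm, hnil'⟩ := ih (G ⧸ fittingSubgroup G) hQ
    set π := QuotientGroup.mk' (fittingSubgroup G)
    refine ⟨Fin.cases ⊥ fun i => (N i).comap π, rfl, ?_, ?_, ?_, ?_⟩
    · simp [← Fin.succ_last, hNn]
    · intro i j hij
      induction i using Fin.cases with
      | zero => exact bot_le
      | succ i =>
        induction j using Fin.cases with
        | zero => exact absurd hij (by simp)
        | succ j => exact Subgroup.comap_mono (hmono (Fin.succ_le_succ_iff.1 hij))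
    · intro i
      induction i using Fin.cases with
      | zero => exact Subgroup.normal_bot
      | succ i => exact (hnorm i).comap π
    · intro i
      induction i using Fin.cases with
      | zero =>
        intro hn
        have hF : (Fin.cases ⊥ (fun i => (N i).comap π) (Fin.succ (0 : Fin (n + 1))) :
            Subgroup G) = fittingSubgroup G := by
          rw [Fin.cases_succ, hN0, MonoidHom.comap_bot, QuotientGroup.ker_mk']
        haveI : Group.IsNilpotent ↥(Fin.cases ⊥ (fun i => (N i).comap π)
            (Fin.succ (0 : Fin (n + 1))) : Subgroup G) := by rw [hF]; exact hnil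
        exact Group.nilpotent_of_surjective _ (QuotientGroup.mk'_surjective _)
      | succ i =>
        intro hn
        haveI hn' : ((N i.castSucc).subgroupOf (N i.succ)).Normal := (hnorm i.castSucc).subgroupOf _
        haveI hni := hnil' i hn'
        have key := @isNilpotent_comap_quotient G _ (G ⧸ fittingSubgroup G) _ π (N i.castSucc)
          (N i.succ) hn' hni (((hnorm i.castSucc).comap π).subgroupOf _)
        exact key

end CfsgLib.CharsMore.KernelDegree
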