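import Cfsg.Agent.Lib.CharsMore.Gallagher

/-!
# Multiplication by an extension is a bijection above invariant characters
-/

set_option linter.unusedSectionVars false
set_option linter.style.haveILetI false

namespace CfsgLib.CharsMore

open Cfsg

/-- A natural Gram matrix whose quadratic form equals the sum of squares is the identity. -/
lemma gram_eq_delta {ι : Type*} [DecidableEq ι] (s : Finset ι) (d : ι → ℕ) (M : ι → ι → ℕ)
    (hd : ∀ i ∈ s, 0 < d i) (hdiag : ∀ i ∈ s, 1 ≤ M i i)
    (h : ∑ i ∈ s, d i * ∑ j ∈ s, d j * M i j = ∑ i ∈ s, d i * d i) {i j : ι} (hi : i ∈ s)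
    (hj : j ∈ s) : M i j = if i = j then 1 else 0 := by
  have hle : ∀ i ∈ s, d i * d i ≤ d i * ∑ j ∈ s, d j * M i j := fun i hi => by
    refine Nat.mul_le_mul_left _ ?_
    calc d i = d i * 1 := (mul_one _).symm
      _ ≤ d i * M i i := Nat.mul_le_mul_left _ (hdiag i hi)
      _ ≤ _ := Finset.single_le_sum (f := fun c => d c * M i c) (fun c _ => Nat.zero_le _) hi
  have heq := (Finset.sum_eq_sum_iff_of_le hle).1 h.symm i hi
  have heq' : d i = ∑ c ∈ s, d c * M i c := Nat.eq_of_mul_eq_mul_left (hd i hi) heq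
  rw [← Finset.add_sum_erase _ _ hi] at heq'
  have h1 : M i i = 1 := by
    refine le_antisymm ?_ (hdiag i hi)
    have : d i * M i i ≤ d i * 1 := by omega
    exact Nat.le_of_mul_le_mul_left this (hd i hi)
  split_ifs with hij
  · rw [← hij, h1]
  · rw [h1, mul_one] at heq'
    have h0 : ∑ c ∈ s.erase i, d c * M i c = 0 := by omega
    have := Finset.sum_eq_zero_iff.1 h0 j (Finset.mem_erase.2 ⟨Ne.symm hij, hj⟩)
    exact (Nat.mul_eq_zero.1 this).resolve_left (hd j hj).ne'

variable {G : Type*} [Group G] [Fintype G] (N : Subgroup G) [N.Normal] [Fintype N]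

theorem mul_extension_bijOn {φ : N → ℂ} (hφ : IsIrrCharacter N φ)
    (hφinv : ∀ g, conjFn N g φ = φ) {χ : G → ℂ} (hχ : IsIrrCharacter G χ)
    (hprod : IsIrrCharacter N (φ * fun n : N => χ n)) :
    Set.BijOn (fun β : G → ℂ => β * χ)
      {β : G → ℂ | IsIrrCharacter G β ∧ classInner (indFun N φ) β ≠ 0}
      {ψ : G → ℂ | IsIrrCharacter G ψ ∧
        classInner (indFun N (φ * fun n : N => χ n)) ψ ≠ 0} := by
  classical
  letI := Chars.irrFintype G
  have hχc := Chars.isCharacter_of_irr hχ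
  have hcl := Chars.isClassFunction_of_isCharacter hχc
  set θ : N → ℂ := φ * fun n : N => χ n
  have hθinv : ∀ g, conjFn N g θ = θ := fun g => by
    funext n
    show φ (conjBy N g n) * χ ((conjBy N g n : N) : G) = φ n * χ n
    rw [show φ (conjBy N g n) = φ n from congrFun (hφinv g) n]
    congr 1
    exact hcl (n : G) g
  have hindc := Chars.isCharacter_indFun N (Chars.isCharacter_of_irr hφ)
  set s := Finset.univ.filter (fun β : IrrCharacter G => classInner (indFun N φ) β ≠ 0) with hs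
  set b : IrrCharacter G → ℕ := fun β => multNat (indFun N φ) β with hb
  have hsum : indFun N φ = ∑ β ∈ s, (b β : ℂ) • (β : G → ℂ) := by
    conv_lhs => rw [char_eq_sum_multNat hindc]
    refine (Finset.sum_subset (Finset.subset_univ _) fun β _ hβ => ?_).symm
    have h0 : classInner (indFun N φ) (β : G → ℂ) = 0 := by simpa [hs] using hβ
    rw [inner_eq_multNat hindc (Chars.isCharacter_of_irr β.2), Nat.cast_eq_zero] at h0
    simp [h0]
  have hsumθ : indFun N θ = ∑ β ∈ s, (b β : ℂ) • ((β : G → ℂ) * χ) := by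
    have h := Chars.indFun_mul_restrict N φ hcl
    rw [show θ = fun n : N => χ n * φ n from funext fun n => mul_comm _ _, h, hsum]
    funext g
    simp only [Finset.sum_apply, Finset.mul_sum, Pi.smul_apply, Pi.mul_apply, smul_eq_mul]
    exact Finset.sum_congr rfl fun β _ => by ring
  have hchar : ∀ β : IrrCharacter G, IsCharacter G ((β : G → ℂ) * χ) := fun β =>
    Chars.isCharacter_mul (Chars.isCharacter_of_irr β.2) hχc
  set M : IrrCharacter G → IrrCharacter G → ℕ := fun x y =>
    multNat ((x : G → ℂ) * χ) ((y : G → ℂ) * χ) with hM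
  have hMe : ∀ x y : IrrCharacter G,
      classInner ((x : G → ℂ) * χ) ((y : G → ℂ) * χ) = (M x y : ℂ) :=
    fun x y => inner_eq_multNat (hchar x) (hchar y)
  have h1 := inner_indFun_self_of_invariant N hprod hθinv
  have h2 := inner_indFun_self_of_invariant N hφ hφinv
  rw [hsumθ, Chars.inner_sum_left] at h1
  simp only [Chars.inner_smul_left, Chars.inner_sum_right, Chars.inner_smul_right, map_natCast,
    hMe] at h1
  conv_lhs at h2 => rw [hsum, Chars.inner_sum_left]
  simp only [Chars.inner_smul_left, Chars.inner_sum_right, Chars.inner_smul_right, map_natCast,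
    Chars.inner_irr, mul_ite, mul_one, mul_zero] at h2
  have h3 : ∑ x ∈ s, ∑ y ∈ s, ((b y * (b x * M x y) : ℕ) : ℂ) =
      ∑ x ∈ s, ((b x * b x : ℕ) : ℂ) := by
    push_cast
    rw [h1, ← h2]
    refine Finset.sum_congr rfl fun x hx => ?_
    rw [Finset.sum_ite_eq, if_pos hx]
  have h4 : ∑ x ∈ s, b x * ∑ y ∈ s, b y * M x y = ∑ x ∈ s, b x * b x := by
    simp only [Finset.mul_sum]
    refine Eq.trans (Finset.sum_congr rfl fun x _ => Finset.sum_congr rfl fun y _ =>
      mul_left_comm _ _ _) ?_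
    exact_mod_cast h3
  have hbpos : ∀ x ∈ s, 0 < b x := fun x hx => Nat.pos_of_ne_zero
    (multNat_ne_zero hindc (Chars.isCharacter_of_irr x.2) (Finset.mem_filter.1 hx).2)
  have hdiag : ∀ x ∈ s, 1 ≤ M x x := fun x _ => by
    refine Nat.pos_of_ne_zero fun h0 => ?_
    have h1 := hMe x x
    rw [h0, Nat.cast_zero, Chars.inner_self_eq_zero_iff] at h1
    have := congrFun h1 1
    simp only [Pi.mul_apply, Pi.zero_apply, mul_eq_zero] at this
    exact this.elim (Chars.irr_degree_ne_zero x.2) (Chars.irr_degree_ne_zero hχ)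
  have horth : ∀ x ∈ s, ∀ y ∈ s,
      classInner ((x : G → ℂ) * χ) ((y : G → ℂ) * χ) = if x = y then 1 else 0 := fun x hx y hy => by
    rw [hMe, gram_eq_delta s b M hbpos hdiag h4 hx hy]
    split_ifs <;> simp
  have hirr : ∀ x ∈ s, IsIrrCharacter G ((x : G → ℂ) * χ) := fun x hx =>
    Chars.isIrrCharacter_iff_inner_self.2 ⟨hchar x, by rw [horth x hx x hx, if_pos rfl]⟩
  have hin : ∀ x ∈ s, classInner (indFun N θ) ((x : G → ℂ) * χ) = (b x : ℂ) := fun x hx => by
    rw [hsumθ, Chars.inner_sum_left, Finset.sum_eq_single x]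
    · rw [Chars.inner_smul_left, horth x hx x hx, if_pos rfl, mul_one]
    · intro y hy hne
      rw [Chars.inner_smul_left, horth y hy x hx, if_neg hne, mul_zero]
    · exact fun h => absurd hx h
  have hmem : ∀ {β : G → ℂ}, (hβ : IsIrrCharacter G β) → classInner (indFun N φ) β ≠ 0 →
      (⟨β, hβ⟩ : IrrCharacter G) ∈ s := fun hβ h => Finset.mem_filter.2 ⟨Finset.mem_univ _, h⟩
  refine ⟨fun β hβ => ?_, fun β hβ β' hβ' he => ?_, fun ψ hψ => ?_⟩
  · have hx := hmem hβ.1 hβ.2
    refine ⟨hirr ⟨β, hβ.1⟩ hx, ?_⟩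
    have e : classInner (indFun N θ) (β * χ) = (b ⟨β, hβ.1⟩ : ℂ) := hin ⟨β, hβ.1⟩ hx
    show classInner (indFun N θ) (β * χ) ≠ 0
    rw [e]
    exact_mod_cast (hbpos ⟨β, hβ.1⟩ hx).ne'
  · have h := horth ⟨β, hβ.1⟩ (hmem hβ.1 hβ.2) ⟨β', hβ'.1⟩ (hmem hβ'.1 hβ'.2)
    have e : β * χ = β' * χ := he
    by_contra hne
    rw [if_neg (fun h' => hne (congrArg Subtype.val h'))] at h
    change classInner (β * χ) (β' * χ) = 0 at h
    have hx := hmem hβ.1 hβ.2
    have hself := horth ⟨β, hβ.1⟩ hx ⟨β, hβ.1⟩ hx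
    rw [if_pos rfl] at hself
    change classInner (β * χ) (β * χ) = 1 at hself
    rw [← e, hself] at h
    exact one_ne_zero h
  · by_contra hno
    apply hψ.2
    rw [hsumθ, Chars.inner_sum_left]
    refine Finset.sum_eq_zero fun x hx => ?_
    rw [Chars.inner_smul_left, Chars.inner_irr_of_isIrr (hirr x hx) hψ.1, if_neg, mul_zero]
    exact fun e => hno ⟨(x : G → ℂ), ⟨x.2, (Finset.mem_filter.1 hx).2⟩, e⟩

end CfsgLib.CharsMore
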