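import Cfsg.Agent.Lib.CharsMore.CoherenceExtend
import Cfsg.Agent.Lib.CharsMore.CliffordDegree
import Cfsg.Agent.Lib.CharApps.Codegree
import Cfsg.Agent.Lib.CharApps.HeightZero
import Cfsg.Agent.Lib.Chars.Linear

/-!
# The characters induced from a normal subgroup (Peterfalvi 6.1–6.2)
-/

set_option linter.unusedSectionVars false
set_option linter.style.haveILetI false

namespace CfsgLib.CharsMore

open Cfsg
open scoped ComplexConjugate

variable {L : Type*} [Group L] [Fintype L] (K : Subgroup L) [hK : K.Normal]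

lemma conjFun_indFun (θ : K → ℂ) : conjFun (indFun K θ) = indFun K (conjFun θ) := by
  funext x
  simp only [conjFun, Chars.indFun_apply, map_mul, map_inv₀, map_natCast, map_sum]
  congr 1
  refine Finset.sum_congr rfl fun y _ => ?_
  by_cases h : y⁻¹ * x * y ∈ K
  · rw [Chars.extendByZero_of_mem K _ h, Chars.extendByZero_of_mem K _ h]
    rfl
  · rw [Chars.extendByZero_of_not_mem K _ h, Chars.extendByZero_of_not_mem K _ h, map_zero]

/-- Irreducible characters with the same induced function are conjugate. -/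
lemma indFun_eq_iff [Fintype K] {θ θ' : K → ℂ} (hθ : IsIrrCharacter K θ)
    (hθ' : IsIrrCharacter K θ') : indFun K θ' = indFun K θ ↔ θ' ∈ orbitFn K θ := by
  classical
  refine ⟨fun h => ?_, fun h => ?_⟩
  · have h1 := inner_indFun_restrict K hθ' hθ'
    rw [h, inner_indFun_restrict K hθ hθ'] at h1
    have h2 := Nat.cast_inj.1 (mul_left_cancel₀ (inv_ne_zero (Chars.card_ne_zero K)) h1)
    have h3 : Nonempty {x : L // conjFn K x θ' = θ'} := ⟨⟨1, conjFn_one K θ'⟩⟩
    have h4 : 0 < Nat.card {x : L // conjFn K x θ = θ'} := by rw [h2]; exact Nat.card_pos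
    obtain ⟨⟨x, hx⟩⟩ := (Nat.card_pos_iff.1 h4).1
    exact (mem_orbitFn K).2 ⟨x, hx⟩
  · obtain ⟨g, rfl⟩ := (mem_orbitFn K).1 h
    exact indFun_conjFn K g θ

lemma inner_indFun_self [Fintype K] {θ : K → ℂ} (hθ : IsIrrCharacter K θ) :
    classInner (indFun K θ) (indFun K θ) = (K.relIndex (inertia K θ) : ℂ) := by
  have hle : K ≤ inertia K θ :=
    le_inertia K (Chars.isClassFunction_of_isCharacter (Chars.isCharacter_of_irr hθ))
  rw [Chars.inner_indFun_right K θ (Chars.isClassFunction_indFun K θ),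
    inner_indFun_restrict K hθ hθ]
  have e : Nat.card {x : L // conjFn K x θ = θ} = Nat.card K * K.relIndex (inertia K θ) := by
    rw [← Nat.card_congr (Subgroup.subgroupOfEquivOfLe hle).toEquiv]
    exact (Subgroup.card_mul_index (K.subgroupOf (inertia K θ))).symm
  rw [e, Nat.cast_mul, inv_mul_cancel_left₀ (Chars.card_ne_zero K)]

lemma indFun_deg {θ : K → ℂ} (hθ : IsCharacter K θ) :
    indFun K θ 1 = ((K.index * charDegree θ : ℕ) : ℂ) := by
  rw [Chars.indFun_one_apply, CharApps.deg_eq_of_isChar hθ, Nat.cast_mul]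

lemma charDegree_indFun {θ : K → ℂ} (hθ : IsCharacter K θ) :
    charDegree (indFun K θ) = K.index * charDegree θ := by
  rw [charDegree, indFun_deg K hθ, Complex.natCast_re, Nat.floor_natCast]

lemma inducedIrrAbove_finite (A : Subgroup L) : (inducedIrrAbove K A).Finite := by
  haveI := Chars.irrFintype K
  refine (Set.finite_range fun θ : IrrCharacter K => indFun K (θ : K → ℂ)).subset ?_
  rintro φ ⟨θ, hθ, -, -, rfl⟩
  exact ⟨⟨θ, hθ⟩, rfl⟩

lemma inducedIrrAbove_mono {A B : Subgroup L} (h : A ≤ B) :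
    inducedIrrAbove K B ⊆ inducedIrrAbove K A := by
  rintro φ ⟨θ, hθ, h1, h2, rfl⟩
  exact ⟨θ, hθ, h1, fun a ha => h2 a (h ha), rfl⟩

lemma inducedIrrAbove_subset (A : Subgroup L) : inducedIrrAbove K A ⊆ inducedIrrAbove K ⊥ :=
  inducedIrrAbove_mono K bot_le

lemma inducedIrrAbove_conj {A : Subgroup L} {φ : L → ℂ} (h : φ ∈ inducedIrrAbove K A) :
    conjFun φ ∈ inducedIrrAbove K A := by
  obtain ⟨θ, hθ, h1, h2, rfl⟩ := h
  refine ⟨conjFun θ, Chars.isIrrCharacter_conj hθ, fun e => h1 (funext fun x => ?_),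
    fun a ha => congrArg conj (h2 a ha), conjFun_indFun K θ⟩
  have := congrFun e x
  rw [← Complex.conj_conj (θ x)]
  rw [show conj (θ x) = 1 from this, map_one]

/-- For `A` normal, `S(A)` consists of the members of `S` having `A` in the kernel. -/
lemma kernel_of_indFun {A : Subgroup L} [A.Normal] (hAK : A ≤ K) {θ : K → ℂ}
    (hθ : IsIrrCharacter K θ) :
    (∀ a : K, (a : L) ∈ A → θ a = θ 1) ↔ ∀ a ∈ A, indFun K θ a = indFun K θ 1 := by
  classical
  obtain ⟨d, hd⟩ := Chars.character_degree_nat (Chars.isCharacter_of_irr hθ)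
  have hval : ∀ a : K, indFun K θ a = (Nat.card K : ℂ)⁻¹ * ∑ x : L, θ (conjBy K x a) :=
    fun a => indFun_normal_apply K θ a
  have hone : indFun K θ 1 = (Nat.card K : ℂ)⁻¹ * ∑ _x : L, θ 1 := by
    have h := hval 1
    simpa only [OneMemClass.coe_one, map_one] using h
  refine ⟨fun h a ha => ?_, fun h a ha => ?_⟩
  · rw [show indFun K θ a = _ from hval ⟨a, hAK ha⟩, hone]
    refine congrArg _ (Finset.sum_congr rfl fun x _ => h _ ?_)
    rw [coe_conjBy]
    exact ‹A.Normal›.conj_mem a ha x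
  · have h1 := h a ha
    rw [hval, hone] at h1
    have h2 := congrArg Complex.re (mul_left_cancel₀ (inv_ne_zero (Chars.card_ne_zero K)) h1)
    rw [Complex.re_sum, Complex.re_sum] at h2
    have hle : ∀ x ∈ Finset.univ, (θ (conjBy K x a)).re ≤ (θ 1).re := fun x _ =>
      (Complex.re_le_norm _).trans (Chars.char_norm_le (Chars.isCharacter_of_irr hθ) _)
    have h3 := (Finset.sum_eq_sum_iff_of_le hle).1 h2 1 (Finset.mem_univ _)
    rw [show conjBy K 1 a = a by ext; simp] at h3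
    have h4 : ‖θ a‖ ≤ (θ a).re := by
      rw [h3]; exact Chars.char_norm_le (Chars.isCharacter_of_irr hθ) _
    have him : (θ a).im = 0 := Complex.abs_re_eq_norm.mp
      (le_antisymm (Complex.abs_re_le_norm _) (h4.trans (le_abs_self _)))
    exact Complex.ext h3 (by rw [him, hd, Complex.natCast_im])

lemma mem_inducedIrrAbove {A : Subgroup L} [A.Normal] (hAK : A ≤ K) {θ : K → ℂ}
    (hθ : IsIrrCharacter K θ) :
    indFun K θ ∈ inducedIrrAbove K A ↔
      θ ≠ (fun _ => 1) ∧ ∀ a : K, (a : L) ∈ A → θ a = θ 1 := by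
  classical
  let _ : Fintype K := Fintype.ofFinite _
  refine ⟨?_, fun h => ⟨θ, hθ, h.1, h.2, rfl⟩⟩
  rintro ⟨θ', hθ', h1, h2, e⟩
  refine ⟨fun h => h1 ?_, (kernel_of_indFun K hAK hθ).2 ?_⟩
  · obtain ⟨g, hg⟩ := (mem_orbitFn K).1 ((indFun_eq_iff K hθ hθ').1 e.symm)
    rw [← hg, h]
    rfl
  · rw [e]
    exact (kernel_of_indFun K hAK hθ').1 h2

lemma mem_inducedIrrAbove_bot {θ : K → ℂ} (hθ : IsIrrCharacter K θ) :
    indFun K θ ∈ inducedIrrAbove K ⊥ ↔ θ ≠ (fun _ => 1) := by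
  rw [mem_inducedIrrAbove K bot_le hθ, and_iff_left_iff_imp]
  intro _ a ha
  rw [show a = 1 from Subtype.ext (Subgroup.mem_bot.1 ha)]

/-- The weighted square sum of a set of induced characters. -/
lemma weight_eq [Fintype K] [Fintype (IrrCharacter K)] [DecidableEq (L → ℂ)] (S₁ : Finset (L → ℂ))
    (hS₁ : (↑S₁ : Set (L → ℂ)) ⊆ inducedIrrAbove K ⊥) (n : (L → ℂ) → ℕ)
    (hn : ∀ φ ∈ S₁, classInner φ φ = (n φ : ℂ)) :
    ∑ φ ∈ S₁, (charDegree φ : ℝ) ^ 2 / (n φ : ℝ) =
      (K.index : ℝ) * ∑ θ ∈ Finset.univ.filter (fun θ : IrrCharacter K => indFun K (θ : K → ℂ) ∈ S₁),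
        (charDegree (θ : K → ℂ) : ℝ) ^ 2 := by
  classical
  rw [← Finset.sum_fiberwise_of_maps_to (g := fun θ : IrrCharacter K => indFun K (θ : K → ℂ))
    (fun θ hθ => (Finset.mem_filter.1 hθ).2), Finset.mul_sum]
  refine Finset.sum_congr rfl fun φ hφ => ?_
  obtain ⟨θ₀, hθ₀, -, -, e⟩ := hS₁ hφ
  set F := (Finset.univ.filter (fun θ : IrrCharacter K => indFun K (θ : K → ℂ) ∈ S₁)).filter
    (fun θ : IrrCharacter K => indFun K (θ : K → ℂ) = φ)
  have hF : F.map ⟨Subtype.val, Subtype.val_injective⟩ = orbitFn K θ₀ := by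
    ext ψ
    simp only [Finset.mem_map, F, Finset.mem_filter, Finset.mem_univ, true_and,
      Function.Embedding.coeFn_mk]
    refine ⟨?_, fun h => ⟨⟨ψ, orbitFn_irr K hθ₀ h⟩, ⟨?_, ?_⟩, rfl⟩⟩
    · rintro ⟨θ, ⟨-, h⟩, rfl⟩
      exact (indFun_eq_iff K hθ₀ θ.2).1 (h.trans e)
    · rw [show indFun K ((⟨ψ, orbitFn_irr K hθ₀ h⟩ : IrrCharacter K) : K → ℂ) = φ from
        ((indFun_eq_iff K hθ₀ (orbitFn_irr K hθ₀ h)).2 h).trans e.symm]
      exact hφ
    · exact ((indFun_eq_iff K hθ₀ (orbitFn_irr K hθ₀ h)).2 h).trans e.symm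
  have hdeg : ∀ θ ∈ F, (charDegree (θ : K → ℂ) : ℝ) ^ 2 = (charDegree θ₀ : ℝ) ^ 2 := by
    intro θ hθ
    have hm : (θ : K → ℂ) ∈ orbitFn K θ₀ := by
      rw [← hF]; exact Finset.mem_map_of_mem _ hθ
    obtain ⟨g, hg⟩ := (mem_orbitFn K).1 hm
    rw [← hg, charDegree, charDegree]
    simp [conjFn]
  rw [Finset.sum_congr rfl hdeg, Finset.sum_const, ← Finset.card_map ⟨Subtype.val,
    Subtype.val_injective⟩, hF, card_orbitFn, e, charDegree_indFun K (Chars.isCharacter_of_irr hθ₀)]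
  have hn' : n (indFun K θ₀) = K.relIndex (inertia K θ₀) := by
    have := inner_indFun_self K hθ₀
    rw [← e, hn φ hφ, e] at this
    exact_mod_cast this
  have hle : K ≤ inertia K θ₀ :=
    le_inertia K (Chars.isClassFunction_of_isCharacter (Chars.isCharacter_of_irr hθ₀))
  have hne : (n (indFun K θ₀) : ℝ) ≠ 0 := by
    rw [hn']; exact_mod_cast Subgroup.index_ne_zero_of_finite
  rw [nsmul_eq_mul, Nat.cast_mul, div_eq_iff hne, hn']
  have hidx : ((K.relIndex (inertia K θ₀) : ℝ) * ((inertia K θ₀).index : ℝ)) = (K.index : ℝ) := by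
    exact_mod_cast Subgroup.relIndex_mul_index hle
  linear_combination (-(K.index : ℝ) * (charDegree θ₀ : ℝ) ^ 2) * hidx

/-- Degree square sum over the nonprincipal characters with `A` in the kernel. -/
lemma sum_sq_above [Fintype K] [Fintype (IrrCharacter K)] (A : Subgroup L) [A.Normal]
    [DecidablePred fun θ : IrrCharacter K =>
      A.subgroupOf K ≤ CharApps.charKer θ ∧ θ ≠ CharApps.oneIrr K] :
    ((A.relIndex K : ℝ) - 1) = ∑ θ ∈ Finset.univ.filter (fun θ : IrrCharacter K =>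
        (A.subgroupOf K ≤ CharApps.charKer θ) ∧ θ ≠ CharApps.oneIrr K),
      (charDegree (θ : K → ℂ) : ℝ) ^ 2 := by
  classical
  have h := CharApps.sum_filter_degree_sq (G := K) (A.subgroupOf K)
  have h1 : ((A.relIndex K : ℕ) : ℝ) = ∑ θ ∈ Finset.univ.filter (fun θ : IrrCharacter K =>
      A.subgroupOf K ≤ CharApps.charKer θ), (charDegree (θ : K → ℂ) : ℝ) ^ 2 := by
    rw [show A.relIndex K = (A.subgroupOf K).index from rfl, ← h]
    push_cast
    rfl
  have hone : (charDegree (CharApps.oneIrr K : K → ℂ) : ℝ) ^ 2 = 1 := by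
    simp [charDegree, CharApps.oneIrr]
  have hmem : CharApps.oneIrr K ∈ Finset.univ.filter (fun θ : IrrCharacter K =>
      A.subgroupOf K ≤ CharApps.charKer θ) :=
    Finset.mem_filter.2 ⟨Finset.mem_univ _, fun _ _ => rfl⟩
  rw [h1, ← Finset.add_sum_erase _ _ hmem, hone, add_sub_cancel_left]
  refine Finset.sum_congr ?_ fun _ _ => rfl
  ext θ
  simp [and_comm]

/-- A linear nonprincipal character with `A` in its kernel. -/
lemma exists_linear_above [Finite K] (hsolv : Group.IsSolvable K) {A : Subgroup L} [A.Normal]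
    (hAK : A < K) : ∃ θ : K → ℂ, IsIrrCharacter K θ ∧ θ ≠ (fun _ => 1) ∧
      (∀ a : K, (a : L) ∈ A → θ a = θ 1) ∧ θ 1 = 1 := by
  haveI : Nontrivial (K ⧸ A.subgroupOf K) := by
    rw [← Finite.one_lt_card_iff_nontrivial, ← Subgroup.index_eq_card]
    rcases Nat.lt_or_ge 1 (A.subgroupOf K).index with h | h
    · exact h
    · exfalso
      have : (A.subgroupOf K).index = 1 := by
        have := (A.subgroupOf K).index_ne_zero_of_finite
        omega
      rw [Subgroup.index_eq_one, Subgroup.subgroupOf_eq_top] at this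
      exact hAK.not_ge this
  haveI : Group.IsSolvable (K ⧸ A.subgroupOf K) := by
    haveI := hsolv
    exact Group.isSolvable_of_surjective (QuotientGroup.mk'_surjective (A.subgroupOf K))
  obtain ⟨lam, hlam⟩ := Chars.exists_nontrivial_hom (G := K ⧸ A.subgroupOf K)
    (Group.IsSolvable.commutator_lt_top_of_nontrivial _).ne
  refine ⟨fun g => ((lam.comp (QuotientGroup.mk' (A.subgroupOf K)) g : ℂˣ) : ℂ),
    Chars.isIrrCharacter_linear _, fun e => hlam ?_, fun a ha => ?_, by simp⟩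
  · refine MonoidHom.ext fun q => Units.ext ?_
    obtain ⟨g, rfl⟩ := QuotientGroup.mk_surjective q
    exact congrFun e g
  · simp [(QuotientGroup.eq_one_iff a).2 (show a ∈ A.subgroupOf K from ha)]

lemma inducedIrrAbove_nonempty (hsolv : Group.IsSolvable K) {A : Subgroup L} [A.Normal]
    (hAK : A < K) : (inducedIrrAbove K A).Nonempty := by
  obtain ⟨θ, h1, h2, h3, -⟩ := exists_linear_above K hsolv hAK
  exact ⟨indFun K θ, θ, h1, h2, h3, rfl⟩

variable {K}

section System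

variable {G : Type*} [Group G] [Fintype G] {τ : (L → ℂ) → (G → ℂ)}

lemma coh_system_mono {S T : Set (L → ℂ)} {R : (L → ℂ) → Finset (G → ℂ)}
    (hS : IsCoherenceSystem S τ R) (hT : T ⊆ S) (hne : T.Nonempty)
    (hc : ∀ φ ∈ T, conjFun φ ∈ T) : IsCoherenceSystem T τ R where
  nonempty := hne
  isCharacter χ h := hS.isCharacter χ (hT h)
  conj_mem := hc
  conj_ne χ h := hS.conj_ne χ (hT h)
  isometry := isometry_mono (zspanOn_mono hT _) hS.isometry
  map_one α h := hS.map_one α (zspanOn_mono hT _ h)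
  orthogonal χ h φ h' := hS.orthogonal χ (hT h) φ (hT h')
  orthonormal χ h := hS.orthonormal χ (hT h)
  virtual χ h := hS.virtual χ (hT h)
  sum_eq χ h := hS.sum_eq χ (hT h)
  disjoint χ h φ h' := hS.disjoint χ (hT h) φ (hT h')

lemma isCoherent_mono {S T U : Set (L → ℂ)} {R : (L → ℂ) → Finset (G → ℂ)}
    (hS : IsCoherenceSystem S τ R) (hU : IsCoherent U {1}ᶜ τ) (hTU : T ⊆ U) (hTS : T ⊆ S)
    (hne : T.Nonempty) (hc : ∀ φ ∈ T, conjFun φ ∈ T) : IsCoherent T {1}ᶜ τ := by
  obtain ⟨-, τ₁, hτ₁, hag⟩ := hU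
  obtain ⟨χ, hχ⟩ := hne
  refine ⟨⟨χ - conjFun χ, ?_, sub_ne_zero.2 (hS.conj_ne χ (hTS hχ)).symm⟩, τ₁,
    isometry_mono (zspan_mono hTU) hτ₁, fun α hα => hag α (zspanOn_mono hTU _ hα)⟩
  refine mem_zspanOn_one.2 ⟨Submodule.sub_mem _ (Submodule.subset_span hχ)
    (Submodule.subset_span (hc χ hχ)), ?_⟩
  exact (mem_zspanOn_one.1 (coh_sub_conj_mem hS (hTS hχ))).2

/-- The engine of Peterfalvi 6.2. -/
theorem coherent_of_degree_bound (hsolv : Group.IsSolvable K) {R : (L → ℂ) → Finset (G → ℂ)}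
    (hS : IsCoherenceSystem (inducedIrrAbove K ⊥) τ R) {A B : Subgroup L} [A.Normal] [B.Normal]
    (hAK : A < K) (hBK : B < K) (hA : IsCoherent (inducedIrrAbove K A) {1}ᶜ τ)
    (hbound : ∀ θ : K → ℂ, IsIrrCharacter K θ → (∀ a : K, (a : L) ∈ B → θ a = θ 1) →
      2 * (K.index : ℝ) * charDegree θ < (A.relIndex K : ℝ) - 1) :
    IsCoherent (inducedIrrAbove K B) {1}ᶜ τ := by
  classical
  let _ : Fintype K := Fintype.ofFinite _
  haveI := Chars.irrFintype K
  set S : Set (L → ℂ) := inducedIrrAbove K ⊥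
  have hd : ∀ φ ∈ S, φ 1 = (charDegree φ : ℂ) := fun φ h =>
    CharApps.deg_eq_of_isChar (hS.isCharacter φ h)
  let n : (L → ℂ) → ℕ := fun φ => ⌊(classInner φ φ).re⌋₊
  have hn : ∀ φ ∈ S, classInner φ φ = (n φ : ℂ) := fun φ h => by
    obtain ⟨m, -, hm⟩ := coh_norm_nat hS h
    simp [n, hm]
  obtain ⟨θ₁, hθ₁, hθ₁ne, hθ₁A, hθ₁one⟩ := exists_linear_above K hsolv hAK
  have hd₁ : charDegree (indFun K θ₁) = K.index := by
    rw [charDegree_indFun K (Chars.isCharacter_of_irr hθ₁),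
      show charDegree θ₁ = 1 by simp [charDegree, hθ₁one], mul_one]
  set SA := (inducedIrrAbove_finite K A).toFinset with hSA
  have hSAm : ∀ φ, φ ∈ SA ↔ φ ∈ inducedIrrAbove K A := fun φ => Set.Finite.mem_toFinset _
  have key : ∀ T : Finset (L → ℂ), (↑T : Set (L → ℂ)) ⊆ inducedIrrAbove K B →
      ∃ S₁ : Finset (L → ℂ), SA ⊆ S₁ ∧ T ⊆ S₁ ∧ (↑S₁ : Set (L → ℂ)) ⊆ S ∧
        (∀ φ ∈ S₁, conjFun φ ∈ S₁) ∧ IsCoherent (↑S₁ : Set (L → ℂ)) {1}ᶜ τ := by
    intro T
    induction T using Finset.induction_on with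
    | empty =>
      intro _
      refine ⟨SA, subset_rfl, Finset.empty_subset _, fun φ h => ?_, fun φ h => ?_, ?_⟩
      · exact inducedIrrAbove_subset K A ((hSAm φ).1 h)
      · exact (hSAm _).2 (inducedIrrAbove_conj K ((hSAm φ).1 h))
      · rwa [hSA, Set.Finite.coe_toFinset]
    | insert χ T _ ih =>
      intro hT
      rw [Finset.coe_insert, Set.insert_subset_iff] at hT
      obtain ⟨S₁, h1, h2, h3, h4, h5⟩ := ih hT.2
      by_cases hχ₁ : χ ∈ S₁
      · exact ⟨S₁, h1, Finset.insert_subset hχ₁ h2, h3, h4, h5⟩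
      have hχS : χ ∈ S := inducedIrrAbove_subset K B hT.1
      have hχ₂ : conjFun χ ∉ S₁ := fun h => hχ₁ (by simpa [conjFun_conjFun] using h4 _ h)
      have hψ : indFun K θ₁ ∈ S₁ := h1 ((hSAm _).2 ⟨θ₁, hθ₁, hθ₁ne, hθ₁A, rfl⟩)
      obtain ⟨θ, hθ, -, hθB, hχe⟩ := id hT.1
      have hdχ : charDegree χ = K.index * charDegree θ := by
        rw [hχe, charDegree_indFun K (Chars.isCharacter_of_irr hθ)]
      have hW : ((A.relIndex K : ℝ) - 1) * K.index ≤
          ∑ φ ∈ S₁, (charDegree φ : ℝ) ^ 2 / (n φ : ℝ) := by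
        rw [weight_eq K S₁ h3 n (fun φ h => hn φ (h3 h)), sum_sq_above K A, mul_comm]
        refine mul_le_mul_of_nonneg_left
          (Finset.sum_le_sum_of_subset_of_nonneg (fun θ' hθ' => ?_) fun _ _ _ => by positivity)
          (Nat.cast_nonneg _)
        rw [Finset.mem_filter] at hθ' ⊢
        refine ⟨Finset.mem_univ _, h1 ((hSAm _).2
          ⟨θ', θ'.2, fun e => hθ'.2.2 (Subtype.ext e), fun a ha => ?_, rfl⟩)⟩
        exact hθ'.2.1 (show a ∈ A.subgroupOf K from ha)
      have hlt : (2 * charDegree χ * charDegree (indFun K θ₁) : ℝ) <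
          ∑ φ ∈ S₁, (charDegree φ : ℝ) ^ 2 / (n φ : ℝ) := by
        refine lt_of_lt_of_le ?_ hW
        rw [hd₁, hdχ, Nat.cast_mul]
        have hpos : (0 : ℝ) < K.index := by
          exact_mod_cast Nat.pos_of_ne_zero Subgroup.index_ne_zero_of_finite
        nlinarith [mul_lt_mul_of_pos_right (hbound θ hθ hθB) hpos]
      have hcoh := coherent_extend hS S₁ h3 h4 h5 χ hχS hχ₁ hχ₂ (indFun K θ₁) hψ charDegree n hd hn
        (by rw [hd₁, hdχ]; exact Dvd.intro _ rfl) hlt
      refine ⟨insert χ (insert (conjFun χ) S₁), ?_, ?_, ?_, ?_, ?_⟩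
      · exact fun φ h => Finset.mem_insert_of_mem (Finset.mem_insert_of_mem (h1 h))
      · exact Finset.insert_subset (Finset.mem_insert_self _ _)
          (fun φ h => Finset.mem_insert_of_mem (Finset.mem_insert_of_mem (h2 h)))
      · intro φ h
        simp only [Finset.coe_insert, Set.mem_insert_iff, Finset.mem_coe] at h
        rcases h with rfl | rfl | h
        · exact hχS
        · exact hS.conj_mem χ hχS
        · exact h3 h
      · intro φ h
        simp only [Finset.mem_insert] at h ⊢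
        rcases h with rfl | rfl | h
        · exact Or.inr (Or.inl rfl)
        · exact Or.inl (conjFun_conjFun _)
        · exact Or.inr (Or.inr (h4 φ h))
      · have e : (↑(insert χ (insert (conjFun χ) S₁)) : Set (L → ℂ)) =
            ↑S₁ ∪ {χ, conjFun χ} := by
          ext φ; simp; try tauto
        rw [e]
        exact hcoh
  obtain ⟨S₁, -, hB, h3, -, h5⟩ := key (inducedIrrAbove_finite K B).toFinset (by simp)
  refine isCoherent_mono hS h5 (fun φ h => hB ((Set.Finite.mem_toFinset _).2 h))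
    (inducedIrrAbove_subset K B) (inducedIrrAbove_nonempty K hsolv hBK)
    fun φ h => inducedIrrAbove_conj K h

end System

end CfsgLib.CharsMore
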