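import Cfsg.Agent.Lib.CharsMore.CliffordDegree
import Cfsg.Agent.Lib.CharsMore.Gallagher
import Cfsg.Agent.Lib.CharsMore.ItoDegree
import Cfsg.Agent.Lib.CharApps.Inflation

/-!
# Induction from a normal subgroup with abelian inertia quotient
-/

set_option linter.unusedSectionVars false
set_option linter.style.haveILetI false

namespace CfsgLib.CharsMore

open Cfsg
open scoped ComplexConjugate

variable {G : Type*} [Group G] [Fintype G]

lemma quotIrr_linear (N : Subgroup G) [N.Normal] [Fintype N] [Fintype (IrrCharacter G)]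
    (hab : ∀ x y : G, x * y * x⁻¹ * y⁻¹ ∈ N) {β : IrrCharacter G} (hβ : β ∈ quotIrr N) :
    (β : G → ℂ) 1 = 1 := by
  obtain ⟨ψ, rfl⟩ := CharApps.exists_inflate N β ((mem_quotIrr N).1 hβ)
  rw [CharApps.inflate_apply, QuotientGroup.mk_one]
  refine Chars.irr_abelian_degree (fun a b => ?_) ψ.2
  obtain ⟨x, rfl⟩ := QuotientGroup.mk_surjective a
  obtain ⟨y, rfl⟩ := QuotientGroup.mk_surjective b
  rw [← mul_inv_eq_one, ← QuotientGroup.mk_mul, ← QuotientGroup.mk_mul, ← QuotientGroup.mk_inv,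
    ← QuotientGroup.mk_mul, QuotientGroup.eq_one_iff]
  have := hab x y
  rwa [mul_inv_rev, ← mul_assoc]

/-- An invariant character with abelian quotient. -/
theorem indFun_invariant_abelian (N : Subgroup G) [N.Normal] [Fintype N] (θ : N → ℂ)
    (hθ : IsIrrCharacter N θ) (hinv : ∀ g n, θ (conjBy N g n) = θ n)
    (hab : ∀ x y : G, x * y * x⁻¹ * y⁻¹ ∈ N) :
    ∃ (e : ℕ) (C : Finset (G → ℂ)), 0 < e ∧ (∀ χ ∈ C, IsIrrCharacter G χ) ∧
      indFun N θ = (e : ℂ) • ∑ χ ∈ C, χ ∧ e ^ 2 * C.card = N.index ∧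
      (∀ χ ∈ C, χ 1 = (e : ℂ) * θ 1 ∧ ∀ n : N, χ n = (e : ℂ) * θ n) ∧
      ((∃ χ : G → ℂ, IsIrrCharacter G χ ∧ ∀ n : N, χ n = θ n) → e = 1) := by
  classical
  letI := Chars.irrFintype G
  obtain ⟨ψ₀, hψ₀⟩ := exists_over N hθ
  obtain ⟨e, he⟩ := Chars.inner_char_nat
    (Chars.isCharacter_restrict N (Chars.isCharacter_of_irr ψ₀.2)) (Chars.isCharacter_of_irr hθ)
  have he0 : 0 < e := Nat.pos_of_ne_zero fun h => hψ₀ (by rw [he, h, Nat.cast_zero])
  have hres : ∀ n : N, (ψ₀ : G → ℂ) n = (e : ℂ) * θ n := fun n => by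
    rw [restrict_eq_mul_of_invariant N ψ₀.2 hθ hinv hψ₀ n, he]
  have hIe : (e : ℂ) • indFun N θ = ∑ β ∈ quotIrr N, (β : G → ℂ) * (ψ₀ : G → ℂ) := by
    rw [← Chars.indFun_smul, show (e : ℂ) • θ = fun n : N => (ψ₀ : G → ℂ) n from
      funext fun n => (hres n).symm, indFun_restrict_eq_sum N ψ₀.2]
    exact Finset.sum_congr rfl fun β hβ => by rw [quotIrr_linear N hab hβ, one_smul]
  set C : Finset (G → ℂ) := (quotIrr N).image fun β : IrrCharacter G => (β : G → ℂ) * (ψ₀ : G → ℂ)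
    with hC
  have hCirr : ∀ χ ∈ C, IsIrrCharacter G χ := by
    intro χ hχ
    obtain ⟨β, hβ, rfl⟩ := Finset.mem_image.1 hχ
    obtain ⟨lam, hlam⟩ := Chars.exists_hom_of_degree_one (Chars.isCharacter_of_irr β.2)
      (quotIrr_linear N hab hβ)
    have := Chars.isIrrCharacter_linear_mul lam ψ₀.2
    convert this using 1
    funext g
    rw [Pi.mul_apply, hlam]
  have hCres : ∀ χ ∈ C, ∀ n : N, χ n = (e : ℂ) * θ n := by
    intro χ hχ n
    obtain ⟨β, hβ, rfl⟩ := Finset.mem_image.1 hχ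
    have h1 := quotIrr_mul N hβ n 1
    rw [mul_one, quotIrr_linear N hab hβ] at h1
    rw [Pi.mul_apply, h1, one_mul, hres]
  have hmult : ∀ χ ∈ C, classInner (indFun N θ) χ = (e : ℂ) := fun χ hχ => by
    rw [Chars.inner_indFun N θ (Chars.isClassFunction_of_isCharacter
      (Chars.isCharacter_of_irr (hCirr χ hχ))),
      show (fun n : N => χ n) = (e : ℂ) • θ from funext (hCres χ hχ),
      Chars.inner_smul_right, map_natCast, Chars.inner_irr_self ⟨θ, hθ⟩, mul_one]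
  have hout : ∀ χ : IrrCharacter G, (χ : G → ℂ) ∉ C → classInner (indFun N θ) χ = 0 := by
    intro χ hχ
    have h := congrArg (fun f => classInner f (χ : G → ℂ)) hIe
    simp only [Chars.inner_smul_left, Chars.inner_sum_left] at h
    have hz : ∀ β ∈ quotIrr N, classInner ((β : G → ℂ) * (ψ₀ : G → ℂ)) (χ : G → ℂ) = 0 := by
      intro β hβ
      have hm : (β : G → ℂ) * (ψ₀ : G → ℂ) ∈ C := Finset.mem_image.2 ⟨β, hβ, rfl⟩
      rw [Chars.inner_irr_of_isIrr (hCirr _ hm) χ.2, if_neg]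
      intro heq
      exact hχ (by rw [← heq]; exact hm)
    rw [Finset.sum_eq_zero hz] at h
    exact (mul_eq_zero.1 h).resolve_left (Nat.cast_ne_zero.2 he0.ne')
  have hsum : indFun N θ = (e : ℂ) • ∑ χ ∈ C, χ := by
    refine Chars.ext_inner_irr (Chars.isClassFunction_indFun N θ)
      (Chars.isClassFunction_smul _ (Chars.isClassFunction_sum _ fun χ hχ =>
        Chars.isClassFunction_of_isCharacter (Chars.isCharacter_of_irr (hCirr χ hχ)))) fun χ => ?_
    rw [Chars.inner_smul_left, Chars.inner_sum_left, Finset.sum_congr rfl fun φ hφ =>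
      Chars.inner_irr_of_isIrr (hCirr φ hφ) χ.2, Finset.sum_ite_eq']
    split_ifs with h
    · rw [hmult _ h, mul_one]
    · rw [hout χ h, mul_zero]
  have hd : ∀ χ ∈ C, χ 1 = (e : ℂ) * θ 1 := fun χ hχ => by simpa using hCres χ hχ 1
  refine ⟨e, C, he0, hCirr, hsum, ?_, fun χ hχ => ⟨hd χ hχ, hCres χ hχ⟩, fun ⟨χ, hχ, hχn⟩ => ?_⟩
  · have h := congrFun hsum 1
    rw [Chars.indFun_one_apply, Pi.smul_apply, Finset.sum_apply, Finset.sum_congr rfl hd,
      Finset.sum_const, smul_eq_mul, nsmul_eq_mul] at h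
    have h2 : ((e ^ 2 * C.card : ℕ) : ℂ) * θ 1 = (N.index : ℂ) * θ 1 := by
      rw [h]; push_cast; ring
    exact_mod_cast mul_right_cancel₀ (Chars.irr_degree_ne_zero hθ) h2
  · by_cases hmem : χ ∈ C
    · have h := hd χ hmem
      have h1 : χ 1 = θ 1 := by simpa using hχn 1
      rw [h1] at h
      have : ((e : ℂ) - 1) * θ 1 = 0 := by linear_combination -h
      exact_mod_cast sub_eq_zero.1 ((mul_eq_zero.1 this).resolve_right (Chars.irr_degree_ne_zero hθ))
    · have h := hout ⟨χ, hχ⟩ hmem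
      rw [Chars.inner_indFun N θ (Chars.isClassFunction_of_isCharacter
        (Chars.isCharacter_of_irr hχ)), show (fun n : N => χ n) = θ from funext hχn,
        Chars.inner_irr_self ⟨θ, hθ⟩] at h
      exact absurd h one_ne_zero

/-- The general form, through the inertia group. -/
theorem indFun_inertia_abelian (H : Subgroup G) [H.Normal] [Fintype H] (θ : H → ℂ) (hθ : IsIrrCharacter H θ)
    (T : Subgroup G) [Fintype T] (hT : T = inertia H θ)
    (hab : ∀ x ∈ T, ∀ y ∈ T, x * y * x⁻¹ * y⁻¹ ∈ H) :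
    ∃ (e : ℕ) (C : Finset (G → ℂ)), 0 < e ∧ (∀ χ ∈ C, IsIrrCharacter G χ) ∧
      indFun H θ = (e : ℂ) • ∑ χ ∈ C, χ ∧ e ^ 2 * C.card = H.relIndex T ∧
      (∀ χ ∈ C, χ 1 = (T.index : ℂ) * e * θ 1) ∧
      ((∃ ψ : T → ℂ, IsIrrCharacter T ψ ∧ ∀ x : H.subgroupOf T, ψ x = pullFn H T θ x) → e = 1) := by
  classical
  have hHT : H ≤ T := hT ▸ le_inertia H
    (Chars.isClassFunction_of_isCharacter (Chars.isCharacter_of_irr hθ))
  let _ : Fintype (H.subgroupOf T) := Fintype.ofFinite _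
  have hpi : IsIrrCharacter (H.subgroupOf T) (pullFn H T θ) := isIrr_pullFn H hHT hθ
  obtain ⟨e, C, he, hC, hsum, hidx, hd, hext⟩ :=
    indFun_invariant_abelian (H.subgroupOf T) (pullFn H T θ) hpi
      (fun g n => by
        have hg : (g : G) ∈ inertia H θ := hT ▸ g.2
        exact ((mem_inertia H).1 hg ⟨(n : T), Subgroup.mem_subgroupOf.1 n.2⟩))
      (fun x y => Subgroup.mem_subgroupOf.2 (hab x x.2 y y.2))
  have hover : ∀ ψ ∈ C, classInner (fun n : H => ψ ⟨n, hHT n.2⟩) θ ≠ 0 := by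
    intro ψ hψ
    have e1 : (fun n : H => ψ ⟨n, hHT n.2⟩) = (e : ℂ) • θ := funext fun n =>
      (hd ψ hψ).2 ⟨⟨n, hHT n.2⟩, Subgroup.mem_subgroupOf.2 n.2⟩
    rw [e1, Chars.inner_smul_left, Chars.inner_irr_self ⟨θ, hθ⟩, mul_one]
    exact Nat.cast_ne_zero.2 he.ne'
  have hinj : Set.InjOn (fun ψ : T → ℂ => indFun T ψ) ↑C := fun a ha b hb h =>
    indFun_injective_of_over H hHT hθ hT (hC a ha) (hover a ha) (hC b hb) (hover b hb) h
  refine ⟨e, C.image fun ψ => indFun T ψ, he, fun χ hχ => ?_, ?_, ?_, fun χ hχ => ?_, hext⟩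
  · obtain ⟨ψ, hψ, rfl⟩ := Finset.mem_image.1 hχ
    exact isIrr_indFun_of_over H hHT hθ hT (hC ψ hψ) (hover ψ hψ)
  · rw [← Chars.indFun_trans H T hHT θ]
    show indFun T (indFun (H.subgroupOf T) (pullFn H T θ)) = _
    rw [hsum, Chars.indFun_smul, Chars.indFun_sum, Finset.sum_image hinj]
  · rw [Finset.card_image_of_injOn hinj]
    exact hidx
  · obtain ⟨ψ, hψ, rfl⟩ := Finset.mem_image.1 hχ
    rw [Chars.indFun_one_apply, (hd ψ hψ).1, mul_assoc]
    rfl

end CfsgLib.CharsMore
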