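import Cfsg.Agent.Lib.CharsMore.ItoDegree
import Cfsg.Agent.Lib.Chars.Permutation
import Cfsg.Agent.Lib.Chars.Linear
import Cfsg.Agent.Lib.Chars.Quotient
import Cfsg.Agent.Lib.BlockOrth.Height
import Cfsg.Agent.Lib.PLocal.PSolvable
import Cfsg.Agent.Lib.FgsB.Basic

/-!
# Itô's theorem on character degrees prime to `p`, for `p`-solvable groups
-/

set_option linter.unusedSectionVars false
set_option linter.style.haveILetI false

namespace CfsgLib.CharsMore

open Cfsg
open scoped commutatorElement

universe u

variable {G : Type u} [Group G] [Fintype G] {p : ℕ} [hp : Fact p.Prime]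

/-- Degrees prime to `p` pass to normal subgroups. -/
theorem not_dvd_degree_normal (N : Subgroup G) [N.Normal]
    (h : ∀ χ : IrrCharacter G, ¬ p ∣ charDegree (χ : G → ℂ)) (θ : IrrCharacter N) :
    ¬ p ∣ charDegree (θ : N → ℂ) := by
  haveI : Fintype N := Fintype.ofFinite N
  obtain ⟨χ, hχ⟩ := exists_over N θ.2
  obtain ⟨k, -, hk, -⟩ := degree_quotient N χ.2 θ.2 hχ
  rw [BlockOrth.irr_apply_one, BlockOrth.irr_apply_one, ← Nat.cast_mul, Nat.cast_inj] at hk
  intro hd
  exact h χ (hk ▸ hd.mul_left k)

/-- Degrees prime to `p` pass to quotients. -/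
theorem not_dvd_degree_quotient (N : Subgroup G) [N.Normal]
    (h : ∀ χ : IrrCharacter G, ¬ p ∣ charDegree (χ : G → ℂ)) (θ : IrrCharacter (G ⧸ N)) :
    ¬ p ∣ charDegree (θ : G ⧸ N → ℂ) := by
  have h1 := h ((Chars.quotientIrrEquiv N θ).1)
  exact fun hd => h1 hd

/-- A group with only linear characters of degree prime to `p` and order a power of `p` commutes. -/
theorem comm_of_isPGroup_of_not_dvd (hP : IsPGroup p G)
    (h : ∀ χ : IrrCharacter G, ¬ p ∣ charDegree (χ : G → ℂ)) (a b : G) : a * b = b * a := by
  rw [← commutatorElement_eq_one_iff_mul_comm]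
  refine Chars.eq_one_of_forall_irr fun χ => ?_
  have h1 : (χ : G → ℂ) 1 = 1 := by
    obtain ⟨d, -, hd, hdvd⟩ := Chars.irr_degree_dvd_card χ.2
    obtain ⟨n, hn⟩ := hP.exists_card_eq
    rw [hn] at hdvd
    obtain ⟨j, -, rfl⟩ := (Nat.dvd_prime_pow hp.out).1 hdvd
    have e : charDegree (χ : G → ℂ) = p ^ j := by
      have := BlockOrth.irr_apply_one χ
      rw [hd] at this
      exact_mod_cast this.symm
    have hj : j = 0 := by
      by_contra hj
      exact h χ (e ▸ dvd_pow_self p hj)
    rw [hd, hj]; simp
  obtain ⟨lam, hlam⟩ := (Chars.linearEquiv G).surjective ⟨χ, h1⟩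
  have e : (χ : G → ℂ) = fun g => (lam g : ℂ) := by
    rw [← Chars.linearEquiv_apply, hlam]
  rw [e]
  simp only [commutatorElement_def, map_mul, map_inv, map_one, Units.val_one]
  rw [mul_comm (lam a) (lam b)]
  simp

/-- A `p`-group acting on a normal `p'`-subgroup and fixing all its characters centralizes it. -/
theorem le_centralizer_of_fix_irr (N P : Subgroup G) [N.Normal] (hP : IsPGroup p P)
    (hN : ¬ p ∣ Nat.card N)
    (hfix : ∀ θ : IrrCharacter N, P ≤ inertia N (θ : N → ℂ)) :
    N ≤ Subgroup.centralizer (P : Set G) := by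
  classical
  haveI : Fintype N := Fintype.ofFinite N
  -- every element of `P` preserves every class of `N`
  have hcl : ∀ u ∈ P, ∀ n : N, IsConj n (MulAut.conjNormal u n) := by
    intro u hu n
    set α : N ≃* N := MulAut.conjNormal u with hα
    have hall : ∀ χ : IrrCharacter N, (χ : N → ℂ) ∘ α = (χ : N → ℂ) := fun χ => by
      funext x
      have h1 := (mem_inertia N).1 (hfix χ hu) x
      rw [← h1]
      show (χ : N → ℂ) (α x) = _
      congr 1
    have h1 := Chars.card_fixed_classes_eq_card_fixed_irr α
    have h2 := Chars.card_fixed_classes_eq_card_fixed_irr (MulEquiv.refl N)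
    have e1 : Nat.card {χ : IrrCharacter N // (χ : N → ℂ) ∘ α = (χ : N → ℂ)} =
        Nat.card {χ : IrrCharacter N // (χ : N → ℂ) ∘ (MulEquiv.refl N) = (χ : N → ℂ)} :=
      Nat.card_congr (Equiv.subtypeEquivRight fun χ => ⟨fun _ => rfl, fun _ => hall χ⟩)
    rw [e1, ← h2] at h1
    have e2 : Nat.card {C : ConjClasses N // ConjClasses.map (MulEquiv.refl N).toMonoidHom C = C} =
        Nat.card (ConjClasses N) :=
      Nat.card_congr (Equiv.subtypeUnivEquiv fun C => by
        induction C using Quotient.inductionOn with | _ x => rfl)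
    rw [e2] at h1
    have h3 : ConjClasses.map α.toMonoidHom (ConjClasses.mk n) = ConjClasses.mk n := by
      by_contra hne
      have hlt : Nat.card {C : ConjClasses N // ConjClasses.map α.toMonoidHom C = C} <
          Nat.card (ConjClasses N) := by
        rw [Nat.card_eq_fintype_card, Nat.card_eq_fintype_card]
        exact Fintype.card_subtype_lt (x := ConjClasses.mk n) hne
      omega
    exact (ConjClasses.mk_eq_mk_iff_isConj.1 h3).symm
  -- every element is conjugate into the fixed points
  set H : Subgroup N := (Subgroup.centralizer (P : Set G)).subgroupOf N with hH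
  have key : ∀ n : N, ∃ g : N, g⁻¹ * n * g ∈ H := by
    intro n
    let A := {x : N // IsConj n x}
    letI : MulAction P A :=
      { smul := fun w x => ⟨MulAut.conjNormal (w : G) x.1, (x.2.trans (hcl _ w.2 x.1))⟩
        one_smul := fun x => Subtype.ext (by
          show MulAut.conjNormal ((1 : P) : G) x.1 = x.1
          simp)
        mul_smul := fun w z x => Subtype.ext (by
          show MulAut.conjNormal ((w * z : P) : G) x.1 = _
          rw [Subgroup.coe_mul, map_mul]; rfl) }
    have hA : ¬ p ∣ Nat.card A := by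
      intro hd
      apply hN
      refine hd.trans ?_
      have e : Nat.card A = Nat.card (MulAction.orbit (ConjAct N) n) := by
        refine Nat.card_congr (Equiv.subtypeEquivRight fun x => ?_)
        rw [ConjAct.orbit_eq_carrier_conjClasses, ConjClasses.mem_carrier_iff_mk_eq,
          ConjClasses.mk_eq_mk_iff_isConj]
        exact ⟨fun h => h.symm, fun h => h.symm⟩
      rw [e, Nat.card_coe_set_eq, ← MulAction.index_stabilizer]
      exact (Subgroup.index_dvd_card _).trans (Nat.card_congr ConjAct.ofConjAct.toEquiv).dvd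
    obtain ⟨⟨x, hx⟩, hfx⟩ := hP.nonempty_fixed_point_of_prime_not_dvd_card A hA
    obtain ⟨c, hc⟩ := isConj_iff.1 hx
    refine ⟨c⁻¹, ?_⟩
    rw [inv_inv, hc]
    intro w hw
    have h1 : ((MulAut.conjNormal w x : N) : G) = (x : G) :=
      congrArg (fun y : A => ((y.1 : N) : G)) (hfx ⟨w, hw⟩)
    rw [MulAut.conjNormal_apply] at h1
    show w * (x : G) = (x : G) * w
    exact mul_inv_eq_iff_eq_mul.1 h1
  exact Subgroup.subgroupOf_eq_top.1 (FgsB.eq_top_of_forall_exists_conj_mem key)

/-- Itô: in a `p`-solvable group with degrees prime to `p` the Sylow `p`-subgroup is normal. -/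
theorem sylow_normal_of_not_dvd : ∀ (n : ℕ) (G : Type u) [Group G] [Fintype G],
    Nat.card G ≤ n → IsPSolvable p G → (∀ χ : IrrCharacter G, ¬ p ∣ charDegree (χ : G → ℂ)) →
      ∀ P : Sylow p G, (P : Subgroup G).Normal := by
  intro n
  induction n with
  | zero => exact fun G _ _ h _ _ _ => absurd h (by have := Nat.card_pos (α := G); omega)
  | succ n ih =>
  intro G _ _ hn hps h P
  classical
  rcases subsingleton_or_nontrivial G with hs | hs
  · exact ⟨fun a ha g => by rwa [Subsingleton.elim (g * a * g⁻¹) a]⟩
  obtain ⟨N, hNn, hne, hN⟩ := Coprime.pSolvable_step hps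
  haveI := hNn
  haveI : Fintype (G ⧸ N) := Fintype.ofFinite _
  have hlt : Nat.card (G ⧸ N) ≤ n := by
    have h1 := N.card_mul_index
    rw [← Subgroup.index_eq_card]
    have h2 : 1 < Nat.card N := (Subgroup.one_lt_card_iff_ne_bot _).2 hne
    have h3 : N.index < Nat.card G := by
      rw [← h1]; exact lt_mul_of_one_lt_left (Nat.pos_of_ne_zero Subgroup.index_ne_zero_of_finite) h2
    omega
  have hK0 := ih (G ⧸ N) hlt (PLocal.isPSolvable_quotient hps N)
    (not_dvd_degree_quotient N h) (P.mapSurjective (QuotientGroup.mk'_surjective N))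
  have hK : ((P : Subgroup G) ⊔ N).Normal := by
    have h1 := hK0.comap (QuotientGroup.mk' N)
    rwa [Sylow.coe_mapSurjective, Subgroup.comap_map_eq, QuotientGroup.ker_mk'] at h1
  rcases hN with hN | hN
  · rwa [sup_eq_left.2 (hN.le_sylow_of_normal P)] at hK
  · haveI := hK
    set K := (P : Subgroup G) ⊔ N with hKdef
    by_cases hKt : K = ⊤
    · -- `G = N P`
      haveI : Fintype N := Fintype.ofFinite N
      have hNp : ¬ p ∣ Nat.card N := (Nat.Prime.coprime_iff_not_dvd hp.out).1 hN.symm
      have hidx : ∃ j, N.index = p ^ j := by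
        have h1 : ((P : Subgroup G).map (QuotientGroup.mk' N)) = ⊤ := by
          have := congrArg (Subgroup.map (QuotientGroup.mk' N)) hKt
          rwa [hKdef, Subgroup.map_sup, QuotientGroup.map_mk'_self, sup_bot_eq,
            Subgroup.map_top_of_surjective _ (QuotientGroup.mk'_surjective N)] at this
        have h2 : IsPGroup p (G ⧸ N) := by
          have h3 := P.2.map (QuotientGroup.mk' N)
          rw [h1] at h3
          exact h3.of_equiv Subgroup.topEquiv
        obtain ⟨j, hj⟩ := h2.exists_card_eq
        exact ⟨j, by rw [Subgroup.index_eq_card, hj]⟩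
      have hinv : ∀ θ : IrrCharacter N, inertia N (θ : N → ℂ) = ⊤ := by
        intro θ
        obtain ⟨χ, hχ⟩ := exists_over N θ.2
        have h1 := clifford_degree N χ.2 θ.2 hχ
        rw [inner_eq_multNat (Chars.isCharacter_restrict N (Chars.isCharacter_of_irr χ.2))
          (Chars.isCharacter_of_irr θ.2), BlockOrth.irr_apply_one, BlockOrth.irr_apply_one,
          ← Nat.cast_mul, ← Nat.cast_mul, Nat.cast_inj] at h1
        obtain ⟨j, hj⟩ := hidx
        have h2 : (inertia N (θ : N → ℂ)).index ∣ p ^ j :=
          hj ▸ Subgroup.index_dvd_of_le (le_inertia N (Chars.isClassFunction_irr θ))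
        obtain ⟨i, -, hi⟩ := (Nat.dvd_prime_pow hp.out).1 h2
        rw [← Subgroup.index_eq_one, hi]
        by_contra hne'
        refine h χ (h1 ▸ ?_)
        rw [hi]
        refine ((dvd_pow_self p ?_).mul_left _).mul_right _
        intro h0; exact hne' (by rw [h0, pow_zero])
      have hc := le_centralizer_of_fix_irr N (P : Subgroup G) P.2 hNp
        fun θ => (hinv θ).symm ▸ le_top
      rw [← Subgroup.normalizer_eq_top_iff, eq_top_iff, ← hKt, hKdef, sup_le_iff]
      exact ⟨Subgroup.le_normalizer, hc.trans (Subgroup.centralizer_le_normalizer _)⟩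
    · have hlt' : Nat.card K ≤ n := by
        have h1 := K.card_mul_index
        have h2 : 1 < K.index := by
          have := Subgroup.index_ne_zero_of_finite (H := K)
          have : K.index ≠ 1 := fun e => hKt (Subgroup.index_eq_one.1 e)
          omega
        have h3 : Nat.card K < Nat.card G := by
          rw [← h1]; exact lt_mul_of_one_lt_right Nat.card_pos h2
        omega
      haveI : Fintype K := Fintype.ofFinite K
      have hPK : (P : Subgroup G) ≤ K := le_sup_left
      haveI : ((P.subtype hPK : Sylow p K) : Subgroup K).Normal :=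
        ih K hlt' (PLocal.isPSolvable_subgroup hps K) (not_dvd_degree_normal K h) _
      haveI := Sylow.characteristic_of_normal (P.subtype hPK) inferInstance
      have h1 := ConjAct.normal_of_characteristic_of_normal (H := K)
        (K := ((P.subtype hPK : Sylow p K) : Subgroup K))
      rwa [Sylow.coe_subtype, Subgroup.map_subgroupOf_eq_of_le hPK] at h1

end CfsgLib.CharsMore
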