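import Cfsg.Agent.Lib.CharsMore.BlichfeldtHall
import Cfsg.Agent.Lib.LinearGroups.SmallUnitary
import Mathlib

/-!
# Jordan's theorem with an explicit bound
-/

set_option linter.unusedSectionVars false
set_option linter.style.haveILetI false

namespace CfsgLib.CharsMore

open Cfsg

universe u

/-- Jordan: an abelian normal subgroup of bounded index. -/
theorem jordan_bound {G : Type u} [Group G] [Fintype G] {n : ℕ}
    (ρ : Representation ℂ G (Fin n → ℂ)) (hρ : Function.Injective ρ) :
    ∃ A : Subgroup G, A.Normal ∧ (∀ x ∈ A, ∀ y ∈ A, x * y = y * x) ∧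
      A.index ≤ n.factorial * 12 ^ (n * (Nat.primeCounting (n + 1) + 1)) := by
  classical
  obtain ⟨A, hAn, hAc, hA⟩ := LinearGroups.exists_abelian_normal_index_le ρ hρ
  refine ⟨A, hAn, hAc, ?_⟩
  have hfaith : ∀ g : G, ρ.character g = ρ.character 1 → g = 1 := fun g hg => hρ (by
    rw [map_one]; exact (Chars.ker_iff ρ rfl g).1 hg)
  have hχ : IsCharacter G ρ.character := ⟨n, ρ, rfl⟩
  have hA' : ∀ H : Subgroup G, (∀ x ∈ H, ∀ y ∈ H, x * y = y * x) → A.relIndex H ≤ 12 ^ n :=
    fun H hH => hA H hH
  -- the contribution of each prime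
  have hprime : ∀ p : ℕ, p.Prime →
      p ^ A.index.factorization p ≤ p ^ n.factorial.factorization p * 12 ^ n := by
    intro p hp
    haveI := Fact.mk hp
    obtain ⟨P, hPle, hP, hPi⟩ := Blichfeldt.exists_full p (⊤ : Subgroup G)
    rw [Subgroup.relIndex_top_right] at hPi
    let _ := Fintype.ofFinite P
    haveI := hP.isNilpotent
    obtain ⟨B, hB, hBn⟩ := exists_abelian_index_dvd_factorial (G := P)
      (Chars.isCharacter_restrict P hχ) (fun g hg => Subtype.ext (hfaith _ hg))
      (n := n) (by simp)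
    set B' := B.map P.subtype with hB'
    have hB'le : B' ≤ P := Subgroup.map_subtype_le _
    have h1 : A.index ∣ A.relIndex P * P.index := by
      refine (Subgroup.index_dvd_of_le (inf_le_left : A ⊓ P ≤ A)).trans (dvd_of_eq ?_)
      rw [← Subgroup.relIndex_mul_index (inf_le_right : A ⊓ P ≤ P), Subgroup.inf_relIndex_right]
    have h2 : p ^ A.index.factorization p ∣ A.relIndex P :=
      (((hp.coprime_iff_not_dvd.2 hPi).pow_left _)).dvd_of_dvd_mul_right
        ((Nat.ordProj_dvd _ _).trans h1)
    have h4 : B'.relIndex P = B.index := by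
      rw [Subgroup.relIndex, Subgroup.subgroupOf, hB',
        Subgroup.comap_map_eq_self_of_injective P.subtype_injective]
    have h5 : A.relIndex P ≤ A.relIndex B' * B'.relIndex P := by
      rw [← Subgroup.inf_relIndex_right A B', Subgroup.relIndex_mul_relIndex _ _ _ inf_le_right
        hB'le]
      exact Nat.le_of_dvd (Nat.pos_of_ne_zero Subgroup.index_ne_zero_of_finite)
        (Subgroup.relIndex_dvd_of_le_left P inf_le_left)
    have h6 : A.relIndex B' ≤ 12 ^ n := hA' B' (by
      rintro _ ⟨x, hx, rfl⟩ _ ⟨y, hy, rfl⟩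
      exact congrArg P.subtype (hB x hx y hy))
    have h7 : B.index ≤ p ^ n.factorial.factorization p := by
      obtain ⟨i, hi⟩ := IsPGroup.iff_card.1 hP
      obtain ⟨j, -, hj⟩ := (Nat.dvd_prime_pow hp).1 (hi ▸ Subgroup.index_dvd_card B)
      rw [hj] at hBn ⊢
      exact Nat.pow_le_pow_right hp.pos
        ((hp.pow_dvd_iff_le_factorization n.factorial_ne_zero).1 hBn)
    calc p ^ A.index.factorization p ≤ A.relIndex P :=
          Nat.le_of_dvd (Nat.pos_of_ne_zero Subgroup.index_ne_zero_of_finite) h2
      _ ≤ A.relIndex B' * B'.relIndex P := h5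
      _ ≤ 12 ^ n * p ^ n.factorial.factorization p := by
          rw [h4]; exact Nat.mul_le_mul h6 h7
      _ = _ := mul_comm _ _
  obtain ⟨H, hH, -, hHi⟩ := Blichfeldt.exists_abelian_hall (Nat.card G) G le_rfl ρ hρ
  set S := (Finset.range (n + 2)).filter Nat.Prime with hS
  set s := ∏ p ∈ S, p ^ A.index.factorization p with hs
  have hs0 : s ≠ 0 := Finset.prod_ne_zero_iff.2 fun p hp =>
    pow_ne_zero _ (Finset.mem_filter.1 hp).2.ne_zero
  have hr0 : A.relIndex H ≠ 0 := Subgroup.index_ne_zero_of_finite
  have hdvd : A.index ∣ s * A.relIndex H := by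
    refine (Nat.dvd_iff_prime_pow_dvd_dvd _ _).2 fun p k hp hk => ?_
    have hk' : k ≤ A.index.factorization p :=
      (hp.pow_dvd_iff_le_factorization Subgroup.index_ne_zero_of_finite).1 hk
    by_cases hmem : p ∈ S
    · exact ((pow_dvd_pow p hk').trans (Finset.dvd_prod_of_mem
        (fun p => p ^ A.index.factorization p) hmem)).trans (dvd_mul_right _ _)
    · have h1 : A.index ∣ A.relIndex H * H.index := by
        refine (Subgroup.index_dvd_of_le (inf_le_left : A ⊓ H ≤ A)).trans (dvd_of_eq ?_)
        rw [← Subgroup.relIndex_mul_index (inf_le_right : A ⊓ H ≤ H), Subgroup.inf_relIndex_right]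
      have h2 : ¬ p ∣ H.index := fun hd => hmem (Finset.mem_filter.2
        ⟨Finset.mem_range.2 (by have := hHi p hp hd; omega), hp⟩)
      exact (((hp.coprime_iff_not_dvd.2 h2).pow_left k).dvd_of_dvd_mul_right
        (hk.trans h1)).trans (dvd_mul_left _ _)
  have hSfac : ∏ p ∈ S, p ^ n.factorial.factorization p ≤ n.factorial := by
    refine le_of_eq ((Finset.prod_subset (s₁ := n.factorial.primeFactors) ?_ ?_).symm.trans
      (Nat.prod_factorization_pow_eq_self n.factorial_ne_zero))
    · intro p hp
      have hp' := Nat.prime_of_mem_primeFactors hp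
      exact Finset.mem_filter.2 ⟨Finset.mem_range.2
        (by have := hp'.dvd_factorial.1 (Nat.dvd_of_mem_primeFactors hp); omega), hp'⟩
    · intro p _ hp
      rw [Finsupp.notMem_support_iff.1 (by rwa [Nat.support_factorization]), pow_zero]
  have hscard : S.card = Nat.primeCounting (n + 1) := by
    rw [hS, Nat.primeCounting, Nat.primeCounting', ← Nat.count_eq_card_filter_range]
  calc A.index ≤ s * A.relIndex H :=
        Nat.le_of_dvd (Nat.pos_of_ne_zero (mul_ne_zero hs0 hr0)) hdvd
    _ ≤ (∏ p ∈ S, p ^ n.factorial.factorization p * 12 ^ n) * 12 ^ n :=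
        Nat.mul_le_mul (Finset.prod_le_prod' fun p hp => hprime p (Finset.mem_filter.1 hp).2)
          (hA' H hH)
    _ = (∏ p ∈ S, p ^ n.factorial.factorization p) * 12 ^ (n * (S.card + 1)) := by
        rw [Finset.prod_mul_distrib, Finset.prod_const, ← pow_mul, mul_assoc, ← pow_add]
        ring_nf
    _ ≤ _ := by
        rw [hscard]
        exact Nat.mul_le_mul_right _ hSfac

end CfsgLib.CharsMore
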