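import Cfsg.Agent.Lib.CharsMore.AlgIntSpan
import Cfsg.Agent.Lib.Chars.Integral
import Cfsg.Agent.Lib.Chars.Char
import Cfsg.Agent.Lib.Base.Transport
import Mathlib

/-!
# Brauer's normal complement theorem
-/

set_option linter.style.haveILetI false
set_option linter.unusedSectionVars false

namespace CfsgLib.CharsMore

open Cfsg
open scoped ComplexConjugate

universe u

variable {G : Type u} [Group G]

/-- Parts of coprime orders are unique. -/
lemma parts_unique [Fintype G] {M N : ℕ} (hc : Nat.Coprime M N) {u v u' v' : G} (h : Commute u v)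
    (hu : orderOf u ∣ M) (hv : orderOf v ∣ N) (h' : Commute u' v') (hu' : orderOf u' ∣ M)
    (hv' : orderOf v' ∣ N) (e : u * v = u' * v') : u = u' ∧ v = v' := by
  obtain ⟨hmu, hmv⟩ := parts_mem_zpowers h ((hc.coprime_dvd_left hu).coprime_dvd_right hv)
  obtain ⟨hmu', hmv'⟩ := parts_mem_zpowers h' ((hc.coprime_dvd_left hu').coprime_dvd_right hv')
  rw [← e] at hmu' hmv'
  have comm : ∀ {a b : G}, a ∈ Subgroup.zpowers (u * v) → b ∈ Subgroup.zpowers (u * v) →
      Commute a b := fun {a b} ha hb => by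
    obtain ⟨i, rfl⟩ := Subgroup.mem_zpowers_iff.1 ha
    obtain ⟨j, rfl⟩ := Subgroup.mem_zpowers_iff.1 hb
    exact Commute.zpow_zpow (Commute.refl _) _ _
  have hz : u'⁻¹ * u = v' * v⁻¹ := by
    rw [eq_mul_inv_iff_mul_eq, mul_assoc, e, inv_mul_cancel_left]
  have h1 : orderOf (u'⁻¹ * u) ∣ M := by
    refine ((comm hmu' hmu).inv_left.orderOf_mul_dvd_lcm).trans ?_
    rw [orderOf_inv]
    exact Nat.lcm_dvd hu' hu
  have h2 : orderOf (u'⁻¹ * u) ∣ N := by
    rw [hz]
    refine ((comm hmv' hmv).inv_right.orderOf_mul_dvd_lcm).trans ?_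
    rw [orderOf_inv]
    exact Nat.lcm_dvd hv' hv
  have h0 := orderOf_eq_one_iff.1 (Nat.eq_one_of_dvd_coprimes hc h1 h2)
  exact ⟨(inv_mul_eq_one.1 h0).symm, (mul_inv_eq_one.1 (hz ▸ h0)).symm⟩

/-- A cyclic group is elementary for every prime not dividing its order. -/
lemma exists_isElementary_zpowers [Finite G] (x : G) :
    ∃ p : ℕ, p.Prime ∧ IsElementary p (Subgroup.zpowers x) := by
  obtain ⟨p, hp, hpp⟩ := Nat.exists_infinite_primes (orderOf x + 1)
  refine ⟨p, hpp, ⟨x, Subgroup.mem_zpowers x⟩, ?_, ?_, 0, ?_⟩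
  · refine Subgroup.mem_center_iff.2 fun z => Subtype.ext ?_
    obtain ⟨i, hi⟩ := Subgroup.mem_zpowers_iff.1 z.2
    show (z : G) * x = x * z
    rw [← hi]
    exact (Commute.zpow_self x i).eq
  · rw [Subgroup.orderOf_mk]
    refine ((hpp.coprime_iff_not_dvd).2 fun h => ?_).symm
    have := Nat.le_of_dvd (orderOf_pos x) h
    omega
  · rw [pow_zero, Subgroup.index_eq_one, eq_top_iff]
    intro z _
    obtain ⟨i, hi⟩ := Subgroup.mem_zpowers_iff.1 z.2
    exact Subgroup.mem_zpowers_iff.2 ⟨i, Subtype.ext (by simpa using hi)⟩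

section Setting

variable [Fintype G] {H : Subgroup G} (hHall : Nat.Coprime (Nat.card H) H.index)
  (helem : ∀ (E : Subgroup G) (p : ℕ), p.Prime → IsElementary p E →
    Nat.card E ∣ Nat.card H → ∃ g : G, E.map (MulAut.conj g).toMonoidHom ≤ H)
  (hfus : ∀ x ∈ H, ∀ y ∈ H, IsConj x y → ∃ h ∈ H, h * x * h⁻¹ = y)

include hHall helem hfus

/-- The centraliser in the Hall subgroup is a Hall subgroup of the centraliser. -/
lemma coprime_index_centralizer {s : G} (hs : s ∈ H) :
    Nat.Coprime (H.relIndex (Subgroup.centralizer ({s} : Set G))) (Nat.card H) := by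
  classical
  refine Nat.coprime_of_dvd fun q hq hqi hqH => ?_
  haveI := Fact.mk hq
  set C := Subgroup.centralizer ({s} : Set G)
  obtain ⟨Q⟩ : Nonempty (Sylow q C) := inferInstance
  set Q' := (Q : Subgroup C).map C.subtype
  have hQC : Q' ≤ C := Subgroup.map_subtype_le _
  have hqN : ¬ q ∣ H.index := fun h => hq.ne_one (Nat.eq_one_of_dvd_coprimes hHall hqH h)
  obtain ⟨k, m, hm, hkm⟩ :=
    Nat.exists_eq_pow_mul_and_not_dvd (n := orderOf s) (orderOf_pos s).ne' q hq.ne_one
  obtain ⟨sq, s', hse, hcomm, hsq, hs'⟩ := exists_parts (x := s) (m := q ^ k) (n := m)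
    (hkm ▸ dvd_rfl) ((hq.coprime_iff_not_dvd.2 hm).pow_left k)
  obtain ⟨hmsq, hms'⟩ := parts_mem_zpowers hcomm
    ((((hq.coprime_iff_not_dvd.2 hm).pow_left k).coprime_dvd_left hsq).coprime_dvd_right hs')
  rw [← hse] at hmsq hms'
  have hsC : s ∈ C := Subgroup.mem_centralizer_singleton_iff.2 rfl
  have hzC : Subgroup.zpowers s ≤ C := Subgroup.zpowers_le.2 hsC
  have hcent : ∀ a ∈ Subgroup.zpowers s, ∀ c ∈ C, Commute a c := fun a ha c hc => by
    obtain ⟨i, rfl⟩ := Subgroup.mem_zpowers_iff.1 ha
    exact (Commute.zpow_left (Subgroup.mem_centralizer_singleton_iff.1 hc).symm i)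
  -- the `q`-part of `s` lies in the Sylow subgroup
  have hsqQ : sq ∈ Q' := by
    set z : C := ⟨sq, hzC hmsq⟩
    haveI : (Subgroup.zpowers z).Normal := ⟨fun y hy g => by
      obtain ⟨i, rfl⟩ := Subgroup.mem_zpowers_iff.1 hy
      have hcz : Commute z g := Subtype.ext (hcent sq hmsq g g.2).eq
      rw [show g * z ^ i * g⁻¹ = z ^ i from by rw [← (hcz.zpow_left i).eq, mul_inv_cancel_right]]
      exact Subgroup.zpow_mem _ (Subgroup.mem_zpowers z) i⟩
    have hp : IsPGroup q (Subgroup.zpowers z) := by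
      obtain ⟨j, -, hj⟩ := (Nat.dvd_prime_pow hq).1 hsq
      refine IsPGroup.iff_card.2 ⟨j, ?_⟩
      rw [Nat.card_zpowers, Subgroup.orderOf_mk, hj]
    have hle : Subgroup.zpowers z ≤ (Q : Subgroup C) :=
      le_sup_left.trans_eq (Q.3 (IsPGroup.to_sup_of_normal_left hp Q.2) le_sup_right)
    exact ⟨z, hle (Subgroup.mem_zpowers z), rfl⟩
  set E := Subgroup.zpowers s' ⊔ Q'
  have hQle : Q' ≤ Subgroup.centralizer ((Subgroup.zpowers s' : Subgroup G) : Set G) := by
    intro x hx
    exact Subgroup.mem_centralizer_iff.2 fun a ha =>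
      (hcent a (Subgroup.zpowers_le.2 hms' ha) x (hQC hx)).eq
  have hcardE : Nat.card E = orderOf s' * Nat.card Q' ∧ IsElementary q E := by
    have hx : s' ∈ E := (le_sup_left : Subgroup.zpowers s' ≤ E) (Subgroup.mem_zpowers s')
    have hcent' : (⟨s', hx⟩ : E) ∈ Subgroup.center E := by
      refine Subgroup.mem_center_iff.2 fun z => Subtype.ext ?_
      have hz : (z : G) ∈ Subgroup.centralizer ((Subgroup.zpowers s' : Subgroup G) : Set G) := by
        refine (sup_le ?_ hQle : E ≤ _) z.2
        intro a ha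
        obtain ⟨i, rfl⟩ := Subgroup.mem_zpowers_iff.1 ha
        refine Subgroup.mem_centralizer_iff.2 fun b hb => ?_
        obtain ⟨j, rfl⟩ := Subgroup.mem_zpowers_iff.1 hb
        exact (Commute.zpow_zpow (Commute.refl s') j i).eq
      exact ((Subgroup.mem_centralizer_iff.1 hz) s' (Subgroup.mem_zpowers s')).symm
    have hcop : Nat.Coprime (orderOf s') (Nat.card Q') := by
      obtain ⟨j, hj⟩ := IsPGroup.iff_card.1 (Q.2.map C.subtype)
      rw [show Nat.card Q' = q ^ j from hj]
      exact (((hq.coprime_iff_not_dvd.2 hm).coprime_dvd_right hs').pow_left j).symm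
    have hdis : Subgroup.zpowers s' ⊓ Q' = ⊥ :=
      (Subgroup.disjoint_of_coprime_natCard (by rwa [Nat.card_zpowers])).eq_bot
    have hcard : Nat.card E = orderOf s' * Nat.card Q' := by
      have hle1 : Subgroup.zpowers s' ≤ E := le_sup_left
      have hle2 : Q' ≤ E := le_sup_right
      haveI : ((Subgroup.zpowers s').subgroupOf E).Normal := ⟨fun y hy g => by
        obtain ⟨i, hi⟩ := Subgroup.mem_zpowers_iff.1 hy
        have e : (⟨s', hx⟩ : E) ^ i = y := Subtype.ext (by simpa using hi)
        rw [← e, Subgroup.mem_center_iff.1 ((Subgroup.center E).zpow_mem hcent' i) g,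
          mul_inv_cancel_right, e]
        exact hy⟩
      have h := Base.card_sup_of_disjoint (Q'.subgroupOf E) ((Subgroup.zpowers s').subgroupOf E)
        (eq_bot_iff.2 fun y hy => Subgroup.mem_bot.2 (Subtype.ext
          (Subgroup.mem_bot.1 (hdis.le (show (y : G) ∈ Subgroup.zpowers s' ⊓ Q' from ⟨hy.2, hy.1⟩)))))
      have htop : Q'.subgroupOf E ⊔ (Subgroup.zpowers s').subgroupOf E = ⊤ := by
        rw [← Subgroup.subgroupOf_sup hle2 hle1, sup_comm]
        exact Subgroup.subgroupOf_self E
      rw [htop, Subgroup.card_top, Nat.card_congr (Subgroup.subgroupOfEquivOfLe hle2).toEquiv,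
        Nat.card_congr (Subgroup.subgroupOfEquivOfLe hle1).toEquiv, Nat.card_zpowers] at h
      rw [h, mul_comm]
    refine ⟨hcard, ⟨s', hx⟩, hcent', ?_, ?_⟩
    · rw [Subgroup.orderOf_mk]
      exact ((hq.coprime_iff_not_dvd.2 hm).coprime_dvd_right hs').symm
    · obtain ⟨j, hj⟩ := IsPGroup.iff_card.1 (Q.2.map C.subtype)
      refine ⟨j, ?_⟩
      have h := (Subgroup.zpowers (⟨s', hx⟩ : E)).card_mul_index
      rw [Nat.card_zpowers, Subgroup.orderOf_mk, hcard, show Nat.card Q' = q ^ j from hj] at h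
      exact Nat.eq_of_mul_eq_mul_left (orderOf_pos s') h
  have hQH : Nat.card Q' ∣ Nat.card H := by
    obtain ⟨j, hj⟩ := IsPGroup.iff_card.1 (Q.2.map C.subtype)
    rw [show Nat.card Q' = q ^ j from hj]
    refine Nat.Coprime.dvd_of_dvd_mul_right ((hq.coprime_iff_not_dvd.2 hqN).pow_left j) ?_
    rw [H.card_mul_index, ← show Nat.card Q' = q ^ j from hj]
    exact Subgroup.card_subgroup_dvd_card Q'
  have hEH : Nat.card E ∣ Nat.card H := by
    rw [hcardE.1]
    obtain ⟨j, hj⟩ := IsPGroup.iff_card.1 (Q.2.map C.subtype)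
    have hc : Nat.Coprime (orderOf s') (Nat.card Q') := by
      rw [show Nat.card Q' = q ^ j from hj]
      exact (((hq.coprime_iff_not_dvd.2 hm).coprime_dvd_right hs').pow_left j).symm
    exact hc.mul_dvd_of_dvd_of_dvd
      ((orderOf_dvd_of_mem_zpowers hms').trans (Subgroup.orderOf_dvd_natCard H hs)) hQH
  obtain ⟨g, hg⟩ := helem E q hq hcardE.2 hEH
  have hsE : s ∈ E := by
    rw [hse]
    exact E.mul_mem ((le_sup_right : Q' ≤ E) hsqQ)
      ((le_sup_left : Subgroup.zpowers s' ≤ E) (Subgroup.mem_zpowers s'))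
  obtain ⟨h, hh, hhs⟩ := hfus s hs (g * s * g⁻¹) (hg ⟨s, hsE, rfl⟩) (isConj_iff.2 ⟨g, rfl⟩)
  have hle : Q'.map (MulAut.conj (h⁻¹ * g)).toMonoidHom ≤ H ⊓ C := by
    rintro _ ⟨x, hx, rfl⟩
    refine ⟨?_, ?_⟩
    · show h⁻¹ * g * x * (h⁻¹ * g)⁻¹ ∈ H
      rw [show h⁻¹ * g * x * (h⁻¹ * g)⁻¹ = h⁻¹ * (g * x * g⁻¹) * h by group]
      exact H.mul_mem (H.mul_mem (H.inv_mem hh) (hg ⟨x, (le_sup_right : Q' ≤ E) hx, rfl⟩)) hh
    · refine Subgroup.mem_centralizer_singleton_iff.2 ?_
      have hfix : MulAut.conj (h⁻¹ * g) s = s := by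
        show h⁻¹ * g * s * (h⁻¹ * g)⁻¹ = s
        rw [show h⁻¹ * g * s * (h⁻¹ * g)⁻¹ = h⁻¹ * (g * s * g⁻¹) * h by group, ← hhs]
        group
      show MulAut.conj (h⁻¹ * g) x * s = s * MulAut.conj (h⁻¹ * g) x
      conv_lhs => rw [← hfix, ← map_mul, Subgroup.mem_centralizer_singleton_iff.1 (hQC hx), map_mul]
      rw [hfix]
  have h1 : Nat.card Q' ∣ Nat.card ↥(H ⊓ C) := by
    refine dvd_trans ?_ (Subgroup.card_dvd_of_le hle)
    exact dvd_of_eq (Subgroup.card_map_of_injective (MulAut.conj (h⁻¹ * g)).injective).symm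
  have h2 : Nat.card ↥(H ⊓ C) * H.relIndex C = Nat.card C := by
    rw [← Subgroup.inf_relIndex_right H C, ← Subgroup.relIndex_bot_left (H ⊓ C),
      Subgroup.relIndex_mul_relIndex ⊥ (H ⊓ C) C bot_le inf_le_right, Subgroup.relIndex_bot_left]
  refine Q.not_dvd_index ?_
  obtain ⟨a, ha⟩ := h1
  obtain ⟨b, hb⟩ := hqi
  have h3 := (Q : Subgroup C).card_mul_index
  have hcm : Nat.card Q' = Nat.card (Q : Subgroup C) :=
    Subgroup.card_map_of_injective C.subtype_injective
  rw [← h2, ha, hb, hcm, mul_assoc] at h3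
  exact ⟨a * b, by rw [Nat.eq_of_mul_eq_mul_left Nat.card_pos h3]; ring⟩

set_option maxHeartbeats 1000000 in
/-- Brauer's normal complement theorem. -/
theorem exists_normal_complement :
    ∃ K : Subgroup G, K.Normal ∧ K ⊔ H = ⊤ ∧ K ⊓ H = ⊥ := by
  classical
  letI : Fintype H := Fintype.ofFinite _
  set M := Nat.card H with hM
  set N := H.index with hN
  have hMN : Nat.card G = M * N := (H.card_mul_index).symm
  have hparts : ∀ x : G, ∃ u v : G, x = u * v ∧ Commute u v ∧ orderOf u ∣ M ∧ orderOf v ∣ N :=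
    fun x => exists_parts (hMN ▸ orderOf_dvd_natCard x) hHall
  choose pu pv hpx hpc hpu hpv using hparts
  have huniq : ∀ (x : G) {u v : G}, x = u * v → Commute u v → orderOf u ∣ M → orderOf v ∣ N →
      pu x = u := fun x {u v} e hc hu hv =>
    (parts_unique hHall (hpc x) (hpu x) (hpv x) hc hu hv ((hpx x).symm.trans e)).1
  have hpuH : ∀ h ∈ H, pu h = h := fun h hh =>
    huniq h (mul_one h).symm (Commute.one_right h) (Subgroup.orderOf_dvd_natCard H hh) (by simp)
  have hpconj : ∀ c x : G, pu (c * x * c⁻¹) = c * pu x * c⁻¹ := fun c x => by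
    refine huniq _ (v := c * pv x * c⁻¹) ?_ ((hpc x).map (MulAut.conj c).toMonoidHom) ?_ ?_
    · conv_lhs => rw [hpx x]
      group
    · rw [← MulAut.conj_apply, MulEquiv.orderOf_eq]; exact hpu x
    · rw [← MulAut.conj_apply, MulEquiv.orderOf_eq]; exact hpv x
  -- every element of order dividing `M` is conjugate into `H`
  have hinto : ∀ u : G, orderOf u ∣ M → ∃ h : H, IsConj u h := fun u hu => by
    obtain ⟨p, hp, hE⟩ := exists_isElementary_zpowers u
    obtain ⟨g, hg⟩ := helem _ p hp hE (by rwa [Nat.card_zpowers])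
    exact ⟨⟨g * u * g⁻¹, hg ⟨u, Subgroup.mem_zpowers u, rfl⟩⟩, isConj_iff.2 ⟨g, rfl⟩⟩
  choose j hj using hinto
  -- the lift of a class function
  let lift : (H → ℂ) → (G → ℂ) := fun f x => f (j (pu x) (hpu x))
  have hlift : ∀ f : H → ℂ, IsClassFunction H f → ∀ (x : G) (h : H), IsConj (pu x) h →
      lift f x = f h := by
    intro f hf x h hc
    obtain ⟨a, ha, e⟩ := hfus (j (pu x) (hpu x) : H) (j (pu x) (hpu x)).2 h h.2
      ((hj (pu x) (hpu x)).symm.trans hc)
    rw [show h = ⟨a, ha⟩ * j (pu x) (hpu x) * ⟨a, ha⟩⁻¹ from Subtype.ext e.symm]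
    exact (hf _ _).symm
  have hliftH : ∀ f : H → ℂ, IsClassFunction H f → ∀ h : H, lift f (h : G) = f h := fun f hf h =>
    hlift f hf _ h (by rw [hpuH h h.2])
  have hliftc : ∀ f : H → ℂ, IsClassFunction H f → IsClassFunction G (lift f) := fun f hf x c =>
    hlift f hf _ _ (((hpconj c x) ▸ (isConj_iff.2 ⟨c, rfl⟩ : IsConj (pu x) (c * pu x * c⁻¹))).symm.trans
      (hj (pu x) (hpu x)))
  -- lifts of characters are generalised characters
  have hgen : ∀ θ : IrrCharacter H, IsGeneralizedCharacter G (lift θ) := by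
    intro θ
    refine isGeneralized_of_elementary (hliftc _ (Chars.isClassFunction_irr θ)) fun E p hp hE => ?_
    letI : Fintype E := Fintype.ofFinite _
    haveI : Group.IsNilpotent E := Chars.isNilpotent_of_isElementary hp hE
    have hnil : Group.IsNilpotent (E : Subgroup G) := inferInstance
    have hmemE : ∀ e : E, pu (e : G) ∈ E ∧ pv (e : G) ∈ E := fun e => by
      obtain ⟨h1, h2⟩ := parts_mem_zpowers (hpc (e : G))
        ((hHall.coprime_dvd_left (hpu (e : G))).coprime_dvd_right (hpv (e : G)))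
      rw [← hpx (e : G)] at h1 h2
      exact ⟨Subgroup.zpowers_le.2 e.2 h1, Subgroup.zpowers_le.2 e.2 h2⟩
    set R := Subgroup.closure {x : E | orderOf x ∣ M}
    have hRdvd : Nat.card R ∣ M := by
      refine Nat.Coprime.dvd_of_dvd_mul_right (n := N) (card_coprime_of_generators ?_) ?_
      · rw [eq_top_iff]
        intro x _
        have h := Subgroup.closure_closure_coe_preimage (k := {x : E | orderOf x ∣ M})
        have hx : x ∈ (⊤ : Subgroup R) := trivial
        rw [← h] at hx
        refine Subgroup.closure_mono (fun y hy => ?_) hx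
        show (orderOf y).Coprime N
        rw [← Subgroup.orderOf_coe]
        exact hHall.coprime_dvd_left hy
      · rw [← hMN]
        exact (Subgroup.card_subgroup_dvd_card R).trans (Subgroup.card_subgroup_dvd_card E)
    have hmul : ∀ a b : E, pu ((a * b : E) : G) = pu (a : G) * pu (b : G) := by
      intro a b
      have hab : Commute (pv (a : G)) (pu (b : G)) := CfsgLib.CNGroups.commute_of_coprime hnil
        (hmemE a).2 (hmemE b).1 ((hHall.coprime_dvd_left (hpu (b : G))).coprime_dvd_right
          (hpv (a : G))).symm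
      have hcross : ∀ x y : E, Commute (pu (x : G)) (pv (y : G)) := fun x y =>
        CfsgLib.CNGroups.commute_of_coprime hnil (hmemE x).1 (hmemE y).2
          ((hHall.coprime_dvd_left (hpu (x : G))).coprime_dvd_right (hpv (y : G)))
      have huu : orderOf (pu (a : G) * pu (b : G)) ∣ M := by
        have hxa : (⟨pu (a : G), (hmemE a).1⟩ : E) ∈ R :=
          Subgroup.subset_closure (show orderOf _ ∣ M by rw [Subgroup.orderOf_mk]; exact hpu _)
        have hxb : (⟨pu (b : G), (hmemE b).1⟩ : E) ∈ R :=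
          Subgroup.subset_closure (show orderOf _ ∣ M by rw [Subgroup.orderOf_mk]; exact hpu _)
        have := (Subgroup.orderOf_dvd_natCard R (R.mul_mem hxa hxb)).trans hRdvd
        rwa [← Subgroup.orderOf_coe] at this
      set S := Subgroup.closure {x : E | orderOf x ∣ N}
      have hvv : orderOf (pv (a : G) * pv (b : G)) ∣ N := by
        have hSdvd : Nat.card S ∣ N := by
          refine Nat.Coprime.dvd_of_dvd_mul_left (m := M) (card_coprime_of_generators ?_) ?_
          · rw [eq_top_iff]
            intro x _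
            have h := Subgroup.closure_closure_coe_preimage (k := {x : E | orderOf x ∣ N})
            have hx : x ∈ (⊤ : Subgroup S) := trivial
            rw [← h] at hx
            refine Subgroup.closure_mono (fun y hy => ?_) hx
            show (orderOf y).Coprime M
            rw [← Subgroup.orderOf_coe]
            exact hHall.symm.coprime_dvd_left hy
          · rw [← hMN]
            exact (Subgroup.card_subgroup_dvd_card S).trans (Subgroup.card_subgroup_dvd_card E)
        have hxa : (⟨pv (a : G), (hmemE a).2⟩ : E) ∈ S :=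
          Subgroup.subset_closure (show orderOf _ ∣ N by rw [Subgroup.orderOf_mk]; exact hpv _)
        have hxb : (⟨pv (b : G), (hmemE b).2⟩ : E) ∈ S :=
          Subgroup.subset_closure (show orderOf _ ∣ N by rw [Subgroup.orderOf_mk]; exact hpv _)
        have := (Subgroup.orderOf_dvd_natCard S (S.mul_mem hxa hxb)).trans hSdvd
        rwa [← Subgroup.orderOf_coe] at this
      refine huniq _ (v := pv (a : G) * pv (b : G)) ?_ ?_ huu hvv
      · show (a : G) * (b : G) = _
        conv_lhs => rw [hpx (a : G), hpx (b : G)]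
        rw [mul_assoc, ← mul_assoc (pv (a : G)), hab.eq, mul_assoc, ← mul_assoc]
      · exact Commute.mul_left ((hcross a a).mul_right (hcross a b))
          ((hcross b a).mul_right (hcross b b))
    obtain ⟨g, hg⟩ := helem (R.map E.subtype) p hp
      (isElementary_of_mulEquiv (R.equivMapOfInjective E.subtype E.subtype_injective)
        (Chars.isElementary_subgroup hp hE R))
      (by rwa [Subgroup.card_map_of_injective E.subtype_injective])
    have hgmem : ∀ e : E, g * pu (e : G) * g⁻¹ ∈ H := fun e => hg ⟨pu (e : G),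
      ⟨⟨pu (e : G), (hmemE e).1⟩,
        Subgroup.subset_closure (show orderOf _ ∣ M by rw [Subgroup.orderOf_mk]; exact hpu _),
        rfl⟩, rfl⟩
    let φ : E →* H :=
      { toFun := fun e => ⟨g * pu (e : G) * g⁻¹, hgmem e⟩
        map_one' := Subtype.ext (by
          show g * pu ((1 : E) : G) * g⁻¹ = 1
          rw [OneMemClass.coe_one, hpuH 1 H.one_mem]; group)
        map_mul' := fun a b => Subtype.ext (by
          show g * pu ((a * b : E) : G) * g⁻¹ = (g * pu (a : G) * g⁻¹) * (g * pu (b : G) * g⁻¹)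
          rw [hmul]; group) }
    have e : (fun x : E => lift θ (x : G)) = fun x => (θ : H → ℂ) (φ x) := funext fun x =>
      hlift _ (Chars.isClassFunction_irr θ) _ _ (isConj_iff.2 ⟨g, rfl⟩)
    rw [e]
    exact ⟨_, 0, Chars.isCharacter_comp φ (Chars.isCharacter_of_irr θ.2), Chars.isCharacter_zero,
      (sub_zero _).symm⟩
  -- the weights of the sections
  let F : G → ℕ := fun s => (Finset.univ.filter (fun x : G => pu x = s)).card
  let r : H → ℝ := fun h => (F h : ℝ) * Nat.card (Subgroup.centralizer ({h} : Set H)) /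
    Nat.card (Subgroup.centralizer ({(h : G)} : Set G))
  have hcH : ∀ h : H, Nat.card (Subgroup.centralizer ({h} : Set H)) =
      Nat.card ↥(H ⊓ Subgroup.centralizer ({(h : G)} : Set G)) := fun h => by
    refine Nat.card_congr
      { toFun := fun x => ⟨((x : H) : G), (x : H).2, Subgroup.mem_centralizer_singleton_iff.2
          (congrArg Subtype.val (Subgroup.mem_centralizer_singleton_iff.1 x.2))⟩
        invFun := fun x => ⟨⟨x, x.2.1⟩, Subgroup.mem_centralizer_singleton_iff.2
          (Subtype.ext (Subgroup.mem_centralizer_singleton_iff.1 x.2.2))⟩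
        left_inv := fun _ => rfl
        right_inv := fun _ => rfl }
  have hr : ∀ h : H, 1 ≤ r h := by
    intro h
    set C := Subgroup.centralizer ({(h : G)} : Set G)
    set a := Nat.card ↥(H ⊓ C)
    set b := H.relIndex C
    letI : Fintype C := Fintype.ofFinite _
    have hab : Nat.card C = a * b := by
      rw [show b = (H ⊓ C).relIndex C from (Subgroup.inf_relIndex_right H C).symm,
        show a = (⊥ : Subgroup G).relIndex (H ⊓ C) from (Subgroup.relIndex_bot_left _).symm,
        Subgroup.relIndex_mul_relIndex ⊥ (H ⊓ C) C bot_le inf_le_right, Subgroup.relIndex_bot_left]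
    have haM : a ∣ M := Subgroup.card_dvd_of_le inf_le_left
    have hbM : Nat.Coprime b M := coprime_index_centralizer hHall helem hfus h.2
    have hba : Nat.Coprime b a := hbM.coprime_dvd_right haM
    set T := Finset.univ.filter (fun x : C => Nat.Coprime (orderOf x) a)
    set ϑ : C → ℂ := fun x => if x ∈ T then (a : ℂ) else 0
    have hQ : ∀ x : C, (∃ v : C, IsConj v 1 ∧ (∃ u : C, x = u * v ∧ Commute u v ∧
        Nat.Coprime (orderOf u) a ∧ Nat.Coprime (orderOf v) b)) ↔ x ∈ T := by
      intro x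
      refine ⟨?_, fun hx => ⟨1, IsConj.refl 1, x, (mul_one x).symm, Commute.one_right x,
        (Finset.mem_filter.1 hx).2, by simp⟩⟩
      rintro ⟨v, hv, u, rfl, -, hu, -⟩
      obtain rfl := isConj_one_left.1 hv
      exact Finset.mem_filter.2 ⟨Finset.mem_univ _, by rwa [mul_one]⟩
    obtain ⟨-, hint⟩ := section_inner_integral (ϑ := ϑ) (m := b) (n := a)
      (by rw [hab, mul_comm]) hba (1 : C) (fun x hx => if_pos ((hQ x).1 hx))
      (fun x hx => if_neg fun h => hx ((hQ x).2 h))
    have h1 := hint (CharApps.oneIrr C)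
    have e : classInner ϑ ((CharApps.oneIrr C : IrrCharacter C) : C → ℂ) =
        ((T.card : ℕ) : ℂ) / (b : ℕ) := by
      rw [Chars.inner_def, hab]
      simp only [ϑ, CharApps.oneIrr, map_one, mul_one, Finset.sum_ite_mem, Finset.univ_inter,
        Finset.sum_const, nsmul_eq_mul, Nat.cast_mul]
      have ha0 : (a : ℂ) ≠ 0 := Nat.cast_ne_zero.2 Nat.card_pos.ne'
      field_simp
    rw [e] at h1
    have hb0 : b ≠ 0 := Subgroup.index_ne_zero_of_finite
    have hdvd : b ∣ T.card := Chars.dvd_of_isIntegral_div hb0 h1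
    have hT1 : (1 : C) ∈ T := Finset.mem_filter.2 ⟨Finset.mem_univ _, by simp⟩
    have hbT : b ≤ T.card := Nat.le_of_dvd (Finset.card_pos.2 ⟨1, hT1⟩) hdvd
    have hTF : T.card ≤ F h := by
      refine Finset.card_le_card_of_injOn (fun v : C => (h : G) * (v : G)) ?_ ?_
      · intro v hv
        refine Finset.mem_filter.2 ⟨Finset.mem_univ _, ?_⟩
        have hv' : (orderOf v).Coprime a := (Finset.mem_filter.1 hv).2
        have hvb : orderOf v ∣ b :=
          hv'.dvd_of_dvd_mul_left (hab ▸ orderOf_dvd_natCard v)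
        have hbN : b ∣ N := by
          refine Nat.Coprime.dvd_of_dvd_mul_left hbM ?_
          rw [← hMN]
          exact (Dvd.intro_left a hab.symm).trans (Subgroup.card_subgroup_dvd_card C)
        exact huniq _ rfl (Subgroup.mem_centralizer_singleton_iff.1 v.2).symm
          (Subgroup.orderOf_dvd_natCard H h.2) (by rw [Subgroup.orderOf_coe]; exact hvb.trans hbN)
      · intro v _ w _ e
        exact Subtype.ext (mul_left_cancel e)
    show (1 : ℝ) ≤ (F h : ℝ) * _ / _
    rw [hcH, le_div_iff₀ (Nat.cast_pos.2 Nat.card_pos), one_mul, hab]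
    push_cast
    rw [mul_comm (a : ℝ)]
    exact mul_le_mul_of_nonneg_right (Nat.cast_le.2 (hbT.trans hTF)) (Nat.cast_nonneg _)
  -- summing a lift over the group
  have hsum : ∀ f : H → ℂ, IsClassFunction H f →
      ∑ x : G, lift f x = (N : ℂ) * ∑ h : H, f h * (r h : ℂ) := by
    intro f hf
    have hrd : ∀ h : H, f h * (r h : ℂ) = ∑ s ∈ Finset.univ.filter (fun s : G => IsConj s h),
        f h * (F s : ℂ) * (Nat.card (Subgroup.centralizer ({h} : Set H)) : ℂ) / Nat.card G := by
      intro h
      have hF : ∀ s : G, IsConj s h → F s = F h := by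
        intro s hs
        obtain ⟨c, hc⟩ := isConj_iff.1 hs
        refine Finset.card_nbij' (fun x => c * x * c⁻¹) (fun x => c⁻¹ * x * c) ?_ ?_ ?_ ?_
        · intro x hx
          refine Finset.mem_filter.2 ⟨Finset.mem_univ _, ?_⟩
          rw [hpconj, (Finset.mem_filter.1 hx).2, hc]
        · intro x hx
          refine Finset.mem_filter.2 ⟨Finset.mem_univ _, ?_⟩
          have := hpconj c⁻¹ x
          rw [inv_inv] at this
          rw [this, (Finset.mem_filter.1 hx).2, ← hc]
          group
        · intro x _; simp only; group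
        · intro x _; simp only; group
      rw [Finset.sum_congr rfl (fun s hs => by rw [hF s (Finset.mem_filter.1 hs).2]), Finset.sum_const,
        nsmul_eq_mul]
      have hcard : (Finset.univ.filter (fun s : G => IsConj s h)).card *
          Nat.card (Subgroup.centralizer ({(h : G)} : Set G)) = Nat.card G := by
        rw [← Subgroup.index_mul_card (Subgroup.centralizer ({(h : G)} : Set G)),
          Chars.index_centralizer_eq]
        refine congrArg (fun k => k * Nat.card (Subgroup.centralizer ({(h : G)} : Set G))) ?_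
        rw [Nat.card_eq_fintype_card, Fintype.card_subtype]
        exact congrArg Finset.card (Finset.filter_congr fun s _ => isConj_comm)
      simp only [r]
      rw [← hcard]
      push_cast
      have h0 : ((Nat.card (Subgroup.centralizer ({(h : G)} : Set G)) : ℕ) : ℂ) ≠ 0 :=
        Nat.cast_ne_zero.2 Nat.card_pos.ne'
      have h1 : ((Finset.univ.filter (fun s : G => IsConj s h)).card : ℂ) ≠ 0 := by
        intro h1
        have h2 : (Finset.univ.filter (fun s : G => IsConj s h)).card = 0 := by exact_mod_cast h1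
        rw [h2, zero_mul] at hcard
        exact Nat.card_pos.ne hcard
      field_simp
    rw [Finset.sum_congr rfl (fun h _ => hrd h)]
    simp only [Finset.sum_filter]
    rw [Finset.sum_comm, ← Finset.sum_fiberwise Finset.univ pu, Finset.mul_sum]
    refine Finset.sum_congr rfl fun s _ => ?_
    by_cases hs : orderOf s ∣ M
    · have hl : ∀ x ∈ Finset.univ.filter (fun x : G => pu x = s), lift f x = f (j s hs) := by
        intro x hx
        exact hlift f hf x _ ((Finset.mem_filter.1 hx).2.symm ▸ hj s hs)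
      rw [Finset.sum_congr rfl hl, Finset.sum_const, nsmul_eq_mul, ← Finset.sum_filter]
      set h₀ := j s hs
      have heq : Finset.univ.filter (fun h : H => IsConj s h) =
          Finset.univ.filter (fun h : H => IsConj h₀ h) := by
        refine Finset.filter_congr fun h _ => ⟨fun hc => ?_, fun hc => ?_⟩
        · obtain ⟨a, ha, e⟩ := hfus h₀ h₀.2 h h.2 ((hj s hs).symm.trans hc)
          exact isConj_iff.2 ⟨⟨a, ha⟩, Subtype.ext e⟩
        · exact (hj s hs).trans (H.subtype.map_isConj hc)
      rw [heq]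
      have hterm : ∀ h ∈ Finset.univ.filter (fun h : H => IsConj h₀ h),
          f h * (F s : ℂ) * (Nat.card (Subgroup.centralizer ({h} : Set H)) : ℂ) / Nat.card G =
            f h₀ * (F s : ℂ) * (Nat.card (Subgroup.centralizer ({h₀} : Set H)) : ℂ) / Nat.card G := by
        intro h hh
        have hc := (Finset.mem_filter.1 hh).2
        obtain ⟨a, ha⟩ := isConj_iff.1 hc
        have h1 : f h = f h₀ := ha ▸ hf h₀ a
        have h2 : (Subgroup.centralizer ({h} : Set H)).index =
            (Subgroup.centralizer ({h₀} : Set H)).index := by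
          rw [Chars.index_centralizer_eq, Chars.index_centralizer_eq]
          exact Nat.card_congr (Equiv.subtypeEquivRight fun y =>
            ⟨fun h' => hc.trans h', fun h' => hc.symm.trans h'⟩)
        have h3 : Nat.card (Subgroup.centralizer ({h} : Set H)) =
            Nat.card (Subgroup.centralizer ({h₀} : Set H)) := by
          have e1 := (Subgroup.centralizer ({h} : Set H)).card_mul_index
          rw [← (Subgroup.centralizer ({h₀} : Set H)).card_mul_index, h2] at e1
          exact Nat.eq_of_mul_eq_mul_right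
            (Nat.pos_of_ne_zero Subgroup.index_ne_zero_of_finite) e1
        rw [h1, h3]
      rw [Finset.sum_congr rfl hterm, Finset.sum_const, nsmul_eq_mul]
      have hcl : (Finset.univ.filter (fun h : H => IsConj h₀ h)).card *
          Nat.card (Subgroup.centralizer ({h₀} : Set H)) = M := by
        rw [hM, ← Subgroup.index_mul_card (Subgroup.centralizer ({h₀} : Set H)),
          Chars.index_centralizer_eq]
        refine congrArg (fun k => k * Nat.card (Subgroup.centralizer ({h₀} : Set H))) ?_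
        rw [Nat.card_eq_fintype_card, Fintype.card_subtype]
      have hG0 : (Nat.card G : ℂ) ≠ 0 := Nat.cast_ne_zero.2 Nat.card_pos.ne'
      rw [hMN]
      rw [hMN] at hG0
      rw [← hcl] at hG0 ⊢
      push_cast at hG0 ⊢
      show (F s : ℂ) * f h₀ = _
      have e1 := left_ne_zero_of_mul (left_ne_zero_of_mul hG0)
      have e2 := right_ne_zero_of_mul hG0
      field_simp
    · rw [Finset.sum_eq_zero fun x hx => absurd (show orderOf s ∣ M by
        rw [← (Finset.mem_filter.1 hx).2]; exact hpu x) hs,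
        Finset.sum_eq_zero fun h _ => if_neg fun hc => hs ?_, mul_zero]
      obtain ⟨a, ha⟩ := isConj_iff.1 hc
      rw [← MulEquiv.orderOf_eq (MulAut.conj a) s, MulAut.conj_apply, ha]
      exact Subgroup.orderOf_dvd_natCard H h.2
  have hr1 : ∀ h : H, r h = 1 := by
    have h1 := hsum (fun _ => 1) (fun _ _ => rfl)
    simp only [lift, one_mul, Finset.sum_const, Finset.card_univ, nsmul_eq_mul, mul_one] at h1
    rw [← Nat.card_eq_fintype_card, hMN, Nat.cast_mul, mul_comm, ← Complex.ofReal_sum] at h1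
    have h2 := mul_left_cancel₀ (Nat.cast_ne_zero.2 Subgroup.index_ne_zero_of_finite) h1
    have h3 : ∑ h : H, r h = ∑ _h : H, (1 : ℝ) := by
      rw [Finset.sum_const, Finset.card_univ, ← Nat.card_eq_fintype_card, nsmul_eq_mul, mul_one]
      exact_mod_cast h2.symm
    exact fun h => (((Finset.sum_eq_sum_iff_of_le fun i _ => hr i).1 h3.symm) h
      (Finset.mem_univ h)).symm
  -- the lifts are irreducible
  have hirr : ∀ θ : IrrCharacter H, IsIrrCharacter G (lift θ) := by
    intro θ
    have hθc := Chars.isClassFunction_irr θ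
    refine Chars.irr_of_norm_one (hgen θ) ?_ ?_
    · have hf : IsClassFunction H (fun h => (θ : H → ℂ) h * conj ((θ : H → ℂ) h)) := fun h a => by
        simp only [hθc h a]
      rw [Chars.inner_def, show ∑ x : G, lift θ x * conj (lift θ x) =
        ∑ x : G, lift (fun h => (θ : H → ℂ) h * conj ((θ : H → ℂ) h)) x from rfl, hsum _ hf]
      simp only [hr1, Complex.ofReal_one, mul_one]
      have h1 := Chars.inner_irr_self θ
      rw [Chars.inner_def, inv_mul_eq_iff_eq_mul₀ (Nat.cast_ne_zero.2 Nat.card_pos.ne'), mul_one]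
        at h1
      rw [h1, hMN, Nat.cast_mul, mul_comm (N : ℂ), inv_mul_cancel₀]
      exact mul_ne_zero (Nat.cast_ne_zero.2 Nat.card_pos.ne')
        (Nat.cast_ne_zero.2 Subgroup.index_ne_zero_of_finite)
    · rw [show (1 : G) = ((1 : H) : G) from rfl, hliftH _ hθc]
      obtain ⟨d, -, hd⟩ := Chars.irr_degree_nat θ.2
      rw [hd]
      simp
  -- the complement
  let ψ : IrrCharacter H → IrrCharacter G := fun θ => ⟨lift θ, hirr θ⟩
  set K : Subgroup G := ⨅ θ : IrrCharacter H, CharApps.charKer (ψ θ)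
  have hKn : K.Normal :=
    ⟨fun x hx g => by
      rw [Subgroup.mem_iInf] at hx ⊢
      exact fun θ => (CharApps.charKer_normal (ψ θ)).conj_mem x (hx θ) g⟩
  have hψ1 : ∀ θ : IrrCharacter H, lift θ 1 = (θ : H → ℂ) 1 := fun θ =>
    (congrArg (lift θ) (OneMemClass.coe_one H).symm).trans (hliftH _ (Chars.isClassFunction_irr θ) 1)
  have hKH : K ⊓ H = ⊥ := by
    rw [eq_bot_iff]
    rintro x ⟨hxK, hxH⟩
    rw [Subgroup.mem_bot]
    have h1 : ∀ θ : IrrCharacter H, (θ : H → ℂ) ⟨x, hxH⟩ = (θ : H → ℂ) 1 := fun θ => by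
      rw [← hliftH _ (Chars.isClassFunction_irr θ) ⟨x, hxH⟩, ← hψ1]
      exact CharApps.mem_charKer.1 (Subgroup.mem_iInf.1 hxK θ)
    have h2 := (Chars.isConj_iff_forall_irr (⟨x, hxH⟩ : H) 1).2 h1
    rw [isConj_one_left] at h2
    exact congrArg Subtype.val h2
  have hKv : ∀ v : G, orderOf v ∣ N → v ∈ K := fun v hv => by
    refine Subgroup.mem_iInf.2 fun θ => CharApps.mem_charKer.2 ?_
    show lift θ v = lift θ 1
    rw [hψ1]
    refine hlift _ (Chars.isClassFunction_irr θ) v 1 ?_
    rw [huniq v (one_mul v).symm (Commute.one_left v) (by simp) hv]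
    exact IsConj.refl 1
  refine ⟨K, hKn, ?_, hKH⟩
  rw [← Subgroup.index_eq_one]
  refine Nat.eq_one_of_dvd_coprimes hHall.symm
    (Subgroup.index_dvd_of_le le_sup_right) ((Subgroup.index_dvd_of_le le_sup_left).trans ?_)
  haveI := hKn
  refine Nat.Coprime.dvd_of_dvd_mul_right ?_ ((K.index_dvd_card).trans hMN.dvd)
  refine Nat.coprime_of_dvd fun q hq hqi hqN => ?_
  haveI := Fact.mk hq
  rw [Subgroup.index_eq_card] at hqi
  obtain ⟨y, hy⟩ := exists_prime_orderOf_dvd_card' q hqi
  obtain ⟨x, rfl⟩ := QuotientGroup.mk'_surjective K y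
  rw [hpx x, map_mul, show QuotientGroup.mk' K (pv x) = 1 from
    (QuotientGroup.eq_one_iff _).2 (hKv _ (hpv x)), mul_one] at hy
  exact hq.ne_one (Nat.eq_one_of_dvd_coprimes hHall
    ((hy ▸ orderOf_map_dvd (QuotientGroup.mk' K) (pu x)).trans (hpu x)) hqN)

end Setting

end CfsgLib.CharsMore
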