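import Cfsg.Agent.Lib.Blocks.PIndex
import Cfsg.Agent.Lib.Blocks.StarNonzero
import Cfsg.Agent.Lib.Blocks.MaximalPairs
import Cfsg.Agent.Lib.CharsMore.Gallagher

/-!
# Stable blocks of `p`-power index under a block with abelian defect group

The linear characters of the quotient act freely on the covering block, so restriction is irreducible.
-/

set_option autoImplicit false
set_option linter.unusedSectionVars false
set_option linter.style.haveILetI false

namespace CfsgLib.CharsMore.PIndexAbelian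

open Cfsg CfsgLib.Blocks CfsgLib.BlockOrth CfsgLib.Chars CfsgLib.CharsMore
open scoped ComplexConjugate

variable {G : Type*} [Group G] [Fintype G] (N : Subgroup G) [N.Normal] [Fintype N]
  {M : Ideal AlgInt} [M.IsPrime] {p : ℕ} [Fact p.Prime]

lemma exists_mul_eq {P : Subgroup G} (h : N ⊔ P = ⊤) (g : G) : ∃ n : N, ∃ u ∈ P, (n : G) * u = g := by
  obtain ⟨n, hn, u, hu, e⟩ := Subgroup.mem_sup_of_normal_left.1 (h.symm ▸ Subgroup.mem_top g : g ∈ N ⊔ P)
  exact ⟨⟨n, hn⟩, u, hu, e⟩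

/-- A character of the block does not vanish on a whole section of the defect group. -/
theorem exists_ne_zero_of_section (hpM : (p : AlgInt) ∈ M) {B : Set (IrrCharacter G)}
    (hB : IsPBlock M B) {P : Subgroup G} (hP : IsDefectGroup p M B P)
    (hPab : ∀ x ∈ P, ∀ y ∈ P, x * y = y * x) {χ : IrrCharacter G} (hχ : χ ∈ B) {u : G} (hu : u ∈ P) :
    ∃ h : G, h * u = u * h ∧ ¬ p ∣ orderOf h ∧ (χ : G → ℂ) (u * h) ≠ 0 := by
  classical
  by_contra hcon
  push Not at hcon
  obtain ⟨e, he⟩ := exists_pair_on_defectGroup hpM hB hP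
  have hmax := isMaximal_of_defectGroup hpM hP he
  obtain ⟨b, hb⟩ := CfsgLib.Blocks.exists_below hpM (show IsBrauerPair p M (⟨P, e⟩ : BrauerPairIdx G).1
    (⟨P, e⟩ : BrauerPairIdx G).2 from he.1) (Subgroup.zpowers u) (Subgroup.zpowers_le.2 hu)
  haveI := Fintype.ofFinite (Subgroup.centralizer (Subgroup.zpowers u : Set G))
  haveI := irrFintype (Subgroup.centralizer (Subgroup.zpowers u : Set G))
  obtain ⟨ψ, hψ, h0⟩ := exists_blockHeight_eq_zero (p := p) hB
  have hbb := (below_isBrauerPair hb hmax.1.1).2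
  have hne := contrib_ne_zero_of_height_zero (χ := χ) hpM (mem_centralizer_zpowers_iff u)
    (exists_pow_orderOf_of_mem hmax.1.1.1 hu)
    (isInducedBlock_zpowers hpM ((isBrauerPairOf_iff_of_below hpM hb B).2 hmax.1))
    (blockDefect_eq_of_central hpM hmax (Subgroup.mem_centralizer_iff.2 fun y hy => hPab y hy u hu) hb)
    hχ hψ h0
  apply hne
  have hz : pRegularPart p (secFun (Subgroup.centralizer (Subgroup.zpowers u : Set G)) u (χ : G → ℂ)) = 0 := by
    funext k
    rw [pRegularPart_apply, Pi.zero_apply]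
    by_cases hk : p ∣ orderOf k
    · rw [if_neg (not_not.2 hk)]
    · rw [if_pos hk]
      exact hcon k ((mem_centralizer_zpowers_iff u k).1 k.2) (by rwa [Subgroup.orderOf_coe])
  rw [contrib_eq_inner hpM (mem_centralizer_zpowers_iff u) hbb, hz]
  simp [Chars.inner_zero_left]

variable {P : Subgroup G}

/-- The quotient by `N` is abelian, so its characters are linear. -/
theorem quot_linear [Fintype (IrrCharacter G)] (hNP : N ⊔ P = ⊤) (hPab : ∀ x ∈ P, ∀ y ∈ P, x * y = y * x)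
    {β : IrrCharacter G} (hβ : β ∈ quotIrr N) : ∃ lam : G →* ℂˣ, (β : G → ℂ) = fun g => (lam g : ℂ) := by
  have hab : ∀ a c : G ⧸ N, a * c = c * a := by
    intro a c
    induction a using QuotientGroup.induction_on with
    | H a =>
      induction c using QuotientGroup.induction_on with
      | H c =>
        obtain ⟨n, u, hu, rfl⟩ := exists_mul_eq N hNP a
        obtain ⟨m, v, hv, rfl⟩ := exists_mul_eq N hNP c
        have hn : ((n : G) : G ⧸ N) = 1 := (QuotientGroup.eq_one_iff _).2 n.2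
        have hm : ((m : G) : G ⧸ N) = 1 := (QuotientGroup.eq_one_iff _).2 m.2
        rw [QuotientGroup.mk_mul, QuotientGroup.mk_mul, hn, hm, one_mul, one_mul, ← QuotientGroup.mk_mul,
          hPab u hu v hv, QuotientGroup.mk_mul]
  obtain ⟨ψ, hψ, e⟩ := Chars.exists_deflate_irr N β.2 fun x hx => (mem_quotIrr N).1 hβ hx
  have h1 : (β : G → ℂ) 1 = 1 := by
    rw [e]
    exact Chars.irr_abelian_degree hab hψ
  obtain ⟨lam, hlam⟩ := Chars.exists_hom_of_degree_one (Chars.isCharacter_of_irr β.2) h1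
  exact ⟨lam, funext fun g => by simp [hlam]⟩

/-- Twisting a member of the block is free. -/
theorem twist_free [Fintype (IrrCharacter G)] (hpM : (p : AlgInt) ∈ M) {k : ℕ} (hk : N.index = p ^ k)
    {B : Set (IrrCharacter G)} (hB : IsPBlock M B) (hP : IsDefectGroup p M B P) (hNP : N ⊔ P = ⊤)
    (hPab : ∀ x ∈ P, ∀ y ∈ P, x * y = y * x) {χ : IrrCharacter G} (hχ : χ ∈ B) {β : IrrCharacter G}
    (hβ : β ∈ quotIrr N) (hfix : (β : G → ℂ) * (χ : G → ℂ) = (χ : G → ℂ)) : β = Chars.principal G := by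
  obtain ⟨lam, hlam⟩ := quot_linear N hNP hPab hβ
  refine Subtype.ext (funext fun g => ?_)
  obtain ⟨n, u, hu, rfl⟩ := exists_mul_eq N hNP g
  obtain ⟨h, hcomm, hreg, hne⟩ := exists_ne_zero_of_section hpM hB hP hPab hχ hu
  have hfu := congrFun hfix (u * h)
  rw [Pi.mul_apply] at hfu
  have h1 : (β : G → ℂ) (u * h) = 1 := (mul_eq_right₀ hne).1 hfu
  rw [quotIrr_mul N hβ, Chars.principal_apply]
  rw [← hcomm, quotIrr_mul N hβ ⟨h, mem_of_regular_of_index N hk hreg⟩ u] at h1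
  exact h1

/-- The restriction is irreducible. -/
theorem isIrr_restrict (hpM : (p : AlgInt) ∈ M) {k : ℕ} (hk : N.index = p ^ k)
    {B : Set (IrrCharacter G)} (hB : IsPBlock M B) (hP : IsDefectGroup p M B P) (hNP : N ⊔ P = ⊤)
    (hPab : ∀ x ∈ P, ∀ y ∈ P, x * y = y * x) {χ : IrrCharacter G} (hχ : χ ∈ B) :
    IsIrrCharacter N (fun n : N => (χ : G → ℂ) n) := by
  classical
  letI := Chars.irrFintype G
  refine Chars.isIrrCharacter_iff_inner_self.2 ⟨Chars.isCharacter_restrict N (Chars.isCharacter_of_irr χ.2), ?_⟩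
  rw [← Chars.inner_indFun N _ (Chars.isClassFunction_irr χ), indFun_restrict_eq_sum N χ.2, Chars.inner_sum_left]
  have hp1 : Chars.principal G ∈ quotIrr N := (mem_quotIrr N).2 fun x _ => rfl
  rw [Finset.sum_eq_single_of_mem _ hp1 fun β hβ hne => ?_]
  · rw [Chars.inner_smul_left, show (Chars.principal G : G → ℂ) * (χ : G → ℂ) = (χ : G → ℂ) from
      funext fun x => by simp [Chars.principal_apply], Chars.inner_irr_self χ, Chars.principal_apply, one_mul]
  · obtain ⟨lam, hlam⟩ := quot_linear N hNP hPab hβ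
    have hirr : IsIrrCharacter G ((β : G → ℂ) * (χ : G → ℂ)) := by
      rw [hlam]
      exact Chars.isIrrCharacter_linear_mul lam χ.2
    rw [Chars.inner_smul_left, Chars.inner_irr_of_isIrr hirr χ.2,
      if_neg fun e => hne (twist_free N hpM hk hB hP hNP hPab hχ hβ e), mul_zero]

variable {b : Set (IrrCharacter N)}

/-- The fibres of restriction. -/
theorem card_fibre (hpM : (p : AlgInt) ∈ M) {k : ℕ} (hk : N.index = p ^ k) (hb : IsPBlock M b)
    {B : Set (IrrCharacter G)} (hB : IsPBlock M B)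
    (hcov : ∃ χ ∈ B, ∃ θ ∈ b, classInner (fun n : N => (χ : G → ℂ) n) (θ : N → ℂ) ≠ 0)
    (hP : IsDefectGroup p M B P) (hNP : N ⊔ P = ⊤) (hPab : ∀ x ∈ P, ∀ y ∈ P, x * y = y * x)
    {θ : IrrCharacter N} (hθ : θ ∈ b) :
    Nat.card {χ : IrrCharacter G // χ ∈ B ∧ ∀ n : N, (χ : G → ℂ) n = (θ : N → ℂ) n} = N.index := by
  classical
  letI := Chars.irrFintype G
  obtain ⟨χ₀, hχ₀⟩ := exists_character_over N θ
  have hmem : ∀ χ : IrrCharacter G, classInner (fun n : N => (χ : G → ℂ) n) (θ : N → ℂ) ≠ 0 → χ ∈ B := by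
    intro χ h
    rw [covering_unique N hpM hk hb hB (isPBlock_blockOf χ) hcov ⟨χ, mem_blockOf_self χ, θ, hθ, h⟩]
    exact mem_blockOf_self χ
  have hres : (fun n : N => (χ₀ : G → ℂ) n) = (θ : N → ℂ) := by
    by_contra h
    have hirr := isIrr_restrict N hpM hk hB hP hNP hPab (hmem χ₀ hχ₀)
    exact hχ₀ (by rw [Chars.inner_irr_of_isIrr hirr θ.2, if_neg h])
  have hN : IsIrrCharacter N (fun n : N => (χ₀ : G → ℂ) n) := hres ▸ θ.2
  have hrest : ∀ β ∈ quotIrr N, ∀ n : N, (β : G → ℂ) n * (χ₀ : G → ℂ) n = (θ : N → ℂ) n := by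
    intro β hβ n
    obtain ⟨lam, hlam⟩ := quot_linear N hNP hPab hβ
    have h := quotIrr_mul N hβ n 1
    rw [mul_one, hlam] at h
    rw [hlam]
    simp only [map_one, Units.val_one] at h
    show (lam n : ℂ) * _ = _
    rw [h, one_mul, ← congrFun hres n]
  have hcard : (quotIrr N).card = N.index := by
    refine Eq.trans ?_ (CharApps.sum_filter_degree_sq N)
    rw [Finset.card_eq_sum_ones]
    refine Finset.sum_congr (by ext; simp [mem_quotIrr]) fun β hβ => ?_
    obtain ⟨lam, hlam⟩ := quot_linear N hNP hPab ((mem_quotIrr N).2 (by simpa using hβ))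
    have h : (charDegree (β : G → ℂ) : ℂ) = 1 := by rw [← CharApps.deg_eq, hlam]; simp
    rw [show charDegree (β : G → ℂ) = 1 by exact_mod_cast h, one_pow]
  rw [← hcard, ← Nat.card_eq_finsetCard (quotIrr N)]
  symm
  refine Nat.card_congr (Equiv.ofBijective
    (fun β : {β // β ∈ quotIrr N} => (⟨⟨(β.1 : G → ℂ) * (χ₀ : G → ℂ), gallagher_irr N χ₀.2 hN β.2⟩,
      hmem _ (by
        rw [show (fun n : N => ((β.1 : G → ℂ) * (χ₀ : G → ℂ)) n) = (θ : N → ℂ) from funext (hrest β.1 β.2),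
          Chars.inner_irr_self θ]
        exact one_ne_zero), hrest β.1 β.2⟩ :
      {χ : IrrCharacter G // χ ∈ B ∧ ∀ n : N, (χ : G → ℂ) n = (θ : N → ℂ) n})) ⟨fun β β' e => ?_, fun χ => ?_⟩)
  · have e1 : (β.1 : G → ℂ) * (χ₀ : G → ℂ) = (β'.1 : G → ℂ) * (χ₀ : G → ℂ) :=
      congrArg Subtype.val (congrArg Subtype.val e)
    refine Subtype.ext ?_
    by_contra h
    have := gallagher_orthonormal N χ₀.2 hN β.2 β'.2
    rw [if_neg h, e1, gallagher_orthonormal N χ₀.2 hN β'.2 β'.2, if_pos rfl] at this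
    exact one_ne_zero this
  · obtain ⟨β, hβ, e⟩ := gallagher_exists N χ₀.2 hN χ.1.2 (by
      rw [show (fun n : N => (χ.1 : G → ℂ) n) = (θ : N → ℂ) from funext χ.2.2, hres, Chars.inner_irr_self θ]
      exact one_ne_zero)
    exact ⟨⟨β, hβ⟩, Subtype.ext (Subtype.ext e.symm)⟩

/-- Restriction keeps the `p`-regular rank. -/
theorem blockRank_eq {k : ℕ} (hk : N.index = p ^ k) {B : Set (IrrCharacter G)}
    (h1 : ∀ χ ∈ B, ∃ θ ∈ b, ∀ n : N, (χ : G → ℂ) n = (θ : N → ℂ) n)
    (h2 : ∀ θ ∈ b, ∃ χ ∈ B, ∀ n : N, (χ : G → ℂ) n = (θ : N → ℂ) n) :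
    blockRank p B = blockRank p b := by
  classical
  let T : (G → ℂ) →ₗ[ℂ] (N → ℂ) := LinearMap.funLeft ℂ ℂ (fun n : N => (n : G))
  have hT : ∀ (χ : IrrCharacter G) (θ : IrrCharacter N), (∀ n : N, (χ : G → ℂ) n = (θ : N → ℂ) n) →
      T (pRegularPart p (χ : G → ℂ)) = pRegularPart p (θ : N → ℂ) := by
    intro χ θ h
    funext n
    show pRegularPart p (χ : G → ℂ) (n : G) = _
    simp only [pRegularPart_apply, Subgroup.orderOf_coe, h]
  set S := Submodule.span ℂ ((fun χ : IrrCharacter G => pRegularPart p (χ : G → ℂ)) '' B) with hS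
  have hsupp : ∀ v ∈ S, ∀ g : G, g ∉ N → v g = 0 := by
    intro v hv g hg
    induction hv using Submodule.span_induction with
    | mem x hx =>
      obtain ⟨χ, -, rfl⟩ := hx
      show pRegularPart p (χ : G → ℂ) g = 0
      rw [pRegularPart_apply, if_neg fun h => hg (mem_of_regular_of_index N hk h)]
    | zero => rfl
    | add x y _ _ hx hy => rw [Pi.add_apply, hx, hy, add_zero]
    | smul c x _ hx => rw [Pi.smul_apply, hx, smul_zero]
  have hinj : Function.Injective (T.domRestrict S) := by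
    intro v w e
    refine Subtype.ext (funext fun g => ?_)
    by_cases hg : g ∈ N
    · exact congrFun e ⟨g, hg⟩
    · rw [hsupp _ v.2 g hg, hsupp _ w.2 g hg]
  unfold blockRank
  rw [← hS, ← LinearMap.finrank_range_of_inj hinj, LinearMap.range_domRestrict, hS, Submodule.map_span,
    Set.image_image]
  have hset : (fun χ : IrrCharacter G => T (pRegularPart p (χ : G → ℂ))) '' B =
      (fun θ : IrrCharacter N => pRegularPart p (θ : N → ℂ)) '' b := by
    refine le_antisymm ?_ ?_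
    · rintro _ ⟨χ, hχ, rfl⟩
      obtain ⟨θ, hθ, h⟩ := h1 χ hχ
      exact ⟨θ, hθ, (hT χ θ h).symm⟩
    · rintro _ ⟨θ, hθ, rfl⟩
      obtain ⟨χ, hχ, h⟩ := h2 θ hθ
      exact ⟨χ, hχ, hT χ θ h⟩
  rw [hset]

/-- The structure of a block over a stable block of `p`-power index with abelian defect group. -/
theorem main (hpM : (p : AlgInt) ∈ M) {k : ℕ} (hk : N.index = p ^ k) (hb : IsPBlock M b)
    (hst : ∀ g : G, StabilizesBlock N b g) {B : Set (IrrCharacter G)} (hB : IsPBlock M B)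
    (hcov : ∃ χ ∈ B, ∃ θ ∈ b, classInner (fun n : N => (χ : G → ℂ) n) (θ : N → ℂ) ≠ 0)
    (hP : IsDefectGroup p M B P) (hPab : ∀ x ∈ P, ∀ y ∈ P, x * y = y * x) :
    N ⊔ P = ⊤ ∧ IsDefectGroup p M b ((P ⊓ N).subgroupOf N) ∧
      (∀ χ ∈ B, ∃ θ ∈ b, ∀ n : N, (χ : G → ℂ) n = (θ : N → ℂ) n) ∧
      (∀ θ ∈ b, Nat.card {χ : IrrCharacter G // χ ∈ B ∧ ∀ n : N, (χ : G → ℂ) n = (θ : N → ℂ) n} = N.index) ∧
      Nat.card B = N.index * Nat.card b ∧ blockRank p B = blockRank p b := by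
  classical
  obtain ⟨B₀, hB₀, hB₀c⟩ := exists_block_lift N hpM hk hb hst
  obtain rfl : B = B₀ := covering_unique N hpM hk hb hB hB₀ hcov (covers_of_coeff N hb hst hB₀ hB₀c)
  obtain ⟨hNP, hQ, -⟩ := defect_of_lift N hpM hk hb hst hB₀ hB₀c hP
  have hres : ∀ χ ∈ B, ∃ θ ∈ b, ∀ n : N, (χ : G → ℂ) n = (θ : N → ℂ) n := by
    intro χ hχ
    let θ : IrrCharacter N := ⟨fun n : N => (χ : G → ℂ) n, isIrr_restrict N hpM hk hB hP hNP hPab hχ⟩
    obtain ⟨χ₁, hχ₁, θ₁, hθ₁, h⟩ := hcov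
    have hne : classInner (fun n : N => (χ : G → ℂ) n) (θ : N → ℂ) ≠ 0 := by
      show classInner (θ : N → ℂ) (θ : N → ℂ) ≠ 0
      rw [Chars.inner_irr_self θ]
      exact one_ne_zero
    obtain ⟨x, θ', hθ', e⟩ := mem_conjSet_of_sameBlock N hb (IsPBlock.sameBlock hB hχ₁ hχ) hθ₁ h hne
    exact ⟨θ, e ▸ conjIrr_mem_of_stabilizes N hst x θ' hθ', fun n => rfl⟩
  have hfib : ∀ θ ∈ b, Nat.card {χ : IrrCharacter G // χ ∈ B ∧
      ∀ n : N, (χ : G → ℂ) n = (θ : N → ℂ) n} = N.index := fun θ hθ =>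
    card_fibre N hpM hk hb hB hcov hP hNP hPab hθ
  refine ⟨hNP, hQ, hres, hfib, ?_, blockRank_eq N hk hres fun θ hθ => ?_⟩
  · letI := Chars.irrFintype G
    letI := Chars.irrFintype N
    choose f hf hfv using hres
    have hE : Nat.card B = Nat.card (Σ θ : b, {χ : IrrCharacter G // χ ∈ B ∧
        ∀ n : N, (χ : G → ℂ) n = (θ.1 : N → ℂ) n}) := by
      refine Nat.card_congr
        { toFun := fun χ => ⟨⟨f χ.1 χ.2, hf χ.1 χ.2⟩, χ.1, χ.2, hfv χ.1 χ.2⟩
          invFun := fun s => ⟨s.2.1, s.2.2.1⟩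
          left_inv := fun χ => rfl
          right_inv := fun s => ?_ }
      obtain ⟨⟨θ, hθ⟩, χ, hχ, hv⟩ := s
      have e : f χ hχ = θ := Subtype.ext (funext fun n => (hfv χ hχ n).symm.trans (hv n))
      subst e
      rfl
    haveI := Fintype.ofFinite b
    rw [hE, Nat.card_sigma, Finset.sum_congr rfl fun θ _ => hfib θ.1 θ.2, Finset.sum_const,
      Finset.card_univ, smul_eq_mul, Nat.card_eq_fintype_card (α := b), mul_comm]
  · have h := hfib θ hθ
    have : Nonempty {χ : IrrCharacter G // χ ∈ B ∧ ∀ n : N, (χ : G → ℂ) n = (θ : N → ℂ) n} := by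
      refine (Nat.card_pos_iff.1 ?_).1
      rw [h, hk]
      exact pow_pos (Fact.out : p.Prime).pos k
    obtain ⟨χ, hχ, hv⟩ := this
    exact ⟨χ, hχ, hv⟩

end CfsgLib.CharsMore.PIndexAbelian
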