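import Cfsg.Agent.Lib.OddOrder.CyclicSubgroups
import Cfsg.Agent.Lib.CharsMore.InducedCore
import Mathlib

/-!
# Groups with a generalised quaternion Sylow `2`-subgroup
-/

set_option linter.style.haveILetI false
set_option linter.unusedSectionVars false

namespace CfsgLib.CharsMore

variable {G : Type*} [Group G] [Finite G]

/-- Generators of a generalised quaternion Sylow subgroup of order at least `16`. -/
structure QuatData (S : Sylow 2 G) where
  /-- The generator of the cyclic maximal subgroup. -/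
  a : G
  /-- An element outside the cyclic maximal subgroup. -/
  b : G
  /-- The order parameter. -/
  n : ℕ
  a_mem : a ∈ (S : Subgroup G)
  b_mem : b ∈ (S : Subgroup G)
  orderOf_a : orderOf a = 2 ^ (n + 3)
  b_sq : b ^ 2 = a ^ 2 ^ (n + 2)
  conj_a : b * a * b⁻¹ = a⁻¹
  cover : ∀ s ∈ (S : Subgroup G), ∃ i : ℕ, s = a ^ i ∨ s = b * a ^ i

/-- Generators from an isomorphism with a quaternion group. -/
lemma exists_quatData (S : Sylow 2 G) (n : ℕ)
    (e : (S : Subgroup G) ≃* QuaternionGroup (2 ^ (n + 2))) :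
    ∃ q : QuatData S, q.n = n := by
  haveI : NeZero (2 ^ (n + 2)) := ⟨by positivity⟩
  set x := e.symm (QuaternionGroup.a 1) with hx
  set y := e.symm (QuaternionGroup.xa 0) with hy
  have h1 : orderOf (x : G) = 2 ^ (n + 3) := by
    rw [Subgroup.orderOf_coe, hx, MulEquiv.orderOf_eq, QuaternionGroup.orderOf_a_one]
    ring
  have h2 : (y : G) ^ 2 = (x : G) ^ 2 ^ (n + 2) := by
    have : y ^ 2 = x ^ 2 ^ (n + 2) := e.injective (by
      rw [map_pow, map_pow, hx, hy, MulEquiv.apply_symm_apply, MulEquiv.apply_symm_apply,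
        QuaternionGroup.xa_sq, QuaternionGroup.a_one_pow])
    exact congrArg Subtype.val this
  have h3 : (y : G) * x * (y : G)⁻¹ = (x : G)⁻¹ := by
    have : y * x = x⁻¹ * y := by
      apply e.injective
      rw [map_mul, map_mul, map_inv, hx, hy, MulEquiv.apply_symm_apply, MulEquiv.apply_symm_apply,
        eq_inv_mul_iff_mul_eq]
      simp
    have h4 : (y : G) * x = (x : G)⁻¹ * y := congrArg Subtype.val this
    rw [h4, mul_inv_cancel_right]
  refine ⟨⟨x, y, n, x.2, y.2, h1, h2, h3, fun s hs => ?_⟩, rfl⟩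
  rcases hs' : e ⟨s, hs⟩ with i | i
  · refine ⟨i.val, Or.inl ?_⟩
    have : (⟨s, hs⟩ : (S : Subgroup G)) = x ^ i.val := e.injective (by
      rw [map_pow, hx, MulEquiv.apply_symm_apply, QuaternionGroup.a_one_pow, ZMod.natCast_zmod_val]
      exact hs')
    exact congrArg Subtype.val this
  · refine ⟨i.val, Or.inr ?_⟩
    have : (⟨s, hs⟩ : (S : Subgroup G)) = y * x ^ i.val := e.injective (by
      rw [map_mul, map_pow, hx, hy, MulEquiv.apply_symm_apply, MulEquiv.apply_symm_apply,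
        QuaternionGroup.a_one_pow, ZMod.natCast_zmod_val, QuaternionGroup.xa_mul_a, zero_add]
      exact hs')
    exact congrArg Subtype.val this

namespace QuatData

variable {S : Sylow 2 G} (q : QuatData S)

/-- The cyclic subgroup of index two. -/
abbrev A : Subgroup G := Subgroup.zpowers q.a

/-- The derived subgroup. -/
abbrev D : Subgroup G := Subgroup.zpowers (q.a ^ 2)

/-- The centraliser of the derived subgroup. -/
abbrev C : Subgroup G := Subgroup.centralizer (q.D : Set G)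

lemma zpow_conj (k : ℤ) : q.b * q.a ^ k * q.b⁻¹ = (q.a ^ k)⁻¹ := by
  rw [← conj_zpow, q.conj_a, inv_zpow]

lemma pow_conj (k : ℕ) : q.b * q.a ^ k * q.b⁻¹ = (q.a ^ k)⁻¹ := by
  simpa using q.zpow_conj k

lemma A_le : q.A ≤ (S : Subgroup G) := Subgroup.zpowers_le.2 q.a_mem

lemma D_le_A : q.D ≤ q.A := Subgroup.zpowers_le.2 (Subgroup.npow_mem_zpowers _ _)

lemma orderOf_sq : orderOf (q.a ^ 2) = 2 ^ (q.n + 2) := by
  rw [orderOf_pow_of_dvd two_ne_zero (q.orderOf_a ▸ dvd_pow_self 2 (by omega)), q.orderOf_a,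
    pow_succ, Nat.mul_div_cancel _ two_pos]

lemma card_D : Nat.card q.D = 2 ^ (q.n + 2) := by rw [Nat.card_zpowers, orderOf_sq]

lemma card_A : Nat.card q.A = 2 ^ (q.n + 3) := by rw [Nat.card_zpowers, q.orderOf_a]

lemma four_le : 4 ≤ 2 ^ (q.n + 2) := by
  rw [pow_add]; norm_num; exact Nat.one_le_two_pow

lemma commutator_eq : ⁅(S : Subgroup G), (S : Subgroup G)⁆ = q.D := by
  refine le_antisymm (Subgroup.commutator_le.2 fun g hg h hh => ?_) (Subgroup.zpowers_le.2 ?_)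
  · obtain ⟨i, hi⟩ := q.cover g hg
    obtain ⟨j, hj⟩ := q.cover h hh
    have key : ∀ k : ℤ, (q.a ^ 2) ^ k ∈ q.D := fun k => Subgroup.mem_zpowers_iff.2 ⟨k, rfl⟩
    have hb : ∀ k : ℤ, q.b * q.a ^ k = q.a ^ (-k) * q.b := fun k => by
      rw [zpow_neg, ← q.zpow_conj k, inv_mul_cancel_right]
    have hbi : ∀ k : ℤ, q.b⁻¹ * q.a ^ k = q.a ^ (-k) * q.b⁻¹ := fun k => by
      rw [inv_mul_eq_iff_eq_mul, ← mul_assoc, hb, neg_neg, mul_inv_cancel_right]
    rw [commutatorElement_def]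
    rcases hi with rfl | rfl <;> rcases hj with rfl | rfl
    · rw [← pow_add, add_comm, pow_add, mul_inv_cancel_right, mul_inv_cancel]
      exact one_mem _
    · convert key i using 1
      simp only [← zpow_natCast, mul_inv_rev, ← zpow_neg, ← mul_assoc, ← zpow_mul]
      rw [show q.a ^ (i : ℤ) * q.b * q.a ^ (j : ℤ) * q.a ^ (-(i : ℤ)) * q.a ^ (-(j : ℤ)) * q.b⁻¹ =
          q.a ^ (i : ℤ) * (q.b * q.a ^ (-(i : ℤ))) * q.b⁻¹ by group, hb, neg_neg]
      group
    · convert key (-j) using 1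
      simp only [← zpow_natCast, mul_inv_rev, ← zpow_neg, ← mul_assoc, ← zpow_mul]
      rw [show q.b * q.a ^ (i : ℤ) * q.a ^ (j : ℤ) * q.a ^ (-(i : ℤ)) * q.b⁻¹ * q.a ^ (-(j : ℤ)) =
          q.b * q.a ^ (j : ℤ) * q.b⁻¹ * q.a ^ (-(j : ℤ)) by group, hb]
      group
    · convert key ((j : ℤ) - i) using 1
      simp only [← zpow_natCast, mul_inv_rev, ← zpow_neg, ← mul_assoc, ← zpow_mul]
      rw [show q.b * q.a ^ (i : ℤ) * q.b * q.a ^ (j : ℤ) * q.a ^ (-(i : ℤ)) * q.b⁻¹ *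
          q.a ^ (-(j : ℤ)) * q.b⁻¹ = q.b * q.a ^ (i : ℤ) * (q.b * q.a ^ ((j : ℤ) - i)) * q.b⁻¹ *
          q.a ^ (-(j : ℤ)) * q.b⁻¹ by group, hb ((j : ℤ) - i),
        show q.b * q.a ^ (i : ℤ) * (q.a ^ (-((j : ℤ) - i)) * q.b) * q.b⁻¹ * q.a ^ (-(j : ℤ)) *
          q.b⁻¹ = q.b * q.a ^ ((i : ℤ) - ((j : ℤ) - i) - j) * q.b⁻¹ by group, q.zpow_conj]
      group
  · have h := Subgroup.commutator_mem_commutator q.a_mem q.b_mem
    rwa [commutatorElement_def,
      show q.a * q.b * q.a⁻¹ * q.b⁻¹ = q.a * (q.b * q.a * q.b⁻¹)⁻¹ by group,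
      q.conj_a, inv_inv, ← sq] at h

lemma A_le_C : q.A ≤ q.C := by
  refine Subgroup.zpowers_le.2 (Subgroup.mem_centralizer_iff.2 fun d hd => ?_)
  obtain ⟨k, rfl⟩ := Subgroup.mem_zpowers_iff.1 hd
  exact ((Commute.refl q.a).pow_left 2).zpow_left k

lemma inf_C {s : G} (hs : s ∈ (S : Subgroup G)) (hC : s ∈ q.C) : s ∈ q.A := by
  obtain ⟨i, rfl | rfl⟩ := q.cover s hs
  · exact Subgroup.npow_mem_zpowers _ _
  · exfalso
    have hbC : q.b ∈ q.C := by
      simpa using q.C.mul_mem hC (q.C.inv_mem (q.A_le_C (Subgroup.npow_mem_zpowers q.a i)))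
    have h := Subgroup.mem_centralizer_iff.1 hbC _ (Subgroup.mem_zpowers (q.a ^ 2))
    have h2 := q.pow_conj 2
    rw [← h, mul_inv_cancel_right] at h2
    have h4 : q.a ^ 4 = 1 := by
      rw [show 4 = 2 + 2 from rfl, pow_add]
      nth_rewrite 1 [h2]
      exact inv_mul_cancel _
    have h5 := orderOf_dvd_of_pow_eq_one h4
    rw [q.orderOf_a] at h5
    have h6 := Nat.le_of_dvd (by norm_num) h5
    have := q.four_le
    rw [pow_succ] at h6
    omega

lemma le_normalizer : (S : Subgroup G) ≤ Subgroup.normalizer (q.D : Set G) := by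
  rw [← q.commutator_eq]
  intro s hs
  have key : ∀ s ∈ (S : Subgroup G), ∀ x ∈ ⁅(S : Subgroup G), (S : Subgroup G)⁆,
      s * x * s⁻¹ ∈ ⁅(S : Subgroup G), (S : Subgroup G)⁆ := by
    intro s hs x hx
    have hmap : (S : Subgroup G).map (MulAut.conj s).toMonoidHom ≤ S := by
      rintro _ ⟨a, ha, rfl⟩
      exact (S : Subgroup G).mul_mem ((S : Subgroup G).mul_mem hs ha) ((S : Subgroup G).inv_mem hs)
    refine (Subgroup.commutator_mono hmap hmap) ?_
    rw [← Subgroup.map_commutator]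
    exact ⟨x, hx, rfl⟩
  refine Subgroup.mem_normalizer_iff.2 fun x => ⟨key s hs x, fun h => ?_⟩
  have := key s⁻¹ ((S : Subgroup G).inv_mem hs) _ h
  simpa [mul_assoc] using this

lemma eq_of_central {s : G} (hs : s ∈ (S : Subgroup G)) (ha : s * q.a = q.a * s)
    (hb : s * q.b = q.b * s) : s = 1 ∨ s = q.a ^ 2 ^ (q.n + 2) := by
  have hC : s ∈ q.C := Subgroup.mem_centralizer_iff.2 fun d hd => by
    obtain ⟨k, rfl⟩ := Subgroup.mem_zpowers_iff.1 hd
    exact ((Commute.pow_right (show Commute s q.a from ha) 2).zpow_right k).symm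
  obtain ⟨k, rfl⟩ := Subgroup.mem_zpowers_iff.1 (q.inf_C hs hC)
  have h := q.zpow_conj k
  rw [← hb, mul_inv_cancel_right, eq_inv_iff_mul_eq_one, ← zpow_add,
    ← orderOf_dvd_iff_zpow_eq_one, q.orderOf_a] at h
  obtain ⟨j, hj⟩ := h
  have hk : k = (2 ^ (q.n + 2) : ℕ) * j := by
    push_cast at hj ⊢
    rw [pow_succ] at hj
    linarith
  rcases Int.even_or_odd j with ⟨i, rfl⟩ | ⟨i, rfl⟩
  · left
    rw [← orderOf_dvd_iff_zpow_eq_one, q.orderOf_a]
    exact ⟨i, by rw [hk]; push_cast; rw [pow_succ 2 (q.n + 2)]; ring⟩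
  · right
    rw [hk, mul_add, zpow_add, mul_one, zpow_natCast, ← mul_assoc,
      orderOf_dvd_iff_zpow_eq_one.1 (show (orderOf q.a : ℤ) ∣
        ((2 ^ (q.n + 2) : ℕ) : ℤ) * 2 * i from ⟨i, by
          rw [q.orderOf_a]; push_cast; rw [pow_succ 2 (q.n + 2)]⟩), one_mul]

lemma eq_of_orderOf_two {s : G} (hs : s ∈ (S : Subgroup G)) (h2 : orderOf s = 2) :
    s = q.a ^ 2 ^ (q.n + 2) := by
  have hsq : s ^ 2 = 1 := h2 ▸ pow_orderOf_eq_one s
  have hne : s ≠ 1 := fun e => by rw [e, orderOf_one] at h2; omega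
  obtain ⟨i, rfl | rfl⟩ := q.cover s hs
  · rw [← pow_mul, ← orderOf_dvd_iff_pow_eq_one, q.orderOf_a, pow_succ] at hsq
    obtain ⟨j, rfl⟩ := Nat.dvd_of_mul_dvd_mul_right two_pos hsq
    rcases Nat.even_or_odd j with ⟨k, rfl⟩ | ⟨k, rfl⟩
    · refine absurd ?_ hne
      rw [← orderOf_dvd_iff_pow_eq_one, q.orderOf_a]
      exact ⟨k, by rw [pow_succ 2 (q.n + 2)]; ring⟩
    · rw [mul_add, pow_add, mul_one, ← mul_assoc, orderOf_dvd_iff_pow_eq_one.1 (show orderOf q.a ∣
        2 ^ (q.n + 2) * 2 * k from ⟨k, by rw [q.orderOf_a, pow_succ 2 (q.n + 2)]⟩), one_mul]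
  · exfalso
    have h3 : q.b * q.a ^ i * q.b = q.a ^ 2 ^ (q.n + 2) * (q.a ^ i)⁻¹ := by
      rw [← q.b_sq, ← q.pow_conj i, sq]
      have hbb : q.b * q.b * q.a ^ i = q.a ^ i * (q.b * q.b) := by
        rw [← sq, q.b_sq, ← pow_add, ← pow_add, add_comm]
      calc q.b * q.a ^ i * q.b = q.b * (q.a ^ i * (q.b * q.b)) * q.b⁻¹ := by group
        _ = q.b * q.b * (q.b * q.a ^ i * q.b⁻¹) := by rw [← hbb]; group
    have h4 : (q.b * q.a ^ i) ^ 2 = q.a ^ 2 ^ (q.n + 2) := by
      rw [sq, ← mul_assoc, h3, inv_mul_cancel_right]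
    rw [h4, ← orderOf_dvd_iff_pow_eq_one, q.orderOf_a] at hsq
    have := Nat.le_of_dvd (by positivity) hsq
    rw [pow_succ 2 (q.n + 2)] at this
    have := q.four_le
    omega

/-- A conjugate of the Sylow subgroup contains no central copy of the derived subgroup. -/
lemma not_sylow_le_C (R : Sylow 2 G) (hR : (R : Subgroup G) ≤ q.C) (hD : q.D ≤ (R : Subgroup G)) :
    False := by
  obtain ⟨g, hg⟩ := MulAction.exists_smul_eq G R S
  have hmem : ∀ x ∈ (R : Subgroup G), g * x * g⁻¹ ∈ (S : Subgroup G) := fun x hx => by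
    rw [← hg]; exact Subgroup.smul_mem_pointwise_smul x (MulAut.conj g) _ hx
  have hmem' : ∀ s ∈ (S : Subgroup G), g⁻¹ * s * g ∈ (R : Subgroup G) := fun s hs => by
    rw [← hg] at hs
    obtain ⟨x, hx, hxs⟩ := (Subgroup.mem_smul_pointwise_iff_exists _ _ _).1 hs
    rw [← hxs]
    simpa [mul_assoc] using hx
  set z := g * q.a ^ 2 * g⁻¹ with hz
  have hcomm : ∀ s ∈ (S : Subgroup G), z * s = s * z := by
    intro s hs
    have h1 : q.a ^ 2 * (g⁻¹ * s * g) = g⁻¹ * s * g * q.a ^ 2 :=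
      Subgroup.mem_centralizer_iff.1 (hR (hmem' s hs)) _ (Subgroup.mem_zpowers _)
    calc z * s = g * (q.a ^ 2 * (g⁻¹ * s * g)) * g⁻¹ := by rw [hz]; group
      _ = s * z := by rw [h1, hz]; group
  have hord : orderOf z = 2 ^ (q.n + 2) := by
    rw [hz, ← MulAut.conj_apply, MulEquiv.orderOf_eq, q.orderOf_sq]
  have h4 := q.four_le
  rcases q.eq_of_central (hmem _ (hD (Subgroup.mem_zpowers _))) (hcomm _ q.a_mem)
    (hcomm _ q.b_mem) with h | h
  · rw [← hz] at h
    rw [h, orderOf_one] at hord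
    omega
  · rw [← hz] at h
    have h2 : orderOf z ∣ 2 := orderOf_dvd_of_pow_eq_one (by
      rw [h, ← pow_mul, ← pow_succ, ← q.orderOf_a, pow_orderOf_eq_one])
    have := Nat.le_of_dvd two_pos h2
    omega

/-- The cyclic subgroup is a Sylow subgroup of the centraliser. -/
lemma exists_sylow_C : ∃ Q : Sylow 2 q.C, (Q : Subgroup q.C) = q.A.subgroupOf q.C := by
  have hA : IsPGroup 2 (q.A.subgroupOf q.C) :=
    (S.2.to_le q.A_le).comap_of_injective _ q.C.subtype_injective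
  obtain ⟨Q, hQ⟩ := hA.exists_le_sylow
  refine ⟨Q, (Subgroup.eq_of_le_of_card_ge hQ ?_).symm⟩
  rw [Nat.card_congr (Subgroup.subgroupOfEquivOfLe q.A_le_C).toEquiv, card_A]
  set Q' := (Q : Subgroup q.C).map q.C.subtype
  have hQ' : Nat.card Q' = Nat.card (Q : Subgroup q.C) :=
    Subgroup.card_map_of_injective q.C.subtype_injective
  rw [← hQ']
  obtain ⟨R, hR⟩ := (Q.2.map q.C.subtype).exists_le_sylow
  obtain ⟨k, hk⟩ := IsPGroup.iff_card.1 (Q.2.map q.C.subtype)
  by_contra hlt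
  push Not at hlt
  have hcardS : Nat.card (S : Subgroup G) ≤ 2 ^ (q.n + 4) := by
    classical
    have hsub : ((S : Subgroup G) : Set G) ⊆ (q.A : Set G) ∪ (q.b * ·) '' (q.A : Set G) := by
      intro s hs
      obtain ⟨i, rfl | rfl⟩ := q.cover s hs
      · exact Or.inl (Subgroup.npow_mem_zpowers _ _)
      · exact Or.inr ⟨_, Subgroup.npow_mem_zpowers _ _, rfl⟩
    have h1 := Set.ncard_le_ncard hsub (Set.toFinite _)
    have h2 := Set.ncard_union_le (q.A : Set G) ((q.b * ·) '' (q.A : Set G))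
    have h3 := Set.ncard_image_le (f := (q.b * ·)) (Set.toFinite (q.A : Set G))
    rw [← Nat.card_coe_set_eq, ← Nat.card_coe_set_eq] at h3
    rw [← Nat.card_coe_set_eq, ← Nat.card_coe_set_eq] at h1
    rw [← Nat.card_coe_set_eq, ← Nat.card_coe_set_eq, ← Nat.card_coe_set_eq] at h2
    have h5 : Nat.card (q.A : Set G) = 2 ^ (q.n + 3) := q.card_A
    change Nat.card (S : Subgroup G) ≤ _ at h1
    rw [show q.n + 4 = q.n + 3 + 1 by omega, pow_succ]
    omega
  have hle := Nat.card_le_card_of_injective _ (Subgroup.inclusion_injective hR)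
  have hRS : Nat.card (R : Subgroup G) = Nat.card (S : Subgroup G) := by
    rw [R.card_eq_multiplicity, S.card_eq_multiplicity]
  have hk3 : q.n + 3 < k := by
    rw [hk] at hlt
    exact (Nat.pow_lt_pow_iff_right (by norm_num)).1 hlt
  have h4 : 2 ^ (q.n + 4) ≤ Nat.card Q' := by
    rw [hk]; exact Nat.pow_le_pow_right (by norm_num) hk3
  have heq : Q' = R := Subgroup.eq_of_le_of_card_ge hR (by omega)
  refine q.not_sylow_le_C R (heq ▸ Subgroup.map_subtype_le _) (fun d hd => ?_)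
  rw [← heq]
  exact ⟨⟨d, q.A_le_C (q.D_le_A hd)⟩, hQ (q.D_le_A hd), rfl⟩

/-- An element of the centraliser with order divisible by that of the derived subgroup. -/
lemma D_le_zpowers {y : G} (hy : y ∈ q.C) (hdvd : Nat.card q.D ∣ orderOf y) :
    q.D ≤ Subgroup.zpowers y := by
  obtain ⟨Q, hQ⟩ := q.exists_sylow_C
  rw [q.card_D] at hdvd
  set u := y ^ (orderOf y / 2 ^ (q.n + 2))
  have hu : orderOf u = 2 ^ (q.n + 2) := orderOf_pow_orderOf_div (orderOf_pos y).ne' hdvd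
  have huC : u ∈ q.C := q.C.pow_mem hy _
  haveI : (q.D.subgroupOf q.C).Normal := ⟨fun d hd c => by
    have h : (d : G) * c = c * d := Subgroup.mem_centralizer_iff.1 c.2 _ hd
    show (c : G) * d * (c : G)⁻¹ ∈ q.D
    rw [← h, mul_inv_cancel_right]
    exact hd⟩
  have hDp : IsPGroup 2 (q.D.subgroupOf q.C) :=
    (S.2.to_le (q.D_le_A.trans q.A_le)).comap_of_injective _ q.C.subtype_injective
  have hUp : IsPGroup 2 (Subgroup.zpowers (⟨u, huC⟩ : q.C)) := IsPGroup.iff_card.2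
    ⟨q.n + 2, by rw [Nat.card_zpowers, Subgroup.orderOf_mk, hu]⟩
  obtain ⟨Q', hQ'⟩ := (IsPGroup.to_sup_of_normal_left hDp hUp).exists_le_sylow
  haveI : IsCyclic (Q : Subgroup q.C) := by
    rw [hQ]
    exact isCyclic_of_surjective _ (Subgroup.subgroupOfEquivOfLe q.A_le_C).symm.surjective
  haveI : IsCyclic (Q' : Subgroup q.C) := isCyclic_of_surjective _ (Sylow.equiv Q Q').surjective
  have heq := OddOrder.eq_of_card_eq_of_isCyclic (le_sup_left.trans hQ')
    (le_sup_right.trans hQ') (by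
      rw [Nat.card_congr (Subgroup.subgroupOfEquivOfLe (q.D_le_A.trans q.A_le_C)).toEquiv, q.card_D,
        Nat.card_zpowers, Subgroup.orderOf_mk, hu])
  intro d hd
  obtain ⟨k, hk⟩ := Subgroup.mem_zpowers_iff.1
    (heq.le (show (⟨d, q.A_le_C (q.D_le_A hd)⟩ : q.C) ∈ q.D.subgroupOf q.C from hd))
  have hk' : u ^ k = d := congrArg Subtype.val hk
  rw [← hk']
  exact Subgroup.zpow_mem _ (Subgroup.npow_mem_zpowers _ _) k

/-- Fusion of the special elements of the centraliser. -/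
lemma mem_normalizer_of_conj {g y : G} (hy : y ∈ q.C) (hdvd : Nat.card q.D ∣ orderOf y)
    (hgy : g * y * g⁻¹ ∈ q.C) : g ∈ Subgroup.normalizer (q.D : Set G) := by
  have hdvd' : Nat.card q.D ∣ orderOf (g * y * g⁻¹) := by
    rwa [← MulAut.conj_apply, MulEquiv.orderOf_eq]
  have h1 := q.D_le_zpowers hy hdvd
  have h2 := q.D_le_zpowers hgy hdvd'
  have h3 : q.D.map (MulAut.conj g).toMonoidHom ≤ Subgroup.zpowers (g * y * g⁻¹) := by
    refine (Subgroup.map_mono h1).trans ?_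
    rw [MonoidHom.map_zpowers]
    exact le_rfl
  have heq : q.D.map (MulAut.conj g).toMonoidHom = q.D :=
    OddOrder.eq_of_card_eq_of_isCyclic h3 h2
      (Subgroup.card_map_of_injective (MulAut.conj g).injective)
  refine Subgroup.mem_normalizer_iff.2 fun h => ⟨fun hh => ?_, fun hh => ?_⟩
  · rw [← heq]
    exact ⟨h, hh, rfl⟩
  · rw [← heq] at hh
    obtain ⟨d, hd, hdh⟩ := hh
    have : d = h := (MulAut.conj g).injective hdh
    exact this ▸ hd

lemma conj_mem_C {g y : G} (hg : g ∈ Subgroup.normalizer (q.D : Set G)) (hy : y ∈ q.C) :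
    g * y * g⁻¹ ∈ q.C := by
  refine Subgroup.mem_centralizer_iff.2 fun d hd => ?_
  have hd' : g⁻¹ * d * g ∈ q.D := by
    simpa using (Subgroup.mem_normalizer_iff.1 (Subgroup.inv_mem _ hg) d).1 hd
  have h := Subgroup.mem_centralizer_iff.1 hy _ hd'
  calc d * (g * y * g⁻¹) = g * (g⁻¹ * d * g * y) * g⁻¹ := by group
    _ = g * y * g⁻¹ * d := by rw [h]; group

/-- The odd complement. -/
theorem exists_complement : ∃ K : Subgroup G, Odd (Nat.card K) ∧ K ≤ q.C ∧
    (∀ x ∈ q.C, Odd (orderOf x) → x ∈ K) ∧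
    Subgroup.normalizer (q.D : Set G) ≤ Subgroup.normalizer (K : Set G) ∧
    (∀ c ∈ q.C, ∃ k ∈ K, ∃ x ∈ q.A, c = k * x) ∧
    (∀ g ∈ Subgroup.normalizer (q.D : Set G), ∃ c ∈ q.C, g = c ∨ g = c * q.b) := by
  obtain ⟨Q, hQ⟩ := q.exists_sylow_C
  have hQc : IsCyclic Q := by
    show IsCyclic (Q : Subgroup q.C)
    rw [hQ]
    exact isCyclic_of_surjective _ (Subgroup.subgroupOfEquivOfLe q.A_le_C).symm.surjective
  have hmin : (Nat.card q.C).minFac = 2 := by
    rw [Nat.minFac_eq_two_iff]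
    exact (dvd_pow_self 2 (by omega : q.n + 3 ≠ 0)).trans
      (q.card_A ▸ Subgroup.card_dvd_of_le q.A_le_C)
  set K₀ := (MonoidHom.transferSylow Q (hQc.normalizer_le_centralizer hmin)).ker
  have hcompl : K₀.IsComplement' (Q : Subgroup q.C) :=
    MonoidHom.ker_transferSylow_isComplement' Q (hQc.normalizer_le_centralizer hmin)
  have hK₀ : ¬ 2 ∣ Nat.card K₀ :=
    MonoidHom.not_dvd_card_ker_transferSylow Q (hQc.normalizer_le_centralizer hmin)
  have hodd : ∀ x : q.C, Odd (orderOf x) → x ∈ K₀ := by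
    intro x hx
    rw [MonoidHom.mem_ker, ← orderOf_eq_one_iff]
    obtain ⟨j, hj⟩ := (IsPGroup.iff_orderOf.1 Q.2)
      (MonoidHom.transferSylow Q (hQc.normalizer_le_centralizer hmin) x)
    exact Nat.eq_one_of_dvd_coprimes ((Nat.coprime_two_left.2 hx).pow_left j) (dvd_of_eq hj)
      (orderOf_map_dvd _ x)
  set K := K₀.map q.C.subtype
  have hKodd : Odd (Nat.card K) := by
    rw [Subgroup.card_map_of_injective q.C.subtype_injective]
    exact Nat.odd_iff.2 (Nat.two_dvd_ne_zero.1 hK₀)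
  have hKmem : ∀ x ∈ q.C, Odd (orderOf x) → x ∈ K := fun x hx ho =>
    ⟨⟨x, hx⟩, hodd _ (by rwa [Subgroup.orderOf_mk]), rfl⟩
  have hKle : K ≤ q.C := Subgroup.map_subtype_le _
  have hconj : ∀ g ∈ Subgroup.normalizer (q.D : Set G), ∀ k ∈ K, g * k * g⁻¹ ∈ K := by
    intro g hg k hk
    refine hKmem _ (q.conj_mem_C hg (hKle hk)) ?_
    rw [← MulAut.conj_apply, MulEquiv.orderOf_eq]
    exact hKodd.of_dvd_nat (Subgroup.orderOf_dvd_natCard K hk)
  refine ⟨K, hKodd, hKle, hKmem, fun g hg => Subgroup.mem_normalizer_iff.2 fun k =>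
    ⟨hconj g hg k, fun h => ?_⟩, fun c hc => ?_, fun g hg => ?_⟩
  · have := hconj g⁻¹ (Subgroup.inv_mem _ hg) _ h
    simpa [mul_assoc] using this
  · obtain ⟨⟨k, x⟩, hkx⟩ := hcompl.2 ⟨c, hc⟩
    have hxA : ((x : q.C) : G) ∈ q.A := by
      exact hQ.le x.2
    exact ⟨(k : q.C), ⟨k, k.2, rfl⟩, (x : q.C), hxA, (congrArg Subtype.val hkx).symm⟩
  · -- the quotient by the centraliser is a two-group
    set N := Subgroup.normalizer (q.D : Set G)
    have hCN : q.C ≤ N := fun c hc => Subgroup.mem_normalizer_iff.2 fun d => by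
      constructor
      · intro hd
        rw [← Subgroup.mem_centralizer_iff.1 hc d hd, mul_inv_cancel_right]
        exact hd
      · intro hd
        have h := Subgroup.mem_centralizer_iff.1 (q.C.inv_mem hc) _ hd
        have : d = c * d * c⁻¹ := by
          calc d = c⁻¹ * (c * d * c⁻¹) * c := by group
            _ = c * d * c⁻¹ := by rw [← h, inv_mul_cancel_right]
        rwa [this]
    haveI : (q.C.subgroupOf N).Normal := ⟨fun c hc g => q.conj_mem_C g.2 hc⟩
    have hker : q.D.normalizerMonoidHom.ker = q.C.subgroupOf N :=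
      Subgroup.normalizerMonoidHom_ker q.D
    have hidx : ∃ k, (q.C.subgroupOf N).index = 2 ^ k := by
      have h1 : (q.C.subgroupOf N).index ∣ Nat.card (MulAut q.D) := by
        rw [← hker, Subgroup.index_ker]
        exact Subgroup.card_subgroup_dvd_card _
      have h2 : Nat.card (MulAut q.D) = 2 ^ (q.n + 1) := by
        rw [IsCyclic.card_mulAut, q.card_D, Nat.totient_prime_pow Nat.prime_two (by omega)]
        simp
      rw [h2] at h1
      obtain ⟨k, -, hk⟩ := (Nat.dvd_prime_pow Nat.prime_two).1 h1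
      exact ⟨k, hk⟩
    have hodd' : ¬ 2 ∣ ((S : Subgroup G).subgroupOf N).index := fun h =>
      S.not_dvd_index (h.trans (Dvd.intro _ (Subgroup.relIndex_mul_index q.le_normalizer)))
    have htop : q.C.subgroupOf N ⊔ (S : Subgroup G).subgroupOf N = ⊤ := by
      rw [← Subgroup.index_eq_one]
      obtain ⟨k, hk⟩ := hidx
      refine Nat.eq_one_of_dvd_coprimes (?_ : Nat.Coprime (2 ^ k) ((S : Subgroup G).subgroupOf N).index)
        (hk ▸ Subgroup.index_dvd_of_le le_sup_left) (Subgroup.index_dvd_of_le le_sup_right)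
      exact ((Nat.prime_two.coprime_iff_not_dvd).2 hodd').pow_left k
    obtain ⟨c, s, hc, hs, hcs⟩ : ∃ c s : N, (c : G) ∈ q.C ∧ (s : G) ∈ (S : Subgroup G) ∧
        (⟨g, hg⟩ : N) = c * s := by
      have h : (⟨g, hg⟩ : N) ∈ ((q.C.subgroupOf N ⊔ (S : Subgroup G).subgroupOf N : Subgroup N) :
          Set N) := by rw [htop]; trivial
      rw [Subgroup.normal_mul] at h
      obtain ⟨c, hc, s, hs, h⟩ := h
      exact ⟨c, s, hc, hs, h.symm⟩
    have hg' : g = (c : G) * s := congrArg Subtype.val hcs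
    obtain ⟨i, hi | hi⟩ := q.cover s hs
    · exact ⟨g, hg' ▸ q.C.mul_mem hc (hi ▸ q.A_le_C (Subgroup.npow_mem_zpowers _ _)), Or.inl rfl⟩
    · refine ⟨(c : G) * (q.a ^ i)⁻¹, q.C.mul_mem hc
        (q.C.inv_mem (q.A_le_C (Subgroup.npow_mem_zpowers _ _))), Or.inr ?_⟩
      rw [hg', hi, mul_assoc, ← q.pow_conj i, inv_mul_cancel_right]

lemma b_notMem_C : q.b ∉ q.C := fun h => by
  obtain ⟨k, hk⟩ := Subgroup.mem_zpowers_iff.1 (q.inf_C q.b_mem h)
  have h1 := q.pow_conj 1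
  rw [pow_one, ← hk, (Commute.zpow_self q.a k).eq, mul_inv_cancel_right] at h1
  have h2 : q.a ^ 2 = 1 := by rw [sq]; nth_rewrite 1 [h1]; exact inv_mul_cancel _
  have h3 := orderOf_dvd_of_pow_eq_one h2
  rw [q.orderOf_a] at h3
  have := Nat.le_of_dvd two_pos h3
  have := q.four_le
  rw [pow_succ 2 (q.n + 2)] at *
  omega

lemma index_C_eq_two :
    (q.C.subgroupOf (Subgroup.normalizer (q.D : Set G))).index = 2 := by
  obtain ⟨-, -, -, -, -, -, hdec⟩ := q.exists_complement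
  rw [Subgroup.index_eq_two_iff]
  refine ⟨⟨q.b, q.le_normalizer q.b_mem⟩, fun g => ?_⟩
  show Xor ((g : G) * q.b ∈ q.C) ((g : G) ∈ q.C)
  obtain ⟨c, hc, h | h⟩ := hdec g g.2
  · refine Or.inr ⟨h ▸ hc, fun h' => q.b_notMem_C ?_⟩
    simpa using q.C.mul_mem (q.C.inv_mem (h ▸ hc : (g : G) ∈ q.C)) h'
  · refine Or.inl ⟨?_, fun h' => q.b_notMem_C ?_⟩
    · rw [h, mul_assoc, ← sq, q.b_sq]
      exact q.C.mul_mem hc (q.A_le_C (Subgroup.npow_mem_zpowers _ _))
    · rw [h] at h'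
      simpa using q.C.mul_mem (q.C.inv_mem hc) h'

end QuatData

end CfsgLib.CharsMore
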