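import Cfsg.Agent.S0857
import Cfsg.Agent.Lib.CharsMore.InducedCore
import Cfsg.Agent.Lib.CharsMore.BrauerInduction
import Cfsg.Agent.Lib.Chars.Monomial
import Mathlib

/-!
# Relative monomial groups
-/

set_option linter.style.haveILetI false
set_option linter.unusedSectionVars false

namespace CfsgLib.CharsMore

open Cfsg

universe u

/-- No square chief factor above `N` in a solvable quotient gives relative monomiality. -/
theorem relative_monomial : ∀ (n : ℕ) {G : Type u} [Group G] [Fintype G], Nat.card G ≤ n →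
    ∀ (N : Subgroup G) [N.Normal], Group.IsSolvable (G ⧸ N) →
    (∀ (H K L : Subgroup G), N ≤ L → L < K → K ≤ H → (∀ h ∈ H, ∀ k ∈ K, h * k * h⁻¹ ∈ K) →
      (∀ h ∈ H, ∀ l ∈ L, h * l * h⁻¹ ∈ L) → (∀ M : Subgroup G, L ≤ M → M ≤ K →
        (∀ h ∈ H, ∀ m ∈ M, h * m * h⁻¹ ∈ M) → M = L ∨ M = K) → ¬ IsSquare (L.relIndex K)) →
    ∀ χ : G → ℂ, IsIrrCharacter G χ →
    ∃ (H : Subgroup G) (hNH : N ≤ H) (ψ : H → ℂ), IsIrrCharacter H ψ ∧ indFun H ψ = χ ∧
      IsIrrCharacter N (fun n : N => ψ ⟨(n : G), hNH n.2⟩) := by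
  intro n
  induction n with
  | zero => intro G _ _ h; exact absurd h (Nat.card_pos (α := G)).not_ge
  | succ n ih =>
    intro G _ _ hn N _ hsolv hchief χ hχ
    classical
    have hχc := Chars.isCharacter_of_irr hχ
    by_cases hN : IsIrrCharacter N (fun x : N => χ x)
    · refine ⟨⊤, le_top, fun x => χ x, Chars.isIrrCharacter_comp (⊤ : Subgroup G).subtype
        (fun y => ⟨⟨y, trivial⟩, rfl⟩) hχ, ?_, hN⟩
      exact Chars.indFun_top χ (Chars.isClassFunction_of_isCharacter hχc)
    -- the least normal subgroup with irreducible restriction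
    obtain ⟨K, ⟨hKn, hNK, hKirr⟩, hKmin⟩ := exists_minimal_of_wellFoundedLT
      (fun K : Subgroup G => K.Normal ∧ N ≤ K ∧ IsIrrCharacter K (fun x : K => χ x))
      ⟨⊤, inferInstance, le_top, Chars.isIrrCharacter_comp (⊤ : Subgroup G).subtype
        (fun y => ⟨⟨y, trivial⟩, rfl⟩) hχ⟩
    have hNK' : N < K := lt_of_le_of_ne hNK fun e => hN (e ▸ hKirr)
    obtain ⟨L, ⟨hLn, hNL, hLK⟩, hLmax⟩ := exists_maximal_of_wellFoundedGT
      (fun L : Subgroup G => L.Normal ∧ N ≤ L ∧ L < K) ⟨N, inferInstance, le_rfl, hNK'⟩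
    haveI := hLn
    haveI := hKn
    have hcf : ∀ M : Subgroup G, M.Normal → L ≤ M → M ≤ K → M = L ∨ M = K := by
      intro M hM h1 h2
      by_cases h : M = K
      · exact Or.inr h
      · exact Or.inl (le_antisymm (hLmax ⟨hM, hNL.trans h1, lt_of_le_of_ne h2 h⟩ h1) h1)
    haveI hsL : Group.IsSolvable (G ⧸ L) := by
      haveI := hsolv
      refine Group.isSolvable_of_surjective (f := QuotientGroup.map N L (MonoidHom.id G) hNL) ?_
      intro y
      obtain ⟨x, rfl⟩ := QuotientGroup.mk'_surjective L y
      exact ⟨QuotientGroup.mk' N x, rfl⟩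
    have hab : ⁅K, K⁆ ≤ L := by
      rcases hcf (⁅K, K⁆ ⊔ L) inferInstance le_sup_right
        (sup_le (Subgroup.commutator_le_self K) hLK.le) with h | h
      · exact le_sup_left.trans_eq h
      · exfalso
        have hmap : K.map (QuotientGroup.mk' L) ≠ ⊥ := fun e => not_le_of_gt hLK (by
          rw [Subgroup.map_eq_bot_iff, QuotientGroup.ker_mk'] at e; exact e)
        refine (Base.commutator_self_lt_of_isSolvable hmap inferInstance).ne ?_
        have e := congrArg (Subgroup.map (QuotientGroup.mk' L)) h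
        rwa [Subgroup.map_sup, (Subgroup.map_eq_bot_iff L).2 (QuotientGroup.ker_mk' L).ge,
          sup_bot_eq, Subgroup.map_commutator] at e
    letI : Fintype L := Fintype.ofFinite _
    have hsq : ¬ IsSquare (L.relIndex K) := hchief ⊤ K L hNL hLK le_top
      (fun h _ k hk => hKn.conj_mem k hk h) (fun h _ l hl => hLn.conj_mem l hl h)
      (fun M h1 h2 h3 => hcf M ⟨fun m hm g => h3 g trivial m hm⟩ h1 h2)
    rcases Cfsg.Agent.S0857.result K L hLK hcf hab (fun x : K => χ x) hKirr
      (fun g k => Chars.isClassFunction_of_isCharacter hχc (k : G) g) with h | ⟨φ, e, -, -, he⟩ |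
        ⟨F, hF, hFc, hFs⟩
    · exact absurd (hKmin ⟨hLn, hNL, h⟩ hLK.le) (not_le_of_gt hLK)
    · exact absurd ⟨e, by rw [← he, sq]⟩ hsq
    · have h2 : 1 < F.card := by
        have h0 : L.relIndex K ≠ 0 := Subgroup.index_ne_zero_of_finite
        have h1 : L.relIndex K ≠ 1 := fun h => not_le_of_gt hLK (Subgroup.relIndex_eq_one.1 h)
        omega
      obtain ⟨φ, hφF, φ', hφ'F, hne⟩ := Finset.one_lt_card.1 h2
      have hin : ∀ ψ ∈ F, classInner (fun x : L => χ x) ψ = 1 := by
        intro ψ hψ
        rw [show (fun x : L => χ x) = ∑ θ ∈ F, θ from hFs, Chars.inner_sum_left,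
          Finset.sum_eq_single ψ (fun θ hθ hne' => by
            rw [Chars.inner_irr_of_isIrr (hF θ hθ) (hF ψ hψ), if_neg hne'])
            (fun h => absurd hψ h)]
        exact (Chars.isIrrCharacter_iff_inner_self.1 (hF ψ hψ)).2
      have hφ := hF φ hφF
      have hLT := le_inertia L (Chars.isClassFunction_of_isCharacter (Chars.isCharacter_of_irr hφ))
      set T := inertia L φ with hTdef
      have hTtop : T ≠ ⊤ := by
        intro e
        have horb : orbitFn L φ = {φ} := by
          ext ψ
          have : ∀ g, conjFn L g φ = φ := fun g => (e ▸ Subgroup.mem_top g : g ∈ T)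
          simp [mem_orbitFn, this, eq_comm]
        have hc := clifford L hχ hφ (by rw [hin φ hφF]; exact one_ne_zero)
        rw [horb, Finset.sum_singleton, hin φ hφF, one_smul] at hc
        have h1 := hin φ' hφ'F
        rw [hc, Chars.inner_irr_of_isIrr hφ (hF φ' hφ'F), if_neg hne] at h1
        exact zero_ne_one h1
      letI : Fintype T := Fintype.ofFinite _
      obtain ⟨ψ, hψ, hψind, -, -⟩ := exists_correspondent L hLT hφ hTdef hχ
        (by rw [hin φ hφF]; exact one_ne_zero)
      have hcardT : Nat.card T ≤ n := by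
        have h1 : Nat.card T < Nat.card G := by
          rw [← Subgroup.card_mul_index T]
          refine lt_mul_of_one_lt_right Nat.card_pos ?_
          have h0 : T.index ≠ 0 := Subgroup.index_ne_zero_of_finite
          have h1 : T.index ≠ 1 := fun h => hTtop (Subgroup.index_eq_one.1 h)
          omega
        omega
      have hNT : N ≤ T := hNL.trans hLT
      haveI : (N.subgroupOf T).Normal := inferInstance
      have hsT : Group.IsSolvable (T ⧸ N.subgroupOf T) := by
        haveI := hsolv
        refine Group.isSolvable_of_isSolvable_injective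
          (f := QuotientGroup.map (N.subgroupOf T) N T.subtype (fun x hx => hx)) ?_
        rw [← MonoidHom.ker_eq_bot_iff, eq_bot_iff]
        intro y hy
        obtain ⟨x, rfl⟩ := QuotientGroup.mk'_surjective _ y
        exact (QuotientGroup.eq_one_iff x).2 ((QuotientGroup.eq_one_iff (x : G)).1 hy)
      obtain ⟨U, hNU, θ, hθ, hθind, hθN⟩ := ih hcardT (N.subgroupOf T) hsT (by
        intro H' K' L' h1 h2 h3 h4 h5 h6
        have e : L'.relIndex K' = (L'.map T.subtype).relIndex (K'.map T.subtype) :=
          (Subgroup.relIndex_map_map_of_injective _ _ T.subtype_injective).symm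
        rw [e]
        refine hchief (H'.map T.subtype) (K'.map T.subtype) (L'.map T.subtype) ?_ ?_
          (Subgroup.map_mono h3) ?_ ?_ ?_
        · intro x hx
          exact ⟨⟨x, hNT hx⟩, h1 hx, rfl⟩
        · exact (Subgroup.map_lt_map_iff_of_injective T.subtype_injective).2 h2
        · rintro _ ⟨h, hh, rfl⟩ _ ⟨k, hk, rfl⟩
          exact ⟨h * k * h⁻¹, h4 h hh k hk, rfl⟩
        · rintro _ ⟨h, hh, rfl⟩ _ ⟨l, hl, rfl⟩
          exact ⟨h * l * h⁻¹, h5 h hh l hl, rfl⟩
        · intro M hM1 hM2 hM3
          have hMT : M ≤ T := hM2.trans (Subgroup.map_subtype_le K')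
          have hMe : (M.subgroupOf T).map T.subtype = M := Subgroup.map_subgroupOf_eq_of_le hMT
          refine (h6 (M.subgroupOf T) ?_ ?_ ?_).imp (fun h => by rw [← hMe, h])
            (fun h => by rw [← hMe, h])
          · intro l hl
            exact hM1 ⟨l, hl, rfl⟩
          · intro m hm
            obtain ⟨k, hk, e⟩ := hM2 hm
            rwa [← Subtype.ext (show ((k : T) : G) = m from e)]
          · intro h hh m hm
            exact hM3 h ⟨h, hh, rfl⟩ m hm) ψ hψ
      let e := U.equivMapOfInjective T.subtype T.subtype_injective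
      refine ⟨U.map T.subtype, fun x hx => ⟨⟨x, hNT hx⟩, hNU hx, rfl⟩, fun x => θ (e.symm x),
        Chars.isIrrCharacter_comp e.symm.toMonoidHom e.symm.surjective hθ, ?_, ?_⟩
      · rw [← hψind, ← hθind, indFun_map_subtype]
      · have h := Chars.isIrrCharacter_comp (Subgroup.subgroupOfEquivOfLe hNT).symm.toMonoidHom
          (Subgroup.subgroupOfEquivOfLe hNT).symm.surjective hθN
        convert h using 1
        funext x
        refine congrArg θ (e.injective ?_)
        rw [e.apply_symm_apply]
        exact Subtype.ext rfl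

end CfsgLib.CharsMore
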