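import Mathlib

/-!
# The special linear group on pairs of vectors
-/

namespace CfsgLib.CharsMore.SLPairs

open Module Matrix

variable {F : Type*} [Field F] {n : ℕ}

/-- A basis starting with two given independent vectors. -/
lemma exists_basis_pair (hn : 2 ≤ n) (w : Fin 2 → (Fin n → F)) (hw : LinearIndependent F w) :
    ∃ b : Basis (Fin 2 ⊕ Fin (n - 2)) F (Fin n → F), ∀ i, b (Sum.inl i) = w i := by
  obtain ⟨W, hW⟩ := (Submodule.span F (Set.range w)).exists_isCompl
  have h2 : finrank F (Submodule.span F (Set.range w)) = 2 := by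
    rw [finrank_span_eq_card hw, Fintype.card_fin]
  have hWd : finrank F W = n - 2 := by
    have := Submodule.finrank_add_eq_of_isCompl hW
    rw [h2, Module.finrank_fin_fun] at this
    omega
  refine ⟨((Basis.span hw).prod (Module.finBasisOfFinrankEq F W hWd)).map
    (Submodule.prodEquivOfIsCompl _ _ hW), fun i => ?_⟩
  simp [Basis.span_apply]

/-- `SL_n` moves any independent pair to any other when `3 ≤ n`. -/
theorem exists_pair (hn : 3 ≤ n) (w w' : Fin 2 → (Fin n → F)) (hw : LinearIndependent F w)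
    (hw' : LinearIndependent F w') :
    ∃ g : SpecialLinearGroup (Fin n) F, ∀ i, (g : Matrix (Fin n) (Fin n) F) *ᵥ w i = w' i := by
  classical
  obtain ⟨b, hb⟩ := exists_basis_pair (by omega) w hw
  obtain ⟨b', hb'⟩ := exists_basis_pair (by omega) w' hw'
  set e : (Fin n → F) ≃ₗ[F] (Fin n → F) := b.equiv b' (Equiv.refl _) with he
  set d := LinearMap.det (e : (Fin n → F) →ₗ[F] (Fin n → F)) with hd
  have hd0 : d ≠ 0 := (LinearEquiv.isUnit_det' e).ne_zero
  set c : Fin 2 ⊕ Fin (n - 2) → F := fun i => if i = Sum.inr ⟨0, by omega⟩ then d⁻¹ else 1 with hc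
  set s : (Fin n → F) →ₗ[F] (Fin n → F) := b'.constr F fun i => c i • b' i with hs
  have hsdet : LinearMap.det s = d⁻¹ := by
    rw [← LinearMap.det_toMatrix b',
      show LinearMap.toMatrix b' b' s = Matrix.diagonal c from ?_, Matrix.det_diagonal, hc]
    · simp
    · ext i j
      rw [LinearMap.toMatrix_apply, hs, Basis.constr_basis, map_smul, Finsupp.smul_apply,
        Basis.repr_self, Matrix.diagonal_apply, Finsupp.single_apply]
      by_cases h : i = j
      · subst h; simp
      · simp [h, Ne.symm h]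
  set f := s ∘ₗ (e : (Fin n → F) →ₗ[F] (Fin n → F)) with hf
  refine ⟨⟨LinearMap.toMatrix' f, ?_⟩, fun i => ?_⟩
  · rw [LinearMap.det_toMatrix', hf, LinearMap.det_comp, hsdet, inv_mul_cancel₀ hd0]
  · show LinearMap.toMatrix' f *ᵥ w i = w' i
    rw [LinearMap.toMatrix'_mulVec, hf, LinearMap.comp_apply, LinearEquiv.coe_coe, ← hb, he,
      Basis.equiv_apply, hs, Basis.constr_basis, Equiv.refl_apply, hb', hc]
    simp

/-- `SL_n` is transitive on non-zero vectors when `3 ≤ n`. -/
theorem exists_single (hn : 3 ≤ n) (u u' : Fin n → F) (hu : u ≠ 0) (hu' : u' ≠ 0) :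
    ∃ g : SpecialLinearGroup (Fin n) F, (g : Matrix (Fin n) (Fin n) F) *ᵥ u = u' := by
  have key : ∀ v : Fin n → F, v ≠ 0 → ∃ w, LinearIndependent F ![v, w] := by
    intro v hv
    have : Submodule.span F {v} ≠ ⊤ := by
      intro h
      have h1 := finrank_span_singleton (K := F) hv
      rw [h, finrank_top, Module.finrank_fin_fun] at h1
      omega
    obtain ⟨w, -, hw⟩ := SetLike.exists_of_lt this.lt_top
    refine ⟨w, (LinearIndependent.pair_iff' hv).2 fun a ha => hw ?_⟩
    exact ha ▸ Submodule.smul_mem _ a (Submodule.mem_span_singleton_self v)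
  obtain ⟨x, hx⟩ := key u hu
  obtain ⟨x', hx'⟩ := key u' hu'
  obtain ⟨g, hg⟩ := exists_pair hn _ _ hx hx'
  exact ⟨g, hg 0⟩

end CfsgLib.CharsMore.SLPairs
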