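import Cfsg.Agent.Lib.Chars.PermChar
import Cfsg.Agent.Lib.Chars.Linear
import Cfsg.Agent.Lib.CharsMore.FullyRamified
import Mathlib

/-!
# Permutation characters with a regular group of commuting scalars

If `A` acts freely on the transitive `G`-set `X`, commuting with `G`, and a point stabiliser
has at most `|A| + 1` orbits, then the permutation character is `1` plus `|A|` distinct
irreducible characters.
-/

set_option linter.unusedSectionVars false
set_option linter.style.haveILetI false

namespace CfsgLib.CharsMore.ScalarPerm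

open Cfsg
open scoped ComplexConjugate

variable {G : Type*} [Group G] [Fintype G] {X : Type*} [MulAction G X] [Finite X]
variable {A : Type*} [CommGroup A] [Fintype A] [MulAction A X] [SMulCommClass G A X]

theorem exists_decomposition [MulAction.IsPretransitive G X] (x : X)
    (hfree : ∀ a b : A, a • x = b • x → a = b) (hbig : Nat.card A < Nat.card X)
    (horb : Nat.card (MulAction.orbitRel.Quotient (MulAction.stabilizer G x) X) ≤ Nat.card A + 1) :
    ∃ χ : (A →* ℂˣ) → G → ℂ, (∀ l, IsIrrCharacter G (χ l)) ∧ Function.Injective χ ∧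
      Nat.card (A →* ℂˣ) = Nat.card A ∧
      ∀ g : G, (Nat.card (MulAction.fixedBy X g) : ℂ) =
        1 + ∑ᶠ l : A →* ℂˣ, χ l g := by
  classical
  haveI := Fintype.ofFinite X
  haveI : Finite (A →* ℂˣ) := (Nat.finite_of_card_ne_zero
    (by rw [Chars.card_monoidHom_units]; exact Subgroup.index_ne_zero_of_finite))
  haveI := Fintype.ofFinite (A →* ℂˣ)
  have hdual : Nat.card (A →* ℂˣ) = Nat.card A := by
    rw [Chars.card_monoidHom_units, show commutator A = ⊥ from ?_, Subgroup.index_bot]
    refine (Subgroup.eq_bot_iff_forall _).2 fun a ha => ?_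
    exact Abelianization.commutator_subset_ker (MonoidHom.id A) ha
  have horth : ∀ a : A, ∑ l : A →* ℂˣ, (l a : ℂ) = if a = 1 then (Nat.card A : ℂ) else 0 := by
    intro a
    split_ifs with h
    · subst h
      simp only [map_one, Units.val_one, Finset.sum_const, Finset.card_univ, nsmul_eq_mul, mul_one]
      rw [← Nat.card_eq_fintype_card, hdual]
    · obtain ⟨μ, hμ⟩ := FullyRamified.exists_hom_ne_one h
      have h1 : (μ a : ℂ) * ∑ l : A →* ℂˣ, (l a : ℂ) = ∑ l : A →* ℂˣ, (l a : ℂ) := by
        rw [Finset.mul_sum]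
        exact Fintype.sum_equiv (Equiv.mulLeft μ) _ _ fun l => by simp
      have h2 : ((μ a : ℂ) - 1) * ∑ l : A →* ℂˣ, (l a : ℂ) = 0 := by rw [sub_mul, h1, one_mul, sub_self]
      refine (mul_eq_zero.1 h2).resolve_left fun h3 => hμ (Units.ext ?_)
      exact sub_eq_zero.1 h3
  -- the stabiliser of the `A`-orbit of `x`
  let P : Subgroup G :=
    { carrier := {g | ∃ a : A, g • x = a • x}
      one_mem' := ⟨1, by simp⟩
      mul_mem' := by
        rintro g h ⟨a, ha⟩ ⟨b, hb⟩
        exact ⟨b * a, by rw [mul_smul, hb, smul_comm, ha, mul_smul]⟩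
      inv_mem' := by
        rintro g ⟨a, ha⟩
        exact ⟨a⁻¹, by rw [inv_smul_eq_iff, smul_comm, ha, inv_smul_smul]⟩ }
  haveI := Fintype.ofFinite P
  choose cf hcf using fun g : P => (g.2 : ∃ a : A, (g : G) • x = a • x)
  let c : P →* A := MonoidHom.mk' cf fun g h => hfree _ _ (by
    rw [← hcf, Subgroup.coe_mul, mul_smul, hcf h, smul_comm, hcf g, ← mul_smul, mul_comm])
  set S := MulAction.stabilizer G x with hS
  haveI := Fintype.ofFinite S
  have hcsurj : Function.Surjective c := fun a => by
    obtain ⟨g, hg⟩ := MulAction.exists_smul_eq G x (a • x)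
    exact ⟨⟨g, a, hg⟩, hfree _ _ ((hcf ⟨g, a, hg⟩).symm.trans hg)⟩
  have hPcard : Nat.card P = Nat.card A * Nat.card S := by
    have h1 := Subgroup.card_eq_card_quotient_mul_card_subgroup c.ker
    rw [h1, Nat.card_congr (QuotientGroup.quotientKerEquivOfSurjective c hcsurj).toEquiv]
    congr 1
    refine Nat.card_eq_of_bijective (fun g => (⟨((g : P) : G), ?_⟩ : S)) ⟨?_, ?_⟩
    · rw [MulAction.mem_stabilizer_iff, hcf (g : P)]
      rw [show cf (g : P) = 1 from g.2, one_smul]
    · intro g h e
      exact Subtype.ext (Subtype.ext (congrArg Subtype.val e :))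
    · intro g
      have hg : (g : G) • x = (1 : A) • x := by rw [one_smul]; exact g.2
      refine ⟨⟨⟨g, 1, hg⟩, ?_⟩, rfl⟩
      exact hfree _ _ ((hcf ⟨g, 1, hg⟩).symm.trans hg)
  let θ : (A →* ℂˣ) → P → ℂ := fun l p => (l (c p) : ℂ)
  set π : (A →* ℂˣ) → G → ℂ := fun l => indFun P (θ l) with hπ
  have hπc : ∀ l, IsCharacter G (π l) := fun l =>
    Chars.isCharacter_indFun P (Chars.isCharacter_of_irr (Chars.isIrrCharacter_linear (l.comp c)))
  have hπcl : ∀ l, IsClassFunction G (π l) := fun l =>
    Chars.isClassFunction_of_isCharacter (hπc l)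
  set πX : G → ℂ := fun g => (Nat.card (MulAction.fixedBy X g) : ℂ) with hπX
  have hval : ∀ (l : A →* ℂˣ) (g : G), π l g =
      (Nat.card A : ℂ)⁻¹ * ∑ z : X, ∑ a : A, if g • z = a • z then (l a : ℂ) else 0 := by
    intro l g
    show indFun P (θ l) g = _
    rw [Chars.indFun_apply]
    have h1 : ∀ y : G, extendByZero P (θ l) (y⁻¹ * g * y) =
        ∑ a : A, if g • (y • x) = a • (y • x) then (l a : ℂ) else 0 := by
      intro y
      have hiff : ∀ a : A, g • (y • x) = a • (y • x) ↔ (y⁻¹ * g * y) • x = a • x := fun a => by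
        rw [mul_smul, mul_smul, inv_smul_eq_iff, smul_comm y a x]
      by_cases hy : y⁻¹ * g * y ∈ P
      · rw [Chars.extendByZero_of_mem _ _ hy, Finset.sum_eq_single (c ⟨_, hy⟩)]
        · show _ = if _ then _ else _
          rw [if_pos]
          exact (hiff _).2 (hcf ⟨_, hy⟩)
        · intro a _ ha
          rw [if_neg fun h => ha (hfree _ _ (((hiff a).1 h).symm.trans (hcf ⟨_, hy⟩)))]
        · simp
      · rw [Chars.extendByZero_of_not_mem _ _ hy, Finset.sum_eq_zero]
        intro a _
        rw [if_neg fun h => hy ⟨a, (hiff a).1 h⟩]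
    rw [Finset.sum_congr rfl (fun y _ => h1 y), ← Finset.sum_fiberwise Finset.univ (fun y => y • x)]
    have h2 : ∀ z : X, ∑ y ∈ Finset.univ.filter (fun y : G => y • x = z),
        (∑ a : A, if g • (y • x) = a • (y • x) then (l a : ℂ) else 0) =
        (Nat.card S : ℂ) * (∑ a : A, if g • z = a • z then (l a : ℂ) else 0) := by
      intro z
      rw [Finset.sum_congr rfl (g := fun _ : G => ∑ a : A, if g • z = a • z then (l a : ℂ) else 0)
        (fun y hy => by rw [(Finset.mem_filter.mp hy).2]), Finset.sum_const, nsmul_eq_mul]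
      congr 1
      obtain ⟨y₀, rfl⟩ := MulAction.exists_smul_eq G x z
      rw [Nat.card_eq_fintype_card, ← Fintype.card_subtype]
      norm_cast
      exact Fintype.card_congr ((Equiv.mulLeft y₀⁻¹).subtypeEquiv fun y => by
        simp [hS, MulAction.mem_stabilizer_iff, mul_smul, inv_smul_eq_iff])
    rw [Finset.sum_congr rfl (fun z _ => h2 z), ← Finset.mul_sum, ← mul_assoc, hPcard, Nat.cast_mul,
      mul_inv, mul_assoc (Nat.card A : ℂ)⁻¹, inv_mul_cancel₀ (Nat.cast_ne_zero.mpr Nat.card_pos.ne'),
      mul_one]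
  have hA0 : (Nat.card A : ℂ) ≠ 0 := Nat.cast_ne_zero.mpr Nat.card_pos.ne'
  have hsum : πX = ∑ l, π l := by
    funext g
    rw [Finset.sum_apply, Finset.sum_congr rfl fun l _ => hval l g, ← Finset.mul_sum, Finset.sum_comm]
    have h1 : ∀ z : X, ∑ l : A →* ℂˣ, (∑ a : A, if g • z = a • z then (l a : ℂ) else 0) =
        if g • z = z then (Nat.card A : ℂ) else 0 := by
      intro z
      rw [Finset.sum_comm, Finset.sum_eq_single (1 : A)]
      · by_cases h : g • z = z
        · simp only [h, one_smul, if_true, map_one, Units.val_one, Finset.sum_const, Finset.card_univ,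
            nsmul_eq_mul, mul_one]
          rw [← Nat.card_eq_fintype_card, hdual]
        · simp [h]
      · intro a _ ha
        split_ifs with h
        · rw [horth, if_neg ha]
        · exact Finset.sum_const_zero
      · simp
    rw [Finset.sum_congr rfl fun z _ => h1 z, ← Finset.sum_filter, Finset.sum_const, nsmul_eq_mul,
      ← mul_assoc, mul_comm (Nat.card A : ℂ)⁻¹, mul_assoc, inv_mul_cancel₀ hA0, mul_one,
      ← Fintype.card_subtype, ← Nat.card_eq_fintype_card]
    rfl
  -- the inner products
  choose m hm using fun l μ => Chars.inner_char_nat (hπc l) (hπc μ)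
  have hone : classInner (π 1) (fun _ => 1) = 1 := by
    rw [hπ]
    simp only
    rw [Chars.inner_indFun P _ (Chars.isClassFunction_of_isCharacter Chars.isCharacter_one)]
    rw [show θ 1 = fun _ => 1 from funext fun p => by simp [θ]]
    exact Chars.inner_one_one
  have hdeg : ∀ l, π l 1 = (P.index : ℂ) := fun l => by
    show indFun P (θ l) 1 = _
    rw [Chars.indFun_one_apply]
    simp [θ]
  have hidx : 1 < P.index := by
    by_contra h
    have hP : P = ⊤ := Subgroup.index_eq_one.1 (le_antisymm (not_lt.1 h)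
      (Nat.one_le_iff_ne_zero.2 Subgroup.index_ne_zero_of_finite))
    have : Function.Surjective (fun a : A => a • x) := fun z => by
      obtain ⟨g, rfl⟩ := MulAction.exists_smul_eq G x z
      obtain ⟨a, ha⟩ := (hP ▸ Subgroup.mem_top g : g ∈ P)
      exact ⟨a, ha.symm⟩
    have := Nat.card_le_card_of_surjective _ this
    omega
  have hpos : ∀ l, 1 ≤ m l l := by
    intro l
    by_contra h
    have h0 : m l l = 0 := by omega
    have h1 : classInner (π l) (π l) = 0 := by rw [hm, h0, Nat.cast_zero]
    obtain ⟨ψ, hψ⟩ := Chars.exists_constituent (hπc l) (fun e => by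
      have := hdeg l
      rw [e] at this
      simp only [Pi.zero_apply] at this
      exact absurd this.symm (Nat.cast_ne_zero.2 (by omega)))
    let _ := Chars.irrFintype G
    rw [Chars.inner_eq_sum (hπcl l)] at h1
    choose k hk using fun ψ : IrrCharacter G => Chars.inner_irr_right_nat (hπc l) ψ
    simp only [hk, map_natCast] at h1
    have h2 : ∑ ψ : IrrCharacter G, k ψ * k ψ = 0 := by exact_mod_cast h1
    have h3 := Finset.sum_eq_zero_iff.1 h2 ψ (Finset.mem_univ _)
    exact hψ (by rw [hk, (mul_self_eq_zero.1 h3), Nat.cast_zero])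
  have h11 : 2 ≤ m 1 1 := by
    by_contra h
    have h1 : classInner (π 1) (π 1) = 1 := by
      rw [hm, show m 1 1 = 1 by have := hpos 1; omega, Nat.cast_one]
    have hirr : IsIrrCharacter G (π 1) := Chars.isIrrCharacter_iff_inner_self.2 ⟨hπc 1, h1⟩
    have : π 1 = fun _ => 1 := by
      by_contra hne
      have h0 := Chars.inner_irr_ne (χ := ⟨π 1, hirr⟩) (ψ := Chars.principal G)
        (fun e => hne (congrArg Subtype.val e))
      have h2 : classInner (π 1) (fun _ => 1) = 0 := h0
      rw [hone] at h2
      exact one_ne_zero h2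
    have h2 := congrFun this 1
    rw [hdeg] at h2
    have : P.index = 1 := by exact_mod_cast h2
    omega
  have htot : ∑ l, ∑ μ, m l μ ≤ Nat.card A + 1 := by
    have h : ((∑ l, ∑ μ, m l μ : ℕ) : ℂ) =
        (Nat.card (MulAction.orbitRel.Quotient (MulAction.stabilizer G x) X) : ℂ) := by
      rw [← Chars.inner_fixedBy_self (G := G) x]
      show _ = classInner πX πX
      rw [hsum, Chars.inner_sum_left]
      push_cast
      refine Finset.sum_congr rfl fun l _ => ?_
      rw [Chars.inner_sum_right]
      exact Finset.sum_congr rfl fun μ _ => (hm l μ).symm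
    have h' := (Nat.cast_inj (R := ℂ)).1 h
    exact h'.le.trans horb
  have hrow : ∀ l, (if l = 1 then 2 else 1) ≤ ∑ μ, m l μ := fun l => by
    refine le_trans ?_ (Finset.single_le_sum (fun μ _ => Nat.zero_le (m l μ)) (Finset.mem_univ l))
    split_ifs with h
    · rw [h]; exact h11
    · exact hpos l
  have hlow : ∑ l : A →* ℂˣ, (if l = 1 then 2 else 1 : ℕ) = Nat.card A + 1 := by
    rw [← Finset.add_sum_erase _ _ (Finset.mem_univ (1 : A →* ℂˣ)), if_pos rfl,
      Finset.sum_congr rfl (g := fun _ => 1) (fun l hl => if_neg (Finset.ne_of_mem_erase hl)),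
      Finset.sum_const, smul_eq_mul, mul_one, Finset.card_erase_of_mem (Finset.mem_univ _),
      Finset.card_univ, ← Nat.card_eq_fintype_card, hdual]
    have := Nat.card_pos (α := A)
    omega
  have heq : ∀ l, ∑ μ, m l μ = if l = 1 then 2 else 1 := fun l => by
    have h1 := (Finset.sum_eq_sum_iff_of_le (s := Finset.univ) fun l _ => hrow l).1
      (le_antisymm (Finset.sum_le_sum fun l _ => hrow l) (hlow ▸ htot)) l (Finset.mem_univ l)
    exact h1.symm
  have hoff : ∀ l μ, l ≠ μ → m l μ = 0 := fun l μ hne => by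
    have h1 := heq l
    rw [← Finset.add_sum_erase _ _ (Finset.mem_univ l)] at h1
    have h2 : m l μ ≤ ∑ ν ∈ Finset.univ.erase l, m l ν :=
      Finset.single_le_sum (fun ν _ => Nat.zero_le (m l ν))
        (Finset.mem_erase.2 ⟨hne.symm, Finset.mem_univ _⟩)
    have h3 : (if l = 1 then 2 else 1) ≤ m l l := by
      split_ifs with h
      · rw [h]; exact h11
      · exact hpos l
    omega
  have hdiag : ∀ l, m l l = if l = 1 then 2 else 1 := fun l => by
    rw [← heq l, Finset.sum_eq_single l (fun μ _ h => hoff l μ h.symm) (by simp)]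
  -- the constituents
  set χ : (A →* ℂˣ) → G → ℂ := fun l => if l = 1 then π 1 - fun _ => 1 else π l with hχ
  have hone' : classInner (fun _ : G => (1 : ℂ)) (π 1) = 1 := by
    rw [CharsMore.conj_inner (hπc 1) Chars.isCharacter_one, hone]
  have hirr : ∀ l, IsIrrCharacter G (χ l) := by
    intro l
    simp only [hχ]
    split_ifs with h
    · refine Chars.irr_of_norm_one ⟨_, _, hπc 1, Chars.isCharacter_one, rfl⟩ ?_ ?_
      · rw [Chars.inner_sub_left, Chars.inner_sub_right, Chars.inner_sub_right, hm, hdiag, if_pos rfl,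
          hone, hone', Chars.inner_one_one]
        norm_num
      · simp only [Pi.sub_apply, hdeg, Complex.sub_re, Complex.natCast_re, Complex.one_re, sub_nonneg,
          Nat.one_le_cast]
        omega
    · exact Chars.isIrrCharacter_iff_inner_self.2
        ⟨hπc l, by rw [hm, hdiag, if_neg h, Nat.cast_one]⟩
  refine ⟨χ, hirr, fun l μ hlμ => ?_, hdual, fun g => ?_⟩
  · by_contra hne
    have h1 : classInner (χ l) (χ l) = 1 := Chars.inner_irr_self ⟨_, hirr l⟩
    have hzero : ∀ l μ, l ≠ μ → l ≠ 1 → classInner (χ l) (χ μ) = 0 := by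
      intro l μ hne hl
      simp only [hχ, if_neg hl]
      split_ifs with h
      · rw [Chars.inner_sub_right, hm, hoff l 1 hl]
        have : classInner (π l) (fun _ => 1) = 0 := by
          have hl' : ¬ IsIrrCharacter G (π l) ∨ π l ≠ fun _ => 1 := Or.inr fun e => by
            have h2 := congrFun e 1
            rw [hdeg] at h2
            have : P.index = 1 := by exact_mod_cast h2
            omega
          have hi : IsIrrCharacter G (π l) := by
            have := hirr l; simpa [hχ, if_neg hl] using this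
          exact Chars.inner_irr_ne (χ := ⟨π l, hi⟩) (ψ := Chars.principal G)
            (fun e => (hl'.resolve_left (not_not.2 hi)) (congrArg Subtype.val e))
        rw [this, Nat.cast_zero, sub_zero]
      · rw [hm, hoff l μ hne, Nat.cast_zero]
    by_cases hl : l = 1
    · have h2 := hzero μ l (Ne.symm hne) (fun e => hne (hl.trans e.symm))
      rw [← hlμ, h1] at h2
      exact one_ne_zero h2
    · have h2 := hzero l μ hne hl
      rw [← hlμ, h1] at h2
      exact one_ne_zero h2
  · rw [finsum_eq_sum_of_fintype, ← Finset.add_sum_erase _ _ (Finset.mem_univ (1 : A →* ℂˣ))]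
    show πX g = _
    rw [hsum, Finset.sum_apply, ← Finset.add_sum_erase _ _ (Finset.mem_univ (1 : A →* ℂˣ)),
      Finset.sum_congr (s₁ := Finset.univ.erase (1 : A →* ℂˣ)) rfl (f := fun l => χ l g)
      (g := fun l => π l g) (fun l hl => by
        simp only [hχ, if_neg (Finset.ne_of_mem_erase hl)])]
    simp only [hχ, if_pos, Pi.sub_apply]
    ring

end CfsgLib.CharsMore.ScalarPerm
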