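import Cfsg.Agent.Lib.CharsMore.CoherenceCentral
import Cfsg.Agent.Lib.CharsMore.CongruenceTI
import Cfsg.Agent.Lib.PGroups.Basic
import Cfsg.Agent.S1514

/-!
# Sibley's coherence theorem for a trivial intersection Frobenius kernel (Peterfalvi 6.8)
-/

set_option linter.unusedSectionVars false
set_option linter.style.haveILetI false

namespace CfsgLib.CharsMore

open Cfsg
open scoped ComplexConjugate commutatorElement

section Setting

variable {G : Type*} [Group G] [Fintype G] {H N : Subgroup G} [Fintype N]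

lemma normal_subgroupOf_of_normalizer (hN : Subgroup.normalizer (H : Set G) = N) :
    (H.subgroupOf N).Normal := by
  subst hN
  exact Subgroup.normal_in_normalizer

lemma centralizer_subgroupOf (hHN : H ≤ N)
    (hC : ∀ h ∈ H, h ≠ 1 → Subgroup.centralizer ({h} : Set G) ≤ H) :
    ∀ k ∈ H.subgroupOf N, k ≠ 1 → Subgroup.centralizer ({k} : Set N) ≤ H.subgroupOf N := by
  intro k hk hne x hx
  refine hC k hk (fun e => hne (Subtype.ext e)) (Subgroup.mem_centralizer_singleton_iff.2 ?_)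
  exact congrArg Subtype.val (Subgroup.mem_centralizer_singleton_iff.1 hx)

lemma indFun_eq_zero_off {L : Type*} [Group L] [Fintype L] {K : Subgroup L} [hK : K.Normal]
    (θ : K → ℂ) {x : L} (hx : x ∉ K) : indFun K θ x = 0 := by
  rw [Chars.indFun_apply, Finset.sum_eq_zero, mul_zero]
  intro y _
  refine Chars.extendByZero_of_not_mem K _ fun h => hx ?_
  simpa [mul_assoc] using hK.conj_mem _ h y

lemma zspan_induced_props {L : Type*} [Group L] [Fintype L] {K : Subgroup L} [hK : K.Normal]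
    {α : L → ℂ} (hα : α ∈ zspan (inducedIrrAbove K ⊥)) :
    IsClassFunction L α ∧ α ∈ genChar L ∧ ∀ x, x ∉ K → α x = 0 := by
  change α ∈ Submodule.span ℤ (inducedIrrAbove K ⊥) at hα
  induction hα using Submodule.span_induction with
  | mem φ hφ =>
    obtain ⟨θ, hθ, -, -, rfl⟩ := hφ
    have hc := Chars.isCharacter_indFun K (Chars.isCharacter_of_irr hθ)
    exact ⟨Chars.isClassFunction_of_isCharacter hc, genChar_of_isCharacter hc,
      fun x hx => indFun_eq_zero_off θ hx⟩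
  | zero => exact ⟨Chars.isClassFunction_zero, (genChar L).zero_mem, fun _ _ => rfl⟩
  | add a b _ _ ha hb =>
    exact ⟨Chars.isClassFunction_add ha.1 hb.1, (genChar L).add_mem ha.2.1 hb.2.1,
      fun x hx => by rw [Pi.add_apply, ha.2.2 x hx, hb.2.2 x hx, add_zero]⟩
  | smul n a _ ha =>
    refine ⟨?_, (genChar L).smul_mem n ha.2.1, fun x hx => by
      rw [Pi.smul_apply, ha.2.2 x hx, smul_zero]⟩
    rw [zsmul_eq_cast]
    exact Chars.isClassFunction_smul _ ha.1

/-- Induction from the normaliser of a trivial intersection subgroup is an isometry on the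
degree zero combinations of characters induced from it. -/
lemma isometry_indFun_TI (hN : Subgroup.normalizer (H : Set G) = N)
    (hTI : IsTISubset (H : Set G)) [(H.subgroupOf N).Normal] :
    IsLinearIsometryOn (zspanOn (inducedIrrAbove (H.subgroupOf N) ⊥) {1}ᶜ)
        (fun α : N → ℂ => indFun N α) ∧
      ∀ α ∈ zspanOn (inducedIrrAbove (H.subgroupOf N) ⊥) {1}ᶜ, indFun N α 1 = 0 := by
  refine ⟨⟨fun α _ β _ => Chars.indFun_add N α β, fun α _ n => by
    rw [zsmul_eq_cast, zsmul_eq_cast]; exact Chars.indFun_smul N _ α, fun α hα β hβ => ?_,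
    fun α hα => Chars.isGeneralized_indFun N (zspan_induced_props hα.1).2.1⟩, fun α hα => ?_⟩
  · obtain ⟨-, -, hα0⟩ := zspan_induced_props hα.1
    obtain ⟨hβc, -, hβ0⟩ := zspan_induced_props hβ.1
    refine Chars.inner_indFun_TI (H : Set G) N (fun g hg t ht h => ?_) hβc
      (fun x hx => hα0 x hx) (fun x hx => hβ0 x hx) (mem_zspanOn_one.1 hα).2
    exact hTI g (by rwa [hN]) t ht h
  · rw [Chars.indFun_one_apply, (mem_zspanOn_one.1 hα).2, mul_zero]

/-- In odd order the induced irreducible characters form a coherence system. -/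
lemma exists_coh_system (hN : Subgroup.normalizer (H : Set G) = N) (hTI : IsTISubset (H : Set G))
    (hC : ∀ h ∈ H, h ≠ 1 → Subgroup.centralizer ({h} : Set G) ≤ H) (hodd : Odd (Nat.card N))
    [(H.subgroupOf N).Normal] (hsolv : Group.IsSolvable (H.subgroupOf N)) (hH : H ≠ ⊥) :
    ∃ R, IsCoherenceSystem (inducedIrrAbove (H.subgroupOf N) ⊥) (fun α : N → ℂ => indFun N α) R := by
  have hHN : H ≤ N := hN ▸ Subgroup.le_normalizer
  have hC' := centralizer_subgroupOf hHN hC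
  have hirr := inducedIrrAbove_isIrr hC'
  have hbot : (⊥ : Subgroup N) < H.subgroupOf N := by
    rw [bot_lt_iff_ne_bot, Ne, Subgroup.subgroupOf_eq_bot, disjoint_iff]
    rwa [inf_eq_left.2 hHN]
  obtain ⟨hτ, hτ1⟩ := isometry_indFun_TI hN hTI
  refine Cfsg.Agent.S1514.result _ (inducedIrrAbove_nonempty _ hsolv hbot) hirr
    (fun χ hχ => ⟨inducedIrrAbove_conj _ hχ, fun e => ?_⟩) _ hτ hτ1
  have hp := Chars.eq_principal_of_real_of_odd hodd ⟨χ, hirr χ hχ⟩
    fun g => Complex.conj_eq_iff_im.1 (congrFun e g)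
  rw [inducedIrrAbove_eq_nontrivial hC'] at hχ
  obtain ⟨-, k, -, hk⟩ := hχ
  apply hk
  have := congrArg (fun ψ : IrrCharacter N => (ψ : N → ℂ)) hp
  simp only at this
  rw [this]
  rfl

lemma linear_kills_commutator {L : Type*} [Group L] {K : Subgroup L} {θ : K → ℂ}
    (hθ : IsCharacter K θ) (h1 : θ 1 = 1) : ∀ a : K, (a : L) ∈ ⁅K, K⁆ → θ a = θ 1 := by
  obtain ⟨lam, hlam⟩ := Chars.exists_hom_of_degree_one hθ h1
  intro a ha
  have hmem : a ∈ commutator K := by
    rw [← Subgroup.map_subtype_commutator] at ha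
    obtain ⟨b, hb, e⟩ := ha
    rwa [show a = b from Subtype.ext e.symm]
  have h2 : lam a = 1 := (Abelianization.commutator_subset_ker lam) hmem
  simp [hlam, h2]

end Setting

variable {G : Type*} [Group G] [Fintype G] {H N : Subgroup G} [Fintype N]

/-- The value of the image of a linear-degree member is constant on `Z`, and congruence gives the
divisibility of the multiplicity at a minimal member nontrivial on `Z`. -/
lemma sibley_dvd (hN : Subgroup.normalizer (H : Set G) = N) (hTI : IsTISubset (H : Set G))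
    (hodd : Odd (Nat.card N)) [(H.subgroupOf N).Normal]
    (hcop : Nat.Coprime (Nat.card (H.subgroupOf N)) (H.subgroupOf N).index) {Z : Subgroup N}
    [Z.Normal] (hZK : Z ≤ H.subgroupOf N) (hZ1 : Z ≠ ⊥)
    (hZc : ∀ z ∈ Z, ∀ k ∈ H.subgroupOf N, z * k = k * z) {f : G → ℂ} (hf : f ∈ genChar G)
    (hfn : classInner f f = 1) {χ₀ : N → ℂ} {a₀ : ℕ} (ha₀ : 0 < a₀)
    (hdeg₀ : χ₀ 1 = ((H.subgroupOf N).index * a₀ : ℕ))
    (hX : ∀ ξ : N → ℂ, IsIrrCharacter N ξ → (∀ z ∈ Z, ξ z = ξ 1) ∨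
      classInner (fun x : N => f x) ξ * χ₀ 1 = classInner (fun x : N => f x) χ₀ * ξ 1) :
    ∃ j : ℤ, classInner (fun x : N => f x) χ₀ = (a₀ : ℂ) * j := by
  classical
  haveI := Chars.irrFintype N
  set K := H.subgroupOf N
  have hχ0 : χ₀ 1 ≠ 0 := by
    rw [hdeg₀]
    exact_mod_cast (Nat.mul_pos (Nat.pos_of_ne_zero Subgroup.index_ne_zero_of_finite) ha₀).ne'
  have hcl : IsClassFunction N (fun x : N => f x) := Chars.isClassFunction_restrict N
    (Chars.isClassFunction_of_isGeneralized hf)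
  set c₀ := classInner (fun x : N => f x) χ₀
  have hdiff : ∀ z ∈ Z, z ≠ 1 → f (z : G) = f 1 - c₀ * (Nat.card K : ℂ) / a₀ := by
    intro z hz hz1
    have he := Chars.classFun_eq_sum hcl
    have h1 := congrFun he 1
    have h2 := congrFun he z
    simp only [Finset.sum_apply, Pi.smul_apply, smul_eq_mul, OneMemClass.coe_one] at h1 h2
    have hterm : ∀ ξ : IrrCharacter N,
        classInner (fun x : N => f x) ξ * (ξ : N → ℂ) 1 -
          classInner (fun x : N => f x) ξ * (ξ : N → ℂ) z =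
        c₀ / χ₀ 1 * ((ξ : N → ℂ) 1 * (ξ : N → ℂ) 1 - (ξ : N → ℂ) 1 * (ξ : N → ℂ) z) := by
      intro ξ
      rcases hX ξ ξ.2 with h | h
      · rw [h z hz]; ring
      · field_simp
        linear_combination ((ξ : N → ℂ) 1 - (ξ : N → ℂ) z) * h
    have h3 : f 1 - f z = c₀ / χ₀ 1 * (Nat.card N : ℂ) := by
      rw [h1, h2, ← Finset.sum_sub_distrib, Finset.sum_congr rfl fun ξ _ => hterm ξ,
        ← Finset.mul_sum, Finset.sum_sub_distrib, Chars.sum_degree_mul z, if_neg hz1, sub_zero,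
        Chars.sum_degree_mul (1 : N), if_pos rfl]
    rw [← K.card_mul_index, hdeg₀] at h3
    push_cast at h3
    have he0 : (K.index : ℂ) ≠ 0 := Nat.cast_ne_zero.2 Subgroup.index_ne_zero_of_finite
    have ha0 : (a₀ : ℂ) ≠ 0 := Nat.cast_ne_zero.2 ha₀.ne'
    field_simp at h3 ⊢
    linear_combination -h3
  -- the congruence
  obtain ⟨z, hz, hz1⟩ := (Subgroup.bot_or_exists_ne_one Z).resolve_left hZ1
  obtain ⟨ψ, s, hψ, hs, hfψ⟩ : ∃ (ψ : G → ℂ) (s : ℤ),
      IsIrrCharacter G ψ ∧ (s = 1 ∨ s = -1) ∧ f = (s : ℂ) • ψ := by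
    rcases Chars.irr_or_neg_irr_of_norm_one hf hfn with h | h
    · exact ⟨f, 1, h, Or.inl rfl, by simp⟩
    · exact ⟨-f, -1, h, Or.inr rfl, by simp⟩
  have hs2 : (s : ℂ) * s = 1 := by rcases hs with rfl | rfl <;> simp
  have hψf : ∀ g, ψ g = (s : ℂ) * f g := fun g => by
    rw [hfψ, Pi.smul_apply, smul_eq_mul, ← mul_assoc, hs2, one_mul]
  set ZG := Z.map N.subtype
  have hHN : H ≤ N := hN ▸ Subgroup.le_normalizer
  have hcard : Nat.card H = Nat.card K :=
    (Nat.card_congr (Subgroup.subgroupOfEquivOfLe hHN).toEquiv).symm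
  obtain ⟨n, d, hn, hd, hdvd⟩ := irr_congr_TI H hTI (by rwa [hN])
    (by rw [hN, hcard]; exact hcop) (Z := ZG)
    (by rintro _ ⟨y, hy, rfl⟩; exact hZK hy)
    (by
      rw [hN]
      rintro x hx _ ⟨y, hy, rfl⟩
      exact ⟨⟨x, hx⟩ * y * ⟨x, hx⟩⁻¹, ‹Z.Normal›.conj_mem y hy _, rfl⟩)
    (by
      rintro _ ⟨y, hy, rfl⟩ k hk
      exact congrArg Subtype.val (hZc y hy ⟨k, hHN hk⟩ hk))
    hψ (by
      rintro _ ⟨y, hy, rfl⟩ _ ⟨y', hy', rfl⟩ h1 h2
      rw [hψf, hψf]
      exact congrArg _ ((hdiff y hy fun e => h1 (by rw [e]; rfl)).trans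
        (hdiff y' hy' fun e => h2 (by rw [e]; rfl)).symm))
    (z := (z : G)) ⟨z, hz, rfl⟩ (fun e => hz1 (Subtype.ext e))
  obtain ⟨j, hj⟩ := hdvd
  refine ⟨s * j, ?_⟩
  have hj' : (d : ℂ) - n = (Nat.card K : ℂ) * j := by
    rw [← hcard]
    exact_mod_cast hj
  rw [← hd, ← hn, hψf, hψf, hdiff z hz hz1] at hj'
  have hK0 : (Nat.card K : ℂ) ≠ 0 := Chars.card_ne_zero K
  have ha0 : (a₀ : ℂ) ≠ 0 := Nat.cast_ne_zero.2 ha₀.ne'
  field_simp at hj'
  push_cast
  apply mul_left_cancel₀ hK0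
  linear_combination (s : ℂ) * hj' - (c₀ * (Nat.card K : ℂ)) * hs2

/-- With all multiplicities divisible by `a`, the first member of the coherent image of `Y` may
be chosen as the component of `β`. -/
lemma exists_adjusted_isometry {L : Type*} [Group L] [Fintype L] [DecidableEq (L → ℂ)]
    {Y : Finset (L → ℂ)} (hY : ∀ η ∈ Y, IsIrrCharacter L η) {η₁ : L → ℂ} (hη₁ : η₁ ∈ Y)
    (hdeg : ∀ η ∈ Y, η 1 = η₁ 1) {τ τ₁ : (L → ℂ) → (G → ℂ)}
    (hτ : IsLinearIsometryOn (zspanOn (↑Y : Set (L → ℂ)) {1}ᶜ) τ)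
    (hτ₁ : IsLinearIsometryOn (zspan (↑Y : Set (L → ℂ))) τ₁)
    (hag : ∀ α ∈ zspanOn (↑Y : Set (L → ℂ)) {1}ᶜ, τ₁ α = τ α) (hY2 : 2 ≤ Y.card) {β : G → ℂ}
    {a : ℕ} (ha : 2 ≤ a) (hβn : classInner β β = 1 + (a : ℂ) ^ 2) (k : (L → ℂ) → ℤ)
    (hk : ∀ η ∈ Y, classInner β (τ₁ η) = (a : ℂ) * k η)
    (hkd : ∀ η ∈ Y, η ≠ η₁ → k η = k η₁ + 1) :
    ∃ τ₂ : (L → ℂ) → (G → ℂ), IsLinearIsometryOn (zspan (↑Y : Set (L → ℂ))) τ₂ ∧
      (∀ α ∈ zspanOn (↑Y : Set (L → ℂ)) {1}ᶜ, τ₂ α = τ α) ∧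
      ∀ η ∈ Y, classInner β (τ₂ η) = if η = η₁ then -(a : ℂ) else 0 := by
  classical
  have hsub : ∀ η ∈ Y, η ∈ zspan (↑Y : Set (L → ℂ)) := fun η h => Submodule.subset_span h
  have hτφ : ∀ φ ∈ Y, ∀ φ' ∈ Y, classInner (τ₁ φ) (τ₁ φ') = if φ = φ' then 1 else 0 := by
    intro φ hφ φ' hφ'
    rw [hτ₁.2.2.1 φ (hsub φ hφ) φ' (hsub φ' hφ'),
      Chars.inner_irr_of_isIrr (hY φ hφ) (hY φ' hφ')]
  set W := ∑ η ∈ Y, ((a : ℂ) * k η) • τ₁ η
  have hWW : classInner W W = ((∑ η ∈ Y, ((a : ℤ) * k η) ^ 2 : ℤ) : ℂ) := by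
    simp only [W, Chars.inner_sum_left, Chars.inner_smul_left, Chars.inner_sum_right,
      Chars.inner_smul_right]
    push_cast
    refine Finset.sum_congr rfl fun η hη => ?_
    rw [Finset.sum_eq_single η (fun b hb hne => by rw [hτφ b hb η hη, if_neg hne, mul_zero])
      (fun h => absurd hη h), hτφ η hη η hη, if_pos rfl]
    simp only [map_mul, map_natCast, map_intCast]
    ring
  have hβW : classInner β W = classInner W W := by
    rw [hWW, show classInner β W = ∑ η ∈ Y, conj ((a : ℂ) * k η) * classInner β (τ₁ η) by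
      simp only [W, Chars.inner_sum_right, Chars.inner_smul_right]]
    push_cast
    refine Finset.sum_congr rfl fun η hη => ?_
    rw [hk η hη]
    simp only [map_mul, map_natCast, map_intCast]
    ring
  have hWβ : classInner W β = classInner W W := by
    rw [← Chars.inner_conj, hβW, Chars.inner_conj]
  have hle : ∑ η ∈ Y, ((a : ℤ) * k η) ^ 2 ≤ 1 + (a : ℤ) ^ 2 := by
    have h := inner_self_re_nonneg (β - W)
    rw [Chars.inner_sub_left, Chars.inner_sub_right, Chars.inner_sub_right, hβW, hWβ, hβn, hWW] at h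
    simp only [sub_self, sub_zero, Complex.sub_re, Complex.add_re, Complex.one_re,
      Complex.intCast_re] at h
    have h' : ((∑ η ∈ Y, ((a : ℤ) * k η) ^ 2 : ℤ) : ℝ) ≤ ((1 + (a : ℤ) ^ 2 : ℤ) : ℝ) := by
      have e : (((a : ℂ) ^ 2).re) = (a : ℝ) ^ 2 := by norm_cast
      rw [e] at h
      push_cast at h ⊢
      linarith
    exact_mod_cast h'
  have hsum : ∑ η ∈ Y, k η ^ 2 ≤ 1 := by
    by_contra hcon
    have h2 : (a : ℤ) ^ 2 * 2 ≤ (a : ℤ) ^ 2 * ∑ η ∈ Y, k η ^ 2 :=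
      mul_le_mul_of_nonneg_left (by omega) (sq_nonneg _)
    rw [Finset.mul_sum, Finset.sum_congr rfl fun η _ => (mul_pow (a : ℤ) (k η) 2).symm] at h2
    have : (4 : ℤ) ≤ (a : ℤ) ^ 2 := by nlinarith
    nlinarith
  set m := k η₁ + 1
  have hsum' : ∑ η ∈ Y, k η ^ 2 = (m - 1) ^ 2 + ((Y.card : ℤ) - 1) * m ^ 2 := by
    rw [← Finset.add_sum_erase _ _ hη₁, Finset.sum_congr rfl (fun η hη => show k η ^ 2 = m ^ 2 by
      rw [hkd η (Finset.mem_of_mem_erase hη) (Finset.ne_of_mem_erase hη)]), Finset.sum_const,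
      Finset.card_erase_of_mem hη₁, nsmul_eq_mul, Nat.cast_sub (by omega)]
    simp [m]
  rw [hsum'] at hsum
  have hc : (2 : ℤ) ≤ Y.card := by exact_mod_cast hY2
  by_cases hm : m = 0
  · refine ⟨τ₁, hτ₁, hag, fun η hη => ?_⟩
    rw [hk η hη]
    split_ifs with h
    · subst h
      rw [show k η = -1 by omega]; simp
    · rw [hkd η hη h, show m = 0 from hm]; simp
  -- two members: exchange them
  have hm1 : m = 1 ∧ Y.card = 2 := by
    have h1 : m ^ 2 ≤ ((Y.card : ℤ) - 1) * m ^ 2 := le_mul_of_one_le_left (sq_nonneg _) (by omega)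
    have h2 : 1 ≤ m ^ 2 := by
      have := mul_self_pos.2 hm
      nlinarith
    have h3 : (m - 1) ^ 2 = 0 := by nlinarith [sq_nonneg (m - 1)]
    have h4 : m = 1 := by
      have := pow_eq_zero_iff (n := 2) two_ne_zero |>.1 h3
      omega
    rw [h4] at hsum
    exact ⟨h4, by omega⟩
  obtain ⟨η₂, hη₂, hne⟩ := Finset.exists_mem_ne (by omega : 1 < Y.card) η₁
  have hY' : Y = {η₁, η₂} := (Finset.eq_of_subset_of_card_le (by
    intro x hx
    simp only [Finset.mem_insert, Finset.mem_singleton] at hx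
    rcases hx with rfl | rfl <;> assumption) (by rw [Finset.card_pair hne.symm]; omega)).symm
  set g : (L → ℂ) → (G → ℂ) := fun φ => if φ = η₁ then -τ₁ η₂ else -τ₁ η₁
  have horth : ∀ φ ∈ Y, ∀ ψ ∈ Y, φ ≠ ψ → classInner φ ψ = 0 := fun φ hφ ψ hψ h =>
    irr_orth (hY φ hφ) (hY ψ hψ) h
  have hn : ∀ φ ∈ Y, classInner φ φ ≠ 0 := fun φ hφ => by
    rw [irr_inner_self (hY φ hφ)]; exact one_ne_zero
  have hmem : ∀ φ ∈ Y, φ = η₁ ∨ φ = η₂ := fun φ hφ => by
    rw [hY'] at hφ; simpa using hφ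
  have hiso := isometry_of_values (S := Y) g horth hn (fun φ _ => by
    simp only [g]
    split_ifs <;> exact (genChar G).neg_mem (hτ₁.2.2.2 _ (hsub _ ‹_›))) (fun φ hφ ψ hψ => by
    simp only [g]
    rw [Chars.inner_irr_of_isIrr (hY φ hφ) (hY ψ hψ)]
    rcases hmem φ hφ with rfl | rfl <;> rcases hmem ψ hψ with rfl | rfl <;>
      simp [hne, hne.symm, Chars.inner_neg_left, Chars.inner_neg_right, hτφ, hη₁, hη₂])
  have hv : ∀ φ ∈ Y, extMap Y g φ = g φ := fun φ hφ => extMap_of_mem g horth hn hφ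
  have hη0 : η₁ 1 ≠ 0 := Chars.irr_degree_ne_zero (hY η₁ hη₁)
  refine ⟨extMap Y g, hiso, agree_of_pivot hτ hiso hη₁ hη0 fun φ hφ => ⟨1, by
    rw [hdeg φ hφ, Int.cast_one, one_mul], ?_⟩, fun η hη => ?_⟩
  · rw [Int.cast_one, one_smul, one_smul, hv φ hφ, hv η₁ hη₁]
    rcases hmem φ hφ with rfl | rfl
    · rw [sub_self, sub_self, isometry_map_zero (M := zspanOnSub _ _) hτ]
    · have hmem' : φ - η₁ ∈ zspanOn (↑Y : Set (L → ℂ)) {1}ᶜ :=
        mem_zspanOn_one.2 ⟨Submodule.sub_mem _ (hsub φ hφ) (hsub η₁ hη₁),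
          by rw [Pi.sub_apply, hdeg φ hφ, sub_self]⟩
      rw [← hag _ hmem', isometry_map_sub (M := Submodule.span ℤ _) hτ₁ (hsub φ hφ) (hsub η₁ hη₁)]
      simp only [g, if_neg hne, if_pos]
      abel
  · rw [hv η hη]
    rcases hmem η hη with rfl | rfl
    · simp only [g, if_pos]
      rw [Chars.inner_neg_right, hk η₂ hη₂, hkd η₂ hη₂ hne, show m = 1 from hm1.1]
      simp
    · simp only [g, if_neg hne]
      rw [Chars.inner_neg_right, hk η₁ hη₁, show k η₁ = 0 by omega]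
      simp

/-- Sibley's theorem for a nonabelian kernel of prime power order. -/
theorem sibley_pGroup (hN : Subgroup.normalizer (H : Set G) = N) (hTI : IsTISubset (H : Set G))
    (hC : ∀ h ∈ H, h ≠ 1 → Subgroup.centralizer ({h} : Set G) ≤ H) (hodd : Odd (Nat.card N))
    [(H.subgroupOf N).Normal] (hnil : Group.IsNilpotent (H.subgroupOf N)) {p : ℕ} (hp : p.Prime)
    (hKp : IsPGroup p (H.subgroupOf N)) (hna : ⁅H.subgroupOf N, H.subgroupOf N⁆ ≠ ⊥) :
    IsCoherent (inducedIrrAbove (H.subgroupOf N) ⊥) {1}ᶜ (fun α : N → ℂ => indFun N α) := by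
  classical
  haveI := Fact.mk hp
  set K := H.subgroupOf N with hKdef
  set K' := ⁅K, K⁆
  let _ : Fintype K := Fintype.ofFinite _
  haveI := Chars.irrFintype K
  haveI := Chars.irrFintype N
  haveI := hnil
  have hsolv : Group.IsSolvable K := inferInstance
  have hHN : H ≤ N := hN ▸ Subgroup.le_normalizer
  have hC' := centralizer_subgroupOf hHN hC
  have hKne : K ≠ ⊥ := fun h => hna (by simp only [K', h, Subgroup.commutator_bot_left])
  have hH : H ≠ ⊥ := fun h => hKne (by rw [hKdef, h, Subgroup.bot_subgroupOf])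
  obtain ⟨R, hS⟩ := exists_coh_system hN hTI hC hodd hsolv hH
  set τ : (N → ℂ) → (G → ℂ) := fun α => indFun N α
  set S := inducedIrrAbove K ⊥
  have hirrS := inducedIrrAbove_isIrr hC'
  have hK'K : K' < K := by
    haveI : Nontrivial K := (Subgroup.nontrivial_iff_ne_bot K).2 hKne
    refine lt_of_le_of_ne (Subgroup.commutator_le_self K) fun e => ?_
    refine (Group.IsSolvable.commutator_lt_top_of_nontrivial K).ne ?_
    rw [show K' = (commutator K).map K.subtype from (Subgroup.map_subtype_commutator K).symm] at e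
    exact (Subgroup.map_injective K.subtype_injective) (e.trans (by
      rw [← MonoidHom.range_eq_map, Subgroup.range_subtype]))
  have hfrob := frob_quot_of_centralizer hC' (Subgroup.commutator_le_self K)
  have hcop := coprime_index_of_frob hp hKp hK'K le_rfl hfrob
  set e := K.index
  have he0 : 0 < e := Nat.pos_of_ne_zero Subgroup.index_ne_zero_of_finite
  obtain ⟨kp, hkp⟩ := IsPGroup.iff_card.1 hKp
  have hcop' : Nat.Coprime (Nat.card K) e := hkp ▸ hcop.pow_left kp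
  have hp2 : p ≠ 2 := by
    rintro rfl
    have h1 : Odd (Nat.card K) := hodd.of_dvd_nat (Subgroup.card_subgroup_dvd_card K)
    rw [hkp, Nat.odd_pow_iff (fun h => hKne (K.eq_bot_of_card_eq (by rw [hkp, h, pow_zero])))] at h1
    exact absurd h1 (by decide)
  have hp3 : 3 ≤ p := by have := hp.two_le; omega
  -- the central subgroup
  set Z := K' ⊓ Subgroup.centralizer (K : Set N)
  have hZK' : Z ≤ K' := inf_le_left
  have hZK : Z ≤ K := hZK'.trans (Subgroup.commutator_le_self K)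
  have hZc : ∀ z ∈ Z, ∀ k ∈ K, z * k = k * z := fun z hz k hk =>
    (Subgroup.mem_centralizer_iff.1 hz.2 k hk).symm
  have hZ1 : Z ≠ ⊥ := by
    have hcK : commutator K ≠ ⊥ := fun h => hna (by
      show K' = ⊥
      rw [show K' = (commutator K).map K.subtype from (Subgroup.map_subtype_commutator K).symm, h,
        Subgroup.map_bot])
    obtain ⟨c, hc, hc1⟩ := (Subgroup.bot_or_exists_ne_one _).resolve_left
      (PGroups.inf_center_ne_bot hKp hcK)
    intro hbot
    refine hc1 (Subtype.ext ?_)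
    have : (c : N) ∈ Z := by
      refine ⟨?_, Subgroup.mem_centralizer_iff.2 fun k hk => ?_⟩
      · rw [show K' = (commutator K).map K.subtype from (Subgroup.map_subtype_commutator K).symm]
        exact ⟨c, hc.1, rfl⟩
      · exact congrArg Subtype.val (Subgroup.mem_center_iff.1 hc.2 ⟨k, hk⟩)
    rw [hbot, Subgroup.mem_bot] at this
    exact this
  -- the two coherent sets
  set X := S \ inducedIrrAbove K Z
  set Y := inducedIrrAbove K K'
  have hXirr : ∀ χ ∈ X, IsIrrCharacter N χ := fun χ h => hirrS χ h.1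
  have hXne := sdiff_inducedIrrAbove_nonempty (K := K) hZK hZ1
  have hXeq := sdiff_inducedIrrAbove_eq (K := K) hZK hXirr
  obtain ⟨-, σ, hσ, hσag⟩ := coherent_central_pGroup hS hp hp2 hKp hcop hZK hZc hXirr hXne
  obtain ⟨-, τY, hτY, hτYag⟩ := coherent_abelian_quotient hsolv hS hK'K le_rfl
  have hXc : ∀ φ ∈ X, conjFun φ ∈ X := fun φ h => ⟨inducedIrrAbove_conj K h.1,
    fun h' => h.2 (by simpa [conjFun_conjFun] using inducedIrrAbove_conj K h')⟩
  have hYS : Y ⊆ S := inducedIrrAbove_subset K K'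
  have hYX : ∀ η ∈ Y, η ∉ X := fun η h h' => h'.2 (inducedIrrAbove_mono K hZK' h)
  have hdegS : ∀ φ ∈ S, φ 1 = (charDegree φ : ℂ) := fun φ h =>
    CharApps.deg_eq_of_isChar (hS.isCharacter φ h)
  have hYdeg : ∀ η ∈ Y, charDegree η = e := by
    rintro η ⟨θ, hθ, -, hθk, rfl⟩
    have hb := degree_sq_le_central_step (B := K') (C := K) (D := K) le_rfl
      (fun x hx y hy => by
        have := Subgroup.commutator_mem_commutator hx hy
        rwa [commutatorElement_def] at this) hθ hθk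
    rw [Subgroup.relIndex_self, one_pow, one_mul] at hb
    have hpos := CharApps.deg_pos (⟨θ, hθ⟩ : IrrCharacter K)
    rw [charDegree_indFun K (Chars.isCharacter_of_irr hθ),
      show charDegree θ = 1 from le_antisymm (by nlinarith) hpos, mul_one]
  have hout : ∀ θ : IrrCharacter K, indFun K (θ : K → ℂ) ∈ S → indFun K (θ : K → ℂ) ∉ Y →
      ∃ i, 0 < i ∧ charDegree (θ : K → ℂ) = p ^ i := by
    intro θ hθS hθY
    obtain ⟨i, hi⟩ := degree_pPow hp hKp θ
    refine ⟨i, Nat.pos_of_ne_zero fun h0 => hθY ?_, hi⟩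
    refine (mem_inducedIrrAbove K (Subgroup.commutator_le_self K) θ.2).2
      ⟨(mem_inducedIrrAbove_bot K θ.2).1 hθS,
        linear_kills_commutator (Chars.isCharacter_of_irr θ.2) ?_⟩
    rw [CharApps.deg_eq θ, hi, h0, pow_zero, Nat.cast_one]
  have hXfin : X.Finite := (inducedIrrAbove_finite K ⊥).subset Set.sdiff_subset
  set FX := hXfin.toFinset
  have hFX : ∀ φ, φ ∈ FX ↔ φ ∈ X := fun φ => Set.Finite.mem_toFinset _
  obtain ⟨χ₀, hχ₀F, hmin⟩ := FX.exists_min_image charDegree (hXne.imp fun φ h => (hFX φ).2 h)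
  have hχ₀ : χ₀ ∈ X := (hFX χ₀).1 hχ₀F
  obtain ⟨θ₀, hθ₀, hθ₀1, -, hχ₀e⟩ := id hχ₀.1
  obtain ⟨n₀, hn₀, hθ₀d⟩ := hout ⟨θ₀, hθ₀⟩ (hχ₀e ▸ hχ₀.1)
    (fun h => hYX _ (hχ₀e ▸ h) hχ₀)
  change charDegree θ₀ = p ^ n₀ at hθ₀d
  set a₀ := p ^ n₀
  have ha₀3 : 3 ≤ a₀ := hp3.trans (Nat.le_self_pow hn₀.ne' p)
  have hdeg₀ : charDegree χ₀ = e * a₀ := by
    rw [hχ₀e, charDegree_indFun K (Chars.isCharacter_of_irr hθ₀), hθ₀d]
  have hXdeg : ∀ χ ∈ X, ∃ i, n₀ ≤ i ∧ charDegree χ = e * p ^ i := by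
    intro χ hχ
    obtain ⟨θ, hθ, -, -, hχe⟩ := id hχ.1
    obtain ⟨i, -, hi⟩ := hout ⟨θ, hθ⟩ (hχe ▸ hχ.1) (fun h => hYX _ (hχe ▸ h) hχ)
    change charDegree θ = p ^ i at hi
    have hd : charDegree χ = e * p ^ i := by
      rw [hχe, charDegree_indFun K (Chars.isCharacter_of_irr hθ), hi]
    refine ⟨i, ?_, hd⟩
    have h := hmin χ ((hFX χ).2 hχ)
    rw [hdeg₀, hd] at h
    exact (Nat.pow_le_pow_iff_right hp.one_lt).1 (Nat.le_of_mul_le_mul_left h he0)
  obtain ⟨η₁, hη₁⟩ := inducedIrrAbove_nonempty K hsolv hK'K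
  -- orthogonality of the two images
  have horth : ∀ χ ∈ X, ∀ η ∈ Y, classInner (τY η) (σ χ) = 0 := by
    intro χ hχ η hη
    refine coh_image_orth hS Set.sdiff_subset hσ hσag hχ (hXc χ hχ) fun α hα => ?_
    rw [← Chars.inner_conj, map_eq_zero]
    refine coh_image_orth hS hYS hτY hτYag hη (inducedIrrAbove_conj K hη) fun β hβ => ?_
    exact coh_orth hS hχ.1 (hYS hη) (fun h => hYX η hη (h ▸ hχ))
      (fun h => hYX η hη (by simpa [h, conjFun_conjFun] using hXc χ hχ)) α hα β hβ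
  set γ := χ₀ - ((a₀ : ℤ) : ℂ) • η₁ with hγdef
  have hγ : γ ∈ zspanOn S {1}ᶜ := by
    refine mem_zspanOn_one.2 ⟨?_, ?_⟩
    · rw [hγdef, ← zsmul_eq_cast]
      exact Submodule.sub_mem _ (Submodule.subset_span hχ₀.1)
        (Submodule.smul_mem _ _ (Submodule.subset_span (hYS hη₁)))
    · simp [hγdef, hdegS χ₀ hχ₀.1, hdegS η₁ (hYS hη₁), hdeg₀, hYdeg η₁ hη₁, mul_comm]
  set β := τ γ with hβdef
  have hβgen : β ∈ genChar G := hS.isometry.2.2.2 γ hγ
  -- multiplicities divisible by `a₀`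
  have hdvd : ∀ η ∈ Y, ∃ k : ℤ, classInner β (τY η) = (a₀ : ℂ) * k := by
    intro η hη
    set f := τY η
    have hηspan : η ∈ zspan Y := Submodule.subset_span hη
    have hf : f ∈ genChar G := hτY.2.2.2 η hηspan
    have hfn : classInner f f = 1 := by
      rw [hτY.2.2.1 η hηspan η hηspan, irr_inner_self (hirrS η (hYS hη))]
    have hcl := Chars.isClassFunction_of_isGeneralized hf
    obtain ⟨j, hj⟩ := sibley_dvd hN hTI hodd hcop' hZK hZ1 hZc hf hfn (χ₀ := χ₀) (a₀ := a₀)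
      (by omega) (by rw [hdegS χ₀ hχ₀.1, hdeg₀]) fun ξ hξ => by
        by_cases hker : ∀ z ∈ Z, ξ z = ξ 1
        · exact Or.inl hker
        right
        push Not at hker
        have hξX : ξ ∈ X := by
          show ξ ∈ inducedIrrAbove K ⊥ \ inducedIrrAbove K Z
          rw [hXeq]
          exact ⟨hξ, hker⟩
        obtain ⟨i, hi, hξd⟩ := hXdeg ξ hξX
        set a : ℕ := p ^ (i - n₀)
        have hξa : ξ 1 = (a : ℂ) * χ₀ 1 := by
          rw [hdegS ξ hξX.1, hdegS χ₀ hχ₀.1, hξd, hdeg₀, ← Nat.cast_mul]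
          congr 1
          show e * p ^ i = p ^ (i - n₀) * (e * p ^ n₀)
          rw [mul_left_comm, ← pow_add, Nat.sub_add_cancel hi]
        set α := ξ - ((a : ℤ) : ℂ) • χ₀ with hαdef
        have hα : α ∈ zspanOn X {1}ᶜ := by
          refine mem_zspanOn_one.2 ⟨?_, by simp [hαdef, hξa]⟩
          rw [hαdef, ← zsmul_eq_cast]
          exact Submodule.sub_mem _ (Submodule.subset_span hξX)
            (Submodule.smul_mem _ _ (Submodule.subset_span hχ₀))
        have h1 : classInner f (τ α) = 0 := by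
          set M := Submodule.span ℤ X
          have hσM : IsLinearIsometryOn (M : Set (N → ℂ)) σ := hσ
          have hm1 : ξ ∈ M := Submodule.subset_span hξX
          have hm2 : χ₀ ∈ M := Submodule.subset_span hχ₀
          rw [← hσag α hα, hαdef, isometry_map_sub hσM hm1
            (by rw [← zsmul_eq_cast]; exact M.smul_mem _ hm2), isometry_map_smul hσM hm2,
            Chars.inner_sub_right, Chars.inner_smul_right, horth ξ hξX η hη, horth χ₀ hχ₀ η hη,
            mul_zero, sub_zero]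
        rw [show τ α = indFun N α from rfl, Chars.inner_indFun_right N α hcl, hαdef,
          Chars.inner_sub_right, Chars.inner_smul_right, map_intCast, sub_eq_zero] at h1
        rw [h1, hξa]
        push_cast
        ring
    have hres : IsClassFunction N (fun x : N => f x) := Chars.isClassFunction_restrict N hcl
    have hresgen : (fun x : N => f x) ∈ genChar N := by
      obtain ⟨c, d, hc, hd, e⟩ := hf
      exact ⟨_, _, Chars.isCharacter_restrict N hc, Chars.isCharacter_restrict N hd,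
        funext fun x => congrFun e x⟩
    obtain ⟨m, hm⟩ := inner_gen_int hresgen (genChar_of_irr (hirrS η₁ (hYS hη₁)))
    refine ⟨j - m, ?_⟩
    have h2 : classInner f β = (a₀ : ℂ) * ((j - m : ℤ) : ℂ) := by
      rw [hβdef, show τ γ = indFun N γ from rfl, Chars.inner_indFun_right N γ hcl, hγdef,
        Chars.inner_sub_right, Chars.inner_smul_right, map_intCast, hj, hm]
      push_cast
      ring
    rw [← Chars.inner_conj, h2]
    simp
  choose! k hk using hdvd
  set FY := (inducedIrrAbove_finite K K').toFinset with hFYdef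
  have hFY : ∀ φ, φ ∈ FY ↔ φ ∈ Y := fun φ => Set.Finite.mem_toFinset _
  have hFYc : (↑FY : Set (N → ℂ)) = Y := Set.Finite.coe_toFinset _
  have hkd : ∀ η ∈ FY, η ≠ η₁ → k η = k η₁ + 1 := by
    intro η hη hne
    rw [hFY] at hη
    have hmem : η - η₁ ∈ zspanOn Y {1}ᶜ := mem_zspanOn_one.2
      ⟨Submodule.sub_mem _ (Submodule.subset_span hη) (Submodule.subset_span hη₁), by
        simp [hdegS η (hYS hη), hdegS η₁ (hYS hη₁), hYdeg η hη, hYdeg η₁ hη₁]⟩
    have h : classInner β (τ (η - η₁)) = classInner γ (η - η₁) :=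
      hS.isometry.2.2.1 γ hγ _ (zspanOn_mono hYS _ hmem)
    rw [← hτYag _ hmem, isometry_map_sub (M := Submodule.span ℤ Y) hτY (Submodule.subset_span hη)
      (Submodule.subset_span hη₁), Chars.inner_sub_right, hk η hη, hk η₁ hη₁, hγdef,
      Chars.inner_sub_left, Chars.inner_smul_left, Chars.inner_sub_right, Chars.inner_sub_right,
      hS.orthogonal χ₀ hχ₀.1 η (hYS hη) (fun e => hYX η hη (e ▸ hχ₀)),
      hS.orthogonal χ₀ hχ₀.1 η₁ (hYS hη₁) (fun e => hYX η₁ hη₁ (e ▸ hχ₀)),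
      hS.orthogonal η₁ (hYS hη₁) η (hYS hη) hne.symm, irr_inner_self (hirrS η₁ (hYS hη₁))] at h
    have h' : ((k η : ℂ) - (k η₁ : ℂ) - 1) * (a₀ : ℂ) = 0 := by
      push_cast at h
      linear_combination h
    rcases mul_eq_zero.1 h' with h' | h'
    · have : ((k η - k η₁ - 1 : ℤ) : ℂ) = 0 := by push_cast; exact h'
      have : k η - k η₁ - 1 = 0 := by exact_mod_cast this
      omega
    · exact absurd h' (Nat.cast_ne_zero.2 (by omega))
  have hββ : classInner β β = 1 + (a₀ : ℂ) ^ 2 := by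
    rw [hβdef, hS.isometry.2.2.1 γ hγ γ hγ, hγdef, Chars.inner_sub_left, Chars.inner_sub_right,
      Chars.inner_sub_right, Chars.inner_smul_left, Chars.inner_smul_left, Chars.inner_smul_right,
      Chars.inner_smul_right, hS.orthogonal χ₀ hχ₀.1 η₁ (hYS hη₁) (fun e => hYX η₁ hη₁ (e ▸ hχ₀)),
      hS.orthogonal η₁ (hYS hη₁) χ₀ hχ₀.1 (fun e => hYX η₁ hη₁ (e.symm ▸ hχ₀)),
      irr_inner_self (hirrS χ₀ hχ₀.1), irr_inner_self (hirrS η₁ (hYS hη₁)), map_intCast]
    push_cast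
    ring
  have hFY2 : 2 ≤ FY.card := by
    refine Nat.succ_le_of_lt (Finset.one_lt_card.2 ⟨η₁, (hFY _).2 hη₁, conjFun η₁,
      (hFY _).2 (inducedIrrAbove_conj K hη₁), (hS.conj_ne η₁ (hYS hη₁)).symm⟩)
  obtain ⟨τ₂, hτ₂, hτ₂ag, hτ₂β⟩ := exists_adjusted_isometry (Y := FY)
    (fun η h => hirrS η (hYS ((hFY η).1 h))) ((hFY _).2 hη₁)
    (fun η h => by rw [hdegS η (hYS ((hFY η).1 h)), hdegS η₁ (hYS hη₁), hYdeg η ((hFY η).1 h),
      hYdeg η₁ hη₁])
    (by rw [hFYc]; exact isometry_mono (zspanOn_mono hYS _) hS.isometry)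
    (by rw [hFYc]; exact hτY) (by rw [hFYc]; exact hτYag) hFY2 (a := a₀) (by omega) hββ k
    (fun η h => hk η ((hFY η).1 h)) hkd
  -- one member nontrivial on `Z` joins
  set S₁ := insert χ₀ FY with hS₁def
  have hS₁sub : (↑S₁ : Set (N → ℂ)) ⊆ S := by
    intro φ h
    rcases Finset.mem_insert.1 (show φ ∈ S₁ from h) with rfl | h
    · exact hχ₀.1
    · exact hYS ((hFY φ).1 h)
  have hcoh₁ : IsCoherent (↑S₁ : Set (N → ℂ)) {1}ᶜ τ := by
    have hη₁F : η₁ ∈ FY := (hFY _).2 hη₁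
    set x := β + ((a₀ : ℤ) : ℂ) • τ₂ η₁ with hxdef
    have hτ₂η : ∀ φ ∈ FY, classInner (τ₂ η₁) (τ₂ φ) = if η₁ = φ then 1 else 0 := fun φ h => by
      rw [hτ₂.2.2.1 η₁ (Submodule.subset_span hη₁F) φ (Submodule.subset_span h),
        Chars.inner_irr_of_isIrr (hirrS η₁ (hYS hη₁)) (hirrS φ (hYS ((hFY φ).1 h)))]
    obtain ⟨τ₃, hτ₃, hag₃, -, -⟩ := extend_one (S₀ := FY) (χ := χ₀)
      (fun h => hYX χ₀ ((hFY _).1 h) hχ₀)
      (fun φ hφ φ' hφ' h => hS.orthogonal φ (hS₁sub hφ) φ' (hS₁sub hφ') h)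
      (fun φ hφ => by rw [irr_inner_self (hirrS φ (hS₁sub hφ))]; exact one_ne_zero)
      (isometry_mono (zspanOn_mono hS₁sub _) hS.isometry) hτ₂ hτ₂ag hη₁F (a₀ : ℤ)
      (by rw [hdegS χ₀ hχ₀.1, hdegS η₁ (hYS hη₁), hdeg₀, hYdeg η₁ hη₁]; push_cast; ring)
      (x := x) ((genChar G).add_mem hβgen (by
        rw [← zsmul_eq_cast]
        exact (genChar G).smul_mem _ (hτ₂.2.2.2 η₁ (Submodule.subset_span hη₁F))))
      (by
        rw [hxdef, Chars.inner_add_left, Chars.inner_add_right, Chars.inner_add_right,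
          Chars.inner_smul_left, Chars.inner_smul_left, Chars.inner_smul_right,
          Chars.inner_smul_right, hββ, ← Chars.inner_conj β (τ₂ η₁), hτ₂β η₁ hη₁F, if_pos rfl,
          hτ₂η η₁ hη₁F, if_pos rfl, irr_inner_self (hirrS χ₀ hχ₀.1)]
        simp only [map_neg, map_natCast, map_intCast]
        push_cast
        ring)
      (fun φ hφ => by
        rw [hxdef, Chars.inner_add_left, Chars.inner_smul_left, hτ₂β φ hφ, hτ₂η φ hφ]
        rcases eq_or_ne φ η₁ with rfl | h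
        · simp
        · simp [h, h.symm])
      (by rw [hxdef, ← hγdef, ← hβdef, add_sub_cancel_right])
    refine ⟨⟨η₁ - conjFun η₁, ?_, sub_ne_zero.2 (hS.conj_ne η₁ (hYS hη₁)).symm⟩, τ₃, hτ₃, hag₃⟩
    exact mem_zspanOn_one.2 ⟨Submodule.sub_mem _
      (Submodule.subset_span (Finset.mem_insert_of_mem hη₁F))
      (Submodule.subset_span (Finset.mem_insert_of_mem ((hFY _).2 (inducedIrrAbove_conj K hη₁)))),
      (mem_zspanOn_one.1 (coh_sub_conj_mem hS (hYS hη₁))).2⟩
  -- all members nontrivial on `Z`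
  set F₂ := FY ∪ FX
  have hF₂sub : (↑F₂ : Set (N → ℂ)) ⊆ S := fun φ h => by
    rcases Finset.mem_union.1 (show φ ∈ F₂ from h) with h | h
    · exact hYS ((hFY φ).1 h)
    · exact ((hFX φ).1 h).1
  have hη₁d : charDegree η₁ = e := hYdeg η₁ hη₁
  have hcoh₂ : IsCoherent (↑F₂ : Set (N → ℂ)) {1}ᶜ τ := by
    refine coherent_by_degree F₂ S₁ (Finset.insert_subset
      (Finset.mem_union_right _ hχ₀F) Finset.subset_union_left) (fun ξ h => hirrS ξ (hF₂sub h))
      (isometry_mono (zspanOn_mono hF₂sub _) hS.isometry)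
      (fun α h => hS.map_one α (zspanOn_mono hF₂sub _ h)) hcoh₁ fun χ hχ hχ₁ => ?_
    have hχX : χ ∈ X := by
      rcases Finset.mem_union.1 hχ with h | h
      · exact absurd (Finset.mem_insert_of_mem h) hχ₁
      · exact (hFX χ).1 h
    obtain ⟨θ, hθ, -, -, hχe⟩ := id hχX.1
    obtain ⟨i, hi, hχd⟩ := hXdeg χ hχX
    have hθd : charDegree θ = p ^ i := by
      rw [hχe, charDegree_indFun K (Chars.isCharacter_of_irr hθ)] at hχd
      exact Nat.eq_of_mul_eq_mul_left he0 hχd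
    refine ⟨η₁, Finset.mem_insert_of_mem ((hFY _).2 hη₁), by rw [hη₁d, hχd]; exact dvd_mul_right _ _,
      ?_⟩
    rw [hη₁d, hχd]
    have hlow : e ^ 2 * (p ^ i) ^ 2 ≤ ∑ ξ ∈ F₂.filter (fun ξ => ξ ∈ S₁ ∨ charDegree ξ < e * p ^ i),
        charDegree ξ ^ 2 := by
      rcases hi.eq_or_lt with rfl | hlt
      · refine le_trans (le_of_eq ?_) (Finset.single_le_sum (fun ξ _ => Nat.zero_le _)
          (Finset.mem_filter.2 ⟨Finset.mem_union_right _ hχ₀F, Or.inl (Finset.mem_insert_self _ _)⟩))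
        rw [hdeg₀, mul_pow]
      · have hlt' : e * p ^ n₀ < e * p ^ i :=
          Nat.mul_lt_mul_of_pos_left (Nat.pow_lt_pow_right hp.one_lt hlt) he0
        refine le_trans ?_ (Finset.sum_le_sum_of_subset
          (s := FX.filter (fun ξ => charDegree ξ < e * p ^ i)) fun ξ h => ?_)
        · have h := lower_weight_ge hp hKp hcop hZK hZc hXirr
            (FX.filter (fun ξ => charDegree ξ < e * p ^ i)) ⟨θ, hθ⟩
            ⟨χ₀, Finset.mem_filter.2 ⟨hχ₀F, by rw [hdeg₀]; exact hlt'⟩⟩ fun φ => by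
              rw [Finset.mem_filter, hFX]
              show _ ↔ _ ∧ charDegree φ < e * charDegree θ
              rw [hθd]
          change e ^ 2 * charDegree θ ^ 2 ≤ _ at h
          rwa [hθd] at h
        · obtain ⟨h1, h2⟩ := Finset.mem_filter.1 h
          exact Finset.mem_filter.2 ⟨Finset.mem_union_right _ h1, Or.inr h2⟩
    refine lt_of_lt_of_le ?_ hlow
    have h3 : 3 ≤ p ^ i := ha₀3.trans (Nat.pow_le_pow_right hp.pos hi)
    calc 2 * e * (e * p ^ i) = e ^ 2 * p ^ i * 2 := by ring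
      _ < e ^ 2 * p ^ i * p ^ i := Nat.mul_lt_mul_of_pos_left (by omega) (by positivity)
      _ = e ^ 2 * (p ^ i) ^ 2 := by ring
  -- the rest
  set F := (inducedIrrAbove_finite K ⊥).toFinset with hFdef
  have hFc : (↑F : Set (N → ℂ)) = S := Set.Finite.coe_toFinset _
  rw [← hFc]
  refine coherent_by_degree F F₂ (fun φ h => (Set.Finite.mem_toFinset _).2 (hF₂sub h))
    (fun ξ h => hirrS ξ ((Set.Finite.mem_toFinset _).1 h)) (by rw [hFc]; exact hS.isometry)
    (by rw [hFc]; exact hS.map_one) hcoh₂ fun χ hχ hχ₂ => ?_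
  have hχS : χ ∈ S := (Set.Finite.mem_toFinset _).1 hχ
  obtain ⟨θ, hθ, -, -, rfl⟩ := id hχS
  obtain ⟨i, hi0, hi⟩ := hout ⟨θ, hθ⟩ hχS
    (fun h => hχ₂ (Finset.mem_union_left _ ((hFY _).2 h)))
  change charDegree θ = p ^ i at hi
  rw [charDegree_indFun K (Chars.isCharacter_of_irr hθ), hi]
  refine ⟨η₁, Finset.mem_union_left _ ((hFY _).2 hη₁), by rw [hη₁d]; exact dvd_mul_right _ _, ?_⟩
  rw [hη₁d]
  set Z' := Z.subgroupOf K
  have hZ'c : Z' ≤ Subgroup.center K := fun z hz =>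
    Subgroup.mem_center_iff.2 fun k => Subtype.ext (hZc z hz k k.2).symm
  have hsqd : (p ^ i) ^ 2 ≤ Z'.index := by
    rw [← hi]
    exact Nat.le_of_dvd (Nat.pos_of_ne_zero Subgroup.index_ne_zero_of_finite)
      (degree_sq_dvd_index hp hKp hZ'c ⟨θ, hθ⟩)
  have hZcard : 2 * e + 1 ≤ Nat.card Z' := by
    have hc : Nat.card Z' = Nat.card Z := Nat.card_congr (Subgroup.subgroupOfEquivOfLe hZK).toEquiv
    rw [hc]
    refine odd_ne_one_ge (hodd.of_dvd_nat K.index_dvd_card)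
      (hodd.of_dvd_nat (Subgroup.card_subgroup_dvd_card Z))
      (fun h => hZ1 (Z.eq_bot_of_card_eq h)) ?_
    have h := dvd_card_of_class_size ((Finset.univ.filter (fun z : N => z ∈ Z)).erase 1)
      (fun x hx g => by
        simp only [Finset.mem_erase, Finset.mem_filter, Finset.mem_univ, true_and] at hx ⊢
        exact ⟨fun e => hx.1 (conj_eq_one_iff.1 e), (inferInstance : Z.Normal).conj_mem x hx.2 g⟩) e
      (fun x hx => by
        simp only [Finset.mem_erase, Finset.mem_filter, Finset.mem_univ, true_and] at hx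
        refine congrArg Subgroup.index (le_antisymm (hC' x (hZK hx.2) hx.1) fun k hk =>
          Subgroup.mem_centralizer_singleton_iff.2 (hZc x hx.2 k hk).symm))
    rwa [Finset.card_erase_of_mem (by simp), ← Fintype.card_subtype,
      ← Nat.card_eq_fintype_card] at h
  have hTX : e * (Z'.index * 2 * e) ≤ ∑ ξ ∈ FX, charDegree ξ ^ 2 := by
    rw [weight_nat FX (fun φ h => ((hFX φ).1 h).1) (fun φ h => hXirr φ ((hFX φ).1 h))]
    refine Nat.mul_le_mul_left _ ?_
    have hset : Finset.univ.filter (fun ψ : IrrCharacter K => indFun K (ψ : K → ℂ) ∈ FX) =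
        Finset.univ.filter (fun ψ : IrrCharacter K => ¬ Z' ≤ CharApps.charKer ψ) := by
      ext ψ
      simp only [Finset.mem_filter, Finset.mem_univ, true_and, hFX, X, S, Set.mem_sdiff,
        mem_inducedIrrAbove_bot K ψ.2, mem_inducedIrrAbove K hZK ψ.2]
      refine ⟨fun h h' => h.2 ⟨h.1, h'⟩, fun h => ⟨fun e => h fun a _ => ?_, fun h' => h h'.2⟩⟩
      show (ψ : K → ℂ) a = (ψ : K → ℂ) 1
      rw [e]
    rw [hset]
    have hkill := CharApps.sum_filter_degree_sq Z'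
    have hall := CharApps.sum_degree_sq_nat (G := K)
    rw [← Finset.sum_filter_add_sum_filter_not Finset.univ
      (fun ψ : IrrCharacter K => Z' ≤ CharApps.charKer ψ), hkill, ← Z'.index_mul_card] at hall
    have h1 : Z'.index * (2 * e + 1) ≤ Z'.index * Nat.card Z' := Nat.mul_le_mul_left _ hZcard
    rw [mul_add, mul_one, ← mul_assoc] at h1
    omega
  refine lt_of_lt_of_le ?_ (Finset.sum_le_sum_of_subset (s := FX) fun ξ h =>
    Finset.mem_filter.2 ⟨(Set.Finite.mem_toFinset _).2 ((hFX ξ).1 h).1,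
      Or.inl (Finset.mem_union_right _ h)⟩)
  refine lt_of_lt_of_le ?_ hTX
  have hpi : p ^ i < (p ^ i) ^ 2 := by
    have : 3 ≤ p ^ i := hp3.trans (Nat.le_self_pow hi0.ne' p)
    nlinarith
  calc 2 * e * (e * p ^ i) = 2 * e * e * p ^ i := by ring
    _ < 2 * e * e * (p ^ i) ^ 2 := Nat.mul_lt_mul_of_pos_left hpi (by positivity)
    _ ≤ 2 * e * e * Z'.index := Nat.mul_le_mul_left _ hsqd
    _ = e * (Z'.index * 2 * e) := by ring

end CfsgLib.CharsMore

namespace CfsgLib.CharsMore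

open Cfsg

lemma commutator_lt_of_solvable {L : Type*} [Group L] {K : Subgroup L} (hsolv : Group.IsSolvable K)
    (hK : K ≠ ⊥) : ⁅K, K⁆ < K := by
  haveI : Nontrivial K := (Subgroup.nontrivial_iff_ne_bot K).2 hK
  haveI := hsolv
  refine lt_of_le_of_ne (Subgroup.commutator_le_self K) fun e => ?_
  refine (Group.IsSolvable.commutator_lt_top_of_nontrivial K).ne ?_
  rw [← Subgroup.map_subtype_commutator] at e
  exact (Subgroup.map_injective K.subtype_injective) (e.trans (by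
    rw [← MonoidHom.range_eq_map, Subgroup.range_subtype]))

/-- Sibley's coherence theorem for a trivial intersection kernel with normaliser of odd order. -/
theorem sibley_odd {G : Type*} [Group G] [Fintype G] {H N : Subgroup G} [Fintype N]
    (hN : Subgroup.normalizer (H : Set G) = N) (hTI : IsTISubset (H : Set G))
    (hC : ∀ h ∈ H, h ≠ 1 → Subgroup.centralizer ({h} : Set G) ≤ H) (hodd : Odd (Nat.card N))
    [(H.subgroupOf N).Normal] (hnil : Group.IsNilpotent (H.subgroupOf N)) (hH : H ≠ ⊥) :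
    IsCoherent (inducedIrrAbove (H.subgroupOf N) ⊥) {1}ᶜ (fun α : N → ℂ => indFun N α) := by
  classical
  set K := H.subgroupOf N with hKdef
  haveI := hnil
  have hsolv : Group.IsSolvable K := inferInstance
  have hHN : H ≤ N := hN ▸ Subgroup.le_normalizer
  have hKne : K ≠ ⊥ := by
    rw [hKdef, Ne, Subgroup.subgroupOf_eq_bot, disjoint_iff]
    rwa [inf_eq_left.2 hHN]
  have hC' := centralizer_subgroupOf hHN hC
  have hK'K := commutator_lt_of_solvable hsolv hKne
  haveI : ((⊥ : Subgroup N).subgroupOf K).Normal := by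
    rw [Subgroup.bot_subgroupOf]; infer_instance
  have key : ((¬ ∃ p m : ℕ, p.Prime ∧ (⊥ : Subgroup N).relIndex K = p ^ m) ∨
      ⁅K, K⁆ ≤ (⊥ : Subgroup N)) →
      IsCoherent (inducedIrrAbove K ⊥) {1}ᶜ (fun α : N → ℂ => indFun N α) := by
    intro h
    obtain ⟨R, hS⟩ := exists_coh_system hN hTI hC hodd hsolv hH
    refine coherent_kernel (M := ⊥) hsolv hS hodd bot_le inferInstance (sup_bot_eq _).symm hK'K
      (frob_quot_of_centralizer hC' (Subgroup.commutator_le_self K)) ?_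
    rcases h with h | h
    · exact Or.inr (Or.inr (Or.inl h))
    · exact Or.inr (Or.inr (Or.inr (Or.inl h)))
  by_cases hna : ⁅K, K⁆ ≤ (⊥ : Subgroup N)
  · exact key (Or.inr hna)
  by_cases hpp : ∃ p m : ℕ, p.Prime ∧ (⊥ : Subgroup N).relIndex K = p ^ m
  · obtain ⟨p, m, hp, hm⟩ := hpp
    haveI := Fact.mk hp
    rw [Subgroup.relIndex_bot_left] at hm
    exact sibley_pGroup hN hTI hC hodd hnil hp (IsPGroup.iff_card.2 ⟨m, hm⟩)
      fun h => hna h.le
  · exact key (Or.inl hpp)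

/-- In a Frobenius subgroup with trivial intersection kernel the kernel contains the centralisers
of its nonidentity elements. -/
lemma centralizer_le_of_fpf {G : Type*} [Group G] [Finite G] {H L W₁ : Subgroup G}
    (hHn : ∀ x ∈ L, ∀ h ∈ H, x * h * x⁻¹ ∈ H) (hW₁L : W₁ ≤ L) (hsup : H ⊔ W₁ = L)
    (hfpf : ∀ w ∈ W₁, w ≠ 1 → ∀ h ∈ H, w * h = h * w → h = 1) (hTI : IsTISubset (H : Set G))
    (hN : Subgroup.normalizer (H : Set G) = L) :
    ∀ h ∈ H, h ≠ 1 → Subgroup.centralizer ({h} : Set G) ≤ H := by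
  intro h hh hne g hg
  have hgh := Subgroup.mem_centralizer_singleton_iff.1 hg
  have hgL : g ∈ L := by
    by_contra hgL
    refine hne (hTI g (by rwa [hN]) h hh ?_)
    rw [hgh, mul_inv_cancel_right]
    exact hh
  have hsup' : L ≤ H ⊔ W₁ := hsup.ge
  have hHWn : W₁ ≤ Subgroup.normalizer (H : Set G) := hN ▸ hW₁L
  have hg' : g ∈ (↑(H ⊔ W₁) : Set G) := hsup' hgL
  rw [Subgroup.coe_mul_of_right_le_normalizer_left H W₁ hHWn] at hg'
  obtain ⟨a, ha, w, hw, rfl⟩ := Set.mem_mul.1 hg'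
  by_cases hw1 : w = 1
  · rwa [hw1, mul_one]
  exfalso
  let f : H → H := fun c => ⟨(c : G) * (w * (c : G)⁻¹ * w⁻¹),
    H.mul_mem c.2 (hHn w (hW₁L hw) _ (H.inv_mem c.2))⟩
  obtain ⟨c, hc⟩ := (Finite.surjective_of_injective (f := f) fun b c e => Subtype.ext (by
    have e' : (b : G) * (w * (b : G)⁻¹ * w⁻¹) = (c : G) * (w * (c : G)⁻¹ * w⁻¹) :=
      congrArg Subtype.val e
    refine (inv_mul_eq_one.1 (hfpf w hw hw1 _ (H.mul_mem (H.inv_mem c.2) b.2) ?_)).symm
    calc w * ((c : G)⁻¹ * b) = (c : G)⁻¹ * ((c : G) * (w * (c : G)⁻¹ * w⁻¹)) * w * b := by group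
      _ = (c : G)⁻¹ * ((b : G) * (w * (b : G)⁻¹ * w⁻¹)) * w * b := by rw [e']
      _ = _ := by group)) ⟨a, ha⟩
  have hc' : (c : G) * (w * (c : G)⁻¹ * w⁻¹) = a := congrArg Subtype.val hc
  have h1 : w * ((c : G)⁻¹ * h * c) = ((c : G)⁻¹ * h * c) * w := by
    rw [← hc'] at hgh
    calc w * ((c : G)⁻¹ * h * c) = (c : G)⁻¹ * ((c : G) * (w * (c : G)⁻¹ * w⁻¹) * w * h) * c := by
          group
      _ = (c : G)⁻¹ * (h * ((c : G) * (w * (c : G)⁻¹ * w⁻¹) * w)) * c := by rw [hgh]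
      _ = _ := by group
  have h2 := hfpf w hw hw1 _ (H.mul_mem (H.mul_mem (H.inv_mem c.2) hh) c.2) h1
  refine hne ?_
  have h3 := congrArg (fun y => (c : G) * y * (c : G)⁻¹) h2
  simpa [mul_assoc] using h3

end CfsgLib.CharsMore
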