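import Mathlib

/-!
# Subgroups generated by small classes

If `A` is a self-centralizing normal abelian subgroup and `m` is the smallest class size
greater than `1`, then the subgroup generated by the classes of size `1` or `m` is nilpotent
of class at most `3` (Isaacs).
-/

set_option linter.style.haveILetI false

namespace CfsgLib.CharsMore.SmallClasses

open Subgroup

variable {G : Type*} [Group G] [Finite G]

/-- For `a ∈ A` and an element `x` of smallest non-central class size, `[a, x]` is central. -/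
lemma comm_mem_center (A : Subgroup G) [A.Normal] (hA : IsMulCommutative A) (x : G)
    (hmin : ∀ y : G, 1 < (centralizer ({y} : Set G)).index →
      (centralizer ({x} : Set G)).index ≤ (centralizer ({y} : Set G)).index)
    (a : G) (ha : a ∈ A) : a * x * a⁻¹ * x⁻¹ ∈ center G := by
  classical
  set C := centralizer ({x} : Set G) with hC
  by_contra hb
  have hAc : ∀ u ∈ A, ∀ v ∈ A, u * v = v * u := fun u hu v hv =>
    congrArg Subtype.val (hA.is_comm.comm ⟨u, hu⟩ ⟨v, hv⟩)
  have hδA : ∀ u ∈ A, u * x * u⁻¹ * x⁻¹ ∈ A := fun u hu => by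
    have h := (inferInstance : A.Normal).conj_mem _ (A.inv_mem hu) x
    simpa [mul_assoc] using A.mul_mem hu h
  set b := a * x * a⁻¹ * x⁻¹ with hbdef
  have hbA : b ∈ A := hδA a ha
  have hb1 : b ≠ 1 := fun h => hb (h ▸ one_mem _)
  set R : Set G := (fun u => u * x * u⁻¹ * x⁻¹) '' (A : Set G) with hR
  choose! s hsA hs using fun r (hr : r ∈ R) => hr
  set Cb := centralizer ({b} : Set G) with hCb
  set D := C ⊓ Cb with hD
  have hxC : ∀ g ∈ C, g * x = x * g := fun g hg => mem_centralizer_singleton_iff.1 hg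
  -- many elements centralize `b`
  have h1 : Nat.card R * Nat.card D ≤ Nat.card Cb := by
    rw [← Nat.card_prod]
    refine Nat.card_le_card_of_injective (fun rd : R × D => (⟨s rd.1 * (rd.2 : G),
      Cb.mul_mem (mem_centralizer_singleton_iff.2 (hAc _ (hsA _ rd.1.2) b hbA)) rd.2.2.2⟩ : Cb)) ?_
    rintro ⟨r, d⟩ ⟨r', d'⟩ h
    have h0 : s r * (d : G) = s r' * (d' : G) := congrArg Subtype.val h
    have hc : (s r')⁻¹ * s r ∈ C := by
      have : (s r')⁻¹ * s r = (d' : G) * (d : G)⁻¹ := by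
        rw [eq_mul_inv_iff_mul_eq, mul_assoc, h0, inv_mul_cancel_left]
      rw [this]
      exact C.mul_mem d'.2.1 (C.inv_mem d.2.1)
    have hr : (r : G) = (r' : G) := by
      rw [← hs r r.2, ← hs r' r'.2]
      have h2 := hxC _ hc
      calc s r * x * (s r)⁻¹ * x⁻¹
          = s r' * (((s r')⁻¹ * s r) * x) * (s r)⁻¹ * x⁻¹ := by group
        _ = s r' * (x * ((s r')⁻¹ * s r)) * (s r)⁻¹ * x⁻¹ := by rw [h2]
        _ = _ := by group
    obtain rfl : r = r' := Subtype.ext hr
    exact Prod.ext rfl (Subtype.ext (mul_left_cancel h0))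
  -- the orbit of `b` under `C` misses `1`
  have hconj : ∀ g ∈ C, g * b * g⁻¹ ∈ R := fun g hg => by
    refine ⟨g * a * g⁻¹, (inferInstance : A.Normal).conj_mem a ha g, ?_⟩
    have h2 : g⁻¹ * x = x * g⁻¹ := hxC _ (C.inv_mem hg)
    calc g * a * g⁻¹ * x * (g * a * g⁻¹)⁻¹ * x⁻¹
        = g * a * (g⁻¹ * x) * g * a⁻¹ * g⁻¹ * x⁻¹ := by group
      _ = g * a * (x * g⁻¹) * g * a⁻¹ * g⁻¹ * x⁻¹ := by rw [h2]
      _ = g * (a * x * a⁻¹) * (x * g)⁻¹ := by group
      _ = g * (a * x * a⁻¹) * (g * x)⁻¹ := by rw [hxC g hg]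
      _ = _ := by rw [hbdef]; group
  set R₀ := {r : R // (r : G) ≠ 1} with hR₀
  let f : C → R₀ := fun g => ⟨⟨(g : G) * b * (g : G)⁻¹, hconj g g.2⟩, fun h => hb1 (conj_eq_one_iff.1 h)⟩
  let t : R₀ → C := Function.invFun f
  have ht : ∀ g, f (t (f g)) = f g := fun g => Function.invFun_eq ⟨g, rfl⟩
  have h2 : Nat.card C ≤ Nat.card R₀ * Nat.card D := by
    rw [← Nat.card_prod]
    refine Nat.card_le_card_of_injective (fun g : C => (f g,
      (⟨((t (f g))⁻¹ * g : C), ⟨((t (f g))⁻¹ * g : C).2, ?_⟩⟩ : D))) ?_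
    · have h3 : (t (f g) : G) * b * (t (f g) : G)⁻¹ = (g : G) * b * (g : G)⁻¹ :=
        congrArg (fun r : R₀ => ((r : R) : G)) (ht g)
      refine mem_centralizer_singleton_iff.2 ?_
      show (t (f g) : G)⁻¹ * (g : G) * b = b * ((t (f g) : G)⁻¹ * (g : G))
      calc (t (f g) : G)⁻¹ * (g : G) * b
          = (t (f g) : G)⁻¹ * ((g : G) * b * (g : G)⁻¹) * (g : G) := by group
        _ = _ := by rw [← h3]; group
    · intro g g' h
      obtain ⟨h3, h4⟩ := Prod.mk.injEq .. ▸ h
      have h5 : (t (f g) : G)⁻¹ * (g : G) = (t (f g') : G)⁻¹ * (g' : G) := congrArg Subtype.val h4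
      rw [h3, mul_right_inj] at h5
      exact Subtype.ext h5
  have h3 : Nat.card R₀ < Nat.card R := by
    haveI : Finite R := Subtype.finite
    exact Finite.card_subtype_lt (x := (⟨1, ⟨1, A.one_mem, by simp⟩⟩ : R)) (by simp)
  have hCb1 : 1 < Cb.index := by
    refine Subgroup.one_lt_index_of_ne_top fun h => hb (mem_center_iff.2 fun g => ?_)
    exact mem_centralizer_singleton_iff.1 (h.symm ▸ mem_top g : g ∈ Cb)
  have h4 : C.index ≤ Cb.index := hmin b hCb1
  have h5 : Nat.card Cb * Cb.index = Nat.card G := Cb.card_mul_index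
  rw [← C.card_mul_index] at h5
  have h6 : Nat.card Cb ≤ Nat.card C := by
    by_contra h7
    have := (Nat.mul_le_mul_left (Nat.card C) h4).trans_lt
      (Nat.mul_lt_mul_of_pos_right (not_le.1 h7) (lt_trans Nat.zero_lt_one hCb1))
    omega
  have hD0 : 0 < Nat.card D := Nat.card_pos
  have h8 := Nat.mul_lt_mul_of_pos_right h3 hD0
  omega

/-- The subgroup generated by the smallest classes is nilpotent of class at most `3`. -/
theorem upperCentralSeries_three_eq_top (A : Subgroup G) [A.Normal] (hA : IsMulCommutative A)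
    (hCA : centralizer (A : Set G) = A) (m : ℕ)
    (hmin : ∀ x : G, 1 < (centralizer ({x} : Set G)).index →
      m ≤ (centralizer ({x} : Set G)).index) :
    Subgroup.upperCentralSeries (closure {x : G | (centralizer ({x} : Set G)).index = 1 ∨
      (centralizer ({x} : Set G)).index = m}) 3 = ⊤ := by
  set S := {x : G | (centralizer ({x} : Set G)).index = 1 ∨ (centralizer ({x} : Set G)).index = m}
  set M := closure S
  have hgen : ∀ x ∈ M, ∀ a ∈ A, a * x * a⁻¹ * x⁻¹ ∈ center G := by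
    intro x hx
    induction hx using closure_induction with
    | mem x hx =>
      intro a ha
      refine comm_mem_center A hA x (fun y hy => ?_) a ha
      rcases hx with h | h
      · omega
      · rw [h]; exact hmin y hy
    | one => intro a _; simp
    | mul x y _ _ ihx ihy =>
      intro a ha
      have h1 := ihx a ha
      have h2 := ihy a ha
      have : a * (x * y) * a⁻¹ * (x * y)⁻¹ =
          (a * x * a⁻¹ * x⁻¹) * (a * y * a⁻¹ * y⁻¹) := by
        have h3 := mem_center_iff.1 h2 x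
        calc a * (x * y) * a⁻¹ * (x * y)⁻¹
            = (a * x * a⁻¹ * x⁻¹) * (x * (a * y * a⁻¹ * y⁻¹)) * x⁻¹ := by group
          _ = _ := by rw [h3]; group
      rw [this]
      exact mul_mem h1 h2
    | inv x _ ih =>
      intro a ha
      have h1 := ih a ha
      have : a * x⁻¹ * a⁻¹ * (x⁻¹)⁻¹ = (a * x * a⁻¹ * x⁻¹)⁻¹ := by
        have h3 := mem_center_iff.1 (inv_mem h1) x
        calc a * x⁻¹ * a⁻¹ * (x⁻¹)⁻¹ = x⁻¹ * ((a * x * a⁻¹ * x⁻¹)⁻¹ * x) := by group
          _ = _ := by rw [← h3, inv_mul_cancel_left]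
      rw [this]
      exact inv_mem h1
  have hzM : ∀ g : M, (g : G) ∈ center G → g ∈ center M := fun g hg =>
    mem_center_iff.2 fun h => Subtype.ext (mem_center_iff.1 hg (h : G))
  -- `[x, y]` centralizes `A`
  have hMA : ∀ x ∈ M, ∀ y ∈ M, x * y * x⁻¹ * y⁻¹ ∈ A := by
    intro x hx y hy
    rw [← hCA, mem_centralizer_iff]
    intro a ha
    have key : ∀ z ∈ M, ∃ c ∈ center G, a * z = c * (z * a) := fun z hz =>
      ⟨_, hgen z hz a ha, by group⟩
    obtain ⟨c, hc, hcx⟩ := key x hx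
    obtain ⟨d, hd, hdy⟩ := key y hy
    have hc' : ∀ g, g * c = c * g := fun g => mem_center_iff.1 hc g
    have hd' : ∀ g, g * d = d * g := fun g => mem_center_iff.1 hd g
    have e1 : a * x * a⁻¹ = c * x := by rw [hcx]; group
    have e2 : a * y * a⁻¹ = d * y := by rw [hdy]; group
    have e3 : a * (x * y * x⁻¹ * y⁻¹) * a⁻¹ = x * y * x⁻¹ * y⁻¹ := by
      calc a * (x * y * x⁻¹ * y⁻¹) * a⁻¹
          = (a * x * a⁻¹) * (a * y * a⁻¹) * (a * x * a⁻¹)⁻¹ * (a * y * a⁻¹)⁻¹ := by group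
        _ = c * (x * d) * y * x⁻¹ * (c⁻¹ * y⁻¹) * d⁻¹ := by rw [e1, e2]; group
        _ = c * (d * x) * y * x⁻¹ * (y⁻¹ * c⁻¹) * d⁻¹ := by
          rw [hd' x, ← mem_center_iff.1 (inv_mem hc) y⁻¹]
        _ = c * ((d * (x * y * x⁻¹ * y⁻¹)) * c⁻¹) * d⁻¹ := by group
        _ = c * (c⁻¹ * (d * (x * y * x⁻¹ * y⁻¹))) * d⁻¹ := by
          rw [mem_center_iff.1 (inv_mem hc)]
        _ = d * (x * y * x⁻¹ * y⁻¹) * d⁻¹ := by group
        _ = _ := by rw [← hd', mul_inv_cancel_right]
    calc a * (x * y * x⁻¹ * y⁻¹) = a * (x * y * x⁻¹ * y⁻¹) * a⁻¹ * a := by group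
      _ = _ := by rw [e3]
  refine eq_top_iff.2 fun x _ => Subgroup.mem_upperCentralSeries_succ_iff.2 fun y => ?_
  refine Subgroup.mem_upperCentralSeries_succ_iff.2 fun z => ?_
  rw [Subgroup.upperCentralSeries_one]
  refine hzM _ ?_
  exact hgen _ z.2 _ (hMA _ x.2 _ y.2)

end CfsgLib.CharsMore.SmallClasses
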