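import Cfsg.Agent.Lib.Chars.Induction

/-!
# Permutation characters and Solomon's local theorem
-/

set_option linter.unusedSectionVars false

namespace CfsgLib.CharsMore

open Cfsg

variable {G : Type*} [Group G]

/-- A group with a cyclic normal subgroup of order prime to `p` and `p`-power index, internally. -/
def IsQuasiElemSub (p : ℕ) (H : Subgroup G) : Prop :=
  ∃ C : Subgroup G, C ≤ H ∧ H ≤ Subgroup.normalizer (C : Set G) ∧ IsCyclic C ∧
    Nat.Coprime (Nat.card C) p ∧ ∃ k : ℕ, C.relIndex H = p ^ k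

variable [Fintype G]

/-- The number of cosets of `U` fixed by an element. -/
noncomputable def cosetFix (U : Subgroup G) (g : G) : ℤ :=
  (Nat.card (MulAction.fixedBy (G ⧸ U) g) : ℤ)

lemma indFun_one_congr {U V : Subgroup G} (h : U = V) :
    indFun U (fun _ => (1 : ℂ)) = indFun V (fun _ => (1 : ℂ)) := by subst h; rfl

lemma indFun_one_eq_cosetFix (U : Subgroup G) :
    indFun U (fun _ => (1 : ℂ)) = fun g => ((cosetFix U g : ℤ) : ℂ) := by
  have h : MulAction.stabilizer G ((1 : G) : G ⧸ U) = U := by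
    ext x
    rw [MulAction.mem_stabilizer_iff, MulAction.Quotient.smul_mk, QuotientGroup.eq, smul_eq_mul,
      mul_one, mul_one, inv_mem_iff]
  rw [← indFun_one_congr h, Chars.indFun_stabilizer_one]
  funext g
  simp [cosetFix]

/-- Integer combinations of the coset fixed point counts of subgroups in a family. -/
def permSpan (P : Subgroup G → Prop) : AddSubgroup (G → ℤ) :=
  AddSubgroup.closure {f | ∃ U, P U ∧ f = cosetFix U}

lemma cosetFix_mem {P : Subgroup G → Prop} {U : Subgroup G} (h : P U) : cosetFix U ∈ permSpan P :=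
  AddSubgroup.subset_closure ⟨U, h, rfl⟩

lemma permSpan_mono {P Q : Subgroup G → Prop} (h : ∀ U, P U → Q U) : permSpan P ≤ permSpan Q :=
  AddSubgroup.closure_mono fun _ ⟨U, hU, e⟩ => ⟨U, h U hU, e⟩

lemma exists_coeff {P : Subgroup G → Prop} {f : G → ℤ} (hf : f ∈ permSpan P) :
    ∃ a : Subgroup G → ℤ, (∀ U, a U ≠ 0 → P U) ∧ ∀ g, f g = ∑ U : Subgroup G, a U * cosetFix U g := by
  classical
  induction hf using AddSubgroup.closure_induction with
  | mem f hf =>
    obtain ⟨U, hU, rfl⟩ := hf
    refine ⟨fun V => if V = U then 1 else 0, fun V hV => ?_, fun g => by simp⟩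
    rw [show V = U from by by_contra hne; exact hV (if_neg hne)]
    exact hU
  | zero => exact ⟨0, by simp, by simp⟩
  | add f g _ _ hf hg =>
    obtain ⟨a, ha, ea⟩ := hf
    obtain ⟨b, hb, eb⟩ := hg
    refine ⟨a + b, fun U hU => ?_, fun x => by simp [ea, eb, add_mul, Finset.sum_add_distrib]⟩
    by_contra hP
    refine hU ?_
    have h1 : a U = 0 := by_contra fun h => hP (ha U h)
    have h2 : b U = 0 := by_contra fun h => hP (hb U h)
    simp [h1, h2]
  | neg f _ hf =>
    obtain ⟨a, ha, ea⟩ := hf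
    exact ⟨-a, fun U hU => ha U (by simpa using hU), fun x => by simp [ea]⟩

/-- Fixed points of an action split over the orbits; `Q` selects a stabiliser in each orbit. -/
lemma card_fixedBy_eq_sum_orbits {X : Type*} [MulAction G X] [Finite X] {Q : Subgroup G → Prop}
    (hQ : ∀ x : X, ∃ g : G, Q (MulAction.stabilizer G (g • x))) :
    ∃ a : Subgroup G → ℕ, (∀ U, a U ≠ 0 → Q U) ∧
      ∀ g : G, (Nat.card (MulAction.fixedBy X g) : ℤ) = ∑ U : Subgroup G, (a U : ℤ) * cosetFix U g := by
  classical
  let Ω := Quotient (MulAction.orbitRel G X)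
  let _ : Fintype Ω := Fintype.ofFinite Ω
  choose t ht using fun ω : Ω => hQ ω.out
  let r : Ω → X := fun ω => t ω • ω.out
  have hr : ∀ ω, Quotient.mk (MulAction.orbitRel G X) (r ω) = ω := fun ω =>
    (Quotient.sound (MulAction.mem_orbit ω.out (t ω))).trans ω.out_eq
  let s : Ω → Subgroup G := fun ω => MulAction.stabilizer G (r ω)
  refine ⟨fun U => (Finset.univ.filter fun ω => s ω = U).card, fun U hU => ?_, fun g => ?_⟩
  · obtain ⟨ω, hω⟩ := Finset.card_ne_zero.1 hU
    rw [← (Finset.mem_filter.1 hω).2]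
    exact ht ω
  have horb : ∀ ω : Ω, cosetFix (s ω) g =
      (Nat.card {x : MulAction.fixedBy X g // Quotient.mk (MulAction.orbitRel G X) x.1 = ω} : ℤ) := by
    intro ω
    have h2 : MulAction.stabilizer G (⟨r ω, MulAction.mem_orbit_self (r ω)⟩ :
        MulAction.orbit G (r ω)) = s ω := by
      ext x
      simp [s, MulAction.mem_stabilizer_iff, Subtype.ext_iff]
    have h1 := congrFun (Chars.indFun_stabilizer_one
      (⟨r ω, MulAction.mem_orbit_self (r ω)⟩ : MulAction.orbit G (r ω))) g
    rw [indFun_one_congr h2, indFun_one_eq_cosetFix] at h1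
    simp only at h1
    refine Eq.trans (Int.cast_injective (α := ℂ) (h1.trans (Int.cast_natCast _).symm)) ?_
    congr 1
    refine Nat.card_congr
      { toFun := fun y => ⟨⟨y.1.1, congrArg Subtype.val y.2⟩, (Quotient.sound y.1.2).trans (hr ω)⟩
        invFun := fun z => ⟨⟨z.1.1, Quotient.exact (z.2.trans (hr ω).symm)⟩, Subtype.ext z.1.2⟩
        left_inv := fun _ => rfl
        right_inv := fun _ => rfl }
  calc (Nat.card (MulAction.fixedBy X g) : ℤ)
      = ∑ ω : Ω, cosetFix (s ω) g := by
        simp only [horb]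
        rw [← Nat.cast_sum, ← Nat.card_sigma]
        congr 1
        exact Nat.card_congr (Equiv.sigmaFiberEquiv
          (fun x : MulAction.fixedBy X g => Quotient.mk (MulAction.orbitRel G X) x.1)).symm
    _ = _ := by
        rw [← Finset.sum_fiberwise Finset.univ s]
        refine Finset.sum_congr rfl fun U _ => ?_
        rw [Finset.sum_congr rfl (fun ω hω => by rw [(Finset.mem_filter.1 hω).2]),
          Finset.sum_const, nsmul_eq_mul]

/-- The product of two coset fixed point counts. -/
lemma cosetFix_mul (H K : Subgroup G) :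
    ∃ a : Subgroup G → ℕ, (∀ U, a U ≠ 0 → U ≤ H) ∧
      ∀ g, cosetFix H g * cosetFix K g = ∑ U : Subgroup G, (a U : ℤ) * cosetFix U g := by
  obtain ⟨a, ha, e⟩ := card_fixedBy_eq_sum_orbits (G := G) (X := (G ⧸ H) × (G ⧸ K))
    (Q := fun U => U ≤ H) (fun x => ⟨x.1.out⁻¹, fun g hg => by
      have h : g • (x.1.out⁻¹ • x.1) = x.1.out⁻¹ • x.1 := congrArg Prod.fst hg
      rw [← QuotientGroup.out_eq' x.1, MulAction.Quotient.smul_mk, MulAction.Quotient.smul_mk,
        smul_eq_mul, smul_eq_mul, QuotientGroup.out_eq', inv_mul_cancel, mul_one,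
        QuotientGroup.eq, mul_one, inv_mem_iff] at h
      exact h⟩)
  refine ⟨a, ha, fun g => ?_⟩
  rw [← e, cosetFix, cosetFix, ← Nat.cast_mul, ← Nat.card_prod]
  congr 1
  exact Nat.card_congr
    { toFun := fun p => ⟨(p.1.1, p.2.1), Prod.ext p.1.2 p.2.2⟩
      invFun := fun x => (⟨x.1.1, congrArg Prod.fst x.2⟩, ⟨x.1.2, congrArg Prod.snd x.2⟩)
      left_inv := fun _ => rfl
      right_inv := fun _ => rfl }

lemma permSpan_mul {P : Subgroup G → Prop} (hP : ∀ U V, U ≤ V → P V → P U) {f g : G → ℤ}
    (hf : f ∈ permSpan P) (hg : g ∈ permSpan P) : f * g ∈ permSpan P := by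
  induction hf using AddSubgroup.closure_induction with
  | mem f hf =>
    obtain ⟨U, hU, rfl⟩ := hf
    induction hg using AddSubgroup.closure_induction with
    | mem g hg =>
      obtain ⟨V, -, rfl⟩ := hg
      obtain ⟨a, ha, e⟩ := cosetFix_mul U V
      have h : cosetFix U * cosetFix V = ∑ W : Subgroup G, a W • cosetFix W := by
        funext x
        simp [e, Finset.sum_apply]
      rw [h]
      refine AddSubgroup.sum_mem _ fun W _ => ?_
      by_cases hW : a W = 0
      · rw [hW, zero_smul]; exact AddSubgroup.zero_mem _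
      · exact AddSubgroup.nsmul_mem _ (cosetFix_mem (hP W U (ha W hW) hU)) _
    | zero => simp
    | add x y _ _ hx hy => rw [mul_add]; exact AddSubgroup.add_mem _ hx hy
    | neg x _ hx => rw [mul_neg]; exact AddSubgroup.neg_mem _ hx
  | zero => simp
  | add x y _ _ hx hy => rw [add_mul]; exact AddSubgroup.add_mem _ hx hy
  | neg x _ hx => rw [neg_mul]; exact AddSubgroup.neg_mem _ hx

lemma isQuasiElemSub_of_le {p : ℕ} (hp : p.Prime) {U V : Subgroup G} (hUV : U ≤ V)
    (hV : IsQuasiElemSub p V) : IsQuasiElemSub p U := by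
  obtain ⟨C, hCV, hn, hcyc, hcop, k, hk⟩ := hV
  refine ⟨U ⊓ C, inf_le_left, ?_,
    isCyclic_of_injective (Subgroup.inclusion (inf_le_right : U ⊓ C ≤ C))
      (Subgroup.inclusion_injective _),
    hcop.coprime_dvd_left (Subgroup.card_dvd_of_le inf_le_right), ?_⟩
  · intro u hu
    rw [Subgroup.mem_normalizer_iff]
    intro c
    rw [Subgroup.mem_inf, Subgroup.mem_inf]
    refine and_congr ⟨fun hc => U.mul_mem (U.mul_mem hu hc) (U.inv_mem hu), fun hc => ?_⟩
      (Subgroup.mem_normalizer_iff.1 (hn (hUV hu)) c)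
    have := U.mul_mem (U.mul_mem (U.inv_mem hu) hc) hu
    simpa [mul_assoc] using this
  · have hnormal : (C.subgroupOf V).Normal := (Subgroup.normal_subgroupOf_iff_le_normalizer hCV).2 hn
    have hdvd : (U ⊓ C).relIndex U ∣ p ^ k := by
      rw [← hk, Subgroup.inf_relIndex_left,
        ← Subgroup.relIndex_subgroupOf hUV (H := C)]
      exact Subgroup.relIndex_dvd_index_of_normal _ _
    obtain ⟨j, -, hj⟩ := (Nat.dvd_prime_pow hp).1 hdvd
    exact ⟨j, hj⟩

lemma isQuasiElemSub_of_isCyclic {p : ℕ} [Fact p.Prime] (U : Subgroup G) [hU : IsCyclic U] :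
    IsQuasiElemSub p U := by
  obtain ⟨x, hx⟩ := hU.exists_generator
  set a := (Nat.card U).factorization p
  have hord : orderOf x = Nat.card U := orderOf_eq_card_of_forall_mem_zpowers hx
  set y : U := x ^ p ^ a with hy
  have hdvd : p ^ a ∣ Nat.card U := Nat.ordProj_dvd _ _
  have hyord : orderOf y = Nat.card U / p ^ a := by
    rw [hy, orderOf_pow, hord, Nat.gcd_eq_right hdvd]
  refine ⟨(Subgroup.zpowers y).map U.subtype, Subgroup.map_subtype_le _, ?_, ?_, ?_, a, ?_⟩
  · intro u hu
    rw [Subgroup.mem_normalizer_iff]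
    intro c
    have hcomm : ∀ v ∈ (Subgroup.zpowers y).map U.subtype, u * v = v * u := by
      rintro _ ⟨v, -, rfl⟩
      exact congrArg Subtype.val (hU.isMulCommutative.is_comm.comm ⟨u, hu⟩ v)
    constructor
    · intro hc
      rw [hcomm c hc, mul_inv_cancel_right]
      exact hc
    · intro hc
      have e : c = u * c * u⁻¹ := by
        have := hcomm _ hc
        calc c = u⁻¹ * ((u * c * u⁻¹) * u) := by group
          _ = u⁻¹ * (u * (u * c * u⁻¹)) := by rw [this]
          _ = u * c * u⁻¹ := by group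
      rw [e]
      exact hc
  · exact isCyclic_of_surjective _
      ((Subgroup.zpowers y).equivMapOfInjective U.subtype U.subtype_injective).surjective
  · rw [Subgroup.card_map_of_injective U.subtype_injective, Nat.card_zpowers, hyord]
    exact (Nat.coprime_ordCompl (Fact.out : p.Prime) Nat.card_pos.ne').symm
  · rw [Subgroup.relIndex, Subgroup.subgroupOf, Subgroup.comap_map_eq_self_of_injective U.subtype_injective]
    rw [← Nat.mul_right_cancel_iff (Nat.card_pos (α := Subgroup.zpowers y)),
      Subgroup.index_mul_card, Nat.card_zpowers, hyord, Nat.mul_div_cancel' hdvd]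

/-- Number of conjugators carrying `g` to a generator of `U`. -/
noncomputable def genCount (U : Subgroup G) (g : G) : ℤ :=
  (Nat.card {y : G // Subgroup.zpowers (y⁻¹ * g * y) = U} : ℤ)

lemma card_mul_cosetFix (U : Subgroup G) (g : G) :
    (Nat.card U : ℤ) * cosetFix U g = (Nat.card {y : G // y⁻¹ * g * y ∈ U} : ℤ) := by
  classical
  have hfix : ∀ y : G, ((y : G ⧸ U) ∈ MulAction.fixedBy (G ⧸ U) g) ↔ y⁻¹ * g * y ∈ U := by
    intro y
    rw [MulAction.mem_fixedBy, MulAction.Quotient.smul_mk, smul_eq_mul, QuotientGroup.eq]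
    rw [← inv_mem_iff (H := U) (x := y⁻¹ * g * y)]
    simp [mul_assoc]
  rw [cosetFix, ← Nat.cast_mul, mul_comm]
  congr 1
  rw [← Nat.card_prod]
  refine Nat.card_congr
    { toFun := fun p => ⟨p.1.1.out * (p.2 : G), ?_⟩
      invFun := fun y => (⟨(y.1 : G ⧸ U), (hfix y.1).2 y.2⟩,
        ⟨((y.1 : G ⧸ U).out)⁻¹ * y.1, QuotientGroup.eq.1 (QuotientGroup.out_eq' _)⟩)
      left_inv := fun p => ?_
      right_inv := fun y => ?_ }
  · rw [← hfix, QuotientGroup.mk_mul_of_mem _ p.2.2, QuotientGroup.out_eq']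
    exact p.1.2
  · have e : ((p.1.1.out * (p.2 : G) : G) : G ⧸ U) = p.1.1 := by
      rw [QuotientGroup.mk_mul_of_mem _ p.2.2, QuotientGroup.out_eq']
    refine Prod.ext (Subtype.ext e) (Subtype.ext ?_)
    show ((p.1.1.out * (p.2 : G) : G) : G ⧸ U).out⁻¹ * (p.1.1.out * (p.2 : G)) = p.2
    rw [e, inv_mul_cancel_left]
  · apply Subtype.ext
    simp

lemma genCount_mem (U : Subgroup G) :
    genCount U ∈ permSpan (fun V : Subgroup G => IsCyclic V) := by
  classical
  induction U using WellFoundedLT.induction with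
  | ind U ih =>
    by_cases hU : IsCyclic U
    · have h : genCount U = (Nat.card U) • cosetFix U -
          ∑ V ∈ Finset.univ.filter (fun V : Subgroup G => V < U), genCount V := by
        funext g
        simp only [Pi.sub_apply, nsmul_eq_mul, Finset.sum_apply, Pi.mul_apply, Pi.natCast_apply]
        rw [card_mul_cosetFix, eq_sub_iff_add_eq]
        have hc : Nat.card {y : G // y⁻¹ * g * y ∈ U} =
            ∑ V ∈ Finset.univ.filter (fun V : Subgroup G => V ≤ U),
              Nat.card {y : G // Subgroup.zpowers (y⁻¹ * g * y) = V} := by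
          simp only [Nat.card_eq_fintype_card, Fintype.card_subtype]
          rw [← Finset.card_biUnion (fun V _ W _ hVW =>
            Finset.disjoint_filter.2 fun y _ h1 h2 => hVW (h1.symm.trans h2))]
          congr 1
          ext y
          simp [Subgroup.zpowers_le]
        have hsplit : Finset.univ.filter (fun V : Subgroup G => V ≤ U) =
            insert U (Finset.univ.filter (fun V : Subgroup G => V < U)) := by
          ext V
          simp only [Finset.mem_filter, Finset.mem_univ, true_and, Finset.mem_insert]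
          exact le_iff_eq_or_lt
        rw [hc, hsplit, Finset.sum_insert (by simp), Nat.cast_add, Nat.cast_sum]
        rfl
      rw [h]
      exact AddSubgroup.sub_mem _ (AddSubgroup.nsmul_mem _ (cosetFix_mem hU) _)
        (AddSubgroup.sum_mem _ fun V hV => ih V (Finset.mem_filter.1 hV).2)
    · have h : genCount U = 0 := by
        funext g
        have : IsEmpty {y : G // Subgroup.zpowers (y⁻¹ * g * y) = U} :=
          ⟨fun y => hU (y.2 ▸ inferInstance)⟩
        simp [genCount]
      rw [h]; exact AddSubgroup.zero_mem _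

/-- Artin: `|G| h` lies in the span of cyclic permutation characters for integral `h` depending
only on the conjugacy class of the generated cyclic subgroup. -/
lemma card_mul_mem (h : G → ℤ) (hz : ∀ x y : G, Subgroup.zpowers x = Subgroup.zpowers y → h x = h y)
    (hc : ∀ x y : G, h (y⁻¹ * x * y) = h x) :
    (Nat.card G) • h ∈ permSpan (fun V : Subgroup G => IsCyclic V) := by
  classical
  let c : Subgroup G → ℤ := fun U => if e : ∃ x, Subgroup.zpowers x = U then h e.choose else 0
  have hcval : ∀ x, c (Subgroup.zpowers x) = h x := fun x => by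
    have e : ∃ z, Subgroup.zpowers z = Subgroup.zpowers x := ⟨x, rfl⟩
    simp only [c, dif_pos e]
    exact hz _ _ e.choose_spec
  have key : (Nat.card G) • h = ∑ U : Subgroup G, c U • genCount U := by
    funext g
    simp only [Pi.smul_apply, Finset.sum_apply, nsmul_eq_mul, smul_eq_mul,
      genCount, Nat.card_eq_fintype_card]
    have : ∀ U : Subgroup G, c U * ((Fintype.card {y : G // Subgroup.zpowers (y⁻¹ * g * y) = U} :
        ℕ) : ℤ) = ∑ y : G, if Subgroup.zpowers (y⁻¹ * g * y) = U then c U else 0 := by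
      intro U
      rw [← Finset.sum_filter, Finset.sum_const, Fintype.card_subtype, nsmul_eq_mul, mul_comm]
    simp only [this]
    rw [Finset.sum_comm]
    simp [hcval, hc]
  rw [key]
  exact AddSubgroup.sum_mem _ fun U _ => AddSubgroup.zsmul_mem _ (genCount_mem U) _

lemma cosetFix_zpowers (U : Subgroup G) {x y : G}
    (h : Subgroup.zpowers x = Subgroup.zpowers y) : cosetFix U x = cosetFix U y := by
  unfold cosetFix
  congr 1
  refine Nat.card_congr (Equiv.subtypeEquivRight fun q => ?_)
  show x • q = q ↔ y • q = q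
  simp only [← MulAction.mem_stabilizer_iff]
  rw [← Subgroup.zpowers_le, h, Subgroup.zpowers_le]

lemma cosetFix_conj (U : Subgroup G) (x y : G) : cosetFix U (y⁻¹ * x * y) = cosetFix U x := by
  have h := congrFun (indFun_one_eq_cosetFix U) (y⁻¹ * x * y)
  have h' := congrFun (indFun_one_eq_cosetFix U) x
  have hcl := Chars.isClassFunction_indFun U (fun _ => (1 : ℂ)) x y⁻¹
  rw [inv_inv, h, h'] at hcl
  exact Int.cast_injective hcl

/-- For each element and prime there is a quasi-elementary subgroup whose permutation character is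
prime to `p` there. -/
theorem exists_cosetFix_not_dvd {p : ℕ} (hp : p.Prime) (x : G) :
    ∃ H : Subgroup G, IsQuasiElemSub p H ∧ ¬ (p : ℤ) ∣ cosetFix H x := by
  classical
  have := Fact.mk hp
  set a := (orderOf x).factorization p
  have hdvd : p ^ a ∣ orderOf x := Nat.ordProj_dvd _ _
  set b := orderOf x / p ^ a
  have hb : p ^ a * b = orderOf x := Nat.mul_div_cancel' hdvd
  have hbcop : Nat.Coprime p b := Nat.coprime_ordCompl hp (orderOf_pos x).ne'
  set C := Subgroup.zpowers (x ^ p ^ a) with hC
  have hCcard : Nat.card C = b := by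
    rw [hC, Nat.card_zpowers, orderOf_pow, Nat.gcd_eq_right hdvd]
  set N := Subgroup.normalizer (C : Set G)
  have hxN : x ∈ N := by
    rw [Subgroup.mem_normalizer_iff]
    have hcomm : ∀ c ∈ C, x * c * x⁻¹ = c := by
      intro c hc
      obtain ⟨k, rfl⟩ := Subgroup.mem_zpowers_iff.1 hc
      rw [((Commute.refl x).pow_right (p ^ a)).zpow_right k |>.eq, mul_inv_cancel_right]
    refine fun c => ⟨fun hc => by rwa [hcomm c hc], fun hc => ?_⟩
    have e := hcomm _ hc
    have : c = x * c * x⁻¹ := by
      calc c = x⁻¹ * (x * c * x⁻¹) * x := by group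
        _ = x⁻¹ * (x * (x * c * x⁻¹) * x⁻¹) * x := by rw [e]
        _ = x * c * x⁻¹ := by group
    rwa [this]
  have hCN : C ≤ N := Subgroup.le_normalizer
  let xN : N := ⟨x, hxN⟩
  have hpgrp : IsPGroup p (Subgroup.zpowers (xN ^ b)) := by
    refine IsPGroup.of_card (n := a) ?_
    have : orderOf xN = orderOf x := (Subgroup.orderOf_coe xN).symm.trans rfl
    rw [Nat.card_zpowers, orderOf_pow, this, Nat.gcd_eq_right ⟨p ^ a, by rw [mul_comm, hb]⟩, ← hb,
      Nat.mul_div_cancel _ (Nat.pos_of_ne_zero fun h => by simp [h] at hb; exact (orderOf_pos x).ne hb)]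
  obtain ⟨P, hP⟩ := hpgrp.exists_le_sylow
  set C' : Subgroup N := C.subgroupOf N
  have hC'n : C'.Normal := Subgroup.normal_in_normalizer
  set H' : Subgroup N := C' ⊔ P
  have hxH : xN ∈ H' := by
    have h := Nat.gcd_eq_gcd_ab (p ^ a) b
    rw [(hbcop.pow_left a).gcd_eq_one] at h
    have e : xN = (xN ^ p ^ a) ^ Nat.gcdA (p ^ a) b * (xN ^ b) ^ Nat.gcdB (p ^ a) b := by
      rw [← zpow_natCast xN (p ^ a), ← zpow_natCast xN b, ← zpow_mul, ← zpow_mul, ← zpow_add, ← h]
      simp
    rw [e]
    refine H'.mul_mem (H'.zpow_mem ((le_sup_left : C' ≤ H') ?_) _)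
      (H'.zpow_mem ((le_sup_right : (P : Subgroup N) ≤ H') (hP (Subgroup.mem_zpowers _))) _)
    exact Subgroup.mem_zpowers (x ^ p ^ a)
  refine ⟨H'.map N.subtype, ⟨C, ?_, ?_, inferInstance, ?_, ?_⟩, ?_⟩
  · intro c hc
    exact ⟨⟨c, hCN hc⟩, (le_sup_left : C' ≤ H') hc, rfl⟩
  · exact Subgroup.map_subtype_le _
  · rw [hCcard]; exact hbcop.symm
  · have hrel : C.relIndex (H'.map N.subtype) = C'.relIndex H' := by
      have e : C = C'.map N.subtype := (Subgroup.map_subgroupOf_eq_of_le hCN).symm
      conv_lhs => rw [e]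
      exact Subgroup.relIndex_map_map_of_injective _ _ N.subtype_injective
    have hdvd2 : C'.relIndex H' ∣ Nat.card (P : Subgroup N) := by
      rw [show H' = (P : Subgroup N) ⊔ C' from sup_comm _ _, Subgroup.relIndex_sup_right]
      exact Subgroup.index_dvd_card _
    obtain ⟨m, hm⟩ := P.2.exists_card_eq
    rw [hm] at hdvd2
    obtain ⟨j, -, hj⟩ := (Nat.dvd_prime_pow hp).1 hdvd2
    exact ⟨j, hrel.trans hj⟩
  · -- fixed cosets of `x` are those inside the normaliser
    have hiff : ∀ y : G, y⁻¹ * x * y ∈ H'.map N.subtype → y ∈ N := by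
      rintro y ⟨h, hh, e⟩
      have e' : (h : G) = y⁻¹ * x * y := e
      have hpow : h ^ p ^ a ∈ C' := by
        -- the `p'`-part of an element of `H'` lies in `C'`
        obtain ⟨m, hm⟩ := P.2.exists_card_eq
        have hq : ∀ z : H', (z : N) ^ p ^ m ∈ C' := by
          intro z
          have hrel : C'.relIndex H' ∣ p ^ m := by
            rw [← hm, show H' = (P : Subgroup N) ⊔ C' from sup_comm _ _, Subgroup.relIndex_sup_right]
            exact Subgroup.index_dvd_card _
          obtain ⟨q, hq⟩ := hrel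
          rw [hq, pow_mul]
          exact C'.pow_mem ((Subgroup.pow_index_mem (H := C'.subgroupOf H') z)) _
        have hord : orderOf h = orderOf x := by
          rw [← Subgroup.orderOf_coe h, e']
          have := (MulAut.conj y⁻¹).orderOf_eq x
          simpa [MulAut.conj_apply] using this
        have h2 := hq ⟨h, hh⟩
        have hbh : (h ^ p ^ a) ^ b = 1 := by rw [← pow_mul, hb, ← hord, pow_orderOf_eq_one]
        obtain ⟨k, hk1, hk0⟩ := Nat.chineseRemainder (hbcop.symm.pow_right m) 1 0
        have e2 : h ^ p ^ a = (h ^ p ^ a) ^ k := by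
          conv_lhs => rw [← pow_one (h ^ p ^ a)]
          exact pow_eq_pow_iff_modEq.2 (Nat.ModEq.of_dvd (orderOf_dvd_of_pow_eq_one hbh) hk1).symm
        obtain ⟨j, hj⟩ := Nat.modEq_zero_iff_dvd.1 hk0
        rw [e2, hj, ← pow_mul, mul_left_comm, pow_mul]
        exact C'.pow_mem h2 _
      have hconj : y⁻¹ * (x ^ p ^ a) * y ∈ C := by
        have h3 : ((h ^ p ^ a : N) : G) ∈ C := hpow
        rw [SubgroupClass.coe_pow, e'] at h3
        have := conj_pow (i := p ^ a) (a := y⁻¹) (b := x)
        rw [inv_inv] at this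
        rwa [this] at h3
      have hle : C.map (MulAut.conj y⁻¹).toMonoidHom ≤ C := by
        rw [hC, MonoidHom.map_zpowers, Subgroup.zpowers_le]
        simpa [MulAut.conj_apply] using hconj
      have heq : C.map (MulAut.conj y⁻¹).toMonoidHom = C :=
        Subgroup.eq_of_le_of_card_ge hle
          (by rw [Subgroup.card_map_of_injective (MulAut.conj y⁻¹).injective])
      have : y⁻¹ ∈ N := Subgroup.mem_normalizer_iff_map_conj_eq.2 heq
      simpa using N.inv_mem this
    have hcount : cosetFix (H'.map N.subtype) x = cosetFix H' xN := by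
      have h1 := card_mul_cosetFix (H'.map N.subtype) x
      have h2 := card_mul_cosetFix H' xN
      rw [Subgroup.card_map_of_injective N.subtype_injective] at h1
      have e : Nat.card {y : G // y⁻¹ * x * y ∈ H'.map N.subtype} =
          Nat.card {y : N // y⁻¹ * xN * y ∈ H'} := by
        refine Nat.card_congr
          { toFun := fun y => ⟨⟨y.1, hiff y.1 y.2⟩, ?_⟩
            invFun := fun y => ⟨y.1.1, ⟨_, y.2, by simp [xN]⟩⟩
            left_inv := fun y => rfl
            right_inv := fun y => rfl }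
        obtain ⟨z, hz, e⟩ := y.2
        have : z = (⟨y.1, hiff y.1 y.2⟩ : N)⁻¹ * xN * ⟨y.1, hiff y.1 y.2⟩ := Subtype.ext e
        rw [← this]; exact hz
      rw [e, ← h2] at h1
      exact mul_left_cancel₀ (by exact_mod_cast (Nat.card_pos (α := H')).ne') h1
    have hidx : ¬ p ∣ H'.index := fun h =>
      P.not_dvd_index (h.trans (Subgroup.index_dvd_of_le le_sup_right))
    rw [hcount]
    intro hd
    apply hidx
    have hd' : p ∣ Nat.card (MulAction.fixedBy (N ⧸ H') xN) := Int.natCast_dvd_natCast.1 hd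
    have hfix : Nat.card (MulAction.fixedBy (N ⧸ H') xN) =
        Nat.card (MulAction.fixedPoints (Subgroup.zpowers (xN ^ b)) (N ⧸ H')) := by
      refine Nat.card_congr (Equiv.subtypeEquivRight fun q => ?_)
      have hCfix : ∀ c ∈ C', c • q = q := by
        intro c hc
        induction q using QuotientGroup.induction_on with
        | H z =>
          rw [MulAction.Quotient.smul_mk, QuotientGroup.eq, smul_eq_mul]
          refine (le_sup_left : C' ≤ H') ?_
          have := hC'n.conj_mem _ (C'.inv_mem hc) z⁻¹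
          simpa [mul_assoc] using this
      constructor
      · intro hq
        rintro ⟨w, hw⟩
        obtain ⟨k, rfl⟩ := Subgroup.mem_zpowers_iff.1 hw
        have : (xN ^ b) ^ k ∈ MulAction.stabilizer N q :=
          Subgroup.zpow_mem _ (Subgroup.pow_mem _ (MulAction.mem_stabilizer_iff.2 hq) _) _
        exact this
      · intro hq
        have h1 : xN ^ b ∈ MulAction.stabilizer N q := hq ⟨_, Subgroup.mem_zpowers _⟩
        have h2 : xN ^ p ^ a ∈ MulAction.stabilizer N q :=
          hCfix _ (Subgroup.mem_zpowers (x ^ p ^ a))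
        have h := Nat.gcd_eq_gcd_ab (p ^ a) b
        rw [(hbcop.pow_left a).gcd_eq_one] at h
        have e : xN = (xN ^ p ^ a) ^ Nat.gcdA (p ^ a) b * (xN ^ b) ^ Nat.gcdB (p ^ a) b := by
          rw [← zpow_natCast xN (p ^ a), ← zpow_natCast xN b, ← zpow_mul, ← zpow_mul, ← zpow_add,
            ← h]
          simp
        show xN • q = q
        rw [← MulAction.mem_stabilizer_iff, e]
        exact Subgroup.mul_mem _ (Subgroup.zpow_mem _ h2 _) (Subgroup.zpow_mem _ h1 _)
    rw [hfix] at hd'
    have hmod := hpgrp.card_modEq_card_fixedPoints (N ⧸ H')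
    rw [Subgroup.index_eq_card]
    exact (Nat.modEq_zero_iff_dvd).1 (hmod.trans (Nat.modEq_zero_iff_dvd.2 hd'))

/-- Solomon's theorem, local form. -/
theorem solomon_local {p : ℕ} (hp : p.Prime) :
    ∃ n : ℕ, ¬ p ∣ n ∧ (fun _ : G => (n : ℤ)) ∈ permSpan (IsQuasiElemSub (G := G) p) := by
  classical
  have := Fact.mk hp
  have hP : ∀ U V : Subgroup G, U ≤ V → IsQuasiElemSub p V → IsQuasiElemSub p U :=
    fun U V h hV => isQuasiElemSub_of_le hp h hV
  set S := permSpan (IsQuasiElemSub (G := G) p)
  have hpow : ∀ {f : G → ℤ}, f ∈ S → ∀ k, k ≠ 0 → f ^ k ∈ S := by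
    intro f hf k hk
    induction k with
    | zero => exact absurd rfl hk
    | succ k ih =>
      by_cases h0 : k = 0
      · simpa [h0] using hf
      · rw [pow_succ]; exact permSpan_mul hP (ih h0) hf
  have hone : ∀ x : G, ∃ f ∈ S, (p : ℤ) ∣ f x - 1 := by
    intro x
    obtain ⟨H, hH, hnd⟩ := exists_cosetFix_not_dvd hp x
    refine ⟨_, hpow (cosetFix_mem hH) (p - 1) (by have := hp.two_le; omega), ?_⟩
    have hcop : IsCoprime (cosetFix H x) (p : ℤ) :=
      ((Nat.prime_iff_prime_int.1 hp).irreducible.coprime_iff_not_dvd.2 hnd).symm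
    exact (Int.ModEq.pow_card_sub_one_eq_one hp hcop).symm.dvd
  have hall : ∀ s : Finset G, ∃ r ∈ S, ∀ x ∈ s, (p : ℤ) ∣ r x - 1 := by
    intro s
    induction s using Finset.induction_on with
    | empty => exact ⟨0, S.zero_mem, by simp⟩
    | insert x s _ ih =>
      obtain ⟨r, hr, hr1⟩ := ih
      obtain ⟨f, hf, hf1⟩ := hone x
      refine ⟨r + f - r * f, S.sub_mem (S.add_mem hr hf) (permSpan_mul hP hr hf), fun y hy => ?_⟩
      have e : (r + f - r * f) y - 1 = -((r y - 1) * (f y - 1)) := by
        simp only [Pi.sub_apply, Pi.add_apply, Pi.mul_apply]; ring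
      rw [e, dvd_neg]
      rcases Finset.mem_insert.1 hy with rfl | hy
      · exact hf1.mul_left _
      · exact (hr1 y hy).mul_right _
  obtain ⟨r, hr, hr1⟩ := hall Finset.univ
  set a := (Nat.card G).factorization p
  set n := Nat.card G / p ^ a with hn
  have hn1 : p ^ a * n = Nat.card G := Nat.mul_div_cancel' (Nat.ordProj_dvd _ _)
  refine ⟨n, Nat.not_dvd_ordCompl hp Nat.card_pos.ne', ?_⟩
  set r' := r ^ p ^ a with hr'
  have hr'mem : r' ∈ S := hpow hr _ (pow_ne_zero _ hp.ne_zero)
  have hdvd : ∀ x, ((p : ℤ) ^ a) ∣ r' x - 1 := by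
    intro x
    have h := dvd_sub_pow_of_dvd_sub (p := p) (hr1 x (Finset.mem_univ x)) a
    rw [one_pow] at h
    refine (pow_dvd_pow (p : ℤ) (Nat.le_succ a)).trans ?_
    simpa [hr'] using h
  choose h hh using hdvd
  have hr'z : ∀ x y : G, Subgroup.zpowers x = Subgroup.zpowers y → r' x = r' y := by
    intro x y hxy
    obtain ⟨c, -, e⟩ := exists_coeff hr'mem
    rw [e, e]
    exact Finset.sum_congr rfl fun U _ => by rw [cosetFix_zpowers U hxy]
  have hr'c : ∀ x y : G, r' (y⁻¹ * x * y) = r' x := by
    intro x y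
    obtain ⟨c, -, e⟩ := exists_coeff hr'mem
    rw [e, e]
    exact Finset.sum_congr rfl fun U _ => by rw [cosetFix_conj U x y]
  have hpne : ((p : ℤ) ^ a) ≠ 0 := pow_ne_zero _ (by exact_mod_cast hp.ne_zero)
  have hG : (Nat.card G) • h ∈ S := permSpan_mono (fun U (_ : IsCyclic U) =>
    isQuasiElemSub_of_isCyclic U) (card_mul_mem h
      (fun x y hxy => mul_left_cancel₀ hpne (by rw [← hh, ← hh, hr'z x y hxy]))
      (fun x y => mul_left_cancel₀ hpne (by rw [← hh, ← hh, hr'c x y])))
  have e : (fun _ : G => (n : ℤ)) = n • r' - (Nat.card G) • h := by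
    funext x
    simp only [Pi.sub_apply, nsmul_eq_mul, Pi.mul_apply, Pi.natCast_apply, ← hn1, Nat.cast_mul,
      Nat.cast_pow]
    simp only [Pi.pow_apply, Pi.natCast_apply]
    linear_combination -(n : ℤ) * hh x
  rw [e]
  exact S.sub_mem (S.nsmul_mem hr'mem n) hG

end CfsgLib.CharsMore
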