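import Cfsg.Agent.Lib.CharsMore.Gallagher
import Cfsg.Agent.Lib.CharsMore.CdThree
import Cfsg.Agent.Lib.CharApps.RealForm
import Cfsg.Agent.Lib.KnownA.AltRank
import Mathlib

/-!
# Counting strongly real characters induced from an inertia group
-/

set_option linter.unusedSectionVars false
set_option linter.style.haveILetI false

namespace CfsgLib.CharsMore.StronglyRealCount

open Cfsg CharApps Matrix
open scoped ComplexConjugate Kronecker

/-- An alternating invertible invariant form makes the fixed space even-dimensional. -/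
theorem even_of_alternating {H : Type*} [Group H] [Fintype H] {ι : Type*} [Fintype ι] [DecidableEq ι]
    (A : H → Matrix ι ι ℂ) (hmul : ∀ a b, A (a * b) = A a * A b) (h1 : A 1 = 1)
    (M : Matrix ι ι ℂ) (hM : IsUnit M.det) (hT : Mᵀ = -M)
    (hinv : ∀ h, (A h)ᵀ * M * A h = M) {m : ℕ}
    (hm : (Nat.card H : ℂ)⁻¹ * ∑ h : H, (A h).trace = m) : Even m := by
  classical
  set E : Matrix ι ι ℂ := (Nat.card H : ℂ)⁻¹ • ∑ h : H, A h with hE
  have hEM : Eᵀ * M = M * E := by
    simp only [hE, Matrix.transpose_smul, Matrix.transpose_sum, Matrix.smul_mul, Matrix.mul_smul,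
      Finset.sum_mul, Finset.mul_sum]
    refine congrArg _ (Fintype.sum_equiv (Equiv.inv H) _ _ fun x => ?_)
    have h := congrArg (· * A x⁻¹) (hinv x)
    rw [Matrix.mul_assoc _ (A x), ← hmul, mul_inv_cancel, h1, Matrix.mul_one] at h
    simpa using h
  have hEE : E * E = E := by
    have hfix : ∀ a : H, A a * E = E := by
      intro a
      rw [hE, Matrix.mul_smul, Finset.mul_sum]
      exact congrArg _ (Fintype.sum_equiv (Equiv.mulLeft a) _ _ fun y => (hmul a y).symm)
    conv_lhs => arg 1; rw [hE]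
    rw [Matrix.smul_mul, Finset.sum_mul, Finset.sum_congr rfl fun a _ => hfix a, Finset.sum_const,
      Finset.card_univ, ← Nat.cast_smul_eq_nsmul ℂ, smul_smul, ← Nat.card_eq_fintype_card,
      inv_mul_cancel₀ (Chars.card_ne_zero H), one_smul]
  have halt : ∀ v, v ⬝ᵥ (M * E) *ᵥ v = 0 := by
    intro v
    have h0 : ∀ w : ι → ℂ, w ⬝ᵥ M *ᵥ w = 0 := by
      intro w
      have h : w ⬝ᵥ M *ᵥ w = -(w ⬝ᵥ M *ᵥ w) := by
        conv_lhs => rw [Matrix.dotProduct_mulVec, ← Matrix.mulVec_transpose, hT,
          Matrix.neg_mulVec, neg_dotProduct, dotProduct_comm]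
      exact CharZero.eq_neg_self_iff.1 h
    rw [show M * E = Eᵀ * M * E by rw [hEM, Matrix.mul_assoc, hEE], ← Matrix.mulVec_mulVec,
      ← Matrix.mulVec_mulVec, Matrix.dotProduct_mulVec v Eᵀ, Matrix.vecMul_transpose]
    exact h0 _
  have hev := KnownA.even_rank_of_alternating (M * E) halt
  rw [Matrix.rank_mul_eq_right_of_isUnit_det M E hM] at hev
  have hproj : LinearMap.IsProj (LinearMap.range E.mulVecLin) E.mulVecLin :=
    ⟨fun x => LinearMap.mem_range_self _ x, by
      rintro _ ⟨y, rfl⟩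
      simp [Matrix.mulVec_mulVec, hEE]⟩
  have htr := hproj.trace
  rw [show LinearMap.trace ℂ (ι → ℂ) E.mulVecLin = E.trace from Matrix.trace_toLin'_eq E, hE,
    Matrix.trace_smul, Matrix.trace_sum, smul_eq_mul, hm, Nat.cast_inj] at htr
  rwa [htr]

variable {G : Type*} [Group G] [Fintype G]

/-- The invariant form of a real irreducible representation is invertible. -/
theorem exists_nondeg_form {n : ℕ} (ρ : Representation ℂ G (Fin n → ℂ)) [hρ : ρ.IsIrreducible]
    (h : ∀ g : G, conj (ρ.character g) = ρ.character g) :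
    ∃ M : Matrix (Fin n) (Fin n) ℂ, IsUnit M.det ∧ Mᵀ = fsInd ρ.character • M ∧
      ∀ g : G, (repMat ρ g)ᵀ * M * repMat ρ g = M := by
  classical
  obtain ⟨⟨M, hM0, hMinv⟩, hsymm⟩ := exists_invariant_form ρ h
  refine ⟨M, ?_, hsymm M hMinv, hMinv⟩
  rw [← Matrix.isUnit_iff_isUnit_det, ← Matrix.mulVec_injective_iff_isUnit,
    ← Matrix.coe_mulVecLin, ← LinearMap.ker_eq_bot]
  have hρm : ∀ g (x : Fin n → ℂ), ρ g x = repMat ρ g *ᵥ x := fun g x => by
    rw [← Matrix.toLin'_apply]
    exact congrArg (fun f => f x) (Matrix.toLin'_toMatrix' (ρ g)).symm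
  have hker : ∀ g, ∀ x ∈ LinearMap.ker M.mulVecLin, ρ g x ∈ LinearMap.ker M.mulVecLin := by
    intro g x hx
    rw [LinearMap.mem_ker, Matrix.mulVecLin_apply] at hx ⊢
    rw [hρm]
    have h1 : (repMat ρ g⁻¹)ᵀ * M = M * repMat ρ g := by
      have := congrArg (· * repMat ρ g) (hMinv g⁻¹)
      rwa [Matrix.mul_assoc _ (repMat ρ g⁻¹), ← repMat_mul, inv_mul_cancel, repMat_one,
        Matrix.mul_one] at this
    rw [Matrix.mulVec_mulVec, ← h1, ← Matrix.mulVec_mulVec, hx, Matrix.mulVec_zero]
  rcases ((Chars.isIrreducible_iff ρ).1 hρ).2 (LinearMap.ker M.mulVecLin) hker with h' | h'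
  · exact h'
  · exact absurd (Matrix.ext_iff_mulVec.2 fun x => by
      rw [Matrix.zero_mulVec]
      exact (LinearMap.mem_ker.1 (h' ▸ Submodule.mem_top : x ∈ LinearMap.ker M.mulVecLin))) hM0

omit [Fintype G] in
lemma real_of_fsInd [Fintype G] (χ : IrrCharacter G) (h : fsInd (χ : G → ℂ) = 1) (g : G) :
    conj ((χ : G → ℂ) g) = (χ : G → ℂ) g := by
  by_contra hg
  rw [fsInd_eq_zero χ ⟨g, hg⟩] at h
  exact zero_ne_one h

/-- A character induced from a strongly real character, irreducibly, is strongly real. -/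
theorem fsInd_indFun_eq_one (I : Subgroup G) [Fintype I] (ψ : IrrCharacter I)
    (hψ : fsInd (ψ : I → ℂ) = 1) (hirr : IsIrrCharacter G (indFun I (ψ : I → ℂ))) :
    fsInd (indFun I (ψ : I → ℂ)) = 1 := by
  classical
  have hψr := real_of_fsInd ψ hψ
  let χ : IrrCharacter G := ⟨_, hirr⟩
  have hχr : ∀ g, conj ((χ : G → ℂ) g) = (χ : G → ℂ) g := by
    intro g
    show conj (indFun I (ψ : I → ℂ) g) = indFun I (ψ : I → ℂ) g
    rw [Chars.indFun_apply, map_mul, map_inv₀, map_natCast, map_sum]
    refine congrArg _ (Finset.sum_congr rfl fun x _ => ?_)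
    by_cases hx : x⁻¹ * g * x ∈ I
    · rw [Chars.extendByZero_of_mem _ _ hx]; exact hψr _
    · rw [Chars.extendByZero_of_not_mem _ _ hx, map_zero]
  refine (fsInd_of_real χ hχr).resolve_right fun hneg => ?_
  obtain ⟨n, ρ, hρ, hρχ⟩ := id χ.2
  obtain ⟨k, τ, hτ, hτψ⟩ := id ψ.2
  haveI := hρ
  haveI := hτ
  obtain ⟨M, hMu, hMT, hMi⟩ := exists_nondeg_form ρ (by rw [hρχ]; exact hχr)
  obtain ⟨S, hSu, hST, hSi⟩ := exists_nondeg_form τ (by rw [hτψ]; exact hψr)
  rw [hρχ, show fsInd (χ : G → ℂ) = -1 from hneg, neg_one_smul] at hMT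
  rw [hτψ, hψ, one_smul] at hST
  have hev : Even 1 := even_of_alternating
    (fun h : I => repMat ρ (h : G) ⊗ₖ repMat τ h)
    (fun a b => by
      show repMat ρ ((a : G) * b) ⊗ₖ repMat τ (a * b) = _
      rw [repMat_mul, repMat_mul, Matrix.mul_kronecker_mul])
    (by rw [OneMemClass.coe_one, repMat_one, repMat_one, Matrix.one_kronecker_one])
    (M ⊗ₖ S) (by
      rw [Matrix.det_kronecker]
      exact (hMu.pow _).mul (hSu.pow _))
    (by
      show (Matrix.kroneckerMap (· * ·) M S)ᵀ = _
      rw [← Matrix.kroneckerMap_transpose, hMT, hST]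
      ext ⟨a, b⟩ ⟨c, d⟩
      simp [Matrix.kroneckerMap_apply])
    (fun h => by
      show (Matrix.kroneckerMap (· * ·) (repMat ρ (h : G)) (repMat τ h))ᵀ * _ * _ = _
      rw [← Matrix.kroneckerMap_transpose, ← Matrix.mul_kronecker_mul, ← Matrix.mul_kronecker_mul,
        hMi, hSi])
    (m := 1) (by
      rw [Nat.cast_one]
      have h1 : classInner (indFun I (ψ : I → ℂ)) (χ : G → ℂ) = 1 := Chars.inner_irr_self χ
      rw [Chars.inner_indFun I _ (Chars.isClassFunction_irr χ), Chars.inner_def] at h1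
      refine Eq.trans (congrArg _ (Finset.sum_congr rfl fun h _ => ?_)) h1
      rw [Matrix.trace_kronecker, hχr]
      have e1 : (repMat ρ (h : G)).trace = (χ : G → ℂ) (h : G) := by
        rw [← hρχ, trace_repMat]; rfl
      have e2 : (repMat τ h).trace = (ψ : I → ℂ) h := by
        rw [← hτψ, trace_repMat]; rfl
      rw [e1, e2, mul_comm])
  exact absurd hev (by decide)

/-- The counting inequality. -/
theorem card_le (N I : Subgroup G) [N.Normal] [Fintype N] [Fintype I] (hN1 : N ≠ ⊥)
    (hmin : ∀ M : Subgroup G, M.Normal → M ≤ N → M = ⊥ ∨ M = N) (hna : ¬ IsMulCommutative ↥N)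
    (φ : IrrCharacter N) (hI : I = inertia N (φ : N → ℂ)) (hNI : N ≤ I) (ψ : IrrCharacter I)
    (hν : fsInd (ψ : I → ℂ) = 1)
    (hψφ : ∀ n : N, (ψ : I → ℂ) (Subgroup.inclusion hNI n) = (φ : N → ℂ) n) :
    Nat.card {χ : IrrCharacter G // charDegree (χ : G → ℂ) = 1 ∧ fsInd (χ : G → ℂ) = 1} ≤
      I.index * Nat.card {χ : IrrCharacter G //
        charDegree (χ : G → ℂ) = charDegree (φ : N → ℂ) * I.index ∧ fsInd (χ : G → ℂ) = 1} := by
  classical
  let _ := Chars.irrFintype G
  let _ := Chars.irrFintype I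
  have hres : (fun n : N => (ψ : I → ℂ) ⟨n, hNI n.2⟩) = (φ : N → ℂ) := funext hψφ
  have hover : classInner (fun n : N => (ψ : I → ℂ) ⟨n, hNI n.2⟩) (φ : N → ℂ) ≠ 0 := by
    rw [hres, Chars.inner_irr_self]; exact one_ne_zero
  have hirr := isIrr_indFun_of_over N hNI φ.2 hI ψ.2 hover
  set χ : IrrCharacter G := ⟨_, hirr⟩ with hχdef
  have hχν : fsInd (χ : G → ℂ) = 1 := fsInd_indFun_eq_one I ψ hν hirr
  have hψ1 : (ψ : I → ℂ) 1 = (φ : N → ℂ) 1 := by
    have := hψφ 1
    rwa [map_one] at this
  have hχ1 : charDegree (χ : G → ℂ) = charDegree (φ : N → ℂ) * I.index := by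
    have h : (χ : G → ℂ) 1 = (I.index : ℂ) * (ψ : I → ℂ) 1 := Chars.indFun_one_apply (H := I) (ψ : I → ℂ)
    rw [hψ1, CharApps.deg_eq, CharApps.deg_eq] at h
    rw [mul_comm]
    exact_mod_cast h
  have hlin : ∀ lam : G →* ℂˣ, ∀ n ∈ N, lam n = 1 := by
    intro lam n hn
    have hNN : (⁅N, N⁆ : Subgroup G) = N := by
      refine (hmin _ (Subgroup.commutator_normal N N) (Subgroup.commutator_le_self N)).resolve_left
        fun h => hna ⟨⟨fun a b => Subtype.ext ?_⟩⟩
      exact commutatorElement_eq_one_iff_mul_comm.1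
        (Subgroup.mem_bot.1 (h ▸ Subgroup.commutator_mem_commutator a.2 b.2))
    have hle : (⁅N, N⁆ : Subgroup G) ≤ lam.ker :=
      (Subgroup.commutator_mono le_top le_top).trans (Abelianization.commutator_subset_ker lam)
    exact hle (hNN.symm ▸ hn)
  have hpm : ∀ lam : {χ : IrrCharacter G // charDegree (χ : G → ℂ) = 1 ∧ fsInd (χ : G → ℂ) = 1},
      ∃ l : G →* ℂˣ, (lam.1 : G → ℂ) = (fun g => (l g : ℂ)) ∧ ∀ g, (l g : ℂ) * l g = 1 := by
    rintro ⟨lam, h1, h2⟩
    obtain ⟨l, hl⟩ := Chars.exists_hom_of_degree_one (Chars.isCharacter_of_irr lam.2)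
      (by rw [CharApps.deg_eq, h1, Nat.cast_one])
    refine ⟨l, hl, fun g => ?_⟩
    have hr : conj ((l g : ℂ)) = (l g : ℂ) := by
      have := real_of_fsInd lam h2 g
      rw [congrFun hl g] at this
      exact this
    have hn : ‖(l g : ℂ)‖ = 1 := by
      refine Complex.norm_eq_one_of_pow_eq_one (n := Nat.card G) ?_ Nat.card_pos.ne'
      rw [← Units.val_pow_eq_pow_val, ← map_pow, pow_card_eq_one', map_one, Units.val_one]
    conv_lhs => arg 1; rw [← hr]
    rw [← Complex.normSq_eq_conj_mul_self, Complex.normSq_eq_norm_sq, hn]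
    simp
  choose L hL hL2 using hpm
  let f : {χ : IrrCharacter G // charDegree (χ : G → ℂ) = 1 ∧ fsInd (χ : G → ℂ) = 1} →
      {χ : IrrCharacter G //
        charDegree (χ : G → ℂ) = charDegree (φ : N → ℂ) * I.index ∧ fsInd (χ : G → ℂ) = 1} :=
    fun lam => ⟨⟨_, Chars.isIrrCharacter_linear_mul (L lam) χ.2⟩, by
      let η : IrrCharacter G := ⟨_, Chars.isIrrCharacter_linear_mul (L lam) χ.2⟩
      have h := CharApps.deg_eq η
      change (L lam 1 : ℂ) * (χ : G → ℂ) 1 = _ at h
      rw [map_one, Units.val_one, one_mul, CharApps.deg_eq, hχ1] at h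
      refine ⟨by exact_mod_cast h.symm, ?_⟩
      rw [← hχν]
      simp only [fsInd]
      refine congrArg _ (Finset.sum_congr rfl fun g _ => ?_)
      rw [map_mul, Units.val_mul, hL2, one_mul]⟩
  have hfib : ∀ η ∈ (Finset.univ : Finset {χ : IrrCharacter G //
      charDegree (χ : G → ℂ) = charDegree (φ : N → ℂ) * I.index ∧ fsInd (χ : G → ℂ) = 1}),
      (Finset.univ.filter fun lam => f lam = η).card ≤ I.index := by
    intro η _
    rcases Finset.eq_empty_or_nonempty (Finset.univ.filter fun lam => f lam = η) with h0 | ⟨a, ha⟩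
    · simp [h0]
    set π := indFun I (fun _ : I => (1 : ℂ)) with hπ
    have hπc : IsCharacter G π := Chars.isCharacter_indFun I Chars.isCharacter_one
    have hsum := CdThree.deg_sum hπc (d := I.index)
      (by rw [hπ, Chars.indFun_one_apply, mul_one])
    let F : {χ : IrrCharacter G // charDegree (χ : G → ℂ) = 1 ∧ fsInd (χ : G → ℂ) = 1} →
        IrrCharacter G := fun lam => ⟨_, Chars.isIrrCharacter_linear (L lam * L a)⟩
    calc (Finset.univ.filter fun lam => f lam = η).card
        = ∑ lam ∈ (Finset.univ.filter fun lam => f lam = η), 1 := Finset.card_eq_sum_ones _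
      _ ≤ ∑ lam ∈ (Finset.univ.filter fun lam => f lam = η),
          multNat π (F lam : G → ℂ) * charDegree (F lam : G → ℂ) := by
        refine Finset.sum_le_sum fun lam hlam => ?_
        refine Nat.mul_pos ?_ (CharApps.deg_pos _)
        refine Nat.pos_of_ne_zero (multNat_ne_zero hπc (Chars.isCharacter_of_irr (F lam).2) ?_)
        rw [hπ, Chars.inner_indFun I _ (Chars.isClassFunction_irr _)]
        set μ := L lam * L a with hμ
        -- `μ` fixes `χ`
        have hfix : ∀ g, (μ g : ℂ) * (χ : G → ℂ) g = (χ : G → ℂ) g := by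
          intro g
          have h1 : f lam = f a :=
            (Finset.mem_filter.1 hlam).2.trans (Finset.mem_filter.1 ha).2.symm
          have h2 : (L lam g : ℂ) * (χ : G → ℂ) g = (L a g : ℂ) * (χ : G → ℂ) g :=
            congrFun (congrArg (fun z => ((z.1 : IrrCharacter G) : G → ℂ)) h1) g
          rw [hμ, MonoidHom.mul_apply, Units.val_mul, mul_comm (L lam g : ℂ), mul_assoc, h2,
            ← mul_assoc, hL2, one_mul]
        set μI : I →* ℂˣ := μ.comp I.subtype
        have hψ' : IsIrrCharacter I (fun h : I => (μI h : ℂ) * (ψ : I → ℂ) h) :=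
          Chars.isIrrCharacter_linear_mul μI ψ.2
        have hres' : (fun n : N => (fun h : I => (μI h : ℂ) * (ψ : I → ℂ) h) ⟨n, hNI n.2⟩) =
            (φ : N → ℂ) := by
          funext n
          show (μ (n : G) : ℂ) * _ = _
          rw [hlin μ n n.2, Units.val_one, one_mul]
          exact hψφ n
        have heq : (fun h : I => (μI h : ℂ) * (ψ : I → ℂ) h) = (ψ : I → ℂ) := by
          refine indFun_injective_of_over N hNI φ.2 hI hψ'
            (by rw [hres', Chars.inner_irr_self]; exact one_ne_zero) ψ.2 hover ?_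
          have hμcl : IsClassFunction G fun g => (μ g : ℂ) :=
            Chars.isClassFunction_of_isCharacter
              (Chars.isCharacter_of_irr (Chars.isIrrCharacter_linear μ))
          rw [show (fun h : I => (μI h : ℂ) * (ψ : I → ℂ) h) =
              fun h : I => (fun g => (μ g : ℂ)) (h : G) * (ψ : I → ℂ) h from rfl,
            Chars.indFun_mul_restrict I _ hμcl]
          exact funext hfix
        let _ := Fintype.ofFinite (N.subgroupOf I)
        let β : IrrCharacter I := ⟨_, Chars.isIrrCharacter_linear μI⟩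
        have hβ : β ∈ quotIrr (N.subgroupOf I) := (mem_quotIrr _).2 fun h hh => by
          show (μ (h : G) : ℂ) = (μ ((1 : I) : G) : ℂ)
          rw [hlin μ (h : G) hh, OneMemClass.coe_one, map_one]
        have h1 : Chars.principal I ∈ quotIrr (N.subgroupOf I) := (mem_quotIrr _).2 fun _ _ => rfl
        have hψN : IsIrrCharacter (N.subgroupOf I) (fun n : N.subgroupOf I => (ψ : I → ℂ) n) := by
          rw [show (fun n : N.subgroupOf I => (ψ : I → ℂ) n) = pullFn N I (φ : N → ℂ) from
            funext fun n => hψφ ⟨((n : I) : G), n.2⟩]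
          exact isIrr_pullFn N hNI φ.2
        have horth := gallagher_orthonormal (N.subgroupOf I) ψ.2 hψN hβ h1
        have e1 : (β : I → ℂ) * (ψ : I → ℂ) = (ψ : I → ℂ) := heq
        have e2 : (Chars.principal I : I → ℂ) * (ψ : I → ℂ) = (ψ : I → ℂ) := by
          funext h; simp [Chars.principal_apply]
        rw [e1, e2, Chars.inner_irr_self] at horth
        split_ifs at horth with hβ1
        · have h3 : (fun h : I => (F lam : G → ℂ) h) = (Chars.principal I : I → ℂ) :=
            congrArg Subtype.val hβ1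
          rw [h3]
          exact (Chars.inner_one_one (G := I)).trans_ne one_ne_zero
        · exact absurd horth one_ne_zero
      _ ≤ I.index := by
        refine le_trans ?_ hsum.ge
        have hinj : Set.InjOn F ↑(Finset.univ.filter fun lam => f lam = η) := by
          intro x _ y _ h
          apply Subtype.ext
          apply Subtype.ext
          rw [hL x, hL y]
          funext g
          have h2 := congrFun (congrArg Subtype.val h) g
          simp only [F, MonoidHom.mul_apply, Units.val_mul] at h2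
          exact mul_right_cancel₀ (Units.ne_zero _) h2
        rw [← Finset.sum_image hinj (f := fun ξ : IrrCharacter G =>
          multNat π (ξ : G → ℂ) * charDegree (ξ : G → ℂ))]
        exact Finset.sum_le_sum_of_subset (Finset.subset_univ _)
  rw [Nat.card_eq_fintype_card, Nat.card_eq_fintype_card, ← Finset.card_univ, ← Finset.card_univ]
  exact Finset.card_le_mul_card_image_of_maps_to (f := f) (fun _ _ => Finset.mem_univ _) _ hfib

end CfsgLib.CharsMore.StronglyRealCount
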