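import Cfsg.Agent.Lib.SolvStruct.Orders

/-!
# Conjugacy of supersolvable Hall subgroups
-/

set_option linter.style.haveILetI false

namespace CfsgLib.CharsMore.SupersolvableHall

open scoped Pointwise

universe u

/-- The normal Sylow subgroup for the largest prime, as a subgroup of `G`. -/
lemma exists_top_sylow {G : Type u} [Group G] [Finite G] {H : Subgroup G}
    (hH : Cfsg.IsSupersolvable H) {p : ℕ} [hp : Fact p.Prime]
    (hmax : ∀ q : ℕ, q.Prime → q ∣ Nat.card H → q ≤ p) (hidx : ¬ p ∣ H.index) :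
    ∃ P : Sylow p G, (P : Subgroup G) ≤ H ∧ H ≤ Subgroup.normalizer ((P : Subgroup G) : Set G) := by
  obtain ⟨Q⟩ : Nonempty (Sylow p H) := inferInstance
  have hQn : (Q : Subgroup H).Normal := SolvStruct.sylow_normal_of_supersolvable hH hmax Q
  set P := (Q : Subgroup H).map H.subtype with hP
  have hle : P ≤ H := Subgroup.map_subtype_le _
  have hPp : IsPGroup p P := Q.isPGroup'.map _
  have hcard : Nat.card P = Nat.card (Q : Subgroup H) :=
    Subgroup.card_map_of_injective H.subtype_injective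
  have hPi : ¬ p ∣ P.index := by
    intro hd
    have h1 : P.relIndex H = (Q : Subgroup H).index := by
      rw [Subgroup.relIndex, hP, ← Subgroup.comap_subtype,
        Subgroup.comap_map_eq_self_of_injective H.subtype_injective]
    rw [← Subgroup.relIndex_mul_index hle, h1] at hd
    exact (hp.out.dvd_mul.1 hd).elim Q.not_dvd_index hidx
  refine ⟨hPp.toSylow hPi, hle, fun h hh => ?_⟩
  refine Subgroup.mem_normalizer_iff.2 fun x => ?_
  show x ∈ P ↔ h * x * h⁻¹ ∈ P
  constructor
  · rintro ⟨y, hy, rfl⟩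
    exact ⟨⟨h, hh⟩ * y * ⟨h, hh⟩⁻¹, hQn.conj_mem y hy _, rfl⟩
  · rintro ⟨y, hy, hxy⟩
    refine ⟨⟨h, hh⟩⁻¹ * y * ⟨h, hh⟩, ?_, ?_⟩
    · have h0 := hQn.conj_mem y hy ⟨h, hh⟩⁻¹
      rwa [inv_inv] at h0
    · show h⁻¹ * (y : G) * h = x
      rw [show (y : G) = h * x * h⁻¹ from hxy]; group

theorem conj_aux (n : ℕ) : ∀ {G : Type u} [Group G] [Finite G], Nat.card G ≤ n →
    ∀ H K : Subgroup G, Cfsg.IsSupersolvable H → Cfsg.IsSupersolvable K →
      Nat.card H = Nat.card K → (Nat.card H).Coprime H.index →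
      ∃ x : G, MulAut.conj x • H = K := by
  induction n with
  | zero => intro G _ _ hG; exact absurd hG (Nat.not_le.2 Nat.card_pos)
  | succ n ih =>
    intro G _ _ hG H K hH hK hcard hHall
    rcases eq_or_ne H ⊥ with rfl | hH1
    · refine ⟨1, ?_⟩
      rw [map_one, one_smul]
      rw [Subgroup.card_bot] at hcard
      exact (Subgroup.card_eq_one.1 hcard.symm).symm
    haveI : Nontrivial H := (Subgroup.nontrivial_iff_ne_bot H).2 hH1
    obtain ⟨p, hp, hpd, hmax⟩ := SolvStruct.exists_max_prime (G := H)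
    haveI := Fact.mk hp
    have hi : H.index = K.index := by
      have h1 := H.card_mul_index
      rw [← K.card_mul_index, hcard] at h1
      exact Nat.eq_of_mul_eq_mul_left Nat.card_pos h1
    have hpi : ¬ p ∣ H.index := fun h =>
      hp.not_dvd_one (hHall ▸ Nat.dvd_gcd hpd h : p ∣ 1)
    obtain ⟨P, hPH, hHN⟩ := exists_top_sylow hH hmax hpi
    obtain ⟨P', hPK', hKN'⟩ := exists_top_sylow hK (hcard ▸ hmax) (hi ▸ hpi)
    obtain ⟨g, hg⟩ := MulAction.exists_smul_eq G P' P
    set K₁ := MulAut.conj g • K with hK₁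
    have hgP : MulAut.conj g • (P' : Subgroup G) = P := congrArg Sylow.toSubgroup hg
    have hPK : (P : Subgroup G) ≤ K₁ := hgP ▸ Subgroup.pointwise_smul_le_pointwise_smul_iff.2 hPK'
    have hKN : K₁ ≤ Subgroup.normalizer ((P : Subgroup G) : Set G) := by
      intro x hx
      obtain ⟨k, hk, rfl⟩ := hx
      refine Subgroup.mem_normalizer_iff.2 fun y => ?_
      rw [← hgP, Subgroup.mem_pointwise_smul_iff_inv_smul_mem,
        Subgroup.mem_pointwise_smul_iff_inv_smul_mem]
      have := Subgroup.mem_normalizer_iff.1 (hKN' hk) ((MulAut.conj g)⁻¹ • y)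
      simp only [MulAut.smul_def, MulAut.conj_inv_apply, MulDistribMulAction.toMonoidEnd_apply,
        MulDistribMulAction.toMonoidHom_apply, MulAut.conj_apply] at this ⊢
      rw [this]
      constructor <;> intro h <;> convert h using 1 <;> group
    have hK₁c : Nat.card K₁ = Nat.card H :=
      hcard ▸ Nat.card_congr (Subgroup.equivSMul (MulAut.conj g) K).symm.toEquiv
    have hK₁s : Cfsg.IsSupersolvable K₁ :=
      SolvStruct.supersolvable_congr (Subgroup.equivSMul (MulAut.conj g) K) hK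
    suffices h : ∃ x : G, MulAut.conj x • H = K₁ by
      obtain ⟨x, hx⟩ := h
      exact ⟨g⁻¹ * x, by rw [map_mul, mul_smul, hx, hK₁, ← mul_smul, ← map_mul,
        inv_mul_cancel, map_one, one_smul]⟩
    -- work in the quotient `N / P`
    set N := Subgroup.normalizer ((P : Subgroup G) : Set G) with hN
    set P₀ := (P : Subgroup G).subgroupOf N with hP₀
    haveI : P₀.Normal := Subgroup.normal_in_normalizer
    have hP1 : (P : Subgroup G) ≠ ⊥ :=
      P.ne_bot_of_dvd_card (hpd.trans H.card_subgroup_dvd_card)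
    have hP₀1 : P₀ ≠ ⊥ := fun h => hP1 (by
      rw [Subgroup.subgroupOf_eq_bot] at h
      exact (h.eq_bot_of_le (Subgroup.le_normalizer)))
    have hlt : Nat.card (N ⧸ P₀) ≤ n := Nat.lt_succ_iff.1
      ((SolvStruct.card_quotient_lt' hP₀1).trans_le
        ((Nat.le_of_dvd Nat.card_pos N.card_subgroup_dvd_card).trans hG))
    let φ : ∀ L : Subgroup G, L ≤ N → (L →* N ⧸ P₀) := fun L hL =>
      (QuotientGroup.mk' P₀).comp (Subgroup.inclusion hL)
    have hφc : ∀ (L : Subgroup G) (hL : L ≤ N), (P : Subgroup G) ≤ L →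
        Nat.card (φ L hL).range * Nat.card P = Nat.card L := by
      intro L hL hPL
      have hker : (φ L hL).ker = (P : Subgroup G).subgroupOf L := by
        ext x
        rw [MonoidHom.mem_ker]
        show QuotientGroup.mk' P₀ _ = 1 ↔ _
        rw [QuotientGroup.mk'_apply, QuotientGroup.eq_one_iff]
        rfl
      rw [Subgroup.card_eq_card_quotient_mul_card_subgroup (φ L hL).ker,
        Nat.card_congr (QuotientGroup.quotientKerEquivRange (φ L hL)).toEquiv, hker,
        Nat.card_congr (Subgroup.subgroupOfEquivOfLe hPL).toEquiv]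
    have hH' := hφc H hHN hPH
    have hK' := hφc K₁ hKN hPK
    have hN' : Nat.card (N ⧸ P₀) * Nat.card P = Nat.card N := by
      rw [← Nat.card_congr (Subgroup.subgroupOfEquivOfLe (Subgroup.le_normalizer
        (H := (P : Subgroup G)))).toEquiv, ← hN, ← hP₀,
        ← Subgroup.card_eq_card_quotient_mul_card_subgroup]
    have hcop : (Nat.card (φ H hHN).range).Coprime (φ H hHN).range.index := by
      refine (hHall.coprime_dvd_left (hH' ▸ dvd_mul_right _ _)).coprime_dvd_right ⟨N.index, ?_⟩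
      apply Nat.eq_of_mul_eq_mul_left (Nat.card_pos (α := H))
      rw [H.card_mul_index, ← hH', mul_assoc, ← mul_assoc (Nat.card P),
        mul_comm (Nat.card P) (φ H hHN).range.index, mul_assoc (φ H hHN).range.index,
        ← mul_assoc, Subgroup.card_mul_index, ← mul_assoc, hN', N.card_mul_index]
    obtain ⟨x, hx⟩ := ih hlt (φ H hHN).range (φ K₁ hKN).range
      (SolvStruct.supersolvable_of_surjective _ (φ H hHN).rangeRestrict_surjective hH)
      (SolvStruct.supersolvable_of_surjective _ (φ K₁ hKN).rangeRestrict_surjective hK₁s)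
      (Nat.eq_of_mul_eq_mul_right Nat.card_pos (hH'.trans (hK₁c.symm.trans hK'.symm))) hcop
    obtain ⟨x, rfl⟩ := QuotientGroup.mk'_surjective P₀ x
    refine ⟨x, Subgroup.eq_of_le_of_card_ge ?_
      (by rw [hK₁c, Nat.card_congr (Subgroup.equivSMul (MulAut.conj (x : G)) H).symm.toEquiv])⟩
    rintro y ⟨h, hh, rfl⟩
    have h1 : QuotientGroup.mk' P₀ (x * ⟨h, hHN hh⟩ * x⁻¹) ∈ (φ K₁ hKN).range := by
      rw [← hx, Subgroup.mem_pointwise_smul_iff_inv_smul_mem]
      refine ⟨⟨h, hh⟩, ?_⟩
      rw [map_mul, map_mul, map_inv]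
      simp only [MulAut.smul_def, MulAut.conj_inv_apply]
      show QuotientGroup.mk' P₀ ⟨h, hHN hh⟩ = _
      group
    obtain ⟨k, hk⟩ := h1
    have h2 : ((Subgroup.inclusion hKN k)⁻¹ * (x * ⟨h, hHN hh⟩ * x⁻¹) : N) ∈ P₀ :=
      QuotientGroup.eq.1 hk
    show (x : G) * h * (x : G)⁻¹ ∈ K₁
    have h3 := K₁.mul_mem k.2 (hPK h2)
    simpa using h3

end CfsgLib.CharsMore.SupersolvableHall
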