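import Cfsg.Agent.Lib.CharsMore.Sibley
import Cfsg.Agent.Lib.CharsMore.Feit
import Cfsg.Agent.Lib.Chars.Char
import Mathlib

/-!
# Coherent exceptional characters of a trivial intersection subgroup with Frobenius normaliser
-/

set_option linter.style.haveILetI false
set_option linter.unusedSectionVars false

namespace CfsgLib.CharsMore

open Cfsg
open scoped ComplexConjugate

section Setting

variable {G : Type*} [Group G] [Fintype G] {K N : Subgroup G} [Fintype N]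
variable [hKn : (K.subgroupOf N).Normal]

lemma tifn_degree (χ : N → ℂ) (hχ : χ ∈ inducedIrrAbove (K.subgroupOf N) ⊥) :
    ∃ d : ℕ, 0 < d ∧ χ 1 = ((K.subgroupOf N).index : ℂ) * d := by
  obtain ⟨θ, hθ, -, -, e⟩ := hχ
  obtain ⟨d, hd, hd1⟩ := Chars.irr_degree_nat hθ
  exact ⟨d, hd, by rw [e, Chars.indFun_one_apply, hd1]⟩

lemma tifn_exists_least (hC : ∀ k ∈ K.subgroupOf N, k ≠ 1 →
      Subgroup.centralizer ({k} : Set N) ≤ K.subgroupOf N)
    (hK2 : K.subgroupOf N ≠ ⊤) (hK1 : K.subgroupOf N ≠ ⊥) :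
    ∃ η ∈ inducedIrrAbove (K.subgroupOf N) ⊥, η 1 = ((K.subgroupOf N).index : ℂ) := by
  haveI := isNilpotent_kernel hC hK2
  obtain ⟨θ, hθ, hne, -, h1⟩ := exists_linear_above (K.subgroupOf N)
    (inferInstance : Group.IsSolvable _) (A := ⊥) (bot_lt_iff_ne_bot.2 hK1)
  exact ⟨indFun _ θ, (mem_inducedIrrAbove_bot _ hθ).2 hne,
    by rw [Chars.indFun_one_apply, h1, mul_one]⟩

/-- The sum of a member over the kernel vanishes. -/
lemma tifn_sum_kernel (hC : ∀ k ∈ K.subgroupOf N, k ≠ 1 →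
      Subgroup.centralizer ({k} : Set N) ≤ K.subgroupOf N)
    {ξ : N → ℂ} (hξ : ξ ∈ inducedIrrAbove (K.subgroupOf N) ⊥) : ∑ x : N, ξ x = 0 := by
  classical
  have hirr := inducedIrrAbove_isIrr hC ξ hξ
  have hne : ξ ≠ fun _ => 1 := by
    intro e
    have h := hξ
    rw [inducedIrrAbove_eq_nontrivial hC] at h
    obtain ⟨-, k, -, hk⟩ := h
    exact hk (by rw [e])
  have h := CharApps.sum_irr_eq (⟨ξ, hirr⟩ : IrrCharacter N)
  rwa [if_neg (fun e => hne (congrArg Subtype.val e))] at h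

variable {star : (N → ℂ) → (G → ℂ)}

/-- The difference of an exceptional character and its parent is proportional to the degree. -/
lemma tifn_linear (hN : Subgroup.normalizer (K : Set G) = N) (hTI : IsTISubset (K : Set G))
    (hstar : IsLinearIsometryOn (zspan (inducedIrrAbove (K.subgroupOf N) ⊥)) star)
    (hext : ∀ α ∈ zspanOn (inducedIrrAbove (K.subgroupOf N) ⊥) {1}ᶜ, star α = indFun N α)
    {χ ξ : N → ℂ} (hχ : χ ∈ inducedIrrAbove (K.subgroupOf N) ⊥)
    (hξ : ξ ∈ inducedIrrAbove (K.subgroupOf N) ⊥) {k : N} (hk : k ∈ K.subgroupOf N) (hk1 : k ≠ 1) :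
    ξ 1 * (star χ k - χ k) = χ 1 * (star ξ k - ξ k) := by
  obtain ⟨a, -, ha⟩ := tifn_degree χ hχ
  obtain ⟨b, -, hb⟩ := tifn_degree ξ hξ
  set e := (K.subgroupOf N).index
  set M := Submodule.span ℤ (inducedIrrAbove (K.subgroupOf N) ⊥)
  have hst : IsLinearIsometryOn (M : Set (N → ℂ)) star := hstar
  have hcm : χ ∈ M := Submodule.subset_span hχ
  have hxm : ξ ∈ M := Submodule.subset_span hξ
  have h1 : ((b : ℤ) : ℂ) • χ ∈ M := by rw [← zsmul_eq_cast]; exact M.smul_mem _ hcm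
  have h2 : ((a : ℤ) : ℂ) • ξ ∈ M := by rw [← zsmul_eq_cast]; exact M.smul_mem _ hxm
  have hα : ((b : ℤ) : ℂ) • χ - ((a : ℤ) : ℂ) • ξ ∈
      zspanOn (inducedIrrAbove (K.subgroupOf N) ⊥) {1}ᶜ :=
    mem_zspanOn_one.2 ⟨M.sub_mem h1 h2, by
      simp only [Pi.sub_apply, Pi.smul_apply, smul_eq_mul, Int.cast_natCast, ha, hb]; ring⟩
  obtain ⟨hcl, -, hoff⟩ := zspan_induced_props hα.1
  have hoff' : ∀ x : N, (x : G) ∉ (K : Set G) →
      (((b : ℤ) : ℂ) • χ - ((a : ℤ) : ℂ) • ξ) x = 0 := fun x hx => hoff x fun h => hx h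
  have hTI' : ∀ g : G, g ∉ N → ∀ t ∈ (K : Set G), g * t * g⁻¹ ∈ (K : Set G) → t = 1 :=
    fun g hg t ht hc => hTI g (by rwa [hN]) t ht hc
  have hv := Chars.indFun_TI_apply (K : Set G) N hTI' hcl hoff' k hk hk1
  have he := hext _ hα
  rw [isometry_map_sub hst h1 h2, isometry_map_smul hst hcm, isometry_map_smul hst hxm] at he
  rw [← he] at hv
  simp only [Pi.sub_apply, Pi.smul_apply, smul_eq_mul, Int.cast_natCast] at hv
  rw [ha, hb]
  linear_combination (e : ℂ) * hv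

/-- Multiplicities in a restriction to the normaliser. -/
lemma tifn_inner
    (hstar : IsLinearIsometryOn (zspan (inducedIrrAbove (K.subgroupOf N) ⊥)) star)
    (hext : ∀ α ∈ zspanOn (inducedIrrAbove (K.subgroupOf N) ⊥) {1}ᶜ, star α = indFun N α)
    {f : G → ℂ} (hf : f ∈ genChar G)
    {χ η : N → ℂ} (hχ : χ ∈ inducedIrrAbove (K.subgroupOf N) ⊥)
    (hη : η ∈ inducedIrrAbove (K.subgroupOf N) ⊥) :
    η 1 * (classInner (fun x : N => f x) χ - classInner f (star χ)) =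
      χ 1 * (classInner (fun x : N => f x) η - classInner f (star η)) := by
  obtain ⟨a, -, ha⟩ := tifn_degree χ hχ
  obtain ⟨b, -, hb⟩ := tifn_degree η hη
  set e := (K.subgroupOf N).index
  set M := Submodule.span ℤ (inducedIrrAbove (K.subgroupOf N) ⊥)
  have hst : IsLinearIsometryOn (M : Set (N → ℂ)) star := hstar
  have hcm : χ ∈ M := Submodule.subset_span hχ
  have hxm : η ∈ M := Submodule.subset_span hη
  have h1 : ((b : ℤ) : ℂ) • χ ∈ M := by rw [← zsmul_eq_cast]; exact M.smul_mem _ hcm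
  have h2 : ((a : ℤ) : ℂ) • η ∈ M := by rw [← zsmul_eq_cast]; exact M.smul_mem _ hxm
  have hα : ((b : ℤ) : ℂ) • χ - ((a : ℤ) : ℂ) • η ∈
      zspanOn (inducedIrrAbove (K.subgroupOf N) ⊥) {1}ᶜ :=
    mem_zspanOn_one.2 ⟨M.sub_mem h1 h2, by
      simp only [Pi.sub_apply, Pi.smul_apply, smul_eq_mul, Int.cast_natCast, ha, hb]; ring⟩
  have hv := Chars.inner_indFun_right N (((b : ℤ) : ℂ) • χ - ((a : ℤ) : ℂ) • η)
    (Chars.isClassFunction_of_isGeneralized hf)
  have he := hext _ hα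
  rw [isometry_map_sub hst h1 h2, isometry_map_smul hst hcm, isometry_map_smul hst hxm] at he
  rw [← he] at hv
  simp only [Chars.inner_sub_right, Chars.inner_smul_right, Int.cast_natCast, map_natCast] at hv
  rw [ha, hb]
  linear_combination (-(e : ℂ)) * hv

/-- The restriction of a virtual character to the nonidentity elements of the kernel. -/
theorem tifn_value (hC : ∀ k ∈ K.subgroupOf N, k ≠ 1 →
      Subgroup.centralizer ({k} : Set N) ≤ K.subgroupOf N)
    (hK2 : K.subgroupOf N ≠ ⊤) (hK1 : K.subgroupOf N ≠ ⊥)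
    (hstar : IsLinearIsometryOn (zspan (inducedIrrAbove (K.subgroupOf N) ⊥)) star)
    (hext : ∀ α ∈ zspanOn (inducedIrrAbove (K.subgroupOf N) ⊥) {1}ᶜ, star α = indFun N α)
    {f : G → ℂ} (hf : f ∈ genChar G) :
    ∃ M : ℤ, ∀ k : N, k ∈ K.subgroupOf N → k ≠ 1 → f k =
      (∑ ξ ∈ (inducedIrrAbove_finite (K.subgroupOf N) ⊥).toFinset,
        classInner f (star ξ) * ξ k) + M := by
  classical
  haveI := Chars.irrFintype N
  set Kn := K.subgroupOf N
  set F := (inducedIrrAbove_finite Kn ⊥).toFinset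
  have hF : ∀ φ, φ ∈ F ↔ φ ∈ inducedIrrAbove Kn ⊥ := fun φ => Set.Finite.mem_toFinset _
  obtain ⟨η, hη, hη1⟩ := tifn_exists_least hC hK2 hK1
  have he0 : (Kn.index : ℂ) ≠ 0 := Nat.cast_ne_zero.2 Subgroup.index_ne_zero_of_finite
  set r : N → ℂ := fun x => f x with hr
  obtain ⟨cp, cm, hcp, hcm, hfe⟩ := (mem_genChar.1 hf)
  have hrgen : r ∈ genChar N := mem_genChar.2 ⟨_, _, Chars.isCharacter_restrict N hcp,
    Chars.isCharacter_restrict N hcm, by rw [hr, hfe]; rfl⟩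
  have hηgen : η ∈ genChar N := genChar_of_irr (inducedIrrAbove_isIrr hC η hη)
  obtain ⟨m₁, hm₁⟩ := inner_gen_int hrgen hηgen
  obtain ⟨m₂, hm₂⟩ := inner_gen_int hf (hstar.2.2.2 _ (Submodule.subset_span hη))
  set A := Finset.univ.filter (fun χ : IrrCharacter N => (χ : N → ℂ) ∈ F) with hA
  set B := Finset.univ.filter (fun χ : IrrCharacter N => ¬ (χ : N → ℂ) ∈ F) with hB
  have hBint : ∀ χ : IrrCharacter N, ∃ z : ℤ,
      classInner r χ * (χ : N → ℂ) 1 = z := fun χ => by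
    obtain ⟨z, hz⟩ := inner_gen_int hrgen (genChar_of_irr χ.2)
    exact ⟨z * charDegree (χ : N → ℂ), by rw [hz, CharApps.deg_eq]; push_cast; rfl⟩
  choose z hz using hBint
  refine ⟨(∑ χ ∈ B, z χ) - (m₁ - m₂), fun k hk hk1 => ?_⟩
  have hexp := congrFun (Chars.classFun_eq_sum (G := N) (ψ := r)
    (Chars.isClassFunction_of_isGeneralized hrgen)) k
  rw [Finset.sum_apply, ← Finset.sum_filter_add_sum_filter_not Finset.univ
    (fun χ : IrrCharacter N => (χ : N → ℂ) ∈ F), ← hA, ← hB] at hexp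
  have hBval : ∀ χ ∈ B, (χ : N → ℂ) k = (χ : N → ℂ) 1 := by
    intro χ hχ
    by_contra hne
    refine (Finset.mem_filter.1 hχ).2 ((hF _).2 ?_)
    rw [inducedIrrAbove_eq_nontrivial hC]
    exact ⟨χ.2, k, hk, hne⟩
  have hsumB : ∑ χ ∈ B, (classInner r χ • (χ : N → ℂ)) k = ((∑ χ ∈ B, z χ : ℤ) : ℂ) := by
    push_cast
    exact Finset.sum_congr rfl fun χ hχ => by
      rw [Pi.smul_apply, smul_eq_mul, hBval χ hχ, hz]
  have hBeq : B = Finset.univ.filter (fun χ : IrrCharacter N => Kn ≤ CharApps.charKer χ) := by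
    refine Finset.filter_congr fun χ _ => ⟨fun h x hx => ?_, fun h hm => ?_⟩
    · refine CharApps.mem_charKer.2 ?_
      by_contra hne
      refine h ((hF _).2 ?_)
      rw [inducedIrrAbove_eq_nontrivial hC]
      exact ⟨χ.2, x, hx, hne⟩
    · have hm' := (hF _).1 hm
      rw [inducedIrrAbove_eq_nontrivial hC] at hm'
      obtain ⟨-, x, hx, hne⟩ := hm'
      exact hne (CharApps.mem_charKer.1 (h hx))
  have hreg : ∑ χ ∈ A, (χ : N → ℂ) 1 * (χ : N → ℂ) k = -(Kn.index : ℂ) := by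
    have h := Chars.sum_degree_mul (G := N) k
    rw [if_neg hk1, ← Finset.sum_filter_add_sum_filter_not Finset.univ
      (fun χ : IrrCharacter N => (χ : N → ℂ) ∈ F), ← hA, ← hB] at h
    have h2 : ∑ χ ∈ B, (χ : N → ℂ) 1 * (χ : N → ℂ) k = (Kn.index : ℂ) := by
      rw [← CharApps.sum_filter_degree_sq Kn, ← hBeq, Nat.cast_sum]
      exact Finset.sum_congr rfl fun χ hχ => by
        rw [hBval χ hχ, CharApps.deg_eq, sq, Nat.cast_mul]
    rw [h2] at h
    linear_combination h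
  have hAval : ∀ χ ∈ A, (classInner r χ • (χ : N → ℂ)) k =
      classInner f (star χ) * (χ : N → ℂ) k +
        ((m₁ - m₂ : ℤ) : ℂ) / (Kn.index : ℂ) * ((χ : N → ℂ) 1 * (χ : N → ℂ) k) := by
    intro χ hχ
    have h := tifn_inner hstar hext hf ((hF _).1 (Finset.mem_filter.1 hχ).2) hη
    rw [hη1, hm₁, hm₂] at h
    rw [Pi.smul_apply, smul_eq_mul]
    push_cast
    field_simp
    linear_combination (χ : N → ℂ) k * h
  have hbij : ∑ χ ∈ A, classInner f (star χ) * (χ : N → ℂ) k =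
      ∑ ξ ∈ F, classInner f (star ξ) * ξ k :=
    Finset.sum_bij (fun χ _ => (χ : N → ℂ)) (fun χ h => (Finset.mem_filter.1 h).2)
      (fun a _ b _ h => Subtype.ext h)
      (fun ξ h => ⟨⟨ξ, inducedIrrAbove_isIrr hC ξ ((hF _).1 h)⟩,
        Finset.mem_filter.2 ⟨Finset.mem_univ _, h⟩, rfl⟩)
      (fun _ _ => rfl)
  rw [Finset.sum_congr rfl hAval, hsumB, Finset.sum_add_distrib, ← Finset.mul_sum, hreg, hbij]
    at hexp
  show r k = _
  rw [hexp]
  push_cast
  field_simp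
  ring

/-- Exceptional characters differ from their parents by a multiple of the degree on the kernel. -/
theorem tifn_member_value (hN : Subgroup.normalizer (K : Set G) = N) (hTI : IsTISubset (K : Set G))
    (hC : ∀ k ∈ K.subgroupOf N, k ≠ 1 → Subgroup.centralizer ({k} : Set N) ≤ K.subgroupOf N)
    (hK2 : K.subgroupOf N ≠ ⊤) (hK1 : K.subgroupOf N ≠ ⊥)
    (hstar : IsLinearIsometryOn (zspan (inducedIrrAbove (K.subgroupOf N) ⊥)) star)
    (hext : ∀ α ∈ zspanOn (inducedIrrAbove (K.subgroupOf N) ⊥) {1}ᶜ, star α = indFun N α) :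
    ∃ m : ℤ, ∀ χ ∈ inducedIrrAbove (K.subgroupOf N) ⊥, ∀ k : N, k ∈ K.subgroupOf N → k ≠ 1 →
      star χ k - χ k = (m : ℂ) * χ 1 / ((K.subgroupOf N).index : ℂ) := by
  classical
  obtain ⟨η, hη, hη1⟩ := tifn_exists_least hC hK2 hK1
  have hsub : ∀ φ ∈ inducedIrrAbove (K.subgroupOf N) ⊥,
      φ ∈ zspan (inducedIrrAbove (K.subgroupOf N) ⊥) := fun φ h => Submodule.subset_span h
  obtain ⟨M, hM⟩ := tifn_value hC hK2 hK1 hstar hext (hstar.2.2.2 _ (hsub η hη))
  refine ⟨M, fun χ hχ k hk hk1 => ?_⟩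
  have h1 := hM k hk hk1
  rw [Finset.sum_eq_single η (fun ξ hξ hne => by
      rw [hstar.2.2.1 _ (hsub η hη) _ (hsub ξ ((Set.Finite.mem_toFinset _).1 hξ)),
        irr_orth (inducedIrrAbove_isIrr hC η hη)
          (inducedIrrAbove_isIrr hC ξ ((Set.Finite.mem_toFinset _).1 hξ)) hne.symm, zero_mul])
      (fun h => absurd ((Set.Finite.mem_toFinset _).2 hη) h),
    hstar.2.2.1 _ (hsub η hη) _ (hsub η hη), irr_inner_self (inducedIrrAbove_isIrr hC η hη),
    one_mul] at h1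
  have h2 := tifn_linear hN hTI hstar hext hχ hη hk hk1
  rw [h1, hη1] at h2
  have he0 : ((K.subgroupOf N).index : ℂ) ≠ 0 :=
    Nat.cast_ne_zero.2 Subgroup.index_ne_zero_of_finite
  rw [eq_div_iff he0]
  linear_combination h2

/-- A member is not constant on the nonidentity elements of the kernel. -/
theorem tifn_not_constant
    (hC : ∀ k ∈ K.subgroupOf N, k ≠ 1 → Subgroup.centralizer ({k} : Set N) ≤ K.subgroupOf N)
    {χ ξ : N → ℂ} (hχ : χ ∈ inducedIrrAbove (K.subgroupOf N) ⊥)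
    (hξ : ξ ∈ inducedIrrAbove (K.subgroupOf N) ⊥) (hne : χ ≠ ξ) (v : ℂ)
    (hv : ∀ k ∈ K.subgroupOf N, k ≠ 1 → χ k = v) : False := by
  classical
  have hχi := inducedIrrAbove_isIrr hC χ hχ
  have hpt : ∀ x : N, ξ x * conj (χ x) =
      conj v * ξ x + (if x = 1 then ξ 1 * (χ 1 - conj v) else 0) := by
    intro x
    have hreal : conj (χ 1) = χ 1 := by
      obtain ⟨d, -, hd⟩ := tifn_degree χ hχ
      rw [hd]; simp
    by_cases hx1 : x = 1
    · subst hx1; rw [if_pos rfl, hreal]; ring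
    · rw [if_neg hx1, add_zero]
      by_cases hxK : x ∈ K.subgroupOf N
      · rw [hv x hxK hx1, mul_comm]
      · obtain ⟨θ, -, -, -, e⟩ := hξ
        rw [e, indFun_eq_zero_off θ hxK, zero_mul, mul_zero]
  have horth := irr_orth (inducedIrrAbove_isIrr hC ξ hξ) hχi hne.symm
  rw [Chars.inner_def, mul_eq_zero] at horth
  have hsum := horth.resolve_left (inv_ne_zero (Nat.cast_ne_zero.2 Nat.card_pos.ne'))
  rw [Finset.sum_congr rfl (fun x _ => hpt x), Finset.sum_add_distrib, ← Finset.mul_sum,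
    tifn_sum_kernel hC hξ, mul_zero, zero_add, Finset.sum_ite_eq', if_pos (Finset.mem_univ _),
    mul_eq_zero] at hsum
  have hv1 : χ 1 = v := by
    have h := congrArg conj (sub_eq_zero.1
      (hsum.resolve_left (Chars.irr_degree_ne_zero (inducedIrrAbove_isIrr hC ξ hξ))))
    rw [Complex.conj_conj] at h
    obtain ⟨d, -, hd⟩ := tifn_degree χ hχ
    rw [← h, hd]; simp
  have hm := hχ
  rw [inducedIrrAbove_eq_nontrivial hC] at hm
  obtain ⟨-, k, hk, hkne⟩ := hm
  exact hkne (by rw [hv k hk (fun e => hkne (by rw [e])), hv1])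

end Setting

end CfsgLib.CharsMore
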