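import Cfsg.Agent.S4116
import Cfsg.Agent.Lib.CharsMore.NormalComplement
import Cfsg.Prelude.Def_Solvable
import Cfsg.Prelude.Def_OddOrderLocal
import Mathlib

/-!
# Normal complements of trivial intersection subgroups
-/

set_option linter.style.haveILetI false
set_option linter.unusedSectionVars false

namespace CfsgLib.CharsMore.TIHallComplement

open Cfsg
open scoped Pointwise

universe u

variable {G : Type u} [Group G] [Finite G] {H : Subgroup G}

/-- A TI subgroup that is Hall in its normaliser is Hall. -/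
lemma coprime_index (hTI : IsTISubset (H : Set G))
    (hHall : (Nat.card H).Coprime (H.subgroupOf (Subgroup.normalizer (H : Set G))).index) :
    (Nat.card H).Coprime H.index := by
  set N := Subgroup.normalizer (H : Set G) with hN
  refine Nat.coprime_of_dvd fun q hq hqH hqi => ?_
  haveI := Fact.mk hq
  obtain ⟨Q⟩ : Nonempty (Sylow q H) := inferInstance
  set Q' := (Q : Subgroup H).map H.subtype with hQ'
  have hQH : Q' ≤ H := Subgroup.map_subtype_le _
  have hQc : Nat.card Q' = Nat.card (Q : Subgroup H) :=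
    Subgroup.card_map_of_injective H.subtype_injective
  obtain ⟨P, hP⟩ := (Q.isPGroup'.map H.subtype).exists_le_sylow
  have hHN : H ≤ N := Subgroup.le_normalizer
  -- the Sylow subgroup meets the normaliser in `Q'`
  have hPN : (P : Subgroup G) ⊓ N ≤ Q' := by
    refine (Subgroup.eq_of_le_of_card_ge (le_inf hP (hQH.trans hHN)) ?_).ge
    obtain ⟨a, ha⟩ := IsPGroup.iff_card.1 (P.isPGroup'.to_le (inf_le_left (b := N)))
    rw [ha]
    refine Nat.le_of_dvd Nat.card_pos ?_
    have h1 : q ^ a ∣ Nat.card H * (H.subgroupOf N).index := by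
      rw [← Nat.card_congr (Subgroup.subgroupOfEquivOfLe hHN).toEquiv, Subgroup.card_mul_index, ← ha]
      exact Subgroup.card_dvd_of_le inf_le_right
    have h2 : q ^ a ∣ Nat.card H := Nat.Coprime.dvd_of_dvd_mul_right
      (Nat.Coprime.pow_left a ((hq.coprime_iff_not_dvd).2 fun h =>
        hq.not_dvd_one (hHall ▸ Nat.dvd_gcd hqH h : q ∣ 1))) h1
    rw [← (Q : Subgroup H).card_mul_index] at h2
    rw [hQc]
    exact Nat.Coprime.dvd_of_dvd_mul_right
      (Nat.Coprime.pow_left a (hq.coprime_iff_not_dvd.2 Q.not_dvd_index)) h2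
  -- hence it is `Q'`
  have hPQ : (P : Subgroup G) ≤ Q' := by
    by_contra hne
    haveI : Group.IsNilpotent (P : Subgroup G) := P.isPGroup'.isNilpotent
    have hlt : Q'.subgroupOf (P : Subgroup G) < ⊤ :=
      lt_top_iff_ne_top.2 fun h => hne (Subgroup.subgroupOf_eq_top.1 h)
    obtain ⟨g, hg, hgQ⟩ := SetLike.exists_of_lt (Group.normalizerCondition_of_isNilpotent _ hlt)
    have hQ1 : Q' ≠ ⊥ := fun h => Q.ne_bot_of_dvd_card hqH
      ((Subgroup.map_eq_bot_iff_of_injective _ H.subtype_injective).1 h)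
    obtain ⟨x, hx, hx1⟩ := (Subgroup.bot_or_exists_ne_one Q').resolve_left hQ1
    have hgN : (g : G) ∈ N := by
      by_contra hgN
      refine hx1 (hTI g hgN x (hQH hx) (hQH ?_))
      exact (Subgroup.mem_normalizer_iff.1 hg ⟨x, hP hx⟩).1 hx
    exact hgQ (hPN ⟨g.2, hgN⟩)
  have : (P : Subgroup G) = Q' := le_antisymm hPQ hP
  refine P.not_dvd_index ?_
  rw [this]
  exact hqi.trans (Subgroup.index_dvd_of_le hQH)

/-- The normal complement in the group. -/
theorem exists_complement (hTI : IsTISubset (H : Set G))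
    (hHall : (Nat.card H).Coprime (H.subgroupOf (Subgroup.normalizer (H : Set G))).index)
    (K : Subgroup (Subgroup.normalizer (H : Set G))) (hKn : K.Normal)
    (hK : K.IsComplement' (H.subgroupOf (Subgroup.normalizer (H : Set G)))) :
    ∃ N : Subgroup G, N.Normal ∧ N.IsComplement' H := by
  classical
  have hcop := coprime_index hTI hHall
  let _ := Fintype.ofFinite G
  obtain ⟨M, hM, hMs, hMi⟩ := CharsMore.exists_normal_complement hcop
    (fun E p _ _ hE => by
      obtain ⟨g, hg⟩ := Cfsg.Agent.S4116.result H hcop hTI E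
        fun q _ hq => hq.trans hE
      refine ⟨g⁻¹, ?_⟩
      rintro _ ⟨e, he, rfl⟩
      obtain ⟨h, hh, he'⟩ := hg he
      show g⁻¹ * e * g⁻¹⁻¹ ∈ H
      rw [← he']
      show g⁻¹ * (g * h * g⁻¹) * g⁻¹⁻¹ ∈ H
      simpa [mul_assoc] using hh)
    (fun x hx y hy hxy => by
      obtain ⟨g, hg⟩ := isConj_iff.1 hxy
      rcases eq_or_ne x 1 with rfl | hx1
      · exact ⟨1, H.one_mem, by rw [← hg]; simp⟩
      have hgN : g ∈ (Subgroup.normalizer (H : Set G)) := by
        by_contra h
        exact hx1 (hTI g h x hx (hg ▸ hy))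
      obtain ⟨k, hk, h, hh, e⟩ := Subgroup.mem_sup_of_normal_left.1
        (hK.sup_eq_top ▸ Subgroup.mem_top (⟨g, hgN⟩ : (Subgroup.normalizer (H : Set G))))
      refine ⟨h, hh, ?_⟩
      set z : (Subgroup.normalizer (H : Set G)) := h * ⟨x, Subgroup.le_normalizer hx⟩ * h⁻¹ with hz
      have hzH : z ∈ H.subgroupOf (Subgroup.normalizer (H : Set G)) := (H.subgroupOf (Subgroup.normalizer (H : Set G))).mul_mem
        ((H.subgroupOf (Subgroup.normalizer (H : Set G))).mul_mem hh (show (⟨x, _⟩ : (Subgroup.normalizer (H : Set G))) ∈ H.subgroupOf (Subgroup.normalizer (H : Set G)) from hx))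
        ((H.subgroupOf (Subgroup.normalizer (H : Set G))).inv_mem hh)
      have hy' : k * z * k⁻¹ = (⟨y, Subgroup.le_normalizer hy⟩ : (Subgroup.normalizer (H : Set G))) := by
        refine Subtype.ext ?_
        show ((k * z * k⁻¹ : (Subgroup.normalizer (H : Set G))) : G) = y
        rw [← hg, show g = ((k * h : (Subgroup.normalizer (H : Set G))) : G) from (congrArg Subtype.val e).symm]
        simp [hz, mul_assoc]
      have h1 : k * z * k⁻¹ * z⁻¹ ∈ K ⊓ H.subgroupOf (Subgroup.normalizer (H : Set G)) := by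
        refine ⟨?_, ?_⟩
        · rw [mul_assoc k z, mul_assoc k]
          exact K.mul_mem hk (hKn.conj_mem _ (K.inv_mem hk) z)
        · rw [hy']
          exact (H.subgroupOf (Subgroup.normalizer (H : Set G))).mul_mem hy ((H.subgroupOf (Subgroup.normalizer (H : Set G))).inv_mem hzH)
      rw [hK.disjoint.eq_bot, Subgroup.mem_bot, mul_inv_eq_one, hy'] at h1
      exact (congrArg Subtype.val h1).symm)
  haveI := hM
  refine ⟨M, hM, Subgroup.isComplement'_of_disjoint_and_mul_eq_univ (disjoint_iff.2 hMi) ?_⟩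
  rw [← Subgroup.normal_mul, hMs, Subgroup.coe_top]

/-- A non-normal such subgroup is a Frobenius complement. -/
theorem exists_frobenius (hTI : IsTISubset (H : Set G)) (hnn : ¬ H.Normal)
    (hcop : (Nat.card H).Coprime H.index) (M : Subgroup G) [M.Normal] (hM : M.IsComplement' H) :
    ∃ (F : Type u) (_ : Group F) (_ : Finite F) (C : Subgroup F),
      IsFrobeniusComplement C ∧ Nonempty (H ≃* C) := by
  classical
  set N := Subgroup.normalizer (H : Set G) with hN
  set K₀ := N ⊓ M with hK₀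
  have hMH : M ⊓ H = ⊥ := hM.disjoint.eq_bot
  have hH1 : H ≠ ⊥ := fun h => hnn (h ▸ inferInstance)
  have hcardM : Nat.card M = H.index := hM.index_eq_card.symm
  -- `K₀` centralises `H` and contains every centraliser in `M`
  have hK₀c : ∀ k ∈ K₀, ∀ h ∈ H, k * h = h * k := by
    intro k hk h hh
    have h1 : k * h * k⁻¹ * h⁻¹ ∈ M ⊓ H := by
      refine ⟨?_, H.mul_mem ((Subgroup.mem_normalizer_iff.1 hk.1 h).1 hh) (H.inv_mem hh)⟩
      rw [mul_assoc k h, mul_assoc k]
      exact M.mul_mem hk.2 ((inferInstance : M.Normal).conj_mem _ (M.inv_mem hk.2) h)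
    rw [hMH, Subgroup.mem_bot, mul_inv_eq_one, mul_inv_eq_iff_eq_mul] at h1
    exact h1
  have hcentK : ∀ h ∈ H, h ≠ 1 → ∀ m ∈ M, m * h = h * m → m ∈ K₀ := by
    intro h hh hh1 m hm hc
    refine ⟨?_, hm⟩
    by_contra hmN
    exact hh1 (hTI m hmN h hh (by rw [hc, mul_inv_cancel_right]; exact hh))
  -- an `H`-invariant Sylow subgroup of `M` outside `K₀`
  have key : ∃ q : ℕ, q.Prime ∧ ∃ Q : Subgroup G, Q ≤ M ∧ IsPGroup q Q ∧
      H ≤ Subgroup.normalizer (Q : Set G) ∧ ¬ Q ≤ K₀ := by
    by_contra hno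
    apply hnn
    have hle : M ≤ K₀ := by
      refine (Subgroup.eq_of_le_of_card_ge (inf_le_right : K₀ ≤ M) (Nat.le_of_dvd Nat.card_pos ?_)).ge
      refine (Nat.dvd_iff_prime_pow_dvd_dvd _ _).2 fun q k hq hqk => ?_
      haveI := Fact.mk hq
      obtain ⟨Q₀⟩ : Nonempty (Sylow q M) := inferInstance
      set Q := (Q₀ : Subgroup M).map M.subtype with hQ
      have hQM : Q ≤ M := Subgroup.map_subtype_le _
      set R := Subgroup.normalizer (Q : Set G) with hR
      have hRM : R ⊔ M = ⊤ := Sylow.normalizer_sup_eq_top Q₀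
      set MR := M.subgroupOf R with hMR
      have hidx : MR.index = Nat.card H := by
        rw [hMR, ← Subgroup.relIndex, ← Subgroup.relIndex_sup_right, hRM,
          Subgroup.relIndex_top_right, hM.symm.index_eq_card]
      have hcMR : (Nat.card MR).Coprime MR.index := by
        rw [hidx]
        refine (hcop.coprime_dvd_right ?_).symm
        rw [← hcardM]
        exact (Subgroup.card_comap_dvd_of_injective M R.subtype R.subtype_injective)
      obtain ⟨L, hL⟩ := Subgroup.exists_right_complement'_of_coprime hcMR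
      set L' := L.map R.subtype with hL'
      have hLc : Nat.card L' = Nat.card H := by
        rw [hL', Subgroup.card_map_of_injective R.subtype_injective, ← hL.symm.index_eq_card, hidx]
      obtain ⟨g, hg⟩ := Cfsg.Agent.S4116.result H hcop hTI L' fun q _ hq => hLc ▸ hq
      have hLg : L' = H.map (MulAut.conj g).toMonoidHom :=
        Subgroup.eq_of_le_of_card_ge hg
          (by rw [hLc, Subgroup.card_map_of_injective (MulAut.conj g).injective])
      set Q' := Q.map (MulAut.conj g⁻¹).toMonoidHom with hQ'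
      have hQ'M : Q' ≤ M := by
        rintro _ ⟨x, hx, rfl⟩
        exact (inferInstance : M.Normal).conj_mem x (hQM hx) g⁻¹
      have hHQ : H ≤ Subgroup.normalizer (Q' : Set G) := by
        intro h hh
        have h1 : g * h * g⁻¹ ∈ L' := hLg ▸ ⟨h, hh, rfl⟩
        have h2 : g * h * g⁻¹ ∈ R := Subgroup.map_subtype_le L h1
        rw [hR, Subgroup.mem_normalizer_iff] at h2
        refine Subgroup.mem_normalizer_iff.2 fun x => ?_
        have e : ∀ y : G, y ∈ Q' ↔ g * y * g⁻¹ ∈ Q := fun y => by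
          constructor
          · rintro ⟨w, hw, rfl⟩
            show g * (g⁻¹ * w * g⁻¹⁻¹) * g⁻¹ ∈ Q
            simpa [mul_assoc] using hw
          · intro hy
            refine ⟨g * y * g⁻¹, hy, ?_⟩
            show g⁻¹ * (g * y * g⁻¹) * g⁻¹⁻¹ = y
            group
        rw [e, e, h2 (g * x * g⁻¹)]
        simp [mul_assoc]
      have hQ'K : Q' ≤ K₀ := by
        by_contra h
        exact hno ⟨q, hq, Q', hQ'M, (Q₀.isPGroup'.map _).map _, hHQ, h⟩
      refine dvd_trans ?_ (Subgroup.card_dvd_of_le hQ'K)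
      rw [hQ', Subgroup.card_map_of_injective (MulAut.conj g⁻¹).injective, hQ,
        Subgroup.card_map_of_injective M.subtype_injective]
      exact Q₀.pow_dvd_card_of_pow_dvd_card hqk
    have htop : N = ⊤ := top_le_iff.1
      (hM.sup_eq_top ▸ sup_le (hle.trans inf_le_left) Subgroup.le_normalizer)
    exact Subgroup.normalizer_eq_top_iff.1 htop
  obtain ⟨q, hq, Q, hQM, hQp, hHQ, hQK⟩ := key
  haveI := Fact.mk hq
  haveI : Group.IsNilpotent Q := hQp.isNilpotent
  set C := Q ⊓ K₀ with hC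
  have hCQ : C.subgroupOf Q < ⊤ := lt_top_iff_ne_top.2 fun h =>
    hQK ((Subgroup.subgroupOf_eq_top.1 h).trans inf_le_right)
  obtain ⟨m₀, hm₀, hm₀C⟩ := SetLike.exists_of_lt (Group.normalizerCondition_of_isNilpotent _ hCQ)
  have hm₀N : (m₀ : G) ∈ Subgroup.normalizer (C : Set G) := by
    refine Subgroup.mem_normalizer_iff.2 fun x => ⟨fun hx => ?_, fun hx => ?_⟩
    · exact (Subgroup.mem_normalizer_iff.1 hm₀ ⟨x, hx.1⟩).1 hx
    · have hxQ : x ∈ Q := by
        have := Q.mul_mem (Q.mul_mem (Q.inv_mem m₀.2) hx.1) m₀.2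
        simpa [mul_assoc] using this
      exact (Subgroup.mem_normalizer_iff.1 hm₀ ⟨x, hxQ⟩).2 hx
  have hHC : H ≤ Subgroup.normalizer (C : Set G) := by
    intro h hh
    refine Subgroup.mem_normalizer_iff.2 fun x => ⟨fun hx => ?_, fun hx => ?_⟩
    · rw [show h * x * h⁻¹ = x by rw [← hK₀c x hx.2 h hh, mul_inv_cancel_right]]
      exact hx
    · have h1 := hK₀c _ hx.2 h hh
      have h2 : x = h * x * h⁻¹ := by
        have h3 : h * x = h * (h * x * h⁻¹) := by rw [← h1, inv_mul_cancel_right]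
        exact mul_left_cancel h3
      rw [h2]; exact hx
  set W := Q ⊓ Subgroup.normalizer (C : Set G) with hW
  have hCW : C ≤ W := le_inf inf_le_left Subgroup.le_normalizer
  have hHW : H ≤ Subgroup.normalizer (W : Set G) := by
    intro h hh
    refine Subgroup.mem_normalizer_iff.2 fun x => and_congr (Subgroup.mem_normalizer_iff.1 (hHQ hh) x) ?_
    have hhN := hHC hh
    constructor
    · exact fun hx => Subgroup.mul_mem _ (Subgroup.mul_mem _ hhN hx) (Subgroup.inv_mem _ hhN)
    · intro hx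
      have := Subgroup.mul_mem _ (Subgroup.mul_mem _ (Subgroup.inv_mem _ hhN) hx) hhN
      simpa [mul_assoc] using this
  set L := W ⊔ H with hLdef
  set C' := C.subgroupOf L with hC'
  haveI : C'.Normal := by
    refine (Subgroup.normal_subgroupOf_iff_le_normalizer (hCW.trans le_sup_left)).2 ?_
    exact sup_le inf_le_right hHC
  haveI hWn : (W.subgroupOf L).Normal :=
    (Subgroup.normal_subgroupOf_iff_le_normalizer le_sup_left).2 (sup_le Subgroup.le_normalizer hHW)
  set π := QuotientGroup.mk' C'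
  let ι : H →* L ⧸ C' := π.comp (Subgroup.inclusion le_sup_right)
  have hι : Function.Injective ι := by
    rw [injective_iff_map_eq_one]
    intro h hh
    have h1 : (h : G) ∈ C :=
      (QuotientGroup.eq_one_iff (Subgroup.inclusion (le_sup_right : H ≤ L) h)).1 hh
    exact Subtype.ext (Subgroup.mem_bot.1 (hMH ▸ ⟨hQM h1.1, h.2⟩ : (h : G) ∈ (⊥ : Subgroup G)))
  refine ⟨L ⧸ C', inferInstance, inferInstance, ι.range, ⟨?_, ?_, ?_⟩,
    ⟨MonoidHom.ofInjective hι⟩⟩
  · intro h
    apply hH1
    rw [Subgroup.eq_bot_iff_forall]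
    intro x hx
    have h1 : ι ⟨x, hx⟩ = 1 := Subgroup.mem_bot.1 (h ▸ ⟨⟨x, hx⟩, rfl⟩)
    exact congrArg Subtype.val (hι (h1.trans (map_one ι).symm))
  · intro h
    have hmL : (m₀ : G) ∈ L := (le_sup_left : W ≤ L) ⟨m₀.2, hm₀N⟩
    obtain ⟨x, hx⟩ : π ⟨m₀, hmL⟩ ∈ ι.range := h ▸ Subgroup.mem_top _
    have hx' : ((Subgroup.inclusion (le_sup_right : H ≤ L) x : L) : L ⧸ C') = ((⟨m₀, hmL⟩ : L) : L ⧸ C') := hx
    have h0 := QuotientGroup.eq.1 hx'
    have h1 : (x : G)⁻¹ * (m₀ : G) ∈ C := h0
    have h2 : (x : G) ∈ M := by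
      have := M.mul_mem (hQM m₀.2) (M.inv_mem (hQM h1.1))
      simpa [mul_assoc] using this
    have h3 : (x : G) = 1 := Subgroup.mem_bot.1 (hMH ▸ ⟨h2, x.2⟩ : (x : G) ∈ (⊥ : Subgroup G))
    rw [h3, inv_one, one_mul] at h1
    exact hm₀C h1
  · intro g hg
    obtain ⟨g, rfl⟩ := QuotientGroup.mk'_surjective C' g
    rw [Subgroup.eq_bot_iff_forall]
    rintro z ⟨⟨x, rfl⟩, hz'⟩
    have hz : ι x ∈ MulAut.conj (π g) • ι.range := hz'
    rw [Subgroup.mem_pointwise_smul_iff_inv_smul_mem] at hz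
    obtain ⟨y, hy⟩ := hz
    have hgs : g ∈ (W.subgroupOf L) ⊔ (H.subgroupOf L) := by
      rw [← Subgroup.subgroupOf_sup le_sup_left le_sup_right, Subgroup.subgroupOf_self]
      trivial
    obtain ⟨m, hm, b, hb, rfl⟩ := Subgroup.mem_sup_of_normal_left.1 hgs
    have hb' : π b ∈ ι.range := ⟨⟨(b : G), hb⟩, rfl⟩
    have hmC : (m : G) ∉ C := fun h => hg (by
      rw [map_mul, show π m = 1 from (QuotientGroup.eq_one_iff m).2 h, one_mul]
      exact hb')
    by_contra hne
    have hx1 : x ≠ 1 := fun h => hne (by rw [h, map_one])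
    -- conjugating back
    obtain ⟨w, hw⟩ := hb'
    set y' : H := w * y * w⁻¹
    have h1 : π m * ι y' * (π m)⁻¹ = ι x := by
      have h2 : ι x = π (m * b) * ι y * (π (m * b))⁻¹ := by
        rw [hy]
        simp only [MulAut.smul_def, MulAut.conj_inv_apply]
        group
      rw [h2, map_mul, map_mul, map_inv, hw, map_mul π]
      group
    have h2 : ((y' : G) * (x : G)⁻¹) ∈ M := by
      have h3 : ((m * Subgroup.inclusion (le_sup_right : H ≤ L) y' * m⁻¹)⁻¹ *
          Subgroup.inclusion (le_sup_right : H ≤ L) x : L) ∈ C' := by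
        refine QuotientGroup.eq.1 ?_
        rw [← QuotientGroup.mk'_apply, ← QuotientGroup.mk'_apply, map_mul, map_mul, map_inv]
        exact h1
      have h4 : ((m : G) * (y' : G) * (m : G)⁻¹)⁻¹ * (x : G) ∈ M := hQM h3.1
      have h5 : ((m : G) * ((y' : G) * (m : G)⁻¹ * (y' : G)⁻¹)) ∈ M :=
        M.mul_mem (hQM (show (m : G) ∈ W from hm).1)
          ((inferInstance : M.Normal).conj_mem _ (M.inv_mem (hQM (show (m : G) ∈ W from hm).1)) _)
      have h6 := M.mul_mem (M.inv_mem h5) (M.inv_mem ((inferInstance : M.Normal).conj_mem _ h4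
        ((m : G) * (y' : G) * (m : G)⁻¹)))
      have e : ((m : G) * ((y' : G) * (m : G)⁻¹ * (y' : G)⁻¹))⁻¹ *
          ((m : G) * y' * (m : G)⁻¹ * (((m : G) * y' * (m : G)⁻¹)⁻¹ * x) *
            ((m : G) * y' * (m : G)⁻¹)⁻¹)⁻¹ = (y' : G) * (x : G)⁻¹ := by group
      exact e ▸ h6
    have hyx : y' = x := Subtype.ext (mul_inv_eq_one.1 (Subgroup.mem_bot.1
      (hMH ▸ ⟨h2, H.mul_mem y'.2 (H.inv_mem x.2)⟩ : (y' : G) * (x : G)⁻¹ ∈ (⊥ : Subgroup G))))
    rw [hyx] at h1
    -- `m` is fixed by `x` modulo `C`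
    have hc : ((m : G))⁻¹ * ((x : G) * m * (x : G)⁻¹) ∈ C := by
      have h3 : (m⁻¹ * (Subgroup.inclusion (le_sup_right : H ≤ L) x * m *
          (Subgroup.inclusion (le_sup_right : H ≤ L) x)⁻¹) : L) ∈ C' := by
        refine (QuotientGroup.eq_one_iff _).1 ?_
        show π _ = 1
        rw [map_mul, map_inv, map_mul, map_mul, map_inv]
        show (π m)⁻¹ * (ι x * π m * (ι x)⁻¹) = 1
        rw [← mul_inv_eq_iff_eq_mul.1 h1]
        group
      exact h3
    set c := ((m : G))⁻¹ * ((x : G) * m * (x : G)⁻¹) with hcdef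
    have hcx : c * x = x * c := hK₀c c hc.2 x x.2
    have hiter : ∀ i : ℕ, (x : G) ^ i * m * ((x : G) ^ i)⁻¹ = m * c ^ i := by
      intro i
      induction i with
      | zero => simp
      | succ i ih =>
        have hxm : (x : G) * m * (x : G)⁻¹ = m * c := by rw [hcdef]; group
        have hcc : (x : G) * c ^ i * (x : G)⁻¹ = c ^ i := by
          rw [← (show Commute c (x : G) from hcx).pow_left i |>.eq, mul_inv_cancel_right]
        calc (x : G) ^ (i + 1) * m * ((x : G) ^ (i + 1))⁻¹
            = (x : G) * ((x : G) ^ i * m * ((x : G) ^ i)⁻¹) * (x : G)⁻¹ := by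
              rw [pow_succ']; group
          _ = ((x : G) * m * (x : G)⁻¹) * ((x : G) * c ^ i * (x : G)⁻¹) := by rw [ih]; group
          _ = _ := by rw [hxm, hcc, mul_assoc, ← pow_succ']
    have hc1 : c = 1 := by
      have h3 := hiter (orderOf (x : G))
      rw [pow_orderOf_eq_one, one_mul, inv_one, mul_one, left_eq_mul] at h3
      obtain ⟨k, hk⟩ := hQp ⟨c, hc.1⟩
      have hk' : c ^ q ^ k = 1 := congrArg Subtype.val hk
      have hord : Nat.gcd (q ^ k) (orderOf (x : G)) = 1 := by
        refine Nat.Coprime.pow_left k (hq.coprime_iff_not_dvd.2 fun hd => ?_)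
        have hqH : q ∣ Nat.card H := hd.trans (Subgroup.orderOf_dvd_natCard H x.2)
        have hqM : q ∣ Nat.card M := by
          have hne' : Q ≠ ⊥ := fun h => hQK (h ▸ bot_le)
          haveI : Nontrivial Q := (Subgroup.nontrivial_iff_ne_bot Q).2 hne'
          obtain ⟨n, hn, hn'⟩ := hQp.nontrivial_iff_card.1 inferInstance
          exact (hn' ▸ dvd_pow_self q hn.ne' : q ∣ Nat.card Q).trans (Subgroup.card_dvd_of_le hQM)
        exact hq.not_dvd_one (hcop ▸ Nat.dvd_gcd hqH (hcardM ▸ hqM) : q ∣ 1)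
      have h5 := pow_gcd_eq_one.2 ⟨hk', h3⟩
      rwa [hord, pow_one] at h5
    have hmx : (m : G) * x = x * m := by
      rw [hcdef] at hc1
      rw [inv_mul_eq_one] at hc1
      conv_lhs => rw [hc1]
      group
    exact hmC ⟨(show (m : G) ∈ W from hm).1, hcentK x x.2 (fun h => hx1 (Subtype.ext h)) m
      (hQM (show (m : G) ∈ W from hm).1) hmx⟩

end CfsgLib.CharsMore.TIHallComplement
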