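import Cfsg.Agent.Lib.CharsMore.CoprimeClass
import Cfsg.Agent.Lib.CharsMore.Clifford
import Cfsg.Agent.Lib.Chars.Char

/-!
# The type P configuration `L = K W₁`, `C_K(x) = W₂`
-/

set_option linter.unusedSectionVars false
set_option linter.style.haveILetI false

namespace CfsgLib.CharsMore

open Cfsg

variable {L : Type*} [Group L] [Finite L] {K W₁ W₂ : Subgroup L} [K.Normal]

/-- Fixed classes and fixed irreducible characters of `K` under `y ∈ W₁`. -/
theorem card_fixed_typeP (hcop : Nat.Coprime (Nat.card W₁) (Nat.card K)) (hW₂c : IsCyclic W₂)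
    (hW₂K : W₂ ≤ K) (hC : ∀ x ∈ W₁, x ≠ 1 → K ⊓ Subgroup.centralizer ({x} : Set L) = W₂) {y : L}
    (hy : y ∈ W₁) (hy1 : y ≠ 1) :
    Nat.card {C : ConjClasses K //
        ConjClasses.map ((MulAut.conjNormal y : MulAut K)).toMonoidHom C = C} = Nat.card W₂ ∧
      Nat.card {θ : IrrCharacter K //
        (θ : K → ℂ) ∘ (MulAut.conjNormal y : MulAut K) = (θ : K → ℂ)} = Nat.card W₂ := by
  classical
  haveI := Fintype.ofFinite L
  have hyo : Nat.Coprime (orderOf y) (Nat.card K) :=
    hcop.coprime_dvd_left (Subgroup.orderOf_dvd_natCard _ hy)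
  have hcy : ∀ w ∈ W₂, y * w = w * y := fun w hw => by
    rw [← hC y hy hy1] at hw
    exact (Subgroup.mem_centralizer_singleton_iff.1 hw.2).symm
  let f : W₂ → {C : ConjClasses K //
      ConjClasses.map ((MulAut.conjNormal y : MulAut K)).toMonoidHom C = C} :=
    fun w => ⟨ConjClasses.mk ⟨w, hW₂K w.2⟩, by
      show ConjClasses.mk _ = _
      congr 1
      ext
      show y * (w : L) * y⁻¹ = w
      rw [hcy w w.2, mul_inv_cancel_right]⟩
  have hf : Function.Bijective f := by
    refine ⟨fun w w' h => ?_, fun C => ?_⟩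
    · obtain ⟨k, hk⟩ := isConj_iff.1 (ConjClasses.mk_eq_mk_iff_isConj.1 (congrArg Subtype.val h))
      have hk' : (k : L) * w * (k : L)⁻¹ = w' := by simpa using congrArg Subtype.val hk
      set P : Subgroup L := K ⊓ Subgroup.centralizer ({(w : L)} : Set L) with hP
      have hyP : y ∈ Subgroup.normalizer (P : Set L) := by
        rw [Subgroup.mem_normalizer_iff]
        intro v
        have hKv : v ∈ K ↔ y * v * y⁻¹ ∈ K := by
          refine ⟨fun hv => ‹K.Normal›.conj_mem v hv y, fun hv => ?_⟩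
          simpa [mul_assoc] using ‹K.Normal›.conj_mem _ hv y⁻¹
        simp only [hP, Subgroup.mem_inf, Subgroup.mem_centralizer_singleton_iff, ← hKv]
        refine and_congr_right fun _ => ⟨fun hv => ?_, fun hv => ?_⟩
        · calc y * v * y⁻¹ * w = y * (v * (y⁻¹ * w * y)) * y⁻¹ := by group
            _ = y * (v * w) * y⁻¹ := by rw [show y⁻¹ * (w : L) * y = w by
                  rw [mul_assoc, ← hcy w w.2, inv_mul_cancel_left]]
            _ = y * (w * v) * y⁻¹ := by rw [hv]
            _ = w * (y * v * y⁻¹) := by rw [← mul_assoc, hcy w w.2]; group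
        · have : y * (v * w) * y⁻¹ = y * (w * v) * y⁻¹ := by
            calc y * (v * w) * y⁻¹ = y * v * y⁻¹ * (y * w * y⁻¹) := by group
              _ = y * v * y⁻¹ * w := by rw [show y * (w : L) * y⁻¹ = w by
                    rw [hcy w w.2, mul_inv_cancel_right]]
              _ = w * (y * v * y⁻¹) := hv
              _ = y * (w * v) * y⁻¹ := by rw [← mul_assoc y, hcy w w.2]; group
          exact mul_left_cancel (mul_right_cancel this)
      have hwy : Commute y (w : L) := hcy w w.2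
      have hu : (k : L)⁻¹ * y * k * y⁻¹ ∈ P := by
        refine ⟨?_, Subgroup.mem_centralizer_singleton_iff.2 ?_⟩
        · rw [show (k : L)⁻¹ * y * k * y⁻¹ = (k : L)⁻¹ * (y * k * y⁻¹) by group]
          exact K.mul_mem (K.inv_mem k.2) (‹K.Normal›.conj_mem _ k.2 y)
        · have h1 : Commute ((k : L)⁻¹ * y * k) (w : L) := by
            have hw' : Commute y (w' : L) := hcy w' w'.2
            rw [← hk'] at hw'
            have h2 : y * ((k : L) * w * (k : L)⁻¹) = (k : L) * w * (k : L)⁻¹ * y := hw'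
            show (k : L)⁻¹ * y * k * w = w * ((k : L)⁻¹ * y * k)
            calc (k : L)⁻¹ * y * k * w = (k : L)⁻¹ * (y * ((k : L) * w * (k : L)⁻¹)) * k := by group
              _ = _ := by rw [h2]; group
          exact (h1.mul_left hwy.inv_left).eq
      obtain ⟨x₀, hx₀, c, hc, hcc, e⟩ := Cfsg.Agent.S1496.result P y hyP
        (hyo.coprime_dvd_right (Subgroup.card_dvd_of_le inf_le_left)) _ hu
      rw [inv_mul_cancel_right] at e
      have hord : orderOf (c * y) = orderOf y := by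
        rw [← e, show x₀ * ((k : L)⁻¹ * y * k) * x₀⁻¹ = MulAut.conj (x₀ * (k : L)⁻¹) y by
          simp [mul_assoc]]
        exact MulEquiv.orderOf_eq _ _
      have hc1 : c = 1 := by
        rw [← orderOf_eq_one_iff]
        have hco : Nat.Coprime (orderOf c) (orderOf y) :=
          (hyo.symm).coprime_dvd_left ((Subgroup.orderOf_dvd_natCard _ hc.1))
        rw [(show Commute c y from hcc).orderOf_mul_eq_mul_orderOf_of_coprime hco] at hord
        exact Nat.eq_of_mul_eq_mul_right (orderOf_pos y) (by rw [hord, one_mul])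
      rw [hc1, one_mul] at e
      have hk2 : (k : L) * x₀⁻¹ ∈ W₂ := by
        rw [← hC y hy hy1]
        refine ⟨K.mul_mem k.2 (K.inv_mem hx₀.1), Subgroup.mem_centralizer_singleton_iff.2 ?_⟩
        calc (k : L) * x₀⁻¹ * y = (k : L) * x₀⁻¹ * (x₀ * ((k : L)⁻¹ * y * k) * x₀⁻¹) := by rw [e]
          _ = y * ((k : L) * x₀⁻¹) := by group
      have hx₀w := Subgroup.mem_centralizer_singleton_iff.1 hx₀.2
      haveI := hW₂c
      have hcm := congrArg Subtype.val (mul_comm' (⟨_, hk2⟩ : W₂) w)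
      simp only [Subgroup.coe_mul] at hcm
      apply Subtype.ext
      calc (w : L) = (w : L) * ((k : L) * x₀⁻¹) * ((k : L) * x₀⁻¹)⁻¹ := by group
        _ = (k : L) * x₀⁻¹ * w * ((k : L) * x₀⁻¹)⁻¹ := by rw [← hcm]
        _ = (k : L) * x₀⁻¹ * (w * x₀) * (k : L)⁻¹ := by group
        _ = (k : L) * x₀⁻¹ * (x₀ * w) * (k : L)⁻¹ := by rw [hx₀w]
        _ = (k : L) * w * (k : L)⁻¹ := by group
        _ = w' := hk'
    · obtain ⟨k, hk, hcomm⟩ := exists_commute_in_fixed_class K y hyo C.2
      have hkW : (k : L) ∈ W₂ := by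
        rw [← hC y hy hy1]
        exact ⟨k.2, Subgroup.mem_centralizer_singleton_iff.2 hcomm.symm⟩
      exact ⟨⟨k, hkW⟩, Subtype.ext hk⟩
  have h1 := (Nat.card_eq_of_bijective f hf).symm
  exact ⟨h1, by rw [← Chars.card_fixed_classes_eq_card_fixed_irr, h1]⟩

/-- A character of `K` fixed by one nontrivial element of the cyclic `W₁` is fixed by all. -/
theorem fixed_all_of_fixed_one (hcop : Nat.Coprime (Nat.card W₁) (Nat.card K))
    (hW₁c : IsCyclic W₁) (hW₂c : IsCyclic W₂) (hW₂K : W₂ ≤ K)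
    (hC : ∀ x ∈ W₁, x ≠ 1 → K ⊓ Subgroup.centralizer ({x} : Set L) = W₂) {θ : K → ℂ}
    (hθ : IsIrrCharacter K θ) {y : L} (hy : y ∈ W₁) (hy1 : y ≠ 1)
    (hfix : conjFn K y θ = θ) : ∀ z ∈ W₁, conjFn K z θ = θ := by
  classical
  haveI := Fintype.ofFinite L
  let _ := Chars.irrFintype K
  obtain ⟨x, hx⟩ := hW₁c.exists_generator
  have hconj : ∀ (z : L) (φ : K → ℂ), φ ∘ (MulAut.conjNormal z : MulAut K) = conjFn K z φ :=
    fun z φ => funext fun k => congrArg φ (Subtype.ext (by simp))
  have hpow : ∀ z ∈ W₁, ∀ φ : K → ℂ, conjFn K (x : L) φ = φ → conjFn K z φ = φ := by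
    intro z hz φ hφ
    obtain ⟨n, hn⟩ := Subgroup.mem_zpowers_iff.1 (hx ⟨z, hz⟩)
    have hmem : (x : L) ∈ inertia K φ := hφ
    have := Subgroup.zpow_mem _ hmem n
    rwa [show ((x : L)) ^ n = z by rw [← SubgroupClass.coe_zpow, hn]] at this
  have hx1 : (x : L) ≠ 1 := fun h => hy1 (by
    obtain ⟨n, hn⟩ := Subgroup.mem_zpowers_iff.1 (hx ⟨y, hy⟩)
    rw [show y = (x : L) ^ n by rw [← SubgroupClass.coe_zpow, hn], h, one_zpow])
  set Fx := Finset.univ.filter fun φ : IrrCharacter K => conjFn K (x : L) (φ : K → ℂ) = (φ : K → ℂ)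
  set Fy := Finset.univ.filter fun φ : IrrCharacter K => conjFn K y (φ : K → ℂ) = (φ : K → ℂ)
  have hcard : ∀ z ∈ W₁, z ≠ 1 →
      (Finset.univ.filter fun φ : IrrCharacter K => conjFn K z (φ : K → ℂ) = (φ : K → ℂ)).card =
        Nat.card W₂ := by
    intro z hz hz1
    rw [← (card_fixed_typeP hcop hW₂c hW₂K hC hz hz1).2, ← Fintype.card_subtype,
      ← Nat.card_eq_fintype_card]
    exact Nat.card_congr (Equiv.subtypeEquivRight fun φ => by rw [hconj])
  have heq : Fx = Fy := by
    refine Finset.eq_of_subset_of_card_le (fun φ hφ => ?_) ?_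
    · simp only [Fx, Fy, Finset.mem_filter, Finset.mem_univ, true_and] at hφ ⊢
      exact hpow y hy _ hφ
    · show (Finset.univ.filter fun φ : IrrCharacter K =>
          conjFn K y (φ : K → ℂ) = (φ : K → ℂ)).card ≤ _
      rw [hcard y hy hy1]
      exact le_of_eq (hcard (x : L) x.2 hx1).symm
  have hm : (⟨θ, hθ⟩ : IrrCharacter K) ∈ Fy := by simp [Fy, hfix]
  rw [← heq] at hm
  exact fun z hz => hpow z hz θ (Finset.mem_filter.1 hm).2

end CfsgLib.CharsMore
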