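import Cfsg.Agent.Lib.CharsMore.CyclicTIExists
import Cfsg.Agent.S1510

/-!
# The exceptional characters of `L = K W₁`
-/

set_option linter.unusedSectionVars false
set_option linter.style.haveILetI false

namespace CfsgLib.CharsMore

open Cfsg
open scoped ComplexConjugate

variable {L : Type*} [Group L] {K W₁ W₂ : Subgroup L}

/-- `W ∖ W₂` is a trivial intersection set with normaliser `W`. -/
theorem typeP_TI [Finite L] [hK : K.Normal] (hKW₁ : K ⊓ W₁ = ⊥) (hKW₁' : K ⊔ W₁ = ⊤)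
    (hW₁c : IsCyclic W₁) (hcop : Nat.Coprime (Nat.card W₁) (Nat.card K)) (hW₂K : W₂ ≤ K)
    (hC : ∀ x ∈ W₁, x ≠ 1 → K ⊓ Subgroup.centralizer ({x} : Set L) = W₂)
    (hW : IsSelfNormalizingCyclic W₁ W₂) :
    ∀ g : L, g ∉ W₁ ⊔ W₂ → ∀ t ∈ (↑(W₁ ⊔ W₂) : Set L) \ ↑W₂,
      g * t * g⁻¹ ∈ (↑(W₁ ⊔ W₂) : Set L) \ ↑W₂ → t = 1 := by
  intro g hg t ht ht'
  exfalso
  apply hg
  obtain ⟨p₁, p₂, h1, h2, hp, -, -⟩ := exists_proj_sup hW.2.2.1 hW.2.2.2.1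
  set a : L := (p₁ ⟨t, ht.1⟩ : L)
  set b : L := (p₂ ⟨t, ht.1⟩ : L)
  have hab : a * b = t := congrArg Subtype.val (hp ⟨t, ht.1⟩)
  set a' : L := (p₁ ⟨g * t * g⁻¹, ht'.1⟩ : L)
  set b' : L := (p₂ ⟨g * t * g⁻¹, ht'.1⟩ : L)
  have hab' : a' * b' = g * t * g⁻¹ := congrArg Subtype.val (hp ⟨g * t * g⁻¹, ht'.1⟩)
  have ha1 : a ≠ 1 := fun h => ht.2 (by
    rw [← hab, h, one_mul]
    exact h2 _)
  have hcop2 : Nat.Coprime (Nat.card W₁) (Nat.card W₂) :=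
    hcop.coprime_dvd_right (Subgroup.card_dvd_of_le hW₂K)
  obtain ⟨e, he1, he0⟩ := Nat.chineseRemainder hcop2 1 0
  rw [Nat.modEq_zero_iff_dvd] at he0
  have hpow : ∀ p ∈ W₁, ∀ q ∈ W₂, (p * q) ^ e = p := by
    intro p hp q hq
    have h1 : q ^ e = 1 := orderOf_dvd_iff_pow_eq_one.1
      ((Subgroup.orderOf_dvd_natCard _ hq).trans he0)
    have h2 : p ^ e = p := by
      conv_rhs => rw [← pow_one p]
      exact pow_eq_pow_iff_modEq.2 (Nat.ModEq.of_dvd (Subgroup.orderOf_dvd_natCard _ hp) he1)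
    rw [(show Commute p q from hW.2.2.2.1 p hp q hq).mul_pow, h1, h2, mul_one]
  have hga : g * a * g⁻¹ = a' := by
    have h := congrArg (fun z => z ^ e) hab'
    rw [← hab] at h
    simpa [conj_pow, hpow a (h1 _) b (h2 _), hpow a' (h1 _) b' (h2 _)] using h.symm
  obtain ⟨k, hk, w, hw, rfl⟩ : ∃ k ∈ K, ∃ w ∈ W₁, g = k * w := by
    have : g ∈ (↑(K ⊔ W₁) : Set L) := by rw [hKW₁']; trivial
    rw [Subgroup.normal_mul] at this
    obtain ⟨k, hk, w, hw, e⟩ := Set.mem_mul.1 this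
    exact ⟨k, hk, w, hw, e.symm⟩
  haveI := hW₁c
  have hwa : w * a * w⁻¹ = a := by
    have := congrArg Subtype.val (mul_comm' (⟨w, hw⟩ : W₁) ⟨a, h1 _⟩)
    simp only [MulMemClass.mk_mul_mk] at this
    rw [this, mul_inv_cancel_right]
  have hga2 : k * a * k⁻¹ = a' := by
    rw [← hga]
    calc k * a * k⁻¹ = k * (w * a * w⁻¹) * k⁻¹ := by rw [hwa]
      _ = _ := by group
  have haa : a' = a := by
    have hm : a' * a⁻¹ ∈ K ⊓ W₁ := by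
      refine ⟨?_, W₁.mul_mem (h1 _) (W₁.inv_mem (h1 _))⟩
      rw [← hga2, show k * a * k⁻¹ * a⁻¹ = k * (a * k⁻¹ * a⁻¹) by group]
      exact K.mul_mem hk (hK.conj_mem _ (K.inv_mem hk) a)
    rw [hKW₁, Subgroup.mem_bot, mul_inv_eq_one] at hm
    exact hm
  have hk2 : k ∈ W₂ := by
    rw [← hC a (h1 _) ha1]
    exact ⟨hk, Subgroup.mem_centralizer_singleton_iff.2
      (mul_inv_eq_iff_eq_mul.1 (hga2.trans haa))⟩
  exact mul_mem (Subgroup.mem_sup_right hk2) (Subgroup.mem_sup_left hw)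

/-- Orthogonality to the differences with equal `W₂`-part forces vanishing off `W₂`. -/
lemma eq_zero_of_inner_diff {W : Type*} [Group W] [Fintype W] (hW : ∀ a b : W, a * b = b * a)
    (K₁ K₂ : Subgroup W) (hdisj : K₁ ⊓ K₂ = ⊥) {h : W → ℂ}
    (hh : ∀ (φ : trivOn K₂) (ψ : trivOn K₁),
      classInner h (fun x => ((φ.1 * ψ.1) x : ℂ) - (ψ.1 x : ℂ)) = 0) {w : W} (hw : w ∉ K₂) :
    h w = 0 := by
  classical
  let _ : Fintype (trivOn K₁) := Fintype.ofFinite _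
  let _ : Fintype (trivOn K₂) := Fintype.ofFinite _
  have hw' : w⁻¹ ∉ K₂ := by simpa using hw
  have hF : ∀ x, (∑ φ : trivOn K₂, ∑ ψ : trivOn K₁, ((φ.1 w⁻¹ : ℂ) * (ψ.1 w⁻¹ : ℂ)) *
      (((φ.1 * ψ.1) x : ℂ) - (ψ.1 x : ℂ))) =
      if x = w then (Fintype.card (trivOn K₂) : ℂ) * Fintype.card (trivOn K₁) else 0 := by
    intro x
    have e : (∑ φ : trivOn K₂, ∑ ψ : trivOn K₁, ((φ.1 w⁻¹ : ℂ) * (ψ.1 w⁻¹ : ℂ)) *
        (((φ.1 * ψ.1) x : ℂ) - (ψ.1 x : ℂ))) =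
        (∑ φ : trivOn K₂, ((φ.1 (w⁻¹ * x) : ℂ) - (φ.1 w⁻¹ : ℂ))) *
          ∑ ψ : trivOn K₁, (ψ.1 (w⁻¹ * x) : ℂ) := by
      rw [Finset.sum_mul_sum]
      refine Finset.sum_congr rfl fun φ _ => Finset.sum_congr rfl fun ψ _ => ?_
      simp only [MonoidHom.mul_apply, map_mul, Units.val_mul]
      ring
    rw [e, Finset.sum_sub_distrib, sum_trivOn hW K₂, sum_trivOn hW K₂, if_neg hw', sub_zero,
      sum_trivOn hW K₁]
    by_cases hx : x = w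
    · subst hx; simp
    · rw [if_neg hx]
      by_cases ha : w⁻¹ * x ∈ K₂
      · rw [if_pos ha, if_neg, mul_zero]
        intro hb
        have : w⁻¹ * x ∈ K₁ ⊓ K₂ := ⟨hb, ha⟩
        rw [hdisj, Subgroup.mem_bot, inv_mul_eq_one] at this
        exact hx this.symm
      · rw [if_neg ha, zero_mul]
  have hz : classInner h (fun x => ∑ φ : trivOn K₂, ∑ ψ : trivOn K₁,
      ((φ.1 w⁻¹ : ℂ) * (ψ.1 w⁻¹ : ℂ)) * (((φ.1 * ψ.1) x : ℂ) - (ψ.1 x : ℂ))) = 0 := by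
    rw [show (fun x => ∑ φ : trivOn K₂, ∑ ψ : trivOn K₁,
        ((φ.1 w⁻¹ : ℂ) * (ψ.1 w⁻¹ : ℂ)) * (((φ.1 * ψ.1) x : ℂ) - (ψ.1 x : ℂ))) =
      ∑ φ : trivOn K₂, ∑ ψ : trivOn K₁, ((φ.1 w⁻¹ : ℂ) * (ψ.1 w⁻¹ : ℂ)) •
        (fun x => ((φ.1 * ψ.1) x : ℂ) - (ψ.1 x : ℂ)) from funext fun x => by simp [Finset.sum_apply],
      Chars.inner_sum_right]
    refine Finset.sum_eq_zero fun φ _ => ?_
    rw [Chars.inner_sum_right]
    exact Finset.sum_eq_zero fun ψ _ => by rw [Chars.inner_smul_right, hh, mul_zero]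
  rw [Chars.inner_def] at hz
  simp only [hF, apply_ite (conj : ℂ → ℂ), map_zero, mul_ite, mul_zero, Finset.sum_ite_eq',
    Finset.mem_univ, if_true, map_mul, map_natCast] at hz
  have n1 : (Fintype.card (trivOn K₁) : ℂ) ≠ 0 := Nat.cast_ne_zero.2 Fintype.card_ne_zero
  have n2 : (Fintype.card (trivOn K₂) : ℂ) ≠ 0 := Nat.cast_ne_zero.2 Fintype.card_ne_zero
  simpa [Chars.card_ne_zero, n1, n2] using hz

/-- Peterfalvi 4.3. -/
theorem exists_typeP_chars [Fintype L] [hK : K.Normal] (hKW₁ : K ⊓ W₁ = ⊥)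
    (hKW₁' : K ⊔ W₁ = ⊤) (hW₁c : IsCyclic W₁)
    (hcop : Nat.Coprime (Nat.card W₁) (Nat.card K)) (hW₂K : W₂ ≤ K)
    (hC : ∀ x ∈ W₁, x ≠ 1 → K ⊓ Subgroup.centralizer ({x} : Set L) = W₂)
    (hW : IsSelfNormalizingCyclic W₁ W₂) :
    ∃ (μ : (↥(W₁ ⊔ W₂) →* ℂˣ) → (L → ℂ)) (δ : (↥(W₁ ⊔ W₂) →* ℂˣ) → ℂ), Function.Injective μ ∧
      (∀ ω, IsIrrCharacter L (μ ω)) ∧ (∀ ω, δ ω = 1 ∨ δ ω = -1) ∧
      (∀ ω ω' : ↥(W₁ ⊔ W₂) →* ℂˣ, (∀ w : ↥(W₁ ⊔ W₂), (w : L) ∈ W₂ → ω w = ω' w) →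
        δ ω = δ ω' ∧ indFun (W₁ ⊔ W₂) (fun w => (ω w : ℂ) - (ω' w : ℂ)) = δ ω • (μ ω - μ ω')) ∧
      (∀ ω, ∀ w : ↥(W₁ ⊔ W₂), (w : L) ∉ W₂ → μ ω w = δ ω * (ω w : ℂ)) ∧
      (∀ θ : L → ℂ, IsIrrCharacter L θ → (∀ ω, θ ≠ μ ω) →
        ∀ w : ↥(W₁ ⊔ W₂), (w : L) ∉ W₂ → θ w = 0) ∧
      (∀ ω, ∃ n : ℤ, μ ω 1 - δ ω = n * (Nat.card W₁ : ℂ)) := by
  classical
  let _ : Fintype ↥(W₁ ⊔ W₂) := Fintype.ofFinite _
  set T : Set L := (↑(W₁ ⊔ W₂) : Set L) \ ↑W₂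
  set K₁ := W₁.subgroupOf (W₁ ⊔ W₂)
  set K₂ := W₂.subgroupOf (W₁ ⊔ W₂)
  obtain ⟨p₁, p₂, hp1, hp2, hp, hpf1, hpf2⟩ := exists_proj_sup hW.2.2.1 hW.2.2.2.1
  have hTI := typeP_TI hKW₁ hKW₁' hW₁c hcop hW₂K hC hW
  let lf : (↥(W₁ ⊔ W₂) →* ℂˣ) → (↥(W₁ ⊔ W₂) → ℂ) := fun a w => (a w : ℂ)
  have hlf : ∀ a b, classInner (lf a) (lf b) = if a = b then 1 else 0 := by
    intro a b
    rw [Chars.inner_irr_of_isIrr (Chars.isIrrCharacter_linear a) (Chars.isIrrCharacter_linear b)]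
    exact if_congr ⟨fun h => MonoidHom.ext fun w => Units.ext (congrFun h w), fun h => by rw [h]⟩
      rfl rfl
  have hmulinj : ∀ (φ φ' : trivOn K₂) (ψ ψ' : trivOn K₁), φ.1 * ψ.1 = φ'.1 * ψ'.1 ↔
      φ = φ' ∧ ψ = ψ' := fun φ φ' ψ ψ' => ⟨fun h => by
    obtain ⟨a, b⟩ := mul_eq_mul_factors φ.2 φ'.2 ψ.2 ψ'.2 h
    exact ⟨Subtype.ext a, Subtype.ext b⟩, fun h => by rw [h.1, h.2]⟩
  have hisom : ∀ (φ φ' χ χ' : trivOn K₂) (ψ ψ' : trivOn K₁),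
      classInner (indFun (W₁ ⊔ W₂) (lf (φ.1 * ψ.1) - lf (φ'.1 * ψ.1)))
        (indFun (W₁ ⊔ W₂) (lf (χ.1 * ψ'.1) - lf (χ'.1 * ψ'.1))) =
      ((if φ = χ ∧ ψ = ψ' then (1 : ℂ) else 0) - (if φ = χ' ∧ ψ = ψ' then 1 else 0)) -
      ((if φ' = χ ∧ ψ = ψ' then 1 else 0) - (if φ' = χ' ∧ ψ = ψ' then 1 else 0)) := by
    intro φ φ' χ χ' ψ ψ'
    have hsupp : ∀ (φ φ' : trivOn K₂) (ψ : trivOn K₁) (x : ↥(W₁ ⊔ W₂)), (x : L) ∉ T →
        (lf (φ.1 * ψ.1) - lf (φ'.1 * ψ.1)) x = 0 := by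
      intro φ φ' ψ x hx
      have hx2 : (x : L) ∈ W₂ := by
        by_contra h
        exact hx ⟨x.2, h⟩
      simp [lf, φ.2 x hx2, φ'.2 x hx2]
    rw [Chars.inner_indFun_TI T (W₁ ⊔ W₂) hTI
      (fun g h => by rw [comm_of_selfNorm hW h g, mul_inv_cancel_right])
      (hsupp φ φ' ψ) (hsupp χ χ' ψ') (by simp [lf])]
    simp only [Chars.inner_sub_left, Chars.inner_sub_right, hlf, hmulinj]
    ring
  -- one column
  have hcol : ∀ ψ : trivOn K₁, ∃ ε : ℂ, (ε = 1 ∨ ε = -1) ∧ ∃ ν : trivOn K₂ → (L → ℂ),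
      (∀ φ, IsIrrCharacter L (ν φ)) ∧ Function.Injective ν ∧
      ∀ φ φ' : trivOn K₂, indFun (W₁ ⊔ W₂) (lf (φ.1 * ψ.1) - lf (φ'.1 * ψ.1)) =
        ε • (ν φ - ν φ') := by
    intro ψ
    let _ : Fintype (trivOn K₂) := Fintype.ofFinite _
    let e := Fintype.equivFin (trivOn K₂)
    obtain ⟨ε, hε, μ, hμ, hμi, hμe⟩ := Chars.coherent_family (Fintype.card (trivOn K₂)) (e 1)
      (fun i => indFun (W₁ ⊔ W₂) (lf ((e.symm i).1 * ψ.1) - lf ((1 : trivOn K₂).1 * ψ.1)))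
      (by simp [Chars.indFun_zero])
      (fun i => Chars.isGeneralized_indFun _ ⟨lf ((e.symm i).1 * ψ.1), lf ((1 : trivOn K₂).1 * ψ.1),
        Chars.isCharacter_of_irr (Chars.isIrrCharacter_linear _),
        Chars.isCharacter_of_irr (Chars.isIrrCharacter_linear _), rfl⟩)
      (fun i => by simp [Chars.indFun_one_apply, lf])
      (fun i j hi hj => by
        rw [hisom]
        have hi' : e.symm i ≠ 1 := fun h => hi (by rw [← h, e.apply_symm_apply])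
        have hj' : e.symm j ≠ 1 := fun h => hj (by rw [← h, e.apply_symm_apply])
        simp only [and_true, e.symm.injective.eq_iff, if_neg hi', if_neg (Ne.symm hj'), if_true]
        split_ifs <;> norm_num)
    refine ⟨ε, hε, fun φ => μ (e φ), fun φ => hμ _, hμi.comp e.injective, fun φ φ' => ?_⟩
    have h1 := hμe (e φ)
    have h2 := hμe (e φ')
    simp only [e.symm_apply_apply] at h1 h2
    rw [show lf (φ.1 * ψ.1) - lf (φ'.1 * ψ.1) = (lf (φ.1 * ψ.1) - lf ((1 : trivOn K₂).1 * ψ.1)) -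
      (lf (φ'.1 * ψ.1) - lf ((1 : trivOn K₂).1 * ψ.1)) by abel, Chars.indFun_sub, h1, h2,
      ← smul_sub]
    congr 1
    abel
  choose ε hε ν hν hνi hνe using hcol
  have hεne : ∀ ψ, ε ψ ≠ 0 := fun ψ => by rcases hε ψ with h | h <;> simp [h]
  have hex : ∀ φ : trivOn K₂, ∃ φ', φ' ≠ φ := fun φ => by
    let _ : Fintype (trivOn K₂) := Fintype.ofFinite _
    refine Fintype.exists_ne_of_one_lt_card ?_ φ
    rw [← Nat.card_eq_fintype_card, (card_trivOn_sup hW).1]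
    exact W₁.one_lt_card_iff_ne_bot.2 hW.1
  have hdiff : ∀ (ψ ψ' : trivOn K₁) (φ χ : trivOn K₂), ψ ≠ ψ' → ν ψ φ ≠ ν ψ' χ := by
    intro ψ ψ' φ χ hne heq
    obtain ⟨φ', hφ'⟩ := hex φ
    obtain ⟨χ', hχ'⟩ := hex χ
    have h := hisom φ φ' χ χ' ψ ψ'
    simp only [hne, and_false, if_false, sub_self] at h
    rw [hνe, hνe, Chars.inner_smul_left, Chars.inner_smul_right, Chars.inner_sub_left,
      Chars.inner_sub_right, Chars.inner_sub_right, Chars.inner_irr_of_isIrr (hν _ _) (hν _ _),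
      Chars.inner_irr_of_isIrr (hν _ _) (hν _ _), Chars.inner_irr_of_isIrr (hν _ _) (hν _ _),
      Chars.inner_irr_of_isIrr (hν _ _) (hν _ _), if_pos heq,
      if_neg (fun e => hχ' ((hνi ψ') (heq.symm.trans e)).symm),
      if_neg (fun e => hφ' ((hνi ψ) (e.trans heq.symm)))] at h
    rcases mul_eq_zero.1 h with h | h
    · exact hεne ψ h
    rcases mul_eq_zero.1 h with h | h
    · exact hεne ψ' ((map_eq_zero _).1 h)
    · split_ifs at h <;> norm_num at h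
  let π₁ : (↥(W₁ ⊔ W₂) →* ℂˣ) → trivOn K₂ := fun ω =>
    ⟨ω.comp p₁, fun x hx => by show ω (p₁ x) = 1; rw [(hpf2 x hx).1, map_one]⟩
  let π₂ : (↥(W₁ ⊔ W₂) →* ℂˣ) → trivOn K₁ := fun ω =>
    ⟨ω.comp p₂, fun x hx => by show ω (p₂ x) = 1; rw [(hpf1 x hx).2, map_one]⟩
  have hπ : ∀ ω, (π₁ ω).1 * (π₂ ω).1 = ω := fun ω => MonoidHom.ext fun w => by
    show ω (p₁ w) * ω (p₂ w) = ω w
    rw [← map_mul, hp]
  have hμinj : Function.Injective fun ω => ν (π₂ ω) (π₁ ω) := fun a b h => by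
    have h2 : π₂ a = π₂ b := by
      by_contra hne
      exact hdiff _ _ _ _ hne h
    have h1 : π₁ a = π₁ b := by
      refine hνi (π₂ b) ?_
      simp only [h2] at h
      exact h
    rw [← hπ a, ← hπ b, h1, h2]
  have hπu : ∀ (φ : trivOn K₂) (ψ : trivOn K₁), π₁ (φ.1 * ψ.1) = φ ∧ π₂ (φ.1 * ψ.1) = ψ :=
    fun φ ψ => (hmulinj _ _ _ _).1 (hπ _)
  have hcls : ∀ ψ φ, IsClassFunction L (ν ψ φ) := fun ψ φ =>
    Chars.isClassFunction_of_isCharacter (Chars.isCharacter_of_irr (hν ψ φ))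
  have hvals : ∀ (θ : L → ℂ) (F : ↥(W₁ ⊔ W₂) → ℂ), IsClassFunction L θ →
      (∀ (φ : trivOn K₂) (ψ : trivOn K₁),
        classInner θ (ε ψ • (ν ψ φ - ν ψ 1)) = classInner F (lf (φ.1 * ψ.1) - lf ψ.1)) →
      ∀ w : ↥(W₁ ⊔ W₂), (w : L) ∉ W₂ → θ w = F w := by
    intro θ F hθ hθF w hw
    refine sub_eq_zero.1 (eq_zero_of_inner_diff (h := fun x : ↥(W₁ ⊔ W₂) => θ x - F x)
      (comm_of_selfNorm hW) K₁ K₂ (disjoint_subgroupOf hW.2.2.1) (fun φ ψ => ?_) (w := w) hw)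
    rw [show (fun x : ↥(W₁ ⊔ W₂) => θ x - F x) = (fun x : ↥(W₁ ⊔ W₂) => θ x) - F from rfl,
      show (fun x : ↥(W₁ ⊔ W₂) => ((φ.1 * ψ.1) x : ℂ) - (ψ.1 x : ℂ)) =
        lf (φ.1 * ψ.1) - lf ψ.1 from rfl, Chars.inner_sub_left,
      ← Chars.inner_indFun_right _ _ hθ, ← hθF φ ψ, ← hνe ψ φ 1,
      show (1 : trivOn K₂).1 * ψ.1 = ψ.1 from MonoidHom.ext fun x => one_mul _, sub_self]
  have hval : ∀ ω, ∀ w : ↥(W₁ ⊔ W₂), (w : L) ∉ W₂ →
      ν (π₂ ω) (π₁ ω) w = ε (π₂ ω) * (ω w : ℂ) := by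
    intro ω w hw
    refine (hvals _ (ε (π₂ ω) • lf ω) (hcls _ _) (fun φ ψ => ?_) w hw).trans rfl
    have e1 : ∀ φ' : trivOn K₂, classInner (lf ω) (lf (φ'.1 * ψ.1)) =
        if π₁ ω = φ' ∧ π₂ ω = ψ then 1 else 0 := fun φ' => by
      rw [hlf]
      exact if_congr ⟨fun h => by rw [h]; exact hπu φ' ψ, fun h => by rw [← hπ ω, h.1, h.2]⟩ rfl rfl
    have e2 : ∀ φ' : trivOn K₂, classInner (ν (π₂ ω) (π₁ ω)) (ν ψ φ') =
        if π₁ ω = φ' ∧ π₂ ω = ψ then 1 else 0 := fun φ' => by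
      rw [Chars.inner_irr_of_isIrr (hν _ _) (hν _ _)]
      refine if_congr ⟨fun h => ?_, fun h => by rw [h.1, h.2]⟩ rfl rfl
      obtain rfl : π₂ ω = ψ := by
        by_contra hne
        exact hdiff _ _ _ _ hne h
      exact ⟨hνi _ h, rfl⟩
    rw [Chars.inner_smul_right, Chars.inner_sub_right, e2, e2, Chars.inner_smul_left,
      Chars.inner_sub_right, e1, show lf ψ.1 = lf ((1 : trivOn K₂).1 * ψ.1) by
        rw [show (1 : trivOn K₂).1 * ψ.1 = ψ.1 from MonoidHom.ext fun x => one_mul _], e1]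
    rcases eq_or_ne (π₂ ω) ψ with rfl | h
    · rcases hε (π₂ ω) with h | h <;> rw [h] <;> simp
    · simp [h]
  refine ⟨fun ω => ν (π₂ ω) (π₁ ω), fun ω => ε (π₂ ω), hμinj, fun ω => hν _ _, fun ω => hε _,
    fun ω ω' h => ?_, hval, fun θ hθ hne w hw => ?_, fun ω => ?_⟩
  · have h2 : π₂ ω = π₂ ω' := Subtype.ext (MonoidHom.ext fun w => h (p₂ w) (hp2 w))
    refine ⟨by simp only [h2], ?_⟩
    show indFun (W₁ ⊔ W₂) (lf ω - lf ω') = _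
    conv_lhs => rw [← hπ ω, ← hπ ω', ← h2, hνe]
    simp only [h2]
  · refine (hvals θ 0 (Chars.isClassFunction_of_isCharacter (Chars.isCharacter_of_irr hθ))
      (fun φ ψ => ?_) w hw).trans rfl
    have hz : ∀ φ' : trivOn K₂, classInner θ (ν ψ φ') = 0 := fun φ' => by
      rw [Chars.inner_irr_of_isIrr hθ (hν _ _), if_neg]
      have := hne (φ'.1 * ψ.1)
      simpa [(hπu φ' ψ).1, (hπu φ' ψ).2] using this
    rw [Chars.inner_smul_right, Chars.inner_sub_right, hz, hz, sub_self, mul_zero,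
      Chars.inner_zero_left]
  · -- congruence
    set ι : W₁ →* ↥(W₁ ⊔ W₂) := Subgroup.inclusion le_sup_left
    let _ : Fintype W₁ := Fintype.ofFinite _
    set f : W₁ → ℂ := fun x => ν (π₂ ω) (π₁ ω) (ι x) - ε (π₂ ω) * (ω (ι x) : ℂ) with hf
    have hfgen : f ∈ genChar W₁ := by
      have h1 : (fun x : W₁ => ν (π₂ ω) (π₁ ω) (x : L)) ∈ genChar W₁ :=
        genChar_of_isCharacter (Chars.isCharacter_comp W₁.subtype (Chars.isCharacter_of_irr (hν _ _)))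
      have h2 : (fun x : W₁ => (ω (ι x) : ℂ)) ∈ genChar W₁ :=
        genChar_of_isCharacter (Chars.isCharacter_comp ι
          (Chars.isCharacter_of_irr (Chars.isIrrCharacter_linear ω)))
      rcases hε (π₂ ω) with h | h
      · have : f = (fun x : W₁ => ν (π₂ ω) (π₁ ω) (x : L)) - fun x : W₁ => (ω (ι x) : ℂ) := by
          funext x; simp [hf, h, ι]
        rw [this]; exact (genChar _).sub_mem h1 h2
      · have : f = (fun x : W₁ => ν (π₂ ω) (π₁ ω) (x : L)) + fun x : W₁ => (ω (ι x) : ℂ) := by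
          funext x; simp [hf, h, ι]
        rw [this]; exact (genChar _).add_mem h1 h2
    obtain ⟨n, hn⟩ := inner_gen_int hfgen
      (genChar_of_irr (Chars.isIrrCharacter_one (G := W₁)))
    refine ⟨n, ?_⟩
    have hoff : ∀ x : W₁, x ≠ 1 → f x = 0 := fun x hx => by
      refine sub_eq_zero.2 (hval ω (ι x) fun h => hx (Subtype.ext ?_))
      have : (x : L) ∈ W₁ ⊓ W₂ := ⟨x.2, h⟩
      rwa [hW.2.2.1, Subgroup.mem_bot] at this
    rw [Chars.inner_def, Finset.sum_eq_single 1 (fun x _ hx => by rw [hoff x hx, zero_mul])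
      (fun h => absurd (Finset.mem_univ _) h), map_one, mul_one] at hn
    have h1 : f 1 = ν (π₂ ω) (π₁ ω) 1 - ε (π₂ ω) := by simp [hf]
    rw [← h1, ← hn]
    field_simp

end CfsgLib.CharsMore
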